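import Cfsg.Agent.OD.Pre
import Cfsg.Agent.H6.TCWord
/-! Words that trace closed paths in a partial certified coset table lie in the subgroup. -/
set_option autoImplicit false
namespace CfH6

namespace Par
variable {P : Par} {G : Type*} [Group G] {ev : ℕ → G} {H : Subgroup G}

theorem invAll' (h1 : ev P.nc = 1) (ty : ℕ → ℕ → Ty) (hty : ∀ x ≤ P.nc, ∀ code, SemTy ev H P.nc x (ty x code))
    (S mC AW mAW : ℕ)
    (hR : ∀ c, P.lo ≤ c → c < P.hi1 + 1 → ∀ x < P.nc + 1,
      chkE P.g P.mJ P.mR P.W P.mA P.mI ty S mC P.nc P.lo P.live P.hi1 AW mAW P.hi1 0 x c = 0) :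
    ∀ B, B < P.mA → P.Inv ev H B := by
  have hlh := P.hlh
  have hll := P.hll
  intro B
  induction B using Nat.strong_induction_on with
  | _ B ih =>
    intro hB x c hx hJ hc hmu
    have hlo := P.hlo c hJ
    have key : ∃ B', P.mu (P.en x c) = B' + 1 ∧ (P.Inv ev H B' → B' + 1 = P.mA ∨
        (P.Rl ev H c (ev x) (P.idf (P.en x c)) ∧ P.idf (P.en x c) ≤ P.hi1)) := by
      have hxn : x ≤ P.nc := by omega
      obtain ⟨B', e1, e2⟩ := chkE_sound h1 ty hty S mC AW mAW _ _ x c le_rfl hxn hc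
        (hR c (by omega) (by omega) x (by omega))
      refine ⟨B', e1, fun hI => ?_⟩
      rcases e2 hI with h | h
      · exact Or.inl h.2
      · exact Or.inr ⟨h.1, h.2.1⟩
    obtain ⟨B', e1, e2⟩ := key
    rcases e2 (ih B' (by omega) (by omega)) with h | h
    · omega
    · exact h
end Par

theorem Cert.words' (C : Cert) (il : List ℕ) (rels subs : List (List ℕ)) (nc : ℕ) (ws : List (List ℕ))
    (hv : C.valid il rels subs = true) (hR : C.OkR C.lo (C.hi1 + 1))
    (hnc : Nat.beq C.nc nc = true) (hw : C.chkW ws = true)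
    {G : Type*} [Group G] (ev0 : ℕ → G) (H : Subgroup G)
    (hinv : ∀ x < nc, ev0 (il.getD x 0) = (ev0 x)⁻¹) (hr : ∀ r ∈ rels, evw ev0 r = 1)
    (hs : ∀ s ∈ subs, evw ev0 s ∈ H) : ∀ w ∈ ws, evw ev0 w ∈ H := by
  have hnc := Nat.eq_of_beq_eq_true hnc
  subst hnc
  simp only [Cert.valid, Cert.side, Bool.and_eq_true, beq_iff_eq, decide_eq_true_eq] at hv
  obtain ⟨⟨⟨⟨⟨⟨⟨⟨⟨s1, s2⟩, s3⟩, s4⟩, s5⟩, s6⟩, v1⟩, v2⟩, v3⟩, v4⟩ := hv
  have hil : ∀ x < C.nc, il.getD x 0 < C.nc := fun x hx =>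
    allLt_sound v1 _ (List.mem_map.mpr ⟨x, List.mem_range.mpr hx, rfl⟩)
  let ev : ℕ → G := fun x => if x < C.nc then ev0 x else 1
  have hev : ∀ x < C.nc, ev x = ev0 x := fun x hx => if_pos hx
  have hevw : ∀ w : List ℕ, (∀ x ∈ w, x < C.nc) → evw ev w = evw ev0 w := by
    intro w hw
    unfold evw
    rw [List.map_congr_left fun x hx => hev x (hw x hx)]
  have h1 : ev C.nc = 1 := if_neg (lt_irrefl _)
  have hinv' : ∀ x < C.nc, ev (il.getD x 0) = (ev x)⁻¹ := fun x hx => by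
    rw [hev _ (hil x hx), hev x hx, hinv x hx]
  have hr0 : ∀ r ∈ rels, evw ev r = 1 := fun r h => by
    rw [hevw r (allLt_sound (List.all_eq_true.mp v2 r h)), hr r h]
  have hs0 : ∀ r ∈ subs, evw ev r ∈ H := fun r h => by
    rw [hevw r (allLt_sound (List.all_eq_true.mp v3 r h))]; exact hs r h
  have hr' : ∀ r ∈ fullRels C.nc il rels, evw ev r = 1 := by
    intro r h
    simp only [fullRels, List.mem_append, List.mem_map, List.mem_range] at h
    rcases h with ⟨x, hx, rfl⟩ | h | ⟨r', h, rfl⟩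
    · rw [evw_cons, evw_cons, evw_nil, hinv' x hx]; simp
    · exact hr0 r h
    · rw [evw_invw ev il C.nc hinv' r' (allLt_sound (List.all_eq_true.mp v2 r' h)), hr0 r' h, inv_one]
  have hs' : ∀ r ∈ fullSubs il subs, evw ev r ∈ H := by
    intro r h
    simp only [fullSubs, List.mem_append, List.mem_map] at h
    rcases h with h | ⟨r', h, rfl⟩
    · exact hs0 r h
    · rw [evw_invw ev il C.nc hinv' r' (allLt_sound (List.all_eq_true.mp v3 r' h))]
      exact H.inv_mem (hs0 r' h)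
  let P : Par :=
    { g := gtab C.tabs C.k, mJ := C.mJ, mR := C.mR, W := C.W, mA := C.mA, mI := C.mI, nc := C.nc, lo := C.lo,
      live := C.live, hi1 := C.hi1, hJ := s1, hR := s2, hll := s5, hlh := s6
      hlo := by
        intro c hc
        by_contra hlt
        apply hc
        have h2 : c &&& C.mJ < 2 ^ C.k := lt_of_le_of_lt Nat.and_le_left (by omega)
        have h3 : (c &&& C.mJ) % 2 ^ C.k = 0 := by rw [Nat.and_mod_two_pow, s4, Nat.and_zero]
        rwa [Nat.mod_eq_of_lt h2] at h3 }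
  have hty : ∀ x ≤ P.nc, ∀ code, SemTy ev H P.nc x (tyf C.tts C.base x code) := fun x hx code =>
    validAll_sound ev H _ _ il C.nc h1 hinv' hr' hs' C.tts C.base v4 x hx code
  simp only [Cert.chkW, Bool.and_eq_true, Nat.blt_eq] at hw
  obtain ⟨⟨w1, w2⟩, w3⟩ := hw
  have inv := Par.invAll' (P := P) (ev := ev) (H := H) h1 _ hty C.S C.mC C.AW C.mAW hR (Nat.pred C.mA)
    (Nat.pred_lt w1.ne')
  intro w hw
  have w4 := List.all_eq_true.mp w3 w hw
  rw [Bool.and_eq_true] at w4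
  have w5 : P.st (Nat.pred C.mA) w C.lo = C.lo := Nat.eq_of_beq_eq_true w4.2
  have w6 := (Par.st_sound h1 inv w (allLt_sound w4.1) C.lo (by change C.lo ≤ C.hi1; omega)
    (by rw [w5]; omega)).1
  rw [w5] at w6
  have w7 : P.phi ev C.lo = 1 := P.phi_lo ev
  unfold Par.Rl at w6
  rw [w7, one_mul, inv_one, mul_one, hevw w (allLt_sound w4.1)] at w6
  exact w6

/-- relators of a subpresentation that were derived by a partial enumeration -/
theorem rel_step {G : Type*} [Group G] (ev : ℕ → G) {nc : ℕ} {il : List ℕ} {rels : List (List ℕ)}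
    (hinv : ∀ x < nc, ev (il.getD x 0) = (ev x)⁻¹) (hr : ∀ r ∈ rels, evw ev r = 1)
    (σ : List (List ℕ)) (n : ℕ) {il' : List ℕ} {rels' ws : List (List ℕ)} {nc' : ℕ}
    (cov : ∀ (ev' : ℕ → G) (H : Subgroup G), (∀ x < nc', ev' (il'.getD x 0) = (ev' x)⁻¹) →
      (∀ r ∈ rels', evw ev' r = 1) → (∀ s ∈ ([] : List (List ℕ)), evw ev' s ∈ H) → ∀ w ∈ ws, evw ev' w ∈ H)
    (h : (follows nc il n rels ((List.range nc').map fun x => subst σ [x, il'.getD x 0]) &&
      follows nc il n rels (rels'.map (subst σ))) = true) :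
    ∀ w ∈ ws.map (subst σ), evw ev w = 1 := by
  simp only [Bool.and_eq_true] at h
  intro w hw
  obtain ⟨w', hw', rfl⟩ := List.mem_map.mp hw
  rw [evw_subst]
  exact Subgroup.mem_bot.mp (cov _ ⊥ (byW_inv ev hinv hr h.1) (byW_rels ev hinv hr h.2) forall_nil w' hw')

end CfH6
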