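import Cfsg.Agent.OD.Pre
import Cfsg.Agent.H6.TCTop
/-! coset enumeration certificate; generators t u v w x y ; index 8 -/
set_option autoImplicit false
set_option maxRecDepth 100000
set_option Elab.async false
set_option linter.all false
namespace CfH6.LT30
open CfH6
noncomputable def tab0 : Tr := (Tr.l (nat_lit 0x2d1cb462d14b443504ac329084c0))
noncomputable def tab1 : Tr := (Tr.l (nat_lit 0x7b1dac65b152c439089c1170c540))
noncomputable def tab2 : Tr := (Tr.l (nat_lit 0x2d1cb462d14d412d0cac429084c0))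
noncomputable def tab3 : Tr := (Tr.l (nat_lit 0x7b1dac65b152423b0c9c11710540))
noncomputable def tab4 : Tr := (Tr.l (nat_lit 0x2d1cb463504b442d0cac529084c0))
noncomputable def tab5 : Tr := (Tr.l (nat_lit 0x7b1dac659092c43b0c9c11714540))
noncomputable def tab6 : Tr := (Tr.l (nat_lit 0x2d1cd412d14b442d0cac629084c0))
noncomputable def tab7 : Tr := (Tr.l (nat_lit 0x7b1da425b152c43b0c9c11718540))
noncomputable def tab8 : Tr := (Tr.l (nat_lit 0x3504b462d14b442d0cac729084c0))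
noncomputable def tab9 : Tr := (Tr.l (nat_lit 0x7909ac65b152c43b0c9c1171c540))
noncomputable def tab10 : Tr := (Tr.l (nat_lit 0x1d1c7461d147441d0c8c01908541))
noncomputable def tab11 : Tr := (Tr.l (nat_lit 0x8b1dec66b156c44b0cdc12300542))
noncomputable def tab12 : Tr := (Tr.l (nat_lit 0))
noncomputable def tab13 : Tr := (Tr.l (nat_lit 0x86420ab0))
noncomputable def tab14 : Tr := (Tr.l (nat_lit 0))
noncomputable def tab15 : Tr := (Tr.l (nat_lit 0))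
noncomputable def tab16 : Tr := (Tr.l (nat_lit 0))
noncomputable def tab17 : Tr := (Tr.l (nat_lit 0))
noncomputable def tab18 : Tr := (Tr.l (nat_lit 0))
noncomputable def tab19 : Tr := (Tr.l (nat_lit 0))
noncomputable def tab20 : Tr := (Tr.l (nat_lit 0))
noncomputable def tab21 : Tr := (Tr.l (nat_lit 0))
noncomputable def tab22 : Tr := (Tr.l (nat_lit 0))
noncomputable def tab23 : Tr := (Tr.l (nat_lit 0))
noncomputable def tab24 : Tr := (Tr.l (nat_lit 0))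
noncomputable def tab25 : Tr := (Tr.l (nat_lit 0))
noncomputable def tab26 : Tr := (Tr.l (nat_lit 0))
noncomputable def ty0 : TT := (TT.n (TT.n (TT.l (Ty.ssub [] []))
 (TT.l (Ty.dfn)))
 (TT.l (Ty.rel1 (nat_lit 1))))
noncomputable def ty1 : TT := (TT.n (TT.n (TT.n (TT.l (Ty.rel1 (nat_lit 0)))
 (TT.l (Ty.rel3 (nat_lit 5) (nat_lit 1) (nat_lit 5))))
 (TT.n (TT.l (Ty.relL (nat_lit 1) [nat_lit 1]))
 (TT.l (Ty.rel3 (nat_lit 9) (nat_lit 1) (nat_lit 9)))))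
 (TT.n (TT.n (TT.l (Ty.rel3 (nat_lit 11) (nat_lit 1) (nat_lit 11)))
 (TT.l (Ty.rel3 (nat_lit 7) (nat_lit 1) (nat_lit 7))))
 (TT.l (Ty.rel3 (nat_lit 3) (nat_lit 1) (nat_lit 3)))))
noncomputable def ty2 : TT := (TT.n (TT.n (TT.l (Ty.ssub [] []))
 (TT.l (Ty.dfn)))
 (TT.l (Ty.rel1 (nat_lit 3))))
noncomputable def ty3 : TT := (TT.n (TT.n (TT.n (TT.l (Ty.rel1 (nat_lit 2)))
 (TT.l (Ty.rel3 (nat_lit 5) (nat_lit 3) (nat_lit 5))))
 (TT.n (TT.l (Ty.rel3 (nat_lit 1) (nat_lit 3) (nat_lit 1)))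
 (TT.l (Ty.rel3 (nat_lit 9) (nat_lit 3) (nat_lit 9)))))
 (TT.n (TT.n (TT.l (Ty.rel3 (nat_lit 11) (nat_lit 3) (nat_lit 11)))
 (TT.l (Ty.rel3 (nat_lit 7) (nat_lit 3) (nat_lit 7))))
 (TT.l (Ty.relL (nat_lit 3) [nat_lit 3]))))
noncomputable def ty4 : TT := (TT.n (TT.n (TT.l (Ty.ssub [] []))
 (TT.l (Ty.dfn)))
 (TT.l (Ty.rel1 (nat_lit 5))))
noncomputable def ty5 : TT := (TT.n (TT.n (TT.n (TT.l (Ty.rel1 (nat_lit 4)))
 (TT.l (Ty.relL (nat_lit 5) [nat_lit 5])))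
 (TT.n (TT.l (Ty.rel3 (nat_lit 1) (nat_lit 5) (nat_lit 1)))
 (TT.l (Ty.rel3 (nat_lit 9) (nat_lit 5) (nat_lit 9)))))
 (TT.n (TT.n (TT.l (Ty.rel3 (nat_lit 11) (nat_lit 5) (nat_lit 11)))
 (TT.l (Ty.rel3 (nat_lit 7) (nat_lit 5) (nat_lit 7))))
 (TT.l (Ty.rel3 (nat_lit 3) (nat_lit 5) (nat_lit 3)))))
noncomputable def ty6 : TT := (TT.n (TT.n (TT.l (Ty.ssub [] []))
 (TT.l (Ty.dfn)))
 (TT.l (Ty.rel1 (nat_lit 7))))
noncomputable def ty7 : TT := (TT.n (TT.n (TT.n (TT.l (Ty.rel1 (nat_lit 6)))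
 (TT.l (Ty.rel3 (nat_lit 5) (nat_lit 7) (nat_lit 5))))
 (TT.n (TT.l (Ty.rel3 (nat_lit 1) (nat_lit 7) (nat_lit 1)))
 (TT.l (Ty.rel3 (nat_lit 9) (nat_lit 7) (nat_lit 9)))))
 (TT.n (TT.n (TT.l (Ty.rel3 (nat_lit 11) (nat_lit 7) (nat_lit 11)))
 (TT.l (Ty.relL (nat_lit 7) [nat_lit 7])))
 (TT.l (Ty.rel3 (nat_lit 3) (nat_lit 7) (nat_lit 3)))))
noncomputable def ty8 : TT := (TT.n (TT.n (TT.l (Ty.ssub [] []))
 (TT.l (Ty.dfn)))
 (TT.l (Ty.rel1 (nat_lit 9))))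
noncomputable def ty9 : TT := (TT.n (TT.n (TT.n (TT.l (Ty.rel1 (nat_lit 8)))
 (TT.l (Ty.rel3 (nat_lit 5) (nat_lit 9) (nat_lit 5))))
 (TT.n (TT.l (Ty.rel3 (nat_lit 1) (nat_lit 9) (nat_lit 1)))
 (TT.l (Ty.relL (nat_lit 9) [nat_lit 9]))))
 (TT.n (TT.n (TT.l (Ty.rel3 (nat_lit 11) (nat_lit 9) (nat_lit 11)))
 (TT.l (Ty.rel3 (nat_lit 7) (nat_lit 9) (nat_lit 7))))
 (TT.l (Ty.rel3 (nat_lit 3) (nat_lit 9) (nat_lit 3)))))
noncomputable def ty10 : TT := (TT.n (TT.l (Ty.rel1 (nat_lit 11)))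
 (TT.l (Ty.dfn)))
noncomputable def ty11 : TT := (TT.n (TT.n (TT.n (TT.l (Ty.rel1 (nat_lit 10)))
 (TT.l (Ty.rel3 (nat_lit 3) (nat_lit 11) (nat_lit 3))))
 (TT.n (TT.l (Ty.relL (nat_lit 11) [nat_lit 11]))
 (TT.l (Ty.rel3 (nat_lit 7) (nat_lit 11) (nat_lit 7)))))
 (TT.n (TT.n (TT.l (Ty.dfn))
 (TT.l (Ty.rel3 (nat_lit 5) (nat_lit 11) (nat_lit 5))))
 (TT.n (TT.l (Ty.rel3 (nat_lit 1) (nat_lit 11) (nat_lit 1)))
 (TT.l (Ty.rel3 (nat_lit 9) (nat_lit 11) (nat_lit 9))))))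
noncomputable def ty12 : TT := (TT.l (Ty.skip))
noncomputable def C : Cert where
  tabs := [tab0, tab1, tab2, tab3, tab4, tab5, tab6, tab7, tab8, tab9, tab10, tab11, tab12, tab13, tab14, tab15, tab16, tab17, tab18, tab19, tab20, tab21, tab22, tab23, tab24, tab25, tab26]
  tts := [ty0, ty1, ty2, ty3, ty4, ty5, ty6, ty7, ty8, ty9, ty10, ty11, ty12]
  k := nat_lit 6
  base := nat_lit 8
  mJ := nat_lit 64
  mR := nat_lit 63
  W := nat_lit 14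
  mA := nat_lit 1023
  mI := nat_lit 127
  S := nat_lit 10
  mC := nat_lit 15
  nc := nat_lit 12
  lo := nat_lit 64
  live := nat_lit 72
  hi1 := nat_lit 71
  AW := nat_lit 13
  mAW := nat_lit 8191
def il : List ℕ := [1, 0, 3, 2, 5, 4, 7, 6, 9, 8, 11, 10]
def rels : List (List ℕ) := [[0, 0, 0],
  [2, 2, 2],
  [4, 4, 4],
  [6, 6, 6],
  [8, 8, 8],
  [10, 10, 10],
  [0, 2, 0, 2],
  [0, 4, 0, 4],
  [0, 6, 0, 6],
  [0, 8, 0, 8],
  [0, 10, 0, 10],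
  [2, 4, 2, 4],
  [2, 6, 2, 6],
  [2, 8, 2, 8],
  [2, 10, 2, 10],
  [4, 6, 4, 6],
  [4, 8, 4, 8],
  [4, 10, 4, 10],
  [6, 8, 6, 8],
  [6, 10, 6, 10],
  [8, 10, 8, 10]]
def subs : List (List ℕ) := [[0],
  [2],
  [4],
  [6],
  [8]]
theorem valid : C.valid il rels subs = true := by decide +kernel
theorem p0 : C.OkL 64 72 := C.okL_of 64 0 8 72 (by decide) (by decide +kernel)
theorem covers {G : Type*} [Group G] (ev : ℕ → G) (H : Subgroup G)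
    (hinv : ∀ x < 12, ev (il.getD x 0) = (ev x)⁻¹) (hr : ∀ r ∈ rels, evw ev r = 1)
    (hs : ∀ s ∈ subs, evw ev s ∈ H) : Covers H (gensub ev 12) 8 :=
  C.sound il rels subs 12 8 valid (p0) (Cert.OkR.nil C _) (by decide) (by decide) ev H hinv hr hs
end CfH6.LT30
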