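import Cfsg.Agent.OD.Pre
import Cfsg.Agent.H6.TCTop
/-! coset enumeration certificate; generators t u v w x ; index 7 -/
set_option autoImplicit false
set_option maxRecDepth 100000
set_option Elab.async false
set_option linter.all false
namespace CfH6.LT31
open CfH6
noncomputable def tab0 : Tr := (Tr.l (nat_lit 0x2d1968ab446a0ab0d4844c0))
noncomputable def tab1 : Tr := (Tr.l (nat_lit 0x6b1ad8b2c47212704b86540))
noncomputable def tab2 : Tr := (Tr.l (nat_lit 0x2d1968ad415a1ab114844c0))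
noncomputable def tab3 : Tr := (Tr.l (nat_lit 0x6b1ad8b242761a704b88540))
noncomputable def tab4 : Tr := (Tr.l (nat_lit 0x2d19a82b445a1ab154844c0))
noncomputable def tab5 : Tr := (Tr.l (nat_lit 0x6b1ac852c4761a704b8a540))
noncomputable def tab6 : Tr := (Tr.l (nat_lit 0x350568ab445a1ab194844c0))
noncomputable def tab7 : Tr := (Tr.l (nat_lit 0x690ad8b2c4761a704b8c540))
noncomputable def tab8 : Tr := (Tr.l (nat_lit 0x1d18e8a7443a1a300c84541))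
noncomputable def tab9 : Tr := (Tr.l (nat_lit 0x7b1b58b6c4961b705180542))
noncomputable def tab10 : Tr := (Tr.l (nat_lit 0))
noncomputable def tab11 : Tr := (Tr.l (nat_lit 0x6420890))
noncomputable def tab12 : Tr := (Tr.l (nat_lit 0))
noncomputable def tab13 : Tr := (Tr.l (nat_lit 0))
noncomputable def tab14 : Tr := (Tr.l (nat_lit 0))
noncomputable def tab15 : Tr := (Tr.l (nat_lit 0))
noncomputable def tab16 : Tr := (Tr.l (nat_lit 0))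
noncomputable def tab17 : Tr := (Tr.l (nat_lit 0))
noncomputable def tab18 : Tr := (Tr.l (nat_lit 0))
noncomputable def tab19 : Tr := (Tr.l (nat_lit 0))
noncomputable def tab20 : Tr := (Tr.l (nat_lit 0))
noncomputable def tab21 : Tr := (Tr.l (nat_lit 0))
noncomputable def tab22 : Tr := (Tr.l (nat_lit 0))
noncomputable def ty0 : TT := (TT.n (TT.n (TT.l (Ty.ssub [] []))
 (TT.l (Ty.dfn)))
 (TT.l (Ty.rel1 (nat_lit 1))))
noncomputable def ty1 : TT := (TT.n (TT.n (TT.n (TT.l (Ty.rel1 (nat_lit 0)))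
 (TT.l (Ty.rel3 (nat_lit 5) (nat_lit 1) (nat_lit 5))))
 (TT.l (Ty.relL (nat_lit 1) [nat_lit 1])))
 (TT.n (TT.n (TT.l (Ty.rel3 (nat_lit 9) (nat_lit 1) (nat_lit 9)))
 (TT.l (Ty.rel3 (nat_lit 7) (nat_lit 1) (nat_lit 7))))
 (TT.l (Ty.rel3 (nat_lit 3) (nat_lit 1) (nat_lit 3)))))
noncomputable def ty2 : TT := (TT.n (TT.n (TT.l (Ty.ssub [] []))
 (TT.l (Ty.dfn)))
 (TT.l (Ty.rel1 (nat_lit 3))))
noncomputable def ty3 : TT := (TT.n (TT.n (TT.n (TT.l (Ty.rel1 (nat_lit 2)))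
 (TT.l (Ty.rel3 (nat_lit 5) (nat_lit 3) (nat_lit 5))))
 (TT.l (Ty.rel3 (nat_lit 1) (nat_lit 3) (nat_lit 1))))
 (TT.n (TT.n (TT.l (Ty.rel3 (nat_lit 9) (nat_lit 3) (nat_lit 9)))
 (TT.l (Ty.rel3 (nat_lit 7) (nat_lit 3) (nat_lit 7))))
 (TT.l (Ty.relL (nat_lit 3) [nat_lit 3]))))
noncomputable def ty4 : TT := (TT.n (TT.n (TT.l (Ty.ssub [] []))
 (TT.l (Ty.dfn)))
 (TT.l (Ty.rel1 (nat_lit 5))))
noncomputable def ty5 : TT := (TT.n (TT.n (TT.n (TT.l (Ty.rel1 (nat_lit 4)))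
 (TT.l (Ty.relL (nat_lit 5) [nat_lit 5])))
 (TT.l (Ty.rel3 (nat_lit 1) (nat_lit 5) (nat_lit 1))))
 (TT.n (TT.n (TT.l (Ty.rel3 (nat_lit 9) (nat_lit 5) (nat_lit 9)))
 (TT.l (Ty.rel3 (nat_lit 7) (nat_lit 5) (nat_lit 7))))
 (TT.l (Ty.rel3 (nat_lit 3) (nat_lit 5) (nat_lit 3)))))
noncomputable def ty6 : TT := (TT.n (TT.n (TT.l (Ty.ssub [] []))
 (TT.l (Ty.dfn)))
 (TT.l (Ty.rel1 (nat_lit 7))))
noncomputable def ty7 : TT := (TT.n (TT.n (TT.n (TT.l (Ty.rel1 (nat_lit 6)))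
 (TT.l (Ty.rel3 (nat_lit 5) (nat_lit 7) (nat_lit 5))))
 (TT.l (Ty.rel3 (nat_lit 1) (nat_lit 7) (nat_lit 1))))
 (TT.n (TT.n (TT.l (Ty.rel3 (nat_lit 9) (nat_lit 7) (nat_lit 9)))
 (TT.l (Ty.relL (nat_lit 7) [nat_lit 7])))
 (TT.l (Ty.rel3 (nat_lit 3) (nat_lit 7) (nat_lit 3)))))
noncomputable def ty8 : TT := (TT.n (TT.l (Ty.rel1 (nat_lit 9)))
 (TT.l (Ty.dfn)))
noncomputable def ty9 : TT := (TT.n (TT.n (TT.n (TT.l (Ty.rel1 (nat_lit 8)))
 (TT.l (Ty.rel3 (nat_lit 3) (nat_lit 9) (nat_lit 3))))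
 (TT.n (TT.l (Ty.relL (nat_lit 9) [nat_lit 9]))
 (TT.l (Ty.rel3 (nat_lit 7) (nat_lit 9) (nat_lit 7)))))
 (TT.n (TT.n (TT.l (Ty.dfn))
 (TT.l (Ty.rel3 (nat_lit 5) (nat_lit 9) (nat_lit 5))))
 (TT.l (Ty.rel3 (nat_lit 1) (nat_lit 9) (nat_lit 1)))))
noncomputable def ty10 : TT := (TT.l (Ty.skip))
noncomputable def C : Cert where
  tabs := [tab0, tab1, tab2, tab3, tab4, tab5, tab6, tab7, tab8, tab9, tab10, tab11, tab12, tab13, tab14, tab15, tab16, tab17, tab18, tab19, tab20, tab21, tab22]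
  tts := [ty0, ty1, ty2, ty3, ty4, ty5, ty6, ty7, ty8, ty9, ty10]
  k := nat_lit 6
  base := nat_lit 7
  mJ := nat_lit 64
  mR := nat_lit 63
  W := nat_lit 13
  mA := nat_lit 1023
  mI := nat_lit 127
  S := nat_lit 10
  mC := nat_lit 7
  nc := nat_lit 10
  lo := nat_lit 64
  live := nat_lit 71
  hi1 := nat_lit 70
  AW := nat_lit 13
  mAW := nat_lit 8191
def il : List ℕ := [1, 0, 3, 2, 5, 4, 7, 6, 9, 8]
def rels : List (List ℕ) := [[0, 0, 0],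
  [2, 2, 2],
  [4, 4, 4],
  [6, 6, 6],
  [8, 8, 8],
  [0, 2, 0, 2],
  [0, 4, 0, 4],
  [0, 6, 0, 6],
  [0, 8, 0, 8],
  [2, 4, 2, 4],
  [2, 6, 2, 6],
  [2, 8, 2, 8],
  [4, 6, 4, 6],
  [4, 8, 4, 8],
  [6, 8, 6, 8]]
def subs : List (List ℕ) := [[0],
  [2],
  [4],
  [6]]
theorem valid : C.valid il rels subs = true := by decide +kernel
theorem p0 : C.OkL 64 71 := C.okL_of 64 0 7 71 (by decide) (by decide +kernel)
theorem covers {G : Type*} [Group G] (ev : ℕ → G) (H : Subgroup G)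
    (hinv : ∀ x < 10, ev (il.getD x 0) = (ev x)⁻¹) (hr : ∀ r ∈ rels, evw ev r = 1)
    (hs : ∀ s ∈ subs, evw ev s ∈ H) : Covers H (gensub ev 10) 7 :=
  C.sound il rels subs 10 7 valid (p0) (Cert.OkR.nil C _) (by decide) (by decide) ev H hinv hr hs
end CfH6.LT31
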