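import Cfsg.Agent.OD.Pre
import Cfsg.Agent.H6.TCTop
/-! coset enumeration certificate; generators t u v ; index 60 -/
set_option autoImplicit false
set_option maxRecDepth 100000
set_option Elab.async false
set_option linter.all false
namespace CfH6.LT33
open CfH6
noncomputable def tab0 : Tr := (Tr.l (nat_lit 0x73d5260359d25c35c235d71ad2594761cf6af99be1adb11d333d22d491eebe34740be98f91b5633e8cf98d44cf833dcc65ad34c7331c8c62ad2cc6e31b4bdeab24a714514a6f2f6aac729a8b68450cb558b28b4f6b20a5f8918a5b69109d72b389d22b310c02908941))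
noncomputable def tab1 : Tr := (Tr.l (nat_lit 0x33adc659191c62b184d7235edc6d6f7a3dd475a4f74751bdaaf64bef33d51d16da2ad0b3e4c718f80c6731aabdc31c0afa472a3582fd8af84722b532bd0a734518be66b38b6c29b91442f8ca696b32a452f7e2432f6cb4d2d5cb4b2d48ac92754ac7273d9c14300942))
noncomputable def tab2 : Tr := (Tr.l (nat_lit 0x6f8cd67497cd6a35c64686f70cf973d91d7afb1befad54cf833e8cf76d4cc6e31c8c7331b5b614734be58d88afb8b39b5931d11c92f7a35aad48af58b29ad02fa514529c0b568b46acf29ae2466f6ca662d911422b30a602d751412b209d82b510c029109cb271c943))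
noncomputable def tab3 : Tr := (Tr.l (nat_lit 0x498ac6d71d2c6e91b0d73496abdfafa1be973dd1d531c2bea8f9cc7147464f8ad5ccf693e91ce6d922cd31ecbe32f991ca2be5b5d8b24c75313cbdc2f8114629c9ad42fbe2452facbdb2d4cb582d48b612995a4b4508b592979a474504ad027599c343009cc2720944))
noncomputable def tab4 : Tr := (Tr.l (nat_lit 0xaf98d7135a8d70496cbf7af80d6f33e8cf831ccc728db8cf44748b6dad6236933e51cf2da2b6571ed1cc2d911cb2d8ab5e8d5dc754720b5d2bd91c72d6aad68b55beb6f7d1442b50a6c450cad1299d1422b38a6329851412b28a5c29650c029189d327409cd2724945))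
noncomputable def tab5 : Tr := (Tr.l (nat_lit 0x3396c7391a6c726dd925b337ac6eafc63f073e9cf873d0bef6bb11d23159cf92fa9ae7473cc7b2f99ae34731ae1472cc753154be06b711c82bddad9471cbeb2f7cb582d5da534510a6d694114329a1a4d4508a642989a494504a5d29699c543009d427449ce2728946))
noncomputable def tab6 : Tr := (Tr.l (nat_lit 0))
noncomputable def tab7 : Tr := (Tr.l (nat_lit 0x302045300213104531045324545312451453120451450452345234523010))
noncomputable def tab8 : Tr := (Tr.l (nat_lit 0))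
noncomputable def tab9 : Tr := (Tr.l (nat_lit 0))
noncomputable def tab10 : Tr := (Tr.l (nat_lit 0))
noncomputable def tab11 : Tr := (Tr.l (nat_lit 0))
noncomputable def tab12 : Tr := (Tr.l (nat_lit 0))
noncomputable def tab13 : Tr := (Tr.l (nat_lit 0))
noncomputable def tab14 : Tr := (Tr.l (nat_lit 0))
noncomputable def ty0 : TT := (TT.n (TT.n (TT.n (TT.l (Ty.rel1 (nat_lit 1)))
 (TT.l (Ty.relL (nat_lit 0) [nat_lit 0])))
 (TT.l (Ty.rel3 (nat_lit 2) (nat_lit 0) (nat_lit 2))))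
 (TT.n (TT.l (Ty.dfn))
 (TT.l (Ty.rel3 (nat_lit 4) (nat_lit 0) (nat_lit 4)))))
noncomputable def ty1 : TT := (TT.n (TT.n (TT.n (TT.l (Ty.rel1 (nat_lit 0)))
 (TT.l (Ty.rel3 (nat_lit 5) (nat_lit 1) (nat_lit 5))))
 (TT.l (Ty.relL (nat_lit 1) [nat_lit 1])))
 (TT.n (TT.l (Ty.dfn))
 (TT.l (Ty.rel3 (nat_lit 3) (nat_lit 1) (nat_lit 3)))))
noncomputable def ty2 : TT := (TT.n (TT.n (TT.n (TT.l (Ty.rel1 (nat_lit 3)))
 (TT.l (Ty.rel3 (nat_lit 0) (nat_lit 2) (nat_lit 0))))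
 (TT.l (Ty.relL (nat_lit 2) [nat_lit 2])))
 (TT.n (TT.l (Ty.dfn))
 (TT.l (Ty.rel3 (nat_lit 4) (nat_lit 2) (nat_lit 4)))))
noncomputable def ty3 : TT := (TT.n (TT.n (TT.n (TT.l (Ty.rel1 (nat_lit 2)))
 (TT.l (Ty.rel3 (nat_lit 1) (nat_lit 3) (nat_lit 1))))
 (TT.l (Ty.relL (nat_lit 3) [nat_lit 3])))
 (TT.n (TT.l (Ty.dfn))
 (TT.l (Ty.rel3 (nat_lit 5) (nat_lit 3) (nat_lit 5)))))
noncomputable def ty4 : TT := (TT.n (TT.n (TT.n (TT.l (Ty.rel1 (nat_lit 5)))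
 (TT.l (Ty.rel3 (nat_lit 2) (nat_lit 4) (nat_lit 2))))
 (TT.l (Ty.relL (nat_lit 4) [nat_lit 4])))
 (TT.n (TT.l (Ty.dfn))
 (TT.l (Ty.rel3 (nat_lit 0) (nat_lit 4) (nat_lit 0)))))
noncomputable def ty5 : TT := (TT.n (TT.n (TT.n (TT.l (Ty.rel1 (nat_lit 4)))
 (TT.l (Ty.rel3 (nat_lit 1) (nat_lit 5) (nat_lit 1))))
 (TT.l (Ty.relL (nat_lit 5) [nat_lit 5])))
 (TT.n (TT.l (Ty.dfn))
 (TT.l (Ty.rel3 (nat_lit 3) (nat_lit 5) (nat_lit 3)))))
noncomputable def ty6 : TT := (TT.l (Ty.skip))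
noncomputable def C : Cert where
  tabs := [tab0, tab1, tab2, tab3, tab4, tab5, tab6, tab7, tab8, tab9, tab10, tab11, tab12, tab13, tab14]
  tts := [ty0, ty1, ty2, ty3, ty4, ty5, ty6]
  k := nat_lit 6
  base := nat_lit 5
  mJ := nat_lit 64
  mR := nat_lit 63
  W := nat_lit 14
  mA := nat_lit 2047
  mI := nat_lit 127
  S := nat_lit 11
  mC := nat_lit 7
  nc := nat_lit 6
  lo := nat_lit 64
  live := nat_lit 124
  hi1 := nat_lit 123
  AW := nat_lit 13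
  mAW := nat_lit 8191
def il : List ℕ := [1, 0, 3, 2, 5, 4]
def rels : List (List ℕ) := [[0, 0, 0],
  [2, 2, 2],
  [4, 4, 4],
  [0, 2, 0, 2],
  [0, 4, 0, 4],
  [2, 4, 2, 4]]
def subs : List (List ℕ) := []
theorem valid : C.valid il rels subs = true := by decide +kernel
theorem p0 : C.OkL 64 124 := C.okL_of 64 0 60 124 (by decide) (by decide +kernel)
theorem covers {G : Type*} [Group G] (ev : ℕ → G) (H : Subgroup G)
    (hinv : ∀ x < 6, ev (il.getD x 0) = (ev x)⁻¹) (hr : ∀ r ∈ rels, evw ev r = 1)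
    (hs : ∀ s ∈ subs, evw ev s ∈ H) : Covers H (gensub ev 6) 60 :=
  C.sound il rels subs 6 60 valid (p0) (Cert.OkR.nil C _) (by decide) (by decide) ev H hinv hr hs
end CfH6.LT33
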