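import Cfsg.Agent.OD.Pre
import Cfsg.Agent.H6.A9B
import Cfsg.Agent.H6.TCPart
import Cfsg.Agent.H6.LT29
import Cfsg.Agent.H6.LT30
import Cfsg.Agent.H6.LT31
import Cfsg.Agent.H6.LT32
import Cfsg.Agent.H6.LT33
set_option autoImplicit false
set_option maxRecDepth 100000
set_option linter.all false
namespace CfH6.A9O
open CfH6
def s0 : List (List ℕ) := [[0], [1], [2], [3], [4], [5], [6], [7], [8], [9], [10], [11], [12], [13]]
def t0 : List (List ℕ) := [[0], [2], [4], [6], [8], [10]]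
theorem cov0 : Covers (gensub (byW A9B.el t0) 6) (gensub (byW A9B.el s0) 14) 9 :=
  cov_step A9B.el A9B.hinv A9B.hrel s0 t0 6 4 (fun ev H => LT29.covers ev H) (by decide +kernel)
theorem top0 : gensub (byW A9B.el s0) 14 = ⊤ := (gensub_id A9B.el (by decide)).trans A9B.htop
theorem covT0 : Covers (gensub (byW A9B.el t0) 6) ⊤ 9 := cov0.top top0
def s1 : List (List ℕ) := [[0], [1], [2], [3], [4], [5], [6], [7], [8], [9], [10], [11]]
def t1 : List (List ℕ) := [[0], [2], [4], [6], [8]]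
theorem cov1 : Covers (gensub (byW A9B.el t1) 5) (gensub (byW A9B.el s1) 12) 8 :=
  cov_step A9B.el A9B.hinv A9B.hrel s1 t1 5 4 (fun ev H => LT30.covers ev H) (by decide +kernel)
def s2 : List (List ℕ) := [[0], [1], [2], [3], [4], [5], [6], [7], [8], [9]]
def t2 : List (List ℕ) := [[0], [2], [4], [6]]
theorem cov2 : Covers (gensub (byW A9B.el t2) 4) (gensub (byW A9B.el s2) 10) 7 :=
  cov_step A9B.el A9B.hinv A9B.hrel s2 t2 4 4 (fun ev H => LT31.covers ev H) (by decide +kernel)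
def s3 : List (List ℕ) := [[0], [1], [2], [3], [4], [5], [6], [7]]
def t3 : List (List ℕ) := [[0], [2], [4]]
theorem cov3 : Covers (gensub (byW A9B.el t3) 3) (gensub (byW A9B.el s3) 8) 6 :=
  cov_step A9B.el A9B.hinv A9B.hrel s3 t3 3 4 (fun ev H => LT32.covers ev H) (by decide +kernel)
def s4 : List (List ℕ) := [[0], [1], [2], [3], [4], [5]]
def t4 : List (List ℕ) := []
theorem cov4 : Covers (gensub (byW A9B.el t4) 0) (gensub (byW A9B.el s4) 6) 60 :=
  cov_step A9B.el A9B.hinv A9B.hrel s4 t4 0 4 (fun ev H => LT33.covers ev H) (by decide +kernel)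
theorem finT4 : Finite (gensub (byW A9B.el t4) 0) ∧ Nat.card (gensub (byW A9B.el t4) 0) ≤ 1 := (gensub_zero _)
theorem fin4 : Finite (gensub (byW A9B.el s4) 6) ∧ Nat.card (gensub (byW A9B.el s4) 6) ≤ 60 :=
  fin_cast (cov4.card_le finT4) (by decide)
theorem finT3 : Finite (gensub (byW A9B.el t3) 3) ∧ Nat.card (gensub (byW A9B.el t3) 3) ≤ 60 := (fin_le (gensub_le_of_subsIn A9B.el (by decide)) fin4)
theorem fin3 : Finite (gensub (byW A9B.el s3) 8) ∧ Nat.card (gensub (byW A9B.el s3) 8) ≤ 360 :=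
  fin_cast (cov3.card_le finT3) (by decide)
theorem finT2 : Finite (gensub (byW A9B.el t2) 4) ∧ Nat.card (gensub (byW A9B.el t2) 4) ≤ 360 := (fin_le (gensub_le_of_subsIn A9B.el (by decide)) fin3)
theorem fin2 : Finite (gensub (byW A9B.el s2) 10) ∧ Nat.card (gensub (byW A9B.el s2) 10) ≤ 2520 :=
  fin_cast (cov2.card_le finT2) (by decide)
theorem finT1 : Finite (gensub (byW A9B.el t1) 5) ∧ Nat.card (gensub (byW A9B.el t1) 5) ≤ 2520 := (fin_le (gensub_le_of_subsIn A9B.el (by decide)) fin2)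
theorem fin1 : Finite (gensub (byW A9B.el s1) 12) ∧ Nat.card (gensub (byW A9B.el s1) 12) ≤ 20160 :=
  fin_cast (cov1.card_le finT1) (by decide)
theorem finT0 : Finite (gensub (byW A9B.el t0) 6) ∧ Nat.card (gensub (byW A9B.el t0) 6) ≤ 20160 := (fin_le (gensub_le_of_subsIn A9B.el (by decide)) fin1)
theorem fin0 : Finite (gensub (byW A9B.el s0) 14) ∧ Nat.card (gensub (byW A9B.el s0) 14) ≤ 181440 :=
  fin_cast (cov0.card_le finT0) (by decide)
theorem finG : Finite A9B.G ∧ Nat.card A9B.G ≤ 181440 := fin_top (top0 ▸ fin0)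
end CfH6.A9O
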