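import Cfsg.Agent.OD.Pre
import Cfsg.Agent.H6.WP
/-! Permutation actions given by packed tables; words in table letters; orbit certificates. -/
set_option autoImplicit false
namespace CfH6.D
open MulAction

/-- continue with `k` when `c = 0` -/
noncomputable def gd (c k : ℕ) : ℕ := Nat.rec k (fun _ _ => 1) c

theorem gd_zero {c k : ℕ} (h : gd c k = 0) : c = 0 ∧ k = 0 := by
  cases c with
  | zero => exact ⟨rfl, h⟩
  | succ c => exact absurd h (by simp [gd])

/-- `0` iff `a < b` -/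
noncomputable def lt0 (a b : ℕ) : ℕ := Nat.sub (Nat.succ a) b
theorem lt0_zero {a b : ℕ} (h : lt0 a b = 0) : a < b := Nat.le_of_sub_eq_zero h

/-- blocks of 128 -/
noncomputable def lp (p : ℕ → ℕ) (a nb r : ℕ) : ℕ :=
  Nat.lor (loop1 (fun b => force (Nat.add a (Nat.mul b 128)) fun a' => loop1 p a' 128) 0 nb)
    (force (Nat.add a (Nat.mul nb 128)) fun a' => loop1 p a' r)

def Rng (p : ℕ → ℕ) (a b : ℕ) : Prop := ∀ c, a ≤ c → c < b → p c = 0

theorem rng_of {p : ℕ → ℕ} (a nb r b : ℕ)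
    (h : (Nat.beq (lp p a nb r) 0 && Nat.beq (Nat.add (Nat.add a (Nat.mul nb 128)) r) b) = true) : Rng p a b := by
  rw [Bool.and_eq_true] at h
  obtain ⟨h1, h2⟩ := lor_zero (Nat.eq_of_beq_eq_true h.1)
  have h3 : a + nb * 128 + r = b := Nat.eq_of_beq_eq_true h.2
  intro c hc1 hc2
  rw [force_eq] at h2
  by_cases hc : c < a + nb * 128
  · have := loop1_sound _ _ _ h1 ((c - a) / 128) (Nat.zero_le _) (by omega)
    rw [force_eq] at this
    exact loop1_sound _ _ _ this c (show a + (c - a) / 128 * 128 ≤ c by omega)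
      (show c < a + (c - a) / 128 * 128 + 128 by omega)
  · exact loop1_sound _ _ _ h2 c (show a + nb * 128 ≤ c by omega) (show c < a + nb * 128 + r by omega)

theorem Rng.trans {p : ℕ → ℕ} {a b c : ℕ} (h : Rng p a b) (h' : Rng p b c) : Rng p a c := fun d h1 h2 => by
  by_cases hd : d < b
  exacts [h d h1 hd, h' d (by omega) h2]

noncomputable def lk (w mk T p : ℕ) : ℕ := Nat.land (Nat.shiftRight T (Nat.mul w p)) mk

/-- table of letter `l` at point `p` -/
noncomputable def tf (T : Tr) (w mk l p : ℕ) : ℕ := lk w mk (Tr.get T l) p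

noncomputable def trW (f : ℕ → ℕ → ℕ) (w : List ℕ) (p : ℕ) : ℕ := List.rec p (fun a _ ih => force ih (f a)) w

noncomputable def chkInvT (f : ℕ → ℕ → ℕ) (il : List ℕ) (nc m p : ℕ) : ℕ :=
  force p fun p => loop1 (fun x => force x fun x => force (f x p) fun q =>
    Nat.lor (lt0 q m) (force (lget il 0 x) fun y => Nat.xor (f y q) p)) 0 nc

noncomputable def chkRelT (f : ℕ → ℕ → ℕ) (rels : List (List ℕ)) (p : ℕ) : ℕ :=
  force p fun p => List.rec 0 (fun r _ ih => Nat.lor (Nat.xor (trW f r p) p) ih) rels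

theorem lget_eq {α : Type} (l : List α) (d : α) (i : ℕ) : lget l d i = l.getD i d := by
  induction l generalizing i with
  | nil => rfl
  | cons a l ih => cases i with
    | zero => rfl
    | succ i => exact ih i

section
variable {N : Type*} [Group N]

theorem tab_hom (f : ℕ → ℕ → ℕ) {nc m : ℕ} {il : List ℕ} {rels : List (List ℕ)} {el : ℕ → N}
    (hhom : ∀ ev : ℕ → Equiv.Perm ℕ, (∀ x < nc, ev (il.getD x 0) = (ev x)⁻¹) → (∀ r ∈ rels, evw ev r = 1) →
      ∃ ρ : N →* Equiv.Perm ℕ, ∀ x < nc, ρ (el x) = ev x)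
    (hs : (rels.all (allLt nc) && (List.range nc).all fun x =>
      Nat.blt (il.getD x 0) nc && Nat.beq (il.getD (il.getD x 0) 0) x) = true)
    (h1 : Rng (chkInvT f il nc m) 0 m) (h2 : Rng (chkRelT f rels) 0 m) :
    ∃ ρ : N →* Equiv.Perm ℕ, ∀ x < nc, ∀ p < m, f x p = ρ (el x) p ∧ ρ (el x) p < m := by
  simp only [Bool.and_eq_true, List.all_eq_true, List.mem_range, Nat.blt_eq, Nat.beq_eq] at hs
  have k1 : ∀ x < nc, ∀ p < m, f x p < m ∧ f (il.getD x 0) (f x p) = p := fun x hx p hp => by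
    have := h1 p (Nat.zero_le _) hp
    rw [chkInvT, force_eq] at this
    have := loop1_sound _ _ _ this x (Nat.zero_le _) (by omega)
    simp only [force_eq, lget_eq] at this
    obtain ⟨a, b⟩ := lor_zero this
    exact ⟨lt0_zero a, xor_zero' b⟩
  let F : ℕ → ℕ → ℕ := fun x p => if p < m then f x p else p
  have k2 : ∀ x < nc, ∀ p, F (il.getD x 0) (F x p) = p := fun x hx p => by
    by_cases hp : p < m
    · simp only [F, if_pos hp, if_pos (k1 x hx p hp).1, (k1 x hx p hp).2]
    · simp only [F, if_neg hp]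
  let ev : ℕ → Equiv.Perm ℕ := fun x => if hx : x < nc then
    ⟨F x, F (il.getD x 0), k2 x hx, fun p => by
      have := k2 _ (hs.2 x hx).1 p
      rwa [(hs.2 x hx).2] at this⟩ else 1
  have k3 : ∀ x < nc, ∀ p, ev x p = F x p := fun x hx p => by simp only [ev, dif_pos hx]; rfl
  have k4 : ∀ w : List ℕ, (∀ x ∈ w, x < nc) → ∀ p, (p < m → trW f w p = evw ev w p ∧ evw ev w p < m) ∧
      (¬ p < m → evw ev w p = p) := fun w hw p => by
    induction w with
    | nil => exact ⟨fun hp => ⟨rfl, hp⟩, fun _ => rfl⟩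
    | cons a w ih =>
      have ha := hw a List.mem_cons_self
      have ih := ih fun x hx => hw x (List.mem_cons_of_mem _ hx)
      rw [evw_cons, Equiv.Perm.mul_apply, k3 a ha]
      refine ⟨fun hp => ?_, fun hp => ?_⟩
      · obtain ⟨e1, e2⟩ := ih.1 hp
        change force (trW f w p) (f a) = _ ∧ _
        simp only [force_eq, e1, F, if_pos e2, true_and]
        exact (k1 a ha _ e2).1
      · simp only [ih.2 hp, F, if_neg hp]
  obtain ⟨ρ, hρ⟩ := hhom ev (fun x hx => by
    refine eq_inv_of_mul_eq_one_left (Equiv.ext fun p => ?_)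
    rw [Equiv.Perm.mul_apply, k3 x hx, k3 _ (hs.2 x hx).1, k2 x hx]; rfl) (fun r hr => by
    refine Equiv.ext fun p => ?_
    have hr' := allLt_sound (hs.1 r hr)
    by_cases hp : p < m
    · have := h2 p (Nat.zero_le _) hp
      rw [chkRelT, force_eq] at this
      have key : ∀ rs : List (List ℕ), (List.rec 0 (fun r _ ih => Nat.lor (Nat.xor (trW f r p) p) ih) rs : ℕ) = 0 →
          ∀ r ∈ rs, trW f r p = p := fun rs => by
        induction rs with
        | nil => simp
        | cons a rs ih =>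
          intro h r hr
          obtain ⟨a1, a2⟩ := lor_zero h
          rcases List.mem_cons.mp hr with rfl | hr
          exacts [xor_zero' a1, ih a2 r hr]
      rw [← ((k4 r hr' p).1 hp).1, key _ this r hr]; rfl
    · rw [(k4 r hr' p).2 hp]; rfl)
  refine ⟨ρ, fun x hx p hp => ?_⟩
  rw [hρ x hx, k3 x hx]
  simp only [F, if_pos hp, true_and]
  exact (k1 x hx p hp).1

variable [MulAction N ℕ]

/-- the tables give the action of the letters -/
def Tb (f : ℕ → ℕ → ℕ) (m k : ℕ) (el : ℕ → N) : Prop := ∀ x < k, ∀ p < m, f x p = el x • p ∧ el x • p < m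

theorem Tb.word {f : ℕ → ℕ → ℕ} {m k : ℕ} {el : ℕ → N} (T : Tb f m k el) {w : List ℕ} (hw : ∀ x ∈ w, x < k)
    {p : ℕ} (hp : p < m) : trW f w p = evw el w • p ∧ evw el w • p < m := by
  induction w with
  | nil => exact ⟨(one_smul _ _).symm, by simpa using hp⟩
  | cons a w ih =>
    obtain ⟨e1, e2⟩ := ih fun x hx => hw x (List.mem_cons_of_mem _ hx)
    rw [evw_cons, mul_smul]
    change force (trW f w p) (f a) = _ ∧ _
    rw [force_eq, e1]
    exact T a (hw a List.mem_cons_self) _ e2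

theorem Tb.bound [Finite N] {f : ℕ → ℕ → ℕ} {m k : ℕ} {el : ℕ → N} (T : Tb f m k el) (htop : gensub el k = ⊤)
    (g : N) {p : ℕ} (hp : p < m) : g • p < m := by
  let K : Subgroup N :=
    { carrier := {g | ∀ p < m, g • p < m}
      one_mem' := fun p hp => by simpa using hp
      mul_mem' := fun {a b} ha hb p hp => by rw [mul_smul]; exact ha _ (hb p hp)
      inv_mem' := fun {a} ha p hp => by
        have h1 : ∀ n : ℕ, ∀ p < m, a ^ n • p < m := fun n => by
          induction n with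
          | zero => intro p hp; simpa using hp
          | succ n ih => intro p hp; rw [pow_succ, mul_smul]; exact ih _ (ha p hp)
        have h2 : a⁻¹ = a ^ (orderOf a - 1) := by
          refine (eq_inv_of_mul_eq_one_left ?_).symm
          rw [← pow_succ, Nat.sub_add_cancel (orderOf_pos a), pow_orderOf_eq_one]
        rw [h2]; exact h1 _ p hp }
  exact (htop.ge.trans (gensub_le (K := K) fun x hx p hp => (T x hx p hp).2)) (Subgroup.mem_top g) p hp
end

/-! letters defined by a straight line program -/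

noncomputable def slp {N : Type*} [Group N] (el : ℕ → N) (nc : ℕ) (sa sb : ℕ → ℕ) (l : ℕ) : N :=
  if l = 0 then 1 else if l ≤ nc then el (l - 1) else
    if _h : sa l < l ∧ sb l < l then slp el nc sa sb (sa l) * slp el nc sa sb (sb l) else 1
termination_by l
decreasing_by exacts [_h.1, _h.2]

noncomputable def chkId (f : ℕ → ℕ → ℕ) (p : ℕ) : ℕ := force p fun p => Nat.xor (f 0 p) p

noncomputable def chkSl (f : ℕ → ℕ → ℕ) (sa sb : ℕ → ℕ) (nb r l : ℕ) : ℕ :=
  force l fun l => force (sa l) fun a => force (sb l) fun b => gd (Nat.lor (lt0 a l) (lt0 b l))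
    (lp (fun p => force p fun p => Nat.xor (f l p) (force (f b p) (f a))) 0 nb r)

section
variable {N : Type*} [Group N] [MulAction N ℕ]

theorem slp_succ (el : ℕ → N) {nc : ℕ} (sa sb : ℕ → ℕ) {x : ℕ} (hx : x < nc) : slp el nc sa sb (x + 1) = el x := by
  rw [slp, if_neg (by omega), if_pos (by omega)]; rfl

theorem Tb.slp {f : ℕ → ℕ → ℕ} {m nc k nb r : ℕ} {el : ℕ → N} {sa sb : ℕ → ℕ}
    (T : Tb (fun x => f (Nat.succ x)) m nc el) (hm : Nat.beq (Nat.add (Nat.mul nb 128) r) m = true)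
    (h0 : Rng (chkId f) 0 m) (h1 : Rng (chkSl f sa sb nb r) (nc + 1) k) : Tb f m k (slp el nc sa sb) := by
  intro l
  induction l using Nat.strong_induction_on with
  | _ l ih =>
    intro hl p hp
    by_cases a0 : l = 0
    · subst a0
      have := h0 p (Nat.zero_le _) hp
      rw [chkId, force_eq] at this
      rw [D.slp, if_pos rfl, one_smul]
      exact ⟨xor_zero' this, hp⟩
    by_cases a1 : l ≤ nc
    · obtain ⟨x, rfl⟩ : ∃ x, l = x + 1 := ⟨l - 1, by omega⟩
      rw [slp_succ el sa sb (by omega)]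
      exact T x (by omega) p hp
    · have := h1 l (by omega) hl
      simp only [chkSl, force_eq] at this
      obtain ⟨b1, b2⟩ := gd_zero this
      obtain ⟨b3, b4⟩ := lor_zero b1
      have b3 := lt0_zero b3
      have b4 := lt0_zero b4
      have b5 := rng_of 0 nb r m (by
        rw [b2, Bool.and_eq_true]
        exact ⟨rfl, by rw [← hm]; simp⟩) p (Nat.zero_le _) hp
      rw [D.slp, if_neg a0, if_neg a1, dif_pos ⟨b3, b4⟩, mul_smul, xor_zero' b5,
        (ih _ b4 (by omega) p hp).1]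
      exact ih _ b3 (by omega) _ (ih _ b4 (by omega) p hp).2
end

/-! codes: words in the letters, packed into a number -/

noncomputable def cdF {N : Type*} [Group N] (el : ℕ → N) (lb ml : ℕ) : ℕ → ℕ → N
  | 0, _ => 1
  | n + 1, X => if X = 0 then 1 else cdF el lb ml n (X >>> lb) * el (X &&& ml)

noncomputable def trC (f : ℕ → ℕ → ℕ) (lb ml fu : ℕ) : ℕ → ℕ → ℕ :=
  Nat.rec (fun _ p => p) (fun _ ih X p => Nat.rec p (fun X' _ => force (Nat.land (Nat.succ X') ml) fun l =>
    force (f l p) (ih (Nat.shiftRight (Nat.succ X') lb))) X) fu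

noncomputable def tr4 (f : ℕ → ℕ → ℕ) (lb ml fu : ℕ) : ℕ → ℕ → ℕ → ℕ → ℕ → (ℕ → ℕ → ℕ → ℕ → ℕ) → ℕ :=
  Nat.rec (fun _ a b c d k => k a b c d) (fun _ ih X a b c d k => Nat.rec (k a b c d) (fun X' _ =>
    force (Nat.land (Nat.succ X') ml) fun l => force (f l a) fun a => force (f l b) fun b => force (f l c) fun c =>
      force (f l d) fun d => ih (Nat.shiftRight (Nat.succ X') lb) a b c d k) X) fu

theorem trC_succ (f : ℕ → ℕ → ℕ) (lb ml fu X p : ℕ) : trC f lb ml (fu + 1) (X + 1) p =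
    trC f lb ml fu ((X + 1) >>> lb) (f ((X + 1) &&& ml) p) := by
  have : trC f lb ml (fu + 1) (X + 1) p = force (Nat.land (Nat.succ X) ml) fun l =>
    force (f l p) (trC f lb ml fu (Nat.shiftRight (Nat.succ X) lb)) := rfl
  rw [this, force_eq, force_eq]; rfl

theorem tr4_eq (f : ℕ → ℕ → ℕ) (lb ml fu X a b c d : ℕ) (k : ℕ → ℕ → ℕ → ℕ → ℕ) : tr4 f lb ml fu X a b c d k =
    k (trC f lb ml fu X a) (trC f lb ml fu X b) (trC f lb ml fu X c) (trC f lb ml fu X d) := by
  induction fu generalizing X a b c d with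
  | zero => rfl
  | succ fu ih => cases X with
    | zero => rfl
    | succ X =>
      have : tr4 f lb ml (fu + 1) (X + 1) a b c d k = force (Nat.land (Nat.succ X) ml) fun l =>
        force (f l a) fun a => force (f l b) fun b => force (f l c) fun c =>
          force (f l d) fun d => tr4 f lb ml fu (Nat.shiftRight (Nat.succ X) lb) a b c d k := rfl
      simp only [this, force_eq, trC_succ]
      exact ih _ _ _ _ _

noncomputable def trL4 (f : ℕ → ℕ → ℕ) (lb ml fu a b c d : ℕ) (L : List ℕ) : (ℕ → ℕ → ℕ → ℕ → ℕ) → ℕ :=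
  List.rec (fun k => k a b c d) (fun X _ ih k => ih fun a b c d => tr4 f lb ml fu X a b c d k) L

noncomputable def trL (f : ℕ → ℕ → ℕ) (lb ml fu : ℕ) (L : List ℕ) (p : ℕ) : ℕ :=
  List.rec p (fun X _ ih => trC f lb ml fu X ih) L

theorem trL4_eq (f : ℕ → ℕ → ℕ) (lb ml fu a b c d : ℕ) (L : List ℕ) (k : ℕ → ℕ → ℕ → ℕ → ℕ) :
    trL4 f lb ml fu a b c d L k =
      k (trL f lb ml fu L a) (trL f lb ml fu L b) (trL f lb ml fu L c) (trL f lb ml fu L d) := by
  induction L generalizing k with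
  | nil => rfl
  | cons X L ih =>
    change trL4 f lb ml fu a b c d L _ = _
    rw [ih, tr4_eq]; rfl

/-- `0` when the two products of codes agree on the four points -/
noncomputable def eqc (f : ℕ → ℕ → ℕ) (lb ml fu a b c d : ℕ) (L1 L2 : List ℕ) : ℕ :=
  trL4 f lb ml fu a b c d L1 fun a1 b1 c1 d1 => trL4 f lb ml fu a b c d L2 fun a2 b2 c2 d2 =>
    Nat.lor (Nat.lor (Nat.xor a1 a2) (Nat.xor b1 b2)) (Nat.lor (Nat.xor c1 c2) (Nat.xor d1 d2))

section
variable {N : Type*} [Group N] [MulAction N ℕ] {f : ℕ → ℕ → ℕ} {m k : ℕ} {el : ℕ → N} {lb ml : ℕ}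

theorem Tb.code (T : Tb f m k el) (hk : ml < k) (fu X : ℕ) {p : ℕ} (hp : p < m) :
    trC f lb ml fu X p = cdF el lb ml fu X • p ∧ cdF el lb ml fu X • p < m := by
  induction fu generalizing X p with
  | zero => exact ⟨(one_smul _ _).symm, by simpa [cdF] using hp⟩
  | succ fu ih => cases X with
    | zero => exact ⟨by simp [cdF]; rfl, by simpa [cdF] using hp⟩
    | succ X =>
      have h1 := T ((X + 1) &&& ml) (lt_of_le_of_lt Nat.and_le_right hk) p hp
      rw [cdF, if_neg (by omega), mul_smul]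
      rw [trC_succ, h1.1]
      exact ih ((X + 1) >>> lb) h1.2

theorem Tb.codes (T : Tb f m k el) (hk : ml < k) (fu : ℕ) (L : List ℕ) {p : ℕ} (hp : p < m) :
    trL f lb ml fu L p = evw (cdF el lb ml fu) L • p ∧ evw (cdF el lb ml fu) L • p < m := by
  induction L with
  | nil => exact ⟨(one_smul _ _).symm, by simpa using hp⟩
  | cons X L ih =>
    rw [evw_cons, mul_smul]
    change trC f lb ml fu X (trL f lb ml fu L p) = _ ∧ _
    rw [ih.1]
    exact T.code hk fu X ih.2

theorem Tb.eqc (T : Tb f m k el) (fu : ℕ) {a b c d : ℕ}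
    (hs : (Nat.blt ml k && Nat.blt a m && Nat.blt b m && Nat.blt c m && Nat.blt d m) = true)
    (hb : ∀ g : N, (∀ p ∈ [a, b, c, d], g • p = p) → g = 1) (L1 L2 : List ℕ)
    (h : eqc f lb ml fu a b c d L1 L2 = 0) : evw (cdF el lb ml fu) L1 = evw (cdF el lb ml fu) L2 := by
  simp only [Bool.and_eq_true, Nat.blt_eq] at hs
  obtain ⟨⟨⟨⟨hk, ha⟩, hb'⟩, hc⟩, hd⟩ := hs
  rw [D.eqc, trL4_eq, trL4_eq] at h
  obtain ⟨h1, h2⟩ := lor_zero h
  obtain ⟨h1, h3⟩ := lor_zero h1
  obtain ⟨h2, h4⟩ := lor_zero h2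
  have e : ∀ p < m, Nat.xor (trL f lb ml fu L1 p) (trL f lb ml fu L2 p) = 0 →
      ((evw (cdF el lb ml fu) L2)⁻¹ * evw (cdF el lb ml fu) L1) • p = p := fun p hp h => by
    have := xor_zero' h
    rw [(T.codes hk fu L1 hp).1, (T.codes hk fu L2 hp).1] at this
    rw [mul_smul, this, inv_smul_smul]
  refine (inv_mul_eq_one.mp (hb _ ?_)).symm
  simp only [List.forall_mem_cons]
  exact ⟨e a ha h1, e b hb' h3, e c hc h2, e d hd h4, forall_nil⟩

omit [MulAction N ℕ] in
theorem cdF_zero (fu : ℕ) : cdF el lb ml fu 0 = 1 := by cases fu <;> simp [cdF]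

omit [MulAction N ℕ] in
theorem cdF_letter {fu X : ℕ} (h : (Nat.blt 0 fu && Nat.blt 0 X && Nat.beq (Nat.shiftRight X lb) 0 &&
    Nat.beq (Nat.land X ml) X) = true) : cdF el lb ml fu X = el X := by
  simp only [Bool.and_eq_true, Nat.blt_eq, Nat.beq_eq] at h
  obtain ⟨fu, rfl⟩ : ∃ n, fu = n + 1 := ⟨fu - 1, by omega⟩
  rw [cdF, if_neg (by omega), show X >>> lb = 0 from h.1.2, show X &&& ml = X from h.2, cdF_zero, one_mul]
end

/-! orbit certificates: entry `e p` holds a rank and a generator -/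

noncomputable def chkCov (ap : ℕ → ℕ → ℕ) (e : ℕ → ℕ) (gb gm ng R z p : ℕ) : ℕ :=
  force p fun p => force (e p) fun v => Nat.rec z (fun r _ => Nat.rec
    (Bool.rec 1 0 (Nat.testBit R p)) (fun r' _ => force (Nat.land v gm) fun γ => gd (lt0 γ ng)
      (force (ap γ p) fun q => force (Nat.shiftRight (e q) gb) fun s =>
        Nat.lor (lt0 0 s) (lt0 s (Nat.succ (Nat.succ r'))))) r) (Nat.shiftRight v gb)

noncomputable def cnt1 (p : ℕ → ℕ) (a n : ℕ) : ℕ := Nat.rec 0 (fun r ih => Nat.add (p (Nat.add a r)) ih) n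

noncomputable def cntM (e : ℕ → ℕ) (gb nb : ℕ) : ℕ :=
  cnt1 (fun b => force (Nat.mul b 128) fun a => cnt1 (fun p => Nat.rec 0 (fun _ _ => 1) (Nat.shiftRight (e p) gb))
    a 128) 0 nb

theorem cnt1_eq (p : ℕ → ℕ) (a n : ℕ) : cnt1 p a n = ∑ i ∈ Finset.range n, p (a + i) := by
  induction n with
  | zero => rfl
  | succ n ih => rw [Finset.sum_range_succ, ← ih, add_comm (cnt1 p a n)]; rfl

theorem cntM_eq (e : ℕ → ℕ) (gb nb : ℕ) :
    cntM e gb nb = ((Finset.range (nb * 128)).filter fun p => e p >>> gb ≠ 0).card := by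
  have h0 : ∀ x : ℕ, (Nat.rec 0 (fun _ _ => 1) x : ℕ) = if x ≠ 0 then 1 else 0 := fun x => by cases x <;> simp
  rw [Finset.card_filter, cntM, cnt1_eq]
  simp only [force_eq, cnt1_eq, h0]
  generalize 128 = s
  induction nb with
  | zero => simp
  | succ nb ih =>
    rw [Finset.sum_range_succ, ih, add_mul, one_mul, Finset.sum_range_add, zero_add]
    rfl

section
variable {N : Type*} [Group N] [MulAction N ℕ]

/-- the generators `ap γ` act as elements of `K` -/
def Aps (K : Subgroup N) (ap : ℕ → ℕ → ℕ) (ng m : ℕ) : Prop :=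
  ∀ γ < ng, ∃ s ∈ K, ∀ p < m, ap γ p = s • p ∧ s • p < m

theorem cov_sound {K : Subgroup N} {ap : ℕ → ℕ → ℕ} {e : ℕ → ℕ} {gb gm ng R z m : ℕ} (hA : Aps K ap ng m)
    (h : Rng (chkCov ap e gb gm ng R z) 0 m) {p : ℕ} (hp : p < m) (hz : z = 0 → e p >>> gb ≠ 0) :
    ∃ s ∈ K, ∃ r, R.testBit r = true ∧ p = s • r := by
  have key : ∀ n, ∀ p < m, e p >>> gb = n + 1 → ∃ s ∈ K, ∃ r, R.testBit r = true ∧ p = s • r := fun n => by
    induction n using Nat.strong_induction_on with
    | _ n ih =>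
      intro p hp hn
      have h1 := h p (Nat.zero_le _) hp
      simp only [chkCov, force_eq] at h1
      rw [show Nat.shiftRight (e p) gb = n + 1 from hn] at h1
      cases n with
      | zero =>
        cases hb : R.testBit p with
        | false => rw [hb] at h1; exact absurd h1 Nat.one_ne_zero
        | true => exact ⟨1, one_mem _, p, hb, (one_smul _ _).symm⟩
      | succ n =>
        obtain ⟨h2, h3⟩ := gd_zero h1
        obtain ⟨h3, h4⟩ := lor_zero h3
        obtain ⟨s, hs, hs2⟩ := hA _ (lt0_zero h2)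
        have h3 := lt0_zero h3
        have h4 := lt0_zero h4
        rw [(hs2 p hp).1] at h3 h4
        change 0 < e (s • p) >>> gb at h3
        change e (s • p) >>> gb < n + 2 at h4
        obtain ⟨s', hs', r, hr, e1⟩ := ih (e (s • p) >>> gb - 1) (by omega) _ (hs2 p hp).2 (by omega)
        exact ⟨s⁻¹ * s', mul_mem (inv_mem hs) hs', r, hr, by rw [mul_smul, ← e1, inv_smul_smul]⟩
  cases hn : e p >>> gb with
  | succ n => exact key n p hp hn
  | zero =>
    have h1 := h p (Nat.zero_le _) hp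
    simp only [chkCov, force_eq] at h1
    rw [show Nat.shiftRight (e p) gb = 0 from hn] at h1
    exact absurd hn (hz h1)

theorem cov_orbGe {K : Subgroup N} {ap : ℕ → ℕ → ℕ} {e : ℕ → ℕ} {gb gm ng b m : ℕ} (hA : Aps K ap ng m) (nb c : ℕ)
    (h : Rng (chkCov ap e gb gm ng (Nat.shiftLeft 1 b) 0) 0 m)
    (h2 : Rng (fun p => Nat.shiftRight (e p) gb) m (nb * 128)) (hc : Nat.ble c (cntM e gb nb) = true) :
    OrbGe K b c := by
  refine ⟨_, (Nat.le_of_ble_eq_true hc).trans (cntM_eq e gb nb).le, fun p hp => ?_⟩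
  rw [Finset.mem_filter, Finset.mem_range] at hp
  have hm : p < m := by
    by_contra hm
    exact hp.2 (h2 p (by omega) hp.1)
  obtain ⟨s, hs, r, hr, e1⟩ := cov_sound hA h hm fun _ => hp.2
  rw [← bit_one hr] at e1
  exact ⟨⟨s, hs⟩, e1.symm⟩
end

end CfH6.D
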