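import Cfsg.Agent.OD.Pre
import Cfsg.Agent.H6.Mx
import Cfsg.Agent.H6.DT
/-! Divisors of the order of a matrix group from chains of closed orbits of row vectors. -/
set_option autoImplicit false
set_option linter.unusedSectionVars false
namespace CfH6
open Matrix

section
variable {Γ α : Type*} [Group Γ] [Finite Γ]

/-- one step of an orbit chain for a right action -/
theorem dvd_step (act : α → Γ → α) (a1 : ∀ v, act v 1 = v) (am : ∀ v g h, act v (g * h) = act (act v g) h)
    (S S' : Set Γ) (hS : S' ⊆ S) (V : ℕ → α) (o m : ℕ) (hm : 0 < m)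
    (hcl : ∀ g ∈ S, ∀ r, o ≤ r → r < o + m → ∃ r', o ≤ r' ∧ r' < o + m ∧ act (V r) g = V r')
    (htr : ∀ r, o < r → r < o + m → ∃ g ∈ S, ∃ r', o ≤ r' ∧ r' < r ∧ act (V r') g = V r)
    (hinj : ∀ r r', o ≤ r → r < r' → r' < o + m → V r ≠ V r') (hfix : ∀ g ∈ S', act (V o) g = V o) {d : ℕ}
    (hd : d ∣ Nat.card (Subgroup.closure S')) : m * d ∣ Nat.card (Subgroup.closure S) := by
  letI : MulAction Γ α :=
    { smul := fun g v => act v g⁻¹
      one_smul := fun v => by change act v 1⁻¹ = v; rw [inv_one, a1]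
      mul_smul := fun g h v => by change act v (g * h)⁻¹ = act (act v h⁻¹) g⁻¹; rw [_root_.mul_inv_rev, am] }
  have hs : ∀ (g : Γ) (v : α), g • v = act v g⁻¹ := fun _ _ => rfl
  set K := Subgroup.closure S with hK
  have h1 : MulAction.orbit K (V o) = V '' Set.Ico o (o + m) := by
    apply Set.Subset.antisymm
    · rintro _ ⟨⟨g, hg⟩, rfl⟩
      have h2 : ∀ g ∈ Submonoid.closure S, ∀ v ∈ V '' Set.Ico o (o + m), act v g ∈ V '' Set.Ico o (o + m) := by
        intro g hg
        induction hg using Submonoid.closure_induction with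
        | mem g hg =>
          rintro _ ⟨r, hr, rfl⟩
          obtain ⟨r', b1, b2, b3⟩ := hcl g hg r hr.1 hr.2
          exact ⟨r', ⟨b1, b2⟩, b3.symm⟩
        | one => intro v hv; rwa [a1]
        | mul g h _ _ ihg ihh => intro v hv; rw [am]; exact ihh _ (ihg v hv)
      refine h2 g⁻¹ ?_ _ ⟨o, ⟨le_rfl, by omega⟩, rfl⟩
      rw [← Subgroup.closure_toSubmonoid_of_finite]
      exact K.inv_mem hg
    · rintro _ ⟨r, ⟨b1, b2⟩, rfl⟩
      induction r using Nat.strong_induction_on with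
      | _ r ih =>
        rcases b1.eq_or_lt with rfl | b3
        · exact MulAction.mem_orbit_self _
        · obtain ⟨g, hg, r', c1, c2, c3⟩ := htr r b3 b2
          have := MulAction.mem_orbit_of_mem_orbit (⟨g⁻¹, K.inv_mem (Subgroup.subset_closure hg)⟩ : K)
            (ih r' c2 c1 (by omega))
          rwa [Subgroup.mk_smul, hs, inv_inv, c3] at this
  have h3 : (MulAction.orbit K (V o)).ncard = m := by
    rw [h1, Set.InjOn.ncard_image, Set.ncard_Ico_nat]
    · omega
    · intro r hr r' hr' h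
      rcases lt_trichotomy r r' with c | c | c
      · exact absurd h (hinj r r' hr.1 c hr'.2)
      · exact c
      · exact absurd h.symm (hinj r' r hr'.1 c hr.2)
  have h4 : Nat.card K = m * Nat.card (MulAction.stabilizer K (V o)) := by
    rw [← h3, ← MulAction.index_stabilizer, (MulAction.stabilizer K (V o)).index_mul_card]
  have h5 : Subgroup.closure S' ≤ (MulAction.stabilizer K (V o)).map K.subtype := by
    rw [Subgroup.closure_le]
    intro g hg
    refine ⟨⟨g, Subgroup.subset_closure (hS hg)⟩, ?_, rfl⟩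
    rw [SetLike.mem_coe, ← Subgroup.inv_mem_iff, MulAction.mem_stabilizer_iff]
    change act (V o) g⁻¹⁻¹ = V o
    rw [inv_inv, hfix g hg]
  rw [h4]
  refine Nat.mul_dvd_mul_left _ (hd.trans ((Subgroup.card_dvd_of_le h5).trans ?_))
  rw [Subgroup.card_map_of_injective K.subtype_injective]
end

/-- results of a flagged function along a list -/
noncomputable def mapK (f : ℕ → ℕ) (l : List (ℕ × ℕ)) : (List (ℕ × ℕ) → ℕ) → ℕ :=
  List.rec (fun k => k []) (fun a _ ih k => Nat.rec 1 (fun r _ => ih fun t => k ((r, a.2) :: t)) (f a.1)) l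

theorem mapK_sound (f : ℕ → ℕ) (l : List (ℕ × ℕ)) (k : List (ℕ × ℕ) → ℕ) (h : mapK f l k = 0) :
    ∃ t, List.Forall₂ (fun a z => f a.1 = z.1 + 1 ∧ z.2 = a.2) l t ∧ k t = 0 := by
  induction l generalizing k with
  | nil => exact ⟨[], List.Forall₂.nil, h⟩
  | cons a l ih =>
    have e : mapK f (a :: l) k = (Nat.rec 1 (fun r _ => mapK f l fun t => k ((r, a.2) :: t)) (f a.1) : ℕ) := rfl
    rw [e] at h
    cases hr : f a.1 with
    | zero => rw [hr] at h; exact absurd h (by simp)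
    | succ r =>
      rw [hr] at h
      obtain ⟨t, h1, h2⟩ := ih _ h
      exact ⟨(r, a.2) :: t, List.Forall₂.cons ⟨hr, rfl⟩ h1, h2⟩

/-- one level: first row, number of rows, separating columns, parent table, generators dropped afterwards -/
structure CL where
  o : ℕ
  m : ℕ
  cols : List ℕ
  par : ℕ
  d : ℕ

noncomputable def byt (x i : ℕ) : ℕ := Nat.land (Nat.shiftRight x (Nat.mul 8 i)) 255

namespace MP
variable (P : MP)
noncomputable def row (X r : ℕ) : ℕ := Nat.land (Nat.shiftRight X (Nat.mul (Nat.mul P.W P.n) r)) P.mW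
noncomputable def sg (X : ℕ) (cols : List ℕ) (r : ℕ) : ℕ :=
  force (P.row X r) fun y => List.rec 0 (fun k _ ih => Nat.add (Nat.mod (Nat.land (Nat.shiftRight y (Nat.mul P.W k))
    (Nat.pred (Nat.shiftLeft 1 P.W))) P.p) (Nat.mul P.p ih)) cols
/-- the signatures of rows `o ≤ r < o + m` are distinct; the result collects them (flagged) -/
noncomputable def dst (X : ℕ) (cols : List ℕ) (o m : ℕ) : ℕ :=
  Nat.rec 1 (fun r ih => Nat.rec 0 (fun S _ => force (P.sg X cols (Nat.add o r)) fun s =>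
    Nat.rec (Nat.succ (Nat.lor S (Nat.shiftLeft 1 s))) (fun _ _ => 0) (Nat.land (Nat.shiftRight S s) 1)) ih) m
noncomputable def chkL (X : ℕ) (zs : List (ℕ × ℕ)) (L : CL) : Bool :=
  Nat.blt 0 L.m && Nat.ble (Nat.add L.o L.m) P.n && allLt P.n L.cols && Nat.blt 0 (P.dst X L.cols L.o L.m) &&
  (zs.all fun z => Nat.beq (loop1 (fun r => force (byt z.2 r) fun q => Nat.lor (Nat.lor (Nat.sub L.o q)
    (Nat.sub (Nat.succ q) (Nat.add L.o L.m))) (Nat.xor (P.row z.1 r) (P.row X q))) L.o L.m) 0) &&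
  Nat.beq (loop1 (fun r => force (byt L.par (Nat.mul 2 r)) fun q => force (byt L.par (Nat.succ (Nat.mul 2 r))) fun g =>
    Nat.lor (Nat.lor (Nat.sub L.o q) (Nat.sub (Nat.succ q) r)) (Nat.lor (Nat.sub (Nat.succ g) zs.length)
      (Nat.xor (byt (lget zs (0, 0) g).2 q) r))) (Nat.succ L.o) (Nat.pred L.m)) 0 &&
  ((zs.drop L.d).all fun z => Nat.beq (byt z.2 L.o) L.o)
noncomputable def chkLs (X : ℕ) (Ls : List CL) : List (ℕ × ℕ) → Bool :=
  List.rec (fun _ => true) (fun L _ ih zs => P.chkL X zs L && ih (zs.drop L.d)) Ls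
noncomputable def chkB (mm : ℕ → ℕ → ℕ) (X : ℕ) (Ls : List CL) (T : List (ℕ × ℕ)) : ℕ :=
  mapK (mm X) T fun zs => Bool.rec 1 0 (P.chkLs X Ls zs)

variable {P}
theorem dig_row (X r k : ℕ) (hk : k < P.n) : dig P.W (P.row X r) k = dig P.W X (r * P.n + k) := by
  apply Nat.eq_of_testBit_eq
  intro i
  change Nat.testBit (dig P.W ((X >>> (P.W * P.n * r)) &&& Nat.pred (Nat.shiftLeft 1 (P.W * P.n))) k) i = _
  simp only [dig, Nat.testBit_mod_two_pow, Nat.testBit_shiftRight, Nat.testBit_and, testBit_mask]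
  by_cases hi : i < P.W
  · have : P.W * k + i < P.W * P.n := by nlinarith
    simp only [hi, this, decide_true, Bool.true_and, Bool.and_true]
    congr 1; ring
  · simp [hi]

/-- row `r` of the matrix named by `X` -/
def vec (P : MP) (X r : ℕ) : Fin P.n → ZMod P.p := fun k => (dig P.W X (r * P.n + k) : ℕ)

theorem vec_eq {X Y r q : ℕ} (h : P.row X r = P.row Y q) : P.vec X r = P.vec Y q := by
  funext k
  rw [vec, vec, ← dig_row X r k k.2, h, dig_row Y q k k.2]

theorem sg_eq {X : ℕ} {cols : List ℕ} (hc : ∀ k ∈ cols, k < P.n) {r q : ℕ} (h : P.vec X r = P.vec X q) :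
    P.sg X cols r = P.sg X cols q := by
  simp only [sg, force_eq]
  induction cols with
  | nil => rfl
  | cons k cols ih =>
    have e : ∀ y, Nat.land (Nat.shiftRight y (Nat.mul P.W k)) (Nat.pred (Nat.shiftLeft 1 P.W)) = dig P.W y k := fun y => by
      change (y >>> (P.W * k)) &&& (1 <<< P.W - 1) = _
      rw [Nat.one_shiftLeft, Nat.and_two_pow_sub_one_eq_mod, dig]
    have hk := hc k List.mem_cons_self
    have h1 := congrFun h ⟨k, hk⟩
    rw [vec, vec, ZMod.natCast_eq_natCast_iff'] at h1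
    change Nat.add (Nat.mod _ _) (Nat.mul _ _) = Nat.add (Nat.mod _ _) (Nat.mul _ _)
    rw [ih fun j hj => hc j (List.mem_cons_of_mem _ hj), e, e, dig_row X r k hk, dig_row X q k hk]
    exact congrArg (Nat.add · _) h1

theorem dst_sound (X : ℕ) (cols : List ℕ) (o m S : ℕ) (h : P.dst X cols o m = S + 1) :
    (∀ r, o ≤ r → r < o + m → S.testBit (P.sg X cols r) = true) ∧
      ∀ r r', o ≤ r → r < r' → r' < o + m → P.sg X cols r ≠ P.sg X cols r' := by
  induction m generalizing S with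
  | zero => exact ⟨fun r _ _ => by omega, fun r r' _ _ _ => by omega⟩
  | succ m ih =>
    have e : P.dst X cols o (m + 1) = (Nat.rec 0 (fun S _ => force (P.sg X cols (o + m)) fun s =>
      Nat.rec (Nat.succ (Nat.lor S (Nat.shiftLeft 1 s))) (fun _ _ => 0) (Nat.land (Nat.shiftRight S s) 1))
      (P.dst X cols o m) : ℕ) := rfl
    rw [e] at h
    cases hS : P.dst X cols o m with
    | zero => rw [hS] at h; exact absurd h (by simp)
    | succ S0 =>
      rw [hS] at h
      obtain ⟨i1, i2⟩ := ih S0 hS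
      simp only [force_eq] at h
      cases hb : Nat.land (Nat.shiftRight S0 (P.sg X cols (o + m))) 1 with
      | succ _ => rw [hb] at h; exact absurd h (by simp)
      | zero =>
        rw [hb] at h
        have h1 : S = S0 ||| 1 <<< P.sg X cols (o + m) := (Nat.succ.inj h).symm
        have h2 : S0.testBit (P.sg X cols (o + m)) = false := by
          have hb' : (S0 >>> P.sg X cols (o + m)) &&& 1 = 0 := hb
          rw [Nat.testBit, Nat.and_comm, hb']; rfl
        refine ⟨fun r b1 b2 => ?_, fun r r' b1 b2 b3 => ?_⟩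
        · rw [h1, Nat.testBit_or, Nat.one_shiftLeft, Nat.testBit_two_pow]
          by_cases hr : r < o + m
          · rw [i1 r b1 hr]; rfl
          · rw [show r = o + m by omega]; simp
        · by_cases hr : r' < o + m
          · exact i2 r r' b1 b2 hr
          · intro hc
            rw [show r' = o + m by omega] at hc
            rw [← hc, i1 r b1 (by omega)] at h2
            exact absurd h2 (by decide)

variable [Fact P.p.Prime] {mm : ℕ → ℕ → ℕ} {ok : ℕ → Bool}

/-- the group generated by the invertible matrices named in a list -/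
def KS (P : MP) (cs : List ℕ) : Subgroup (Matrix (Fin P.n) (Fin P.n) (ZMod P.p))ˣ :=
  Subgroup.closure {u | ∃ c ∈ cs, (u : Matrix (Fin P.n) (Fin P.n) (ZMod P.p)) = P.toM (ZMod P.p) (Equiv.refl _) c}

theorem KS_le {cs : List ℕ} {R : Subgroup (Matrix (Fin P.n) (Fin P.n) (ZMod P.p))ˣ}
    (h : ∀ c ∈ cs, InR ok (P.toM (ZMod P.p) (Equiv.refl _)) R c) : P.KS cs ≤ R := by
  rw [KS, Subgroup.closure_le]
  rintro u ⟨c, hc, hu⟩
  obtain ⟨-, v, hv, h2⟩ := h c hc
  rwa [Units.ext (hu.trans h2.symm)]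

theorem vec_mul {X c z r : ℕ} (hr : r < P.n) (h : P.toM (ZMod P.p) (Equiv.refl _) z =
    P.toM (ZMod P.p) (Equiv.refl _) X * P.toM (ZMod P.p) (Equiv.refl _) c) :
    P.vec X r ᵥ* P.toM (ZMod P.p) (Equiv.refl _) c = P.vec z r := by
  funext k
  have := congrFun (congrFun h ⟨r, hr⟩) k
  rw [Matrix.mul_apply] at this
  exact this.symm

theorem chkLs_sound (X : ℕ) (Ls : List CL) (T zs : List (ℕ × ℕ))
    (hz : List.Forall₂ (fun a z => z.2 = a.2 ∧ (∃ u : (Matrix (Fin P.n) (Fin P.n) (ZMod P.p))ˣ,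
      (u : Matrix (Fin P.n) (Fin P.n) (ZMod P.p)) = P.toM (ZMod P.p) (Equiv.refl _) a.1) ∧
      P.toM (ZMod P.p) (Equiv.refl _) z.1 = P.toM (ZMod P.p) (Equiv.refl _) X * P.toM (ZMod P.p) (Equiv.refl _) a.1) T zs)
    (h : P.chkLs X Ls zs = true) {d : ℕ} (hd : d ∣ Nat.card (P.KS ((T.drop (Ls.map CL.d).sum).map Prod.fst))) :
    (Ls.map CL.m).prod * d ∣ Nat.card (P.KS (T.map Prod.fst)) := by
  induction Ls generalizing T zs with
  | nil => simpa using hd
  | cons L Ls ih =>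
    have e : P.chkLs X (L :: Ls) zs = (P.chkL X zs L && P.chkLs X Ls (zs.drop L.d)) := rfl
    rw [e, Bool.and_eq_true] at h
    have h2 := ih (T.drop L.d) (zs.drop L.d) (List.forall₂_drop _ hz) h.2 (by
      rwa [List.drop_drop, ← List.sum_cons, ← List.map_cons])
    have h1 := h.1
    simp only [chkL, Bool.and_eq_true, Nat.blt_eq, Nat.ble_eq, Nat.beq_eq, List.all_eq_true, force_eq] at h1
    obtain ⟨⟨⟨⟨⟨⟨c1, c2⟩, c3⟩, c4⟩, c5⟩, c6⟩, c7⟩ := h1
    have c2 : L.o + L.m ≤ P.n := c2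
    have hcl : ∀ a z, a ∈ T → z ∈ zs → P.toM (ZMod P.p) (Equiv.refl _) z.1 =
        P.toM (ZMod P.p) (Equiv.refl _) X * P.toM (ZMod P.p) (Equiv.refl _) a.1 → ∀ r, L.o ≤ r → r < L.o + L.m →
        L.o ≤ byt z.2 r ∧ byt z.2 r < L.o + L.m ∧
          P.vec X r ᵥ* P.toM (ZMod P.p) (Equiv.refl _) a.1 = P.vec X (byt z.2 r) := fun a z _ hz' h3 r b1 b2 => by
      obtain ⟨d1, d2⟩ := lor_zero (loop1_sound _ _ _ (c5 z hz') r b1 b2)
      obtain ⟨d3, d4⟩ := lor_zero d1
      exact ⟨sub_zero' d3, sub_zero' d4, by rw [vec_mul (by omega) h3, vec_eq (xor_zero' d2)]⟩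
    rw [List.map_cons, List.prod_cons, mul_assoc]
    refine dvd_step (fun v (u : (Matrix (Fin P.n) (Fin P.n) (ZMod P.p))ˣ) => v ᵥ* (u : Matrix _ _ _))
      (fun v => by simp) (fun v g h => by simp) _ _ ?_ (P.vec X) L.o L.m c1 ?_ ?_ ?_ ?_ h2
    · rintro u ⟨c, hc, hu⟩
      obtain ⟨a, ha, rfl⟩ := List.mem_map.mp hc
      exact ⟨a.1, List.mem_map_of_mem (List.mem_of_mem_drop ha), hu⟩
    · rintro u ⟨c, hc, hu⟩ r b1 b2
      obtain ⟨a, ha, rfl⟩ := List.mem_map.mp hc
      obtain ⟨i, hi, rfl⟩ := List.getElem_of_mem ha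
      have hi' : i < zs.length := hz.length_eq ▸ hi
      have h3 := List.Forall₂.get hz hi hi'
      obtain ⟨e1, e2, e3⟩ := hcl _ _ ha (List.getElem_mem hi') h3.2.2 r b1 b2
      exact ⟨_, e1, e2, by rw [hu]; exact e3⟩
    · intro r b1 b2
      obtain ⟨d1, d2⟩ := lor_zero (loop1_sound _ _ _ c6 r b1 (by
        change r < L.o + 1 + (L.m - 1); omega))
      obtain ⟨d3, d4⟩ := lor_zero d1
      obtain ⟨d5, d6⟩ := lor_zero d2
      have hi' : byt L.par (Nat.succ (Nat.mul 2 r)) < zs.length := sub_zero' d5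
      have hi : byt L.par (Nat.succ (Nat.mul 2 r)) < T.length := hz.length_eq ▸ hi'
      have h3 := List.Forall₂.get hz hi hi'
      obtain ⟨u, hu⟩ := h3.2.1
      have d7 : byt L.par (Nat.mul 2 r) < r := sub_zero' d4
      obtain ⟨-, -, e3⟩ := hcl _ _ (List.getElem_mem hi) (List.getElem_mem hi') h3.2.2 _ (sub_zero' d3) (by omega)
      refine ⟨u, ⟨_, List.mem_map_of_mem (List.getElem_mem hi), hu⟩, _, sub_zero' d3, d7, ?_⟩
      have d8 := xor_zero' d6
      rw [D.lget_eq, List.getD_eq_getElem _ _ hi'] at d8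
      rw [hu]
      exact e3.trans (congrArg (P.vec X) d8)
    · intro r r' b1 b2 b3 hc
      obtain ⟨S, hS⟩ : ∃ S, P.dst X L.cols L.o L.m = S + 1 := ⟨_, (Nat.succ_pred_eq_of_pos c4).symm⟩
      exact (dst_sound X L.cols L.o L.m S hS).2 r r' b1 b2 b3 (sg_eq (allLt_sound c3) hc)
    · rintro u ⟨c, hc, hu⟩
      obtain ⟨a, ha, rfl⟩ := List.mem_map.mp hc
      obtain ⟨i, hi, rfl⟩ := List.getElem_of_mem ha
      have hz' := List.forall₂_drop L.d hz
      have hi' : i < (zs.drop L.d).length := hz'.length_eq ▸ hi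
      have h3 := List.Forall₂.get hz' hi hi'
      obtain ⟨-, -, e3⟩ := hcl _ _ (List.mem_of_mem_drop ha) (List.mem_of_mem_drop (List.getElem_mem hi')) h3.2.2
        L.o le_rfl (by omega)
      rw [hu]
      exact e3.trans (congrArg (P.vec X) (c7 _ (List.getElem_mem hi')))

theorem chkB_sound (D : Mdl mm ok P.one (P.toM (ZMod P.p) (Equiv.refl _)))
    {R : Subgroup (Matrix (Fin P.n) (Fin P.n) (ZMod P.p))ˣ} (X : ℕ) (Ls : List CL) (T : List (ℕ × ℕ))
    (hT : ∀ c ∈ T.map Prod.fst, InR ok (P.toM (ZMod P.p) (Equiv.refl _)) R c)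
    (h : (ok X && Nat.beq (P.chkB mm X Ls T) 0) = true) {d : ℕ}
    (hd : d ∣ Nat.card (P.KS ((T.drop (Ls.map CL.d).sum).map Prod.fst))) :
    (Ls.map CL.m).prod * d ∣ Nat.card (P.KS (T.map Prod.fst)) := by
  rw [Bool.and_eq_true] at h
  obtain ⟨zs, h1, h2⟩ := mapK_sound _ _ _ (Nat.eq_of_beq_eq_true h.2)
  refine chkLs_sound X Ls T zs ?_ ?_ hd
  · rw [List.forall₂_iff_get] at h1 ⊢
    refine ⟨h1.1, fun i hi hi' => ?_⟩
    obtain ⟨b1, u, -, b2⟩ := hT _ (List.mem_map_of_mem (List.get_mem T ⟨i, hi⟩))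
    exact ⟨(h1.2 i hi hi').2, ⟨u, b2⟩, (D.mul h.1 b1 (h1.2 i hi hi').1).2⟩
  · cases hb : P.chkLs X Ls zs with
    | true => rfl
    | false => rw [hb] at h2; exact absurd h2 (by simp)

/-- generators picked from the state of a straight-line program -/
noncomputable def chkS (P : MP) (mm : ℕ → ℕ → ℕ) (X : ℕ) (Ls : List CL) (T : List (ℕ × ℕ)) (st : List ℕ) : ℕ :=
  P.chkB mm X Ls (T.map fun a => (lget st P.one a.1, a.2))

theorem slp_dvd (D : Mdl mm ok P.one (P.toM (ZMod P.p) (Equiv.refl _)))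
    {R : Subgroup (Matrix (Fin P.n) (Fin P.n) (ZMod P.p))ˣ} {st : List ℕ}
    (hst : ∀ c ∈ st, InR ok (P.toM (ZMod P.p) (Equiv.refl _)) R c) (prog : List (ℕ × ℕ)) (X : ℕ) (Ls : List CL)
    (T : List (ℕ × ℕ)) (N : ℕ) (h : (ok X && Nat.beq (slp mm P.one prog st (P.chkS mm X Ls T)) 0 &&
      Nat.beq (Ls.map CL.m).prod N) = true) : N ∣ Nat.card R := by
  simp only [Bool.and_eq_true, Nat.beq_eq] at h
  obtain ⟨st', h1, h2⟩ := slp_sound (D.inR_one R) (D.inR_mul R) prog st _ hst h.1.2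
  have hT : ∀ c ∈ (T.map fun a => (lget st' P.one a.1, a.2)).map Prod.fst,
      InR ok (P.toM (ZMod P.p) (Equiv.refl _)) R c := by
    intro c hc
    simp only [List.map_map, List.mem_map, Function.comp] at hc
    obtain ⟨a, -, rfl⟩ := hc
    exact lget_mem (D.inR_one R) h1 _
  have := chkB_sound D X Ls _ hT (by rw [Bool.and_eq_true, Nat.beq_eq]; exact ⟨h.1.1, h2⟩) (one_dvd _)
  rw [mul_one, h.2] at this
  exact this.trans (Subgroup.card_dvd_of_le (KS_le hT))
end MP

end CfH6
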