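import Cfsg.Agent.OD.Pre
import Cfsg.Agent.H6.Mc
import Cfsg.Agent.H6.Top2
import Cfsg.Agent.OD.Helper6xd054f76718
/-! Order and simplicity of large presented groups from a matrix representation. -/
set_option autoImplicit false
namespace CfH6
open Matrix

section
variable {G Γ : Type*} [Group G] [Group Γ]

theorem inj_of_dvd (φ : G →* Γ) {n : ℕ} (hG : Finite G ∧ Nat.card G ≤ n) (h : n ∣ Nat.card φ.range) :
    Nat.card G = n ∧ Function.Injective φ := by
  have := hG.1
  have : Finite φ.range := Finite.of_surjective _ φ.rangeRestrict_surjective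
  have h1 := Nat.le_of_dvd Nat.card_pos h
  have h2 : Nat.card φ.range ≤ Nat.card G := Nat.card_le_card_of_surjective _ φ.rangeRestrict_surjective
  have h3 := (φ.rangeRestrict_surjective.bijective_of_nat_card_le (hG.2.trans h1)).1
  exact ⟨le_antisymm hG.2 (h1.trans h2), fun a b e => h3 (Subtype.ext e)⟩

theorem dvd_cons {a b n : ℕ} (ha : a ∣ n) (hb : b ∣ n) (h : Nat.gcd a b = 1) : a * b ∣ n :=
  Nat.Coprime.mul_dvd_of_dvd_of_dvd h ha hb

theorem simple_big [Finite G] (H : Subgroup G) (hmax : ∀ L : Subgroup G, H ≤ L → L = H ∨ L = ⊤) (i w : G) (hi : i ≠ 1)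
    (hcol : ∀ M : Subgroup G, M.Normal → i ∈ M → M = ⊤)
    (h1 : ∀ M : Subgroup G, M.Normal → M ≤ H → M = ⊥ ∨ M = ⊤) {p m : ℕ} (hp : p.Prime) (hH : ¬ p ∣ Nat.card H)
    (hw : w ^ p = 1) (hwi : (w * i) ^ (2 * m + 1) = 1) (hii : i * i = 1) : IsSimpleGroup G := by
  have : Nontrivial G := ⟨i, 1, hi⟩
  refine ⟨fun M hM => ?_⟩
  rcases hmax (M ⊔ H) le_sup_right with h | h
  · exact h1 M hM (le_sup_left.trans h.le)
  · refine Or.inr (hcol M hM ((QuotientGroup.eq_one_iff i).mp ?_))
    have a1 : (w : G ⧸ M) = 1 := (QuotientGroup.eq_one_iff w).mpr (pow_mem_of_sup h hp hH w 1 (by rwa [pow_one]))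
    have a2 := congrArg (QuotientGroup.mk' M) hwi
    have a3 := congrArg (QuotientGroup.mk' M) hii
    simp only [map_pow, map_mul, map_one, QuotientGroup.mk'_apply, a1, one_mul] at a2 a3
    rwa [pow_succ, pow_mul, sq, a3, one_pow, one_mul] at a2

theorem dvd_norm [Finite G] {A K : Subgroup G} (hA : A ≤ K) (hn : K ≤ Subgroup.normalizer (A : Set G)) {g : G}
    (hg : g ∈ K) (hg' : g ∉ A) {p : ℕ} (hp : p.Prime) (h : g ^ p ∈ A) : p * Nat.card A ∣ Nat.card K := by
  have : (A.subgroupOf K).Normal := Subgroup.normal_subgroupOf_of_le_normalizer hn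
  have : Fact p.Prime := ⟨hp⟩
  have h1 : orderOf ((⟨g, hg⟩ : K) : K ⧸ A.subgroupOf K) = p := orderOf_eq_prime
    (by rw [← QuotientGroup.mk_pow, QuotientGroup.eq_one_iff]; exact h)
    (by rw [Ne, QuotientGroup.eq_one_iff]; exact hg')
  rw [← (A.subgroupOf K).index_mul_card, Nat.card_congr (Subgroup.subgroupOfEquivOfLe hA).toEquiv]
  exact Nat.mul_dvd_mul_right (h1 ▸ orderOf_dvd_natCard _) _

/-- a Heisenberg group -/
theorem dvd_heis [Finite G] {a b c : G} {p : ℕ} (hp : p.Prime) (hc : a * b = b * a * c) (hc1 : c ≠ 1)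
    (ha : a * c = c * a) (hb : b * c = c * b) (pa : a ^ p = 1) (pb : b ^ p = 1) (pc : c ^ p = 1) (R : Subgroup G)
    (ma : a ∈ R) (mb : b ∈ R) : p * (p * p) ∣ Nat.card R := by
  have : Fact p.Prime := ⟨hp⟩
  have nc : ¬ Commute a b := fun h => hc1 (by rw [h.eq] at hc; exact (mul_left_cancel (hc.symm.trans (mul_one _).symm)))
  set Z := Subgroup.zpowers c
  set A := Subgroup.closure {a, c}
  set K := Subgroup.closure {a, b, c}
  have aA : a ∈ A := Subgroup.subset_closure (by simp)
  have cA : c ∈ A := Subgroup.subset_closure (by simp)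
  have nz : ∀ g, g * c = c * g → g ∈ Subgroup.normalizer (Z : Set G) := fun g h =>
    Subgroup.centralizer_le_normalizer _ fun x hx => by
      obtain ⟨k, rfl⟩ := hx
      exact (Commute.zpow_left h.symm k).eq
  have h1 : p * Nat.card Z ∣ Nat.card A := dvd_norm (Subgroup.zpowers_le.mpr cA)
    ((Subgroup.closure_le _).mpr (by rintro g (rfl | rfl); exacts [nz _ ha, nz _ rfl])) aA
    (fun ⟨k, hk⟩ => nc (hk ▸ Commute.zpow_left hb.symm k)) hp (pa ▸ one_mem _)
  have h2 : p * Nat.card A ∣ Nat.card K := dvd_norm (Subgroup.closure_mono (by rintro g (rfl | rfl) <;> simp))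
    ((Subgroup.closure_le _).mpr (by
      rintro g (rfl | rfl | rfl)
      · exact Subgroup.le_normalizer aA
      · refine Subgroup.mem_normalizer_fintype fun n hn => ?_
        have : A ≤ A.comap (MulAut.conj g).toMonoidHom := (Subgroup.closure_le _).mpr (by
          rintro x (rfl | rfl)
          · have : g * x * g⁻¹ = x * c⁻¹ := by
              rw [mul_inv_eq_iff_eq_mul, mul_assoc, (Commute.inv_left hb.symm).eq, ← mul_assoc, hc, mul_inv_cancel_right]
            exact show g * x * g⁻¹ ∈ A from this ▸ mul_mem aA (inv_mem cA)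
          · exact show g * x * g⁻¹ ∈ A by rwa [hb, mul_inv_cancel_right])
        exact this hn
      · exact Subgroup.le_normalizer cA)) (g := b) (Subgroup.subset_closure (by simp))
    (fun h => nc (by
      have : A ≤ Subgroup.centralizer {a} := (Subgroup.closure_le _).mpr (by
        rintro x (rfl | rfl)
        · exact Subgroup.mem_centralizer_singleton_iff.mpr rfl
        · exact Subgroup.mem_centralizer_singleton_iff.mpr ha.symm)
      exact (Subgroup.mem_centralizer_singleton_iff.mp (this h)).symm)) hp (pb ▸ one_mem _)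
  have h3 : K ≤ R := (Subgroup.closure_le _).mpr (by
    rintro g (rfl | rfl | rfl)
    · exact ma
    · exact mb
    · rw [show g = (b * a)⁻¹ * (a * b) by rw [hc]; group]
      exact mul_mem (inv_mem (mul_mem mb ma)) (mul_mem ma mb))
  rw [Nat.card_zpowers, orderOf_eq_prime pc hc1] at h1
  exact ((Nat.mul_dvd_mul_left p h1).trans h2).trans (Subgroup.card_dvd_of_le h3)

/-- normal subgroups inside the image of a group that acts primitively -/
theorem normal_in_range {N : Type*} [Group N] (ρ : N →* G) {w : N}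
    (hN : ∀ M : Subgroup N, M.Normal → M = ⊥ ∨ w ∈ M) (M : Subgroup G) [hM : M.Normal] (h : M ≤ ρ.range) :
    M = ⊥ ∨ ρ w ∈ M := by
  refine (hN (M.comap ρ) (hM.comap ρ)).imp (fun h1 => eq_bot_iff.mpr fun m hm => ?_) id
  obtain ⟨n, rfl⟩ := h hm
  rw [show n = 1 from h1.le hm, map_one]
  exact one_mem _
end

namespace MP
variable {P : MP} [Fact P.p.Prime] {mm : ℕ → ℕ → ℕ} {ok : ℕ → Bool}

/-- the rows of `X` come from the first one by applying letters, and `X` is invertible -/
noncomputable def chkSp (P : MP) (mm : ℕ → ℕ → ℕ) (ms : List ℕ) (X Y par : ℕ) : Bool :=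
  Nat.beq (mm Y X) (Nat.succ P.one) && Nat.beq (P.row X 0) (P.row P.one 0) &&
  Nat.beq (mapK (mm X) (ms.map fun c => (c, 0)) fun zs =>
    loop1 (fun r => force (byt par (Nat.mul 2 r)) fun q => force (byt par (Nat.succ (Nat.mul 2 r))) fun g =>
      Nat.lor (Nat.lor (Nat.sub (Nat.succ q) r) (Nat.sub (Nat.succ g) zs.length))
        (Nat.xor (P.row (lget zs (0, 0) g).1 q) (P.row X r))) 1 (Nat.pred P.n)) 0

/-- the words fix the first basis vector -/
noncomputable def chkFx (P : MP) (mm : ℕ → ℕ → ℕ) (ms : List ℕ) (k : ℕ) (ws : List (List ℕ)) : Bool :=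
  ws.all fun w => allLt k w && Nat.rec false (fun r _ => Nat.beq (P.row r 0) (P.row P.one 0)) (CfH6.mW mm ms w P.one)

theorem core_bot {ms il : List ℕ} {k : ℕ} (U : UOk mm ok P.one (P.toM (ZMod P.p) (Equiv.refl _)) ms il k)
    (hk : ms.length = k) {G : Type*} [Group G] {el : ℕ → G} (φ : G →* (Matrix (Fin P.n) (Fin P.n) (ZMod P.p))ˣ)
    (hφ : ∀ x < k, φ (el x) = evU (P.toM (ZMod P.p) (Equiv.refl _)) ms il x) (hinj : Function.Injective φ)
    (hn : 0 < P.n) (X Y par : ℕ) (h1 : (ok X && ok Y && P.chkSp mm ms X Y par) = true) (ws : List (List ℕ))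
    (h2 : P.chkFx mm ms k ws = true) (M : Subgroup G) [hM : M.Normal] (hle : M ≤ gensub (byW el ws) ws.length) :
    M = ⊥ := by
  simp only [chkSp, Bool.and_eq_true, Nat.beq_eq] at h1
  obtain ⟨⟨oX, oY⟩, ⟨c1, c2⟩, c3⟩ := h1
  obtain ⟨zs, z1, z2⟩ := mapK_sound _ _ _ c3
  let S : Subgroup G :=
    { carrier := {g | P.vec P.one 0 ᵥ* (φ g : Matrix _ _ _) = P.vec P.one 0}
      one_mem' := by simp
      mul_mem' := fun {a b} ha hb => by
        simp only [Set.mem_ofPred_eq, map_mul, Units.val_mul, ← vecMul_vecMul] at ha hb ⊢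
        rw [ha, hb]
      inv_mem' := fun {a} ha => by
        simp only [Set.mem_ofPred_eq] at ha ⊢
        conv_lhs => rw [← ha, vecMul_vecMul, ← Units.val_mul, ← map_mul, mul_inv_cancel, map_one, Units.val_one,
          vecMul_one] }
  have hS : gensub (byW el ws) ws.length ≤ S := gensub_le fun y hy => by
    have h3 := List.all_eq_true.mp h2 _ (List.getElem_mem hy)
    rw [Bool.and_eq_true] at h3
    cases hr : CfH6.mW mm ms ws[y] P.one with
    | zero => rw [hr] at h3; exact absurd h3.2 (by simp)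
    | succ r =>
      rw [hr] at h3
      have h4 := U.word (Y := r) (w := ws[y]) (by rw [h3.1, chkM, hr]; simp)
      change P.vec P.one 0 ᵥ* (φ (evw el (ws.getD y []))).val = _
      rw [List.getD_eq_getElem _ _ hy, hom_evw hφ _ (allLt_sound h3.1), h4,
        vec_mul hn (z := r) (by rw [U.D.sem1, one_mul]), vec_eq (Nat.eq_of_beq_eq_true h3.2)]
  have key : ∀ r < P.n, ∀ m ∈ M, P.vec X r ᵥ* (φ m : Matrix _ _ _) = P.vec X r := by
    intro r
    induction r using Nat.strong_induction_on with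
    | _ r ih =>
      intro hr m hm
      rcases Nat.eq_zero_or_pos r with rfl | h0
      · rw [vec_eq c2]; exact hS (hle hm)
      have h3 := loop1_sound _ _ _ z2 r h0 (by change r < 1 + (P.n - 1); omega)
      simp only [force_eq] at h3
      obtain ⟨d1, d2⟩ := lor_zero h3
      obtain ⟨d3, d4⟩ := lor_zero d1
      have d5 : byt par (Nat.mul 2 r) < r := sub_zero' d3
      have hi' : byt par (Nat.succ (Nat.mul 2 r)) < zs.length := sub_zero' d4
      generalize byt par (Nat.mul 2 r) = q at *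
      generalize byt par (Nat.succ (Nat.mul 2 r)) = g at *
      have hi : g < (ms.map fun c => (c, 0)).length := z1.length_eq ▸ hi'
      have hg : g < k := by rwa [List.length_map, hk] at hi
      have h4 := (List.Forall₂.get z1 hi hi').1
      have e1 : ((ms.map fun c => (c, 0)).get ⟨g, hi⟩).1 = lget ms 0 g := by
        rw [D.lget_eq, List.getD_eq_getElem _ _ (hk ▸ hg)]; simp
      rw [e1] at h4
      have h5 := vec_mul (r := q) (by omega) (U.D.mul oX (U.ok g hg) h4).2
      have h6 := vec_eq (xor_zero' d2)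
      rw [D.lget_eq, List.getD_eq_getElem _ _ hi'] at h6
      rw [h6.symm.trans h5.symm, ← U.val g hg, ← hφ g hg, vecMul_vecMul, ← Units.val_mul, ← map_mul,
        show el g * m = el g * m * (el g)⁻¹ * el g by group, map_mul, Units.val_mul, ← vecMul_vecMul,
        ih q d5 (by omega) _ (hM.conj_mem m hm _)]
  refine eq_bot_iff.mpr fun m hm => hinj (Units.ext ?_)
  have h3 : P.toM (ZMod P.p) (Equiv.refl _) X * (φ m : Matrix _ _ _) = P.toM (ZMod P.p) (Equiv.refl _) X :=
    Matrix.ext fun i j => congrFun (key i i.2 m hm) j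
  have h4 := (U.D.mul oY oX c1).2
  rw [U.D.sem1] at h4
  rw [map_one, Units.val_one, ← one_mul (φ m).val, h4, mul_assoc, h3]
end MP

end CfH6
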