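import Cfsg.Agent.OD.Pre
import Cfsg.Agent.H6.Big
import Cfsg.Agent.H6.WP
/-! Small glue lemmas for the large presented groups. -/
set_option autoImplicit false
namespace CfH6
variable {G Γ : Type*} [Group G] [Group Γ]

/-- relators may be rewritten by replacing letters by equal words -/
theorem subst_rels (ev : ℕ → G) {nc n : ℕ} {il : List ℕ} {rels : List (List ℕ)}
    (hinv : ∀ x < nc, ev (il.getD x 0) = (ev x)⁻¹) (hr : ∀ r ∈ rels, evw ev r = 1) (τ rs : List (List ℕ))
    (h : (follows nc il n rels ((List.range nc).map fun x => τ.getD x [] ++ [il.getD x 0]) &&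
      follows nc il n rels rs) = true) : ∀ r ∈ rs.map (subst τ), evw ev r = 1 := fun r hr' => by
  rw [Bool.and_eq_true] at h
  obtain ⟨r0, h0, rfl⟩ := List.mem_map.mp hr'
  have h1 : ∀ x < nc, byW ev τ x = ev x := fun x hx => by
    have := follows_sound ev hinv hr h.1 _ (List.mem_map.mpr ⟨x, List.mem_range.mpr hx, rfl⟩)
    rw [evw_append, evw_cons, evw_nil, mul_one, hinv x hx] at this
    exact mul_inv_eq_one.mp this
  have h2 := h.2
  simp only [follows, Bool.and_eq_true] at h2
  rw [evw_subst, evw_congr h1 (allLt_all h2.1.2 r0 h0), follows_sound ev hinv hr h.2 r0 h0]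

/-- relators of a faithful representation hold in the group -/
theorem rel_of_inj (φ : G →* Γ) (hi : Function.Injective φ) {el : ℕ → G} {ev : ℕ → Γ} {k : ℕ}
    (hφ : ∀ x < k, φ (el x) = ev x) {w : List ℕ} (hw : allLt k w = true) (h : ∀ r ∈ [w], evw ev r = 1) :
    evw el w = 1 := hi (by rw [hom_evw hφ _ (allLt_sound hw), h w List.mem_cons_self, map_one])

theorem card_range_le {N : Type*} [Group N] (ρ : N →* G) {c : ℕ} (h : Finite N ∧ Nat.card N ≤ c) :
    Finite ρ.range ∧ Nat.card ρ.range ≤ c :=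
  have := h.1
  ⟨Finite.of_surjective _ ρ.rangeRestrict_surjective,
    (Nat.card_le_card_of_surjective _ ρ.rangeRestrict_surjective).trans h.2⟩

theorem simple_max [Nontrivial G] (H : Subgroup G) (hmax : ∀ L : Subgroup G, H ≤ L → L = H ∨ L = ⊤)
    (h1 : ∀ M : Subgroup G, M.Normal → M ≤ H → M = ⊥ ∨ M = ⊤)
    (h2 : ∀ M : Subgroup G, M.Normal → M ⊔ H = ⊤ → M = ⊤) : IsSimpleGroup G :=
  ⟨fun M hM => (hmax (M ⊔ H) le_sup_right).elim (fun h => h1 M hM (le_sup_left.trans h.le)) fun h => Or.inr (h2 M hM h)⟩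

theorem nontriv_of_card {n : ℕ} (h : Nat.card G = n + 2) : Nontrivial G :=
  have : Finite G := Nat.finite_of_card_ne_zero (by omega)
  Finite.one_lt_card_iff_nontrivial.mp (by omega)

end CfH6
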