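import Cfsg.Agent.OD.Pre
import Cfsg.Agent.H6.C1B
import Cfsg.Agent.H6.C1A.P0
set_option autoImplicit false
set_option maxRecDepth 100000
set_option Elab.async false
set_option linter.all false
namespace CfH6.C1A
open CfH6 MulAction
theorem eq0 : ∀ e ∈ eqs0, evw (lp nets0) e.1 = evw (lp nets0) e.2 :=
  EqsOk.sound (((((((((((((((((e0_0).trans e0_1).trans e0_2).trans e0_3).trans e0_4).trans e0_5).trans e0_6).trans e0_7).trans e0_8).trans e0_9).trans e0_10).trans e0_11).trans e0_12).trans e0_13).trans e0_14).trans e0_15).trans e0_16) ok0 (by decide)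
theorem eq1 : ∀ e ∈ eqs1, evw (lp nets0) e.1 = evw (lp nets0) e.2 :=
  EqsOk.sound (((((((((e1_0).trans e1_2).trans e1_4).trans e1_6).trans e1_8).trans e1_10).trans e1_12).trans e1_14).trans e1_16) ok0 (by decide)
theorem eqAll : ∀ e ∈ eqs, evw (lp nets0) e.1 = evw (lp nets0) e.2 := forall_app eq0 (eq1)
theorem hsd : (∀ x < 9, lp nets0 (C1B.il.getD x 0) = (lp nets0 x)⁻¹) ∧ ∀ r ∈ eqRels C1B.il sig eqs, evw (lp nets0) r = 1 :=
  eqRels_sound (lp nets0) (k := 9) (by decide +kernel) eqAll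
theorem exRho : ∃ ρ : C1B.G →* Equiv.Perm ℕ, ∀ x < 9, ρ (C1B.el x) = lp nets0 x :=
  C1B.hhom _ hsd.1 (follows_sound (n := 4) _ hsd.1 hsd.2 (by decide +kernel))
noncomputable def rho : C1B.G →* Equiv.Perm ℕ := Classical.choose exRho
@[reducible] noncomputable def act : MulAction C1B.G ℕ := MulAction.compHom ℕ rho
attribute [local instance] act
theorem L0 : Lvl 114688 nets0 9 C1B.el := lvl0 rho ok0 (Classical.choose_spec exRho)
noncomputable abbrev el1 : ℕ → C1B.G := byW C1B.el ws1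
theorem L1 : Lvl 114688 nets1 8 el1 := L0.next sx1 (x1_0)
noncomputable abbrev el2 : ℕ → C1B.G := byW el1 ws2
theorem L2 : Lvl 384 nets2 2 el2 := L1.next sx2 ((x2_0).trans x2_15)
noncomputable abbrev el3 : ℕ → C1B.G := byW el2 ws3
theorem L3 : Lvl 160 nets3 2 el3 := L2.next sx3 (x3_0)
noncomputable abbrev el4 : ℕ → C1B.G := byW el3 ws4
theorem L4 : Lvl 48 nets4 2 el4 := L3.next sx4 (x4_0)
noncomputable abbrev el5 : ℕ → C1B.G := byW el4 ws5
theorem L5 : Lvl 40 nets5 3 el5 := L4.next sx5 (x5_0)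
noncomputable abbrev el6 : ℕ → C1B.G := byW el5 ws6
theorem L6 : Lvl 20 nets6 2 el6 := L5.next sx6 (x6_0)
noncomputable abbrev el7 : ℕ → C1B.G := byW el6 ws7
theorem L7 : Lvl 10 nets7 1 el7 := L6.next sx7 (x7_0)
noncomputable abbrev H : Subgroup C1B.G := gensub el1 8
theorem fix0 : H ≤ stabilizer C1B.G 0 := L1.fix' 0 (by decide +kernel)
theorem cU : (bitSet U).ncard = 98280 := ncard_ivls lU _ (by decide +kernel)
theorem oi1 : OrbIn (gensub el1 8) 384 114688 S1 :=
  (L1.orbStep (OrbIn.one _ (by decide)) 32 S1 oi1_0)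
theorem o1 : orbit H 384 = bitSet S1 := L1.orbEq oi1 ci1
theorem c1 : (bitSet S1).ncard = 46575 := ncard_ivls l1 _ (by decide +kernel)
theorem oi2 : OrbIn (gensub el1 8) 46959 114688 S2 :=
  (L1.orbStep (OrbIn.one _ (by decide)) 40 S2 oi2_0)
theorem o2 : orbit H 46959 = bitSet S2 := L1.orbEq oi2 ci2
theorem c2 : (bitSet S2).ncard = 4600 := ncard_ivls l2 _ (by decide +kernel)
theorem oi3 : OrbIn (gensub el1 8) 9 114688 S3 :=
  (L1.orbStep (OrbIn.one _ (by decide)) 32 S3 oi3_0)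
theorem o3 : orbit H 9 = bitSet S3 := L1.orbEq oi3 ci3
theorem c3 : (bitSet S3).ncard = 47104 := ncard_ivls l3 _ (by decide +kernel)
theorem hJ : ∀ j ∈ J, orbit H j.2.1 = bitSet j.2.2 := (forall_cons o1 (forall_cons o2 (forall_cons o3 forall_nil)))
theorem subU : bitSet U ⊆ orbit (⊤ : Subgroup C1B.G) 0 := L0.sub_top J hJ U (by decide +kernel)
theorem q1 (hH : H = stabilizer C1B.G 0) : (orbit H ((evw C1B.el w1 : C1B.G) : C1B.G ⧸ H)).ncard = 46575 :=
  L0.quot hH w1 o1 c1 (by decide +kernel)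
theorem q2 (hH : H = stabilizer C1B.G 0) : (orbit H ((evw C1B.el w2 : C1B.G) : C1B.G ⧸ H)).ncard = 4600 :=
  L0.quot hH w2 o2 c2 (by decide +kernel)
theorem q3 (hH : H = stabilizer C1B.G 0) : (orbit H ((evw C1B.el w3 : C1B.G) : C1B.G ⧸ H)).ncard = 47104 :=
  L0.quot hH w3 o3 c3 (by decide +kernel)
theorem orbTop : OrbGe (⊤ : Subgroup C1B.G) 0 98280 := orbGe_of_sub subU cU
theorem stab (hc : Covers H ⊤ 98280) : H = stabilizer C1B.G 0 ∧ H.index = 98280 := stab_eq hc fix0 orbTop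
theorem mx3 (hH : H = stabilizer C1B.G 0) (hN : H.index = 98280) : Mx H S3 :=
  L0.mx hH hN w3 o3 J3 (forall_cons o3 (forall_cons o1 forall_nil)) lBig cm3
theorem mx2 (hH : H = stabilizer C1B.G 0) (hN : H.index = 98280) : Mx H S2 :=
  L0.mx hH hN w2 o2 J2 (forall_cons o3 (forall_cons o1 forall_nil)) lBig cm2
theorem mx1 (hH : H = stabilizer C1B.G 0) (hN : H.index = 98280) : Mx H S1 :=
  L0.mx hH hN w1 o1 J1 (forall_cons o3 (forall_cons o1 forall_nil)) lBig cm1
theorem hmax (hH : H = stabilizer C1B.G 0) (hN : H.index = 98280) : ∀ L : Subgroup C1B.G, H ≤ L → L = H ∨ L = ⊤ :=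
  coatom_of hH (Mx.lorJ J (forall_cons (mx1 hH hN) (forall_cons (mx2 hH hN) (forall_cons (mx3 hH hN) forall_nil)))) (orbit_sub_of_card hH hN (by decide) subU cU) (by decide +kernel)
theorem low7 : Low (gensub el7 1) [6] 3 :=
  (Low.cons bot_le bot_le (L7.orbGe 6 2 4 3 (by decide) (by decide) og7) (Low.nil ⊥)).cast (by decide)
theorem low6 : Low (gensub el6 2) [5, 6] 36 :=
  (Low.step' L7 (L6.orbGe 5 6 5 12 (by decide) (by decide) og6) (by decide +kernel) low7).cast (by decide)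
theorem low5 : Low (gensub el5 3) [4, 5, 6] 972 :=
  (Low.step' L6 (L5.orbGe 4 9 6 27 (by decide) (by decide) og5) (by decide +kernel) low6).cast (by decide)
theorem low4 : Low (gensub el4 2) [3, 4, 5, 6] 29160 :=
  (Low.step' L5 (L4.orbGe 3 8 6 30 (by decide) (by decide) og4) (by decide +kernel) low5).cast (by decide)
theorem low3 : Low (gensub el3 2) [2, 3, 4, 5, 6] 3265920 :=
  (Low.step' L4 (L3.orbGe 2 16 8 112 (by decide) (by decide) og3) (by decide +kernel) low4).cast (by decide)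
theorem low2 : Low (gensub el2 2) [1, 2, 3, 4, 5, 6] 898128000 :=
  (Low.step' L3 (L2.orbGe 1 26 9 275 (by decide) (by decide) og2) (by decide +kernel) low3).cast (by decide)
theorem low1 : Low (gensub el1 8) [9, 1, 2, 3, 4, 5, 6] 42305421312000 :=
  (Low.step' L2 (orbGe_of_eq o3 c3) (by decide +kernel) low2).cast (by decide)
theorem low0 : Low (gensub C1B.el 9) [0, 9, 1, 2, 3, 4, 5, 6] 4157776806543360000 :=
  (Low.step' L1 (C1B.htop ▸ orbTop) (by decide +kernel) low1).cast (by decide)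
def bs : List ℕ := [0, 9, 1, 2, 3, 4, 5, 6]
theorem hbs : ∀ b ∈ bs, b ∈ orbit C1B.G 0 := base_mem subU bs (by decide +kernel)
theorem top (hf : Finite C1B.G ∧ Nat.card C1B.G ≤ 4157776806543360000) : Nat.card C1B.G = 4157776806543360000 ∧ ∀ g : C1B.G, (∀ b ∈ bs, g • b = b) → g = 1 := low0.top hf
theorem hex (hb : ∀ g : C1B.G, (∀ b ∈ bs, g • b = b) → g = 1) : ∀ w ∈ ex, evw C1B.el (wpow w (13 ^ 1)) = 1 := (forall_cons (L0.word_one hb _ pw0) forall_nil)
end CfH6.C1A
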