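import Cfsg.Agent.OD.Pre
import Cfsg.Agent.H6.TCTop
/-! coset enumeration certificate; generators a b c d f t r ; index 2 -/
set_option autoImplicit false
set_option maxRecDepth 100000
set_option Elab.async false
set_option linter.all false
namespace CfH6.LT10
open CfH6
noncomputable def tab0 : Tr := (Tr.l (nat_lit 0x23cb6fff6fff6fff23c973c7445152446fff6fff6fff524322c542ca42c6324221c110c0))
noncomputable def tab1 : Tr := (Tr.l (nat_lit 0x245196d07fff23c97fff62c623cb83ca444e7fff6243434c22c5534442c7324221c110c0))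
noncomputable def tab2 : Tr := (Tr.l (nat_lit 0x95d18450244b23ce5fff5fff34cf5fff2345734463475fff33c933c841c2324321c110c0))
noncomputable def tab3 : Tr := (Tr.l (nat_lit 0xa3cb32c9464f7fff7fff7fff8451934a83507fff7fff7fff62c552c442c3314121c210c0))
noncomputable def tab4 : Tr := (Tr.l (nat_lit 0x23d15fff23c95fff5fff5fff2345634a5fff42435fff5fff33cb41c232c8324421c110c0))
noncomputable def tab5 : Tr := (Tr.l (nat_lit 0x754b5fff5fff5fff5fff5fff64d15fff23495fff5fff5fff22c55fff42c3324221c110c0))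
noncomputable def tab6 : Tr := (Tr.l (nat_lit 0x22ca3fff22c822c722c63fff224413512243134f134e134d21c212cb12c9124520c01141))
noncomputable def tab7 : Tr := (Tr.l (nat_lit 0x1fff38c51ffff84d1fff27431fff1fffe9451fffd7c61fff1fff1fffc9c2ba4100000000))
noncomputable def tab8 : Tr := (Tr.l (nat_lit 0x636661606410642360))
noncomputable def tab9 : Tr := (Tr.l (nat_lit 0))
noncomputable def tab10 : Tr := (Tr.l (nat_lit 0))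
noncomputable def tab11 : Tr := (Tr.l (nat_lit 0))
noncomputable def tab12 : Tr := (Tr.l (nat_lit 0))
noncomputable def tab13 : Tr := (Tr.l (nat_lit 0))
noncomputable def tab14 : Tr := (Tr.l (nat_lit 0))
noncomputable def tab15 : Tr := (Tr.l (nat_lit 0))
noncomputable def tab16 : Tr := (Tr.l (nat_lit 0x11c6a114c0248d0c3))
noncomputable def ty0 : TT := (TT.n (TT.n (TT.n (TT.l (Ty.ssub [] []))
 (TT.l (Ty.dfn)))
 (TT.n (TT.l (Ty.rel3 (nat_lit 3) (nat_lit 0) (nat_lit 3)))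
 (TT.l (Ty.rel3 (nat_lit 1) (nat_lit 0) (nat_lit 1)))))
 (TT.n (TT.n (TT.l (Ty.rel3 (nat_lit 6) (nat_lit 0) (nat_lit 6)))
 (TT.l (Ty.skip)))
 (TT.l (Ty.rel1 (nat_lit 0)))))
noncomputable def ty1 : TT := (TT.n (TT.n (TT.n (TT.n (TT.l (Ty.ssub [] []))
 (TT.l (Ty.relL (nat_lit 3) [nat_lit 2, nat_lit 1, nat_lit 5, nat_lit 4, nat_lit 3, nat_lit 2, nat_lit 5, nat_lit 2, nat_lit 3, nat_lit 4, nat_lit 5, nat_lit 1, nat_lit 2, nat_lit 1, nat_lit 3])))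
 (TT.l (Ty.relL (nat_lit 3) [nat_lit 4, nat_lit 1, nat_lit 3, nat_lit 4, nat_lit 1, nat_lit 3, nat_lit 4])))
 (TT.n (TT.l (Ty.relL (nat_lit 3) [nat_lit 6, nat_lit 3, nat_lit 0, nat_lit 1, nat_lit 3, nat_lit 5, nat_lit 6, nat_lit 3]))
 (TT.l (Ty.skip))))
 (TT.n (TT.n (TT.l (Ty.rel3 (nat_lit 6) (nat_lit 1) (nat_lit 6)))
 (TT.l (Ty.dfn)))
 (TT.n (TT.l (Ty.rel1 (nat_lit 1)))
 (TT.l (Ty.rel3 (nat_lit 0) (nat_lit 1) (nat_lit 0))))))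
noncomputable def ty2 : TT := (TT.n (TT.n (TT.n (TT.n (TT.l (Ty.ssub [] []))
 (TT.l (Ty.relL (nat_lit 4) [nat_lit 5, nat_lit 4, nat_lit 2, nat_lit 5, nat_lit 2, nat_lit 4, nat_lit 5])))
 (TT.l (Ty.skip)))
 (TT.n (TT.l (Ty.rel1 (nat_lit 2)))
 (TT.l (Ty.rel3 (nat_lit 4) (nat_lit 2) (nat_lit 4)))))
 (TT.n (TT.n (TT.l (Ty.rel3 (nat_lit 6) (nat_lit 2) (nat_lit 6)))
 (TT.l (Ty.rel5 (nat_lit 1) (nat_lit 2) (nat_lit 1) (nat_lit 2) (nat_lit 1))))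
 (TT.n (TT.l (Ty.dfn))
 (TT.l (Ty.rel5 (nat_lit 3) (nat_lit 2) (nat_lit 3) (nat_lit 2) (nat_lit 3))))))
noncomputable def ty3 : TT := (TT.n (TT.n (TT.n (TT.n (TT.l (Ty.ssub [] []))
 (TT.l (Ty.rel3 (nat_lit 0) (nat_lit 3) (nat_lit 0))))
 (TT.l (Ty.rel5 (nat_lit 4) (nat_lit 3) (nat_lit 4) (nat_lit 3) (nat_lit 4))))
 (TT.n (TT.l (Ty.dfn))
 (TT.l (Ty.skip))))
 (TT.n (TT.n (TT.n (TT.l (Ty.srel [nat_lit 3]))
 (TT.l (Ty.relL (nat_lit 6) [nat_lit 4, nat_lit 3, nat_lit 6, nat_lit 5, nat_lit 4, nat_lit 0, nat_lit 3, nat_lit 4, nat_lit 5, nat_lit 6, nat_lit 3, nat_lit 4, nat_lit 0, nat_lit 6])))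
 (TT.l (Ty.relL (nat_lit 6) [nat_lit 3, nat_lit 6, nat_lit 3, nat_lit 6, nat_lit 3, nat_lit 6])))
 (TT.n (TT.l (Ty.rel5 (nat_lit 2) (nat_lit 3) (nat_lit 2) (nat_lit 3) (nat_lit 2)))
 (TT.l (Ty.rel1 (nat_lit 3))))))
noncomputable def ty4 : TT := (TT.n (TT.n (TT.n (TT.l (Ty.ssub [] []))
 (TT.l (Ty.skip)))
 (TT.l (Ty.rel1 (nat_lit 4))))
 (TT.n (TT.n (TT.l (Ty.rel3 (nat_lit 6) (nat_lit 4) (nat_lit 6)))
 (TT.l (Ty.rel5 (nat_lit 0) (nat_lit 4) (nat_lit 0) (nat_lit 4) (nat_lit 0))))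
 (TT.l (Ty.dfn))))
noncomputable def ty5 : TT := (TT.n (TT.n (TT.n (TT.l (Ty.ssub [] []))
 (TT.l (Ty.skip)))
 (TT.n (TT.l (Ty.rel3 (nat_lit 3) (nat_lit 5) (nat_lit 3)))
 (TT.l (Ty.rel1 (nat_lit 5)))))
 (TT.n (TT.n (TT.l (Ty.rel3 (nat_lit 6) (nat_lit 5) (nat_lit 6)))
 (TT.l (Ty.relL (nat_lit 6) [nat_lit 3, nat_lit 1, nat_lit 3, nat_lit 6, nat_lit 3, nat_lit 0, nat_lit 1, nat_lit 3])))
 (TT.l (Ty.relL (nat_lit 2) [nat_lit 3, nat_lit 4, nat_lit 5, nat_lit 1, nat_lit 2, nat_lit 1, nat_lit 3, nat_lit 1, nat_lit 3, nat_lit 2, nat_lit 1, nat_lit 5, nat_lit 4, nat_lit 3, nat_lit 2]))))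
noncomputable def ty6 : TT := (TT.n (TT.n (TT.l (Ty.rel1 (nat_lit 6)))
 (TT.l (Ty.skip)))
 (TT.l (Ty.dfn)))
noncomputable def ty7 : TT := (TT.n (TT.n (TT.l (Ty.skip))
 (TT.l (Ty.srel [nat_lit 3, nat_lit 0, nat_lit 2, nat_lit 1, nat_lit 0, nat_lit 3, nat_lit 1, nat_lit 3, nat_lit 2, nat_lit 4, nat_lit 0, nat_lit 3, nat_lit 1, nat_lit 2, nat_lit 3, nat_lit 2, nat_lit 1, nat_lit 3, nat_lit 1, nat_lit 0, nat_lit 4, nat_lit 2, nat_lit 3, nat_lit 1])))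
 (TT.l (Ty.relL (nat_lit 3) [nat_lit 5, nat_lit 6, nat_lit 3, nat_lit 1, nat_lit 3, nat_lit 6, nat_lit 3, nat_lit 0, nat_lit 1])))
noncomputable def C : Cert where
  tabs := [tab0, tab1, tab2, tab3, tab4, tab5, tab6, tab7, tab8, tab9, tab10, tab11, tab12, tab13, tab14, tab15, tab16]
  tts := [ty0, ty1, ty2, ty3, ty4, ty5, ty6, ty7]
  k := nat_lit 6
  base := nat_lit 10
  mJ := nat_lit 64
  mR := nat_lit 63
  W := nat_lit 16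
  mA := nat_lit 4095
  mI := nat_lit 127
  S := nat_lit 12
  mC := nat_lit 15
  nc := nat_lit 7
  lo := nat_lit 64
  live := nat_lit 66
  hi1 := nat_lit 81
  AW := nat_lit 13
  mAW := nat_lit 8191
def il : List ℕ := [0, 1, 2, 3, 4, 5, 6]
def rels : List (List ℕ) := [[0, 1, 0, 1],
  [0, 2, 0, 2, 0, 2],
  [0, 3, 0, 3],
  [0, 4, 0, 4, 0, 4],
  [0, 5, 0, 5],
  [0, 6, 0, 6],
  [1, 2, 1, 2, 1, 2],
  [1, 3, 1, 3, 1, 3, 1, 3],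
  [1, 4, 1, 4, 1, 4, 1, 4],
  [1, 5, 1, 5],
  [1, 6, 1, 6],
  [2, 3, 2, 3, 2, 3],
  [2, 4, 2, 4],
  [2, 5, 2, 5, 2, 5, 2, 5],
  [2, 6, 2, 6],
  [3, 4, 3, 4, 3, 4],
  [3, 5, 3, 5],
  [3, 6, 3, 6, 3, 6, 3, 6],
  [4, 5, 4, 5, 4, 5],
  [4, 6, 4, 6],
  [5, 6, 5, 6],
  [1, 2, 3, 1, 2, 3, 1, 2, 3, 1, 2, 3, 1, 2, 3],
  [0, 1, 2, 3, 2, 0, 1, 2, 3, 2, 0, 1, 2, 3, 2, 1, 0, 2, 3, 2, 1, 0, 2, 3, 2],
  [0, 1, 2, 0, 1, 3, 1, 2, 0, 1, 3, 1, 2, 1, 3, 1, 0, 2, 1, 3, 1, 0, 2, 1, 3],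
  [0, 1, 2, 0, 3, 1, 3, 2, 4, 0, 1, 3, 1, 2, 3, 2, 1, 3, 0, 4, 2, 3, 1, 3],
  [1, 3, 4, 1, 3, 4, 1, 3, 4],
  [0, 2, 3, 5, 2, 0, 5, 2, 3, 5, 2, 5, 0, 2, 5, 3, 2, 5],
  [1, 2, 1, 4, 1, 2, 4, 1, 4],
  [1, 2, 1, 3, 1, 3, 2, 1, 5, 4, 3, 2, 5, 2, 3, 4, 5],
  [0, 1, 3, 5, 6, 3, 1, 3, 6, 3],
  [2, 4, 5, 2, 4, 5, 4, 2, 5],
  [0, 3, 4, 5, 6, 3, 4, 0, 6, 3, 6, 4, 3, 6, 5, 4]]
def subs : List (List ℕ) := [[0],
  [1],
  [2],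
  [3],
  [4],
  [5]]
theorem valid : C.valid il rels subs = true := by decide +kernel
theorem p0 : C.OkL 64 66 := C.okL_of 64 0 2 66 (by decide) (by decide +kernel)
theorem p1 : C.OkR 66 82 := C.okR_of 66 0 16 82 (by decide) (by decide +kernel)
theorem covers {G : Type*} [Group G] (ev : ℕ → G) (H : Subgroup G)
    (hinv : ∀ x < 7, ev (il.getD x 0) = (ev x)⁻¹) (hr : ∀ r ∈ rels, evw ev r = 1)
    (hs : ∀ s ∈ subs, evw ev s ∈ H) : Covers H (gensub ev 7) 2 :=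
  C.sound il rels subs 7 2 valid (p0) (p1) (by decide) (by decide) ev H hinv hr hs
end CfH6.LT10
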