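import Cfsg.Agent.OD.Pre
import Cfsg.Agent.H6.TCTop
/-! coset enumeration certificate; generators a b c d f ; index 162 -/
set_option autoImplicit false
set_option maxRecDepth 100000
set_option Elab.async false
set_option linter.all false
namespace CfH6.LT5
open CfH6
noncomputable def t0 : Tr := (Tr.n (Tr.n (Tr.n (Tr.l (nat_lit 0x618c4085a98108540410610421460852801862e830c5c0e221e0c316c1084e0715060618b21859981084c820e970e2a042039b82072b821a8704251a084a301852a0212890614a60861c810742820e830820c60839fc1093e030a4f1024b41849541073c820e78041cec08517c107398412520420da0c212c10a2f020c690418ce08516038878080e500418c010392830626860e490414ac08413810826070ae60c148814291820521820c4704188a0c110410321010240)) (Tr.l (nat_lit 0xc2d622ffffc416a206151c17fffe2ffffc5ffff8bffff17fffe105ab85ffff86171a17fffe2ffffc5ffff8bffff082a302ffffc5ffff8bffff17fffe2ffffc30a8a8414a917fffe2ffffc188538bffff17fffe1064585ffff8bffff17fffe2ffffc30a528414a4062226818c4c5ffff8bffff17fffe185a885ffff8bffff0c293e14544820a880bffff17fffe2ffffc1888606170d17fffe2ffffc5ffff8bffff0621362ffffc5ffff822f7d17fffe184a605ffff8bffff)))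 (Tr.l (nat_lit 0x17fffe08547c1088b8bffff042a160844285ffff8614f717fffe2ffffc5ffff8bffff0c1dd22ffffc5ffff860e5117fffe2ffffc185720bffff17fffe0c2b8c108798308e217fffe0c21205ffff820ced0419d4082ba04496f8312d00529c2185b3c2ca6d8416cc052dba16cb5030c608414d81579ac0afb5c30c5d02b4da0621662092dc4a3688214e00431bc0c42b428b668218dc06215412c30818850891714116d8e19d31413b6306149e08293a0acb2810d6c84149a)))
 (Tr.n (Tr.l (nat_lit 0x476130184af915452830e93431d48086b5501b588616b4044da418523c28a490218b80425a614724038cbf841284061d041c65d810967061281082500084b2c38bb4030e7d0e26ca1851f838bae87175c061cf61c65581096484127a0e2ea6085b1010b61830e750e268e085b00187388715420618e01c44f43084a841094042178085ad438f92821eb2042d6c204a283083584106a0e2e5008523820834081a880a30d81c5480186328214b00618c80842bc10a560214ab)) (Tr.l (nat_lit 0x61e082ffffc1874b0bffff17fffe2ffffc5ffff8bffff17fffe2ffffc5ffff8bffff17fffe2ffffc20b9504150117fffe2ffffc5ffff8bffff17fffe2ffffc5ffff86148b17fffe20947420e488bffff17fffe2ffffc5ffff8612860825fc2ffffc113930bffff17fffe0865d05ffff82176f061dfa086d8810bb48218c80426b62ffffc2097e021751061cee2ffffc10ca602134d0825f60c3be85ffff8bffff17fffe1049d05ffff82113f17fffe1849bc10b980bffff))))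
noncomputable def t1 : Tr := (Tr.n (Tr.n (Tr.n (Tr.l (nat_lit 0x4215610445810854830c600421480c31741085004111108222010442c1084e830c5908220c1c41781084d040f05081e06083a501852b020e91081e020c295010746030a53041d121c39542077f020e840614a0083a0018527820e7c0c2df00849c81073d040efc081df6103bdc1073a030a4c0610960831b410833020c6a0418d00c212420678820c630418c20c211c20677820c580414ae0c191010529050a4804149c102b941832102084a06088208211410321810240)) (Tr.l (nat_lit 0x2bfffe57fffcaffff95ffff2bfffe57fffcb0aa815ffff2bfffe0c42b0affff95ffff2bfffe0c446440a8d95ffff06222e57fffcaffff95ffff2bfffe145af4affff8310a82bfffe0c429caffff95ffff2bfffe0c4298affff8310a52bfffe57fffcaffff8310a32bfffe57fffc131a20310a12bfffe57fffcaffff95ffff2bfffe57fffc1888782177906221a8185e4affff95ffff2bfffe34d2881888383109b2bfffe145c9caffff8e61592bfffe085cfc1874b95ffff))) (Tr.l (nat_lit 0x4225c0c31941088c030c5c0618b657fffc1088495ffff0618b457fffcaffff95ffff1e25e657fffc18528a1165106149a57fffcaffff95ffff0615c657fffcb08748f0ce82bfffe57fffc1842315ffff0419d6202b8844a6f14acd006259e0a5b842d96e8312cb0a59b616bb503af6a8310be26c5ae4aeb581306c82b0da233d943922d08326682aee00429be3c5abc133688310aa0429b80a834d038a20516b506213e0c42783ba620276c50621380abacc14a5d031099)))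
 (Tr.n (Tr.l (nat_lit 0x45614e084b6020cb5219693411d463a4b041874802aeb71b597032dad810c64024ad2175984290ac412259030e8304319c0c3a0428941041376061cfe084b301873e8413680826cc104d88209b0030e7b0826b810dd28209ac030e7904258e084b181873a8212c30826900c39c410960091104082282108c882089d830c6e082270105450186360210b90822641044c420898030c690822561044a81863388128808224a1044902088f830c640421600852b410857030c62)) (Tr.l (nat_lit 0x1e2a8457fffd028a115ffff061d2a57fffcaffff830e932bfffe57fffcaffff95ffff2bfffe0c3a3c18747030e8d2bfffe0c3bfcaffff95ffff061d160c3a28affff95ffff04328c57fffc18743830e862bfffe5c8258affff95ffff061d0a57fffcaffff95ffff042ee257fffc109b9030efd0426de0c39f8affff8512922bfffe57fffc1873c030e770426a257fffc109a795ffff061cec57fffc1877c95ffff0426920c39cc1863815ffff0618de57fffc1863595ffff))))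
noncomputable def t2 : Tr := (Tr.n (Tr.n (Tr.n (Tr.l (nat_lit 0xc24fe10a458109370411140420be1c4184309348411120420b81841d81082d03149a0c24ce2051782862c041500061d2c0c51f418749050a55061d201c395c18a3c8412fe0628e60c3a1c28529050a51061d040839401893d060e560624f60c59c8285270312770a149a0c49d428526030e710620d40c41801863605084a0a10920c3194186320310620a108e0c31741862d830c590a0c880c29501852985064306149e1419082057183084b0610900c211810320810240)) (Tr.l (nat_lit 0x21fffe1442c087fff90ffff21fffe1442b887fff90ffff21fffe43fffc87fff90ffff0a215643fffc87fff85111721fffe43fffc1155505111521fffe1442a487fff90ffff21fffe43fffc87fffa160aa0a214c43fffc10a5390ffff04629643fffc87fff90ffff21fffe81729c87fff90ffff21fffe43fffc87fff85111021fffe14443c87fff90ffff0e714443fffc87fff90ffff21fffe14441c6958690ffff21fffe14441887fff821b210a1d3043fffc87fff90ffff))) (Tr.l (nat_lit 0x62e461c41a018b8990ffff062a1243fffc2867790ffff21fffe43fffc28676050ae921fffe43fffc87fff90ffff061df243fffc87fff830ef50e1dca183b981867a10ffff0419c40c43a887fff90ffff0a108a0c3b9c14b6f86aed30731c22253542896586b0dc0a258c144b085cf678aaccc048dae3ac31c1cb6f0510b40761c00852cc288588faab70741b23242d82885603aed80629ba0eb2e048da38510a00765ac0c536d0c95508aabe1d26700c53686ca5d208ea7)))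
 (Tr.n (Tr.l (nat_lit 0xa1d2e0eb3102874a2096c30425260e5b046225c8baaca0759a00e4b38287460312d4062da4143a181896884137e0c255e104de8287400312cd0826e610b5b4209b50616a8082ec2104d8c596528a2c9d0c2d3810ed3c10b470312c810293e2caa78197520318a3042d141c49d030b4284114306217e1431bc2089e0310bd0629761431b420a92850c6b0822660c628420d900310b50822580c626c208938415260a18cc0c42c818c4c8a208412410614318c409408310ad)) (Tr.l (nat_lit 0x21fffe084c1087fff850e9521fffe43fffc87fff8394c321fffe43fffc2878090ffff0a1d1e43fffc87fff90ffff21fffe43fffc87fff850e8b21fffe43fffc87fff90ffff0a1d12084a203894890ffff0429fe43fffc18ea208188d21fffe43fffc87fff90ffff21fffe43fffc87fff90ffff0626e03499f8189b6050e7c0429fa1439e087fff8313540626a443fffc196a490ffff21fffe43fffc3897d90ffff0626940c4d1887fff83153e21fffe43fffc1889a821270))))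
noncomputable def t3 : Tr := (Tr.n (Tr.n (Tr.n (Tr.l (nat_lit 0x421580c31843888a8210a604214a08428810b4c86107804213e1849801084f0711070844e60c31604082e820e980614ae083a54387810212900614a8083a3c10746820e8b0429060c294810743040e534050c6083a041073f0214760e25ee0c293810938850e5c081c9e1c3be03897a820e720418de18315818425020c6b0420c808319818424050c500420b60831781842303084508149608295418321820a51060c840829341052603044104109208211c10322010240)) (Tr.l (nat_lit 0x621603ffffc7ffff8310af06215c3ffffc7ffff8fffff1ffffe3ffffc7ffff8310ab1ffffe3ffffc7ffff8fffff1ffffe0c42a87ffff84173c1ffffe3ffffc188540fffff06214e3ffffc7ffff8fffff1ffffe3ffffc7ffff8fffff1ffffe0c429018851a17aa41ffffe3ffffc188508fffff1ffffe0c4280188880fffff06221e3ffffc7ffff83110e242a2c0c44307ffff83110b1ffffe3ffffc695a48fffff1ffffe3ffffc7ffffa06ea31ffffe0c3a5c7ffff830f04))) (Tr.l (nat_lit 0x1ffffe0844881088c912afa04221a08b3f07ffff830c5a2020be146bd82082c8fffff0615d03ffffc7ffff830ae61ffffe0c2b907ffff830ae31ffffe3ffffc18471020cf31ffffe0833c07ffff820cee0419d83ffffc2dc6f8618dc0575c20c4b3874e6d821ae0053dba106b50189600d92c71881a40c42dc1885a821cda0c29a6090b5c211688b14cc06215a08537820a668216d01531780c42a50b850a05ca00529b009d30c1884e83109c12e58c0c426c1884d0214d9)))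
 (Tr.n (Tr.l (nat_lit 0x47612e0c3a5115451829acb431d480c3a4901b58030e8e0425ac0c3a301096a830e8a0a2566104a1c1874207137f0e26f81c4dec10967830e7f0e26e81c4db8109650713690e26ce0c39f01873d87135e0e26ba0c39e8389ac871356061cee0c39d4109628212c4042584084b0430a3c830c700e22841c54cc186370210be0e22720842e83889b04106c0618d40842e0186348210b60618d00842d0388940510880429640c3194388900210b10c24ce1c44701863107111a)) (Tr.l (nat_lit 0x1ffffe3ffffc7ffff82196c1ffffe3ffffc187498fffff1ffffe0c3a447ffff8fffff08252c3ffffc7ffff8fffff1ffffe3ffffc7ffff8fffff1ffffe3ffffc7ffff830e891ffffe3ffffc7ffff8fffff1ffffe0c3bf87ffff830e851ffffe3ffffc7ffff830e821ffffe0c3a001877e8fffff1ffffe3ffffc1873e8fffff1ffffe3ffffc7ffff8fffff0426a6084d401877d82134e04269818b4447ffff8fffff061ce83ffffc7ffff8211401ffffe0c31b47ffff8fffff))))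
noncomputable def t4 : Tr := (Tr.n (Tr.n (Tr.n (Tr.l (nat_lit 0x229500442a8106300110a70418ba10444c088508310780418b61044301062c8411080221362c61c809541020a57081e08082958087498a12f4124520103c0008747040eff021d14043a2030832a1226c4050b008293c2077e810e7d04149c1869780873d820a4d021cee0829300873a840ef60218e00431b848774860e530220a8203948206790208470218c404317c0862e010c5a0c14961c292408625040ae70214a0182918205720508440811c40c210810120010441)) (Tr.l (nat_lit 0x23fffe47fffc1085791ffff23fffe47fffc1088d0210ad04215847fffc1085591ffff23fffe1c55541088c11ffff23fffe1454641088b11ffff04215247fffc8ffff91ffff23fffe47fffc8ffff8210a623fffe47fffc1088a11ffff04214847fffc8ffff91ffff23fffe0842888ffff91ffff04214047fffc8ffff91ffff23fffe47fffc8ffff91ffff23fffe145c5418a8791ffff04213a47fffc8ffff91ffff06293847fffc1084d02109923fffe47fffc8ffff851298))) (Tr.l (nat_lit 0x418d004448c1063091ffff02221c0833bc8ffff8510ee23fffe0831608ffff81146c23fffe0829448ffff91ffff021df4044be01877411ffff23fffe47fffc0882a8110ed04109047fffc8ffff82084523fffe08190c1096a9062d31f01bc060b7c3596d88b4dc0369ba189b684c7608fb2c40421721452e008a7086bed102c9c00842c80e06a0210ae13217406dad465c668eaebe03658c06d31c18a51a25ea00d659426c32d0c95301b4d8035d7e1493080c86ca08ea2)))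
 (Tr.n (Tr.l (nat_lit 0x1b598606c3311544c831297041d24064b3c0896b8116d6041d1a86ca3035a670cbab1041d0c044b480de5a2040870826fa044b40209bc0413770826ea0839f8209b583127f041cf8104d902178e04135f022d92104d681073c8413570a250224aa78209a5841747041ce6104d14209a20415400229781044f82884a84113a0418da0442ec2089b81246b0822680831a40885b84112f08225a08319c20894820c6608224c0442cc2089084111e08223a28a1c408a4f84111b)) (Tr.l (nat_lit 0x23fffe083a588ffff91ffff23fffe083a508ffff91ffff041d2247fffc8ffff820e8f40a13047fffc8ffff91ffff041d1847fffc1074591ffff23fffe47fffc1074491ffff23fffe083a1c8ffff91ffff041dfc47fffc1074291ffff23fffe083a1010741852ca5041d00044de408bb701137123fffe044db408ca7011361041cf447fffc8ffff91ffff022e9a083bec8ffff820e7623fffe47fffc8ffff820e7423fffe47fffc8ffff820c6f23fffe47fffc8ffff820c6a))))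
noncomputable def t5 : Tr := (Tr.n (Tr.n (Tr.n (Tr.l (nat_lit 0)) (Tr.l (nat_lit 0x3e69734102227b5529e66823a950b398a366cd3e4c80a43965592d8a1a5514c499e9691451f1e315a3423a9b65658b10e712324e1afb242946e83593902a325fcc543eac9b7b3d00f24509dc64b1a90c574bcfce579f9c2dad197ca130fd5a5de571bb6a2168cbb24c2b4da3300ab764b57ea528b990d16b219c737133910652d3ec659718494aaf5f4e5cb4f8b6618164b2dab5a4f550100a55a4942b2b27aea84d5552953a592463d23a6bd4495124abafd0a642a04f33))) (Tr.l (nat_lit 0x7488d4e521c1c443a37365c6cb4ecd4d171a182db3285a6454be10998d8942cb020640634a2bc815410a782e1ce95a649ab0993158f73aa264c524c84a0890d38f28a61c484a44869081211942322244542488a808120000000000000000000000000000000000000000000000000000000000000000000000000000000000000000000000000000000000000000000000000000000000000000000000000000000000000000000000000000000000000000000000000000)))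
 (Tr.n (Tr.l (nat_lit 0)) (Tr.l (nat_lit 0xa49e7b4539be84753cf92959d24ef369a16647551194bc968d1728f22482f4849b6899141563dca3c75c4747628d1b616c3109505a248c63a91146d0f16ea284da47c43a911091301cfac219c45c264ac828caf012a603524a3f60ae7c952ef50a0de20423b68af75053ae6729dc4536b786596d14ded57299a4b3eb358a2651534c661e181c3c2f90955d28eeb5743162c302b987654b8b6a4d9e02977da88a614ea8da9941bd2a532a44c9646a4e68949d10b035a04668))))
noncomputable def t6 : Tr := (Tr.n (Tr.n (Tr.n (Tr.l (nat_lit 0x341410040410324341231010322141043242421103221342133213232131040)) (Tr.l (nat_lit 0x3243324441432142134242313104214143310431433232131303421102442313))) (Tr.l (nat_lit 0x4141142314223413130310304014244013212231433204243021030211331331)))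
 (Tr.n (Tr.l (nat_lit 0x2320431343234231012314104331034133104103023142123431341423010231)) (Tr.l (nat_lit 0x402143143242111414211432411434314434331013242110434101431141314))))
noncomputable def t7 : Tr := (Tr.n (Tr.n (Tr.n (Tr.l (nat_lit 0)) (Tr.l (nat_lit 0x56c0))) (Tr.l (nat_lit 0)))
 (Tr.n (Tr.l (nat_lit 0xa1014402b805fc0)) (Tr.l (nat_lit 0))))
noncomputable def t8 : Tr := (Tr.n (Tr.n (Tr.n (Tr.l (nat_lit 0)) (Tr.l (nat_lit 0x5400))) (Tr.l (nat_lit 0x1e205640)))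
 (Tr.n (Tr.l (nat_lit 0x142027005700)) (Tr.l (nat_lit 0x4fc0))))
noncomputable def t9 : Tr := (Tr.n (Tr.n (Tr.n (Tr.l (nat_lit 0)) (Tr.l (nat_lit 0x2da05840))) (Tr.l (nat_lit 0x2c805680)))
 (Tr.n (Tr.l (nat_lit 0x4e00)) (Tr.l (nat_lit 0))))
noncomputable def t10 : Tr := (Tr.n (Tr.n (Tr.n (Tr.l (nat_lit 0x3d80)) (Tr.l (nat_lit 0x2bc05740))) (Tr.l (nat_lit 0x2b205580)))
 (Tr.n (Tr.l (nat_lit 0xa1014402b805fc0)) (Tr.l (nat_lit 0))))
noncomputable def t11 : Tr := (Tr.n (Tr.n (Tr.n (Tr.l (nat_lit 0x1e803d80)) (Tr.l (nat_lit 0))) (Tr.l (nat_lit 0x15702c805680)))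
 (Tr.n (Tr.l (nat_lit 0x144025e04980)) (Tr.l (nat_lit 0x5000))))
noncomputable def t12 : Tr := (Tr.n (Tr.n (Tr.n (Tr.l (nat_lit 0)) (Tr.l (nat_lit 0x49a28e49208a9c0d7e4904133923404ce28c831b0630046448b093c0e8f251218a814782351cf618b85168a2c04504bec11302c10c520b9090f0e1e1440087070d062a243c486815f0a0e141c1b4436a8a4e0c4e49085278a3f0c103))) (Tr.l (nat_lit 0x12e0646246017d070d0dde242417708f801d813a4274c8f381f2139037408e30dc60b98279c2f30dc413c037584ed01d403a43)))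
 (Tr.n (Tr.l (nat_lit 0)) (Tr.l (nat_lit 0x104020815960884510864325ba396c9288e5325d238081258a620496095c37685fe13f83bdc6fe023b24980be014b92f223f43b8896f069e1db02a542fd0aa404283aa875105f625242a6814c0df403f6481474609fd0c8a1834306826a13fe4))))
noncomputable def tab0 : Tr := t0
noncomputable def tab1 : Tr := t1
noncomputable def tab2 : Tr := t2
noncomputable def tab3 : Tr := t3
noncomputable def tab4 : Tr := t4
noncomputable def tab5 : Tr := t5
noncomputable def tab6 : Tr := t6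
noncomputable def tab7 : Tr := t7
noncomputable def tab8 : Tr := t8
noncomputable def tab9 : Tr := t9
noncomputable def tab10 : Tr := t10
noncomputable def tab11 : Tr := t11
noncomputable def tab12 : Tr := t12
noncomputable def ty0 : TT := (TT.n (TT.n (TT.n (TT.n (TT.l (Ty.ssub [] []))
 (TT.l (Ty.srel [nat_lit 2, nat_lit 0, nat_lit 2, nat_lit 0, nat_lit 2])))
 (TT.l (Ty.rel5 (nat_lit 2) (nat_lit 0) (nat_lit 2) (nat_lit 0) (nat_lit 2))))
 (TT.n (TT.n (TT.l (Ty.dfn))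
 (TT.l (Ty.skip)))
 (TT.l (Ty.srel [nat_lit 0]))))
 (TT.n (TT.n (TT.n (TT.l (Ty.rel1 (nat_lit 0)))
 (TT.l (Ty.srel [nat_lit 4, nat_lit 0, nat_lit 4, nat_lit 0, nat_lit 4])))
 (TT.l (Ty.rel3 (nat_lit 3) (nat_lit 0) (nat_lit 3))))
 (TT.n (TT.l (Ty.rel3 (nat_lit 1) (nat_lit 0) (nat_lit 1)))
 (TT.l (Ty.rel5 (nat_lit 4) (nat_lit 0) (nat_lit 4) (nat_lit 0) (nat_lit 4))))))
noncomputable def ty1 : TT := (TT.n (TT.n (TT.n (TT.n (TT.n (TT.l (Ty.ssub [] []))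
 (TT.l (Ty.srel [nat_lit 3, nat_lit 1, nat_lit 2, nat_lit 3, nat_lit 2, nat_lit 1, nat_lit 3, nat_lit 0, nat_lit 4, nat_lit 2, nat_lit 3, nat_lit 1, nat_lit 3, nat_lit 0, nat_lit 1, nat_lit 2, nat_lit 0, nat_lit 3, nat_lit 1, nat_lit 3, nat_lit 2, nat_lit 4, nat_lit 0])))
 (TT.l (Ty.srel [nat_lit 4, nat_lit 3, nat_lit 1, nat_lit 4, nat_lit 3, nat_lit 1, nat_lit 4, nat_lit 3])))
 (TT.n (TT.n (TT.l (Ty.rel5 (nat_lit 2) (nat_lit 1) (nat_lit 2) (nat_lit 1) (nat_lit 2)))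
 (TT.l (Ty.skip)))
 (TT.l (Ty.srel [nat_lit 3, nat_lit 2, nat_lit 1, nat_lit 3, nat_lit 2, nat_lit 1, nat_lit 3, nat_lit 2, nat_lit 1, nat_lit 3, nat_lit 2, nat_lit 1, nat_lit 3, nat_lit 2]))))
 (TT.n (TT.n (TT.n (TT.l (Ty.dfn))
 (TT.l (Ty.srel [nat_lit 4, nat_lit 1, nat_lit 4, nat_lit 1, nat_lit 4, nat_lit 1, nat_lit 4])))
 (TT.l (Ty.srel [nat_lit 3, nat_lit 0, nat_lit 1, nat_lit 2, nat_lit 0, nat_lit 3, nat_lit 1, nat_lit 3, nat_lit 2, nat_lit 4, nat_lit 0, nat_lit 1, nat_lit 3, nat_lit 1, nat_lit 2, nat_lit 3, nat_lit 2, nat_lit 1, nat_lit 3, nat_lit 0, nat_lit 4, nat_lit 2, nat_lit 3])))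
 (TT.n (TT.n (TT.l (Ty.relL (nat_lit 3) [nat_lit 1, nat_lit 3, nat_lit 1, nat_lit 3, nat_lit 1, nat_lit 3]))
 (TT.l (Ty.srel [nat_lit 2, nat_lit 3, nat_lit 1, nat_lit 2, nat_lit 3, nat_lit 1, nat_lit 2, nat_lit 3, nat_lit 1, nat_lit 2, nat_lit 3, nat_lit 1, nat_lit 2, nat_lit 3])))
 (TT.l (Ty.rel3 (nat_lit 0) (nat_lit 1) (nat_lit 0))))))
 (TT.n (TT.n (TT.n (TT.n (TT.l (Ty.rel1 (nat_lit 1)))
 (TT.l (Ty.srel [nat_lit 3, nat_lit 1, nat_lit 3, nat_lit 1, nat_lit 3, nat_lit 1, nat_lit 3])))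
 (TT.l (Ty.srel [nat_lit 3, nat_lit 0, nat_lit 4, nat_lit 2, nat_lit 3, nat_lit 1, nat_lit 3, nat_lit 0, nat_lit 1, nat_lit 2, nat_lit 0, nat_lit 3, nat_lit 1, nat_lit 3, nat_lit 2, nat_lit 4, nat_lit 0, nat_lit 1, nat_lit 3, nat_lit 1, nat_lit 2, nat_lit 3, nat_lit 2])))
 (TT.n (TT.n (TT.l (Ty.srel [nat_lit 0, nat_lit 1, nat_lit 0]))
 (TT.l (Ty.relL (nat_lit 3) [nat_lit 4, nat_lit 1, nat_lit 3, nat_lit 4, nat_lit 1, nat_lit 3, nat_lit 4])))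
 (TT.l (Ty.srel [nat_lit 3, nat_lit 4, nat_lit 1, nat_lit 3, nat_lit 4, nat_lit 1, nat_lit 3, nat_lit 4]))))
 (TT.n (TT.n (TT.n (TT.l (Ty.srel [nat_lit 1]))
 (TT.l (Ty.srel [nat_lit 2, nat_lit 0, nat_lit 3, nat_lit 1, nat_lit 3, nat_lit 2, nat_lit 4, nat_lit 0, nat_lit 1, nat_lit 3, nat_lit 1, nat_lit 2, nat_lit 3, nat_lit 2, nat_lit 1, nat_lit 3, nat_lit 0, nat_lit 4, nat_lit 2, nat_lit 3, nat_lit 1, nat_lit 3, nat_lit 0])))
 (TT.l (Ty.srel [nat_lit 3, nat_lit 2, nat_lit 4, nat_lit 0, nat_lit 1, nat_lit 3, nat_lit 1, nat_lit 2, nat_lit 3, nat_lit 2, nat_lit 1, nat_lit 3, nat_lit 0, nat_lit 4, nat_lit 2, nat_lit 3, nat_lit 1, nat_lit 3, nat_lit 0, nat_lit 1, nat_lit 2, nat_lit 0, nat_lit 3])))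
 (TT.n (TT.l (Ty.relL (nat_lit 4) [nat_lit 1, nat_lit 4, nat_lit 1, nat_lit 4, nat_lit 1, nat_lit 4]))
 (TT.l (Ty.srel [nat_lit 2, nat_lit 1, nat_lit 2, nat_lit 1, nat_lit 2]))))))
noncomputable def ty2 : TT := (TT.n (TT.n (TT.n (TT.n (TT.l (Ty.ssub [] []))
 (TT.l (Ty.srel [nat_lit 0, nat_lit 2, nat_lit 0, nat_lit 2, nat_lit 0])))
 (TT.n (TT.l (Ty.dfn))
 (TT.l (Ty.srel [nat_lit 3, nat_lit 1, nat_lit 2, nat_lit 3, nat_lit 1, nat_lit 2, nat_lit 3, nat_lit 1, nat_lit 2, nat_lit 3, nat_lit 1, nat_lit 2, nat_lit 3, nat_lit 1]))))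
 (TT.n (TT.n (TT.l (Ty.rel1 (nat_lit 2)))
 (TT.l (Ty.srel [nat_lit 3, nat_lit 2, nat_lit 3, nat_lit 2, nat_lit 3])))
 (TT.n (TT.l (Ty.rel5 (nat_lit 1) (nat_lit 2) (nat_lit 1) (nat_lit 2) (nat_lit 1)))
 (TT.l (Ty.srel [nat_lit 4, nat_lit 0, nat_lit 3, nat_lit 1, nat_lit 2, nat_lit 3, nat_lit 2, nat_lit 1, nat_lit 3, nat_lit 1, nat_lit 0, nat_lit 4, nat_lit 2, nat_lit 3, nat_lit 1, nat_lit 3, nat_lit 0, nat_lit 2, nat_lit 1, nat_lit 0, nat_lit 3, nat_lit 1, nat_lit 3])))))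
 (TT.n (TT.n (TT.n (TT.l (Ty.rel3 (nat_lit 4) (nat_lit 2) (nat_lit 4)))
 (TT.l (Ty.srel [nat_lit 1, nat_lit 2, nat_lit 1, nat_lit 2, nat_lit 1])))
 (TT.n (TT.l (Ty.rel5 (nat_lit 0) (nat_lit 2) (nat_lit 0) (nat_lit 2) (nat_lit 0)))
 (TT.l (Ty.srel [nat_lit 1, nat_lit 3, nat_lit 2, nat_lit 1, nat_lit 3, nat_lit 2, nat_lit 1, nat_lit 3, nat_lit 2, nat_lit 1, nat_lit 3, nat_lit 2, nat_lit 1, nat_lit 3]))))
 (TT.n (TT.n (TT.l (Ty.srel [nat_lit 2]))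
 (TT.l (Ty.srel [nat_lit 3, nat_lit 2, nat_lit 1, nat_lit 3, nat_lit 1, nat_lit 0, nat_lit 4, nat_lit 2, nat_lit 3, nat_lit 1, nat_lit 3, nat_lit 0, nat_lit 2, nat_lit 1, nat_lit 0, nat_lit 3, nat_lit 1, nat_lit 3, nat_lit 2, nat_lit 4, nat_lit 0, nat_lit 3, nat_lit 1])))
 (TT.n (TT.l (Ty.rel5 (nat_lit 3) (nat_lit 2) (nat_lit 3) (nat_lit 2) (nat_lit 3)))
 (TT.l (Ty.skip))))))
noncomputable def ty3 : TT := (TT.n (TT.n (TT.n (TT.n (TT.n (TT.l (Ty.ssub [] []))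
 (TT.l (Ty.srel [nat_lit 4, nat_lit 1, nat_lit 3, nat_lit 4, nat_lit 1, nat_lit 3, nat_lit 4, nat_lit 1])))
 (TT.l (Ty.srel [nat_lit 1, nat_lit 3, nat_lit 2, nat_lit 4, nat_lit 0, nat_lit 1, nat_lit 3, nat_lit 1, nat_lit 2, nat_lit 3, nat_lit 2, nat_lit 1, nat_lit 3, nat_lit 0, nat_lit 4, nat_lit 2, nat_lit 3, nat_lit 1, nat_lit 3, nat_lit 0, nat_lit 1, nat_lit 2, nat_lit 0])))
 (TT.n (TT.l (Ty.rel5 (nat_lit 4) (nat_lit 3) (nat_lit 4) (nat_lit 3) (nat_lit 4)))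
 (TT.l (Ty.srel [nat_lit 1, nat_lit 3, nat_lit 1, nat_lit 3, nat_lit 1, nat_lit 3, nat_lit 1]))))
 (TT.n (TT.n (TT.l (Ty.dfn))
 (TT.l (Ty.relL (nat_lit 1) [nat_lit 4, nat_lit 3, nat_lit 1, nat_lit 4, nat_lit 3, nat_lit 1, nat_lit 4])))
 (TT.n (TT.l (Ty.srel [nat_lit 3]))
 (TT.l (Ty.skip)))))
 (TT.n (TT.n (TT.n (TT.n (TT.l (Ty.rel1 (nat_lit 3)))
 (TT.l (Ty.relL (nat_lit 1) [nat_lit 3, nat_lit 1, nat_lit 3, nat_lit 1, nat_lit 3, nat_lit 1])))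
 (TT.l (Ty.srel [nat_lit 1, nat_lit 2, nat_lit 3, nat_lit 2, nat_lit 1, nat_lit 3, nat_lit 1, nat_lit 0, nat_lit 4, nat_lit 2, nat_lit 3, nat_lit 1, nat_lit 3, nat_lit 0, nat_lit 2, nat_lit 1, nat_lit 0, nat_lit 3, nat_lit 1, nat_lit 3, nat_lit 2, nat_lit 4, nat_lit 0])))
 (TT.n (TT.l (Ty.rel3 (nat_lit 0) (nat_lit 3) (nat_lit 0)))
 (TT.l (Ty.srel [nat_lit 2, nat_lit 3, nat_lit 2, nat_lit 3, nat_lit 2]))))
 (TT.n (TT.n (TT.l (Ty.rel5 (nat_lit 2) (nat_lit 3) (nat_lit 2) (nat_lit 3) (nat_lit 2)))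
 (TT.l (Ty.srel [nat_lit 4, nat_lit 3, nat_lit 4, nat_lit 3, nat_lit 4])))
 (TT.n (TT.l (Ty.relL (nat_lit 2) [nat_lit 1, nat_lit 3, nat_lit 0, nat_lit 4, nat_lit 2, nat_lit 3, nat_lit 1, nat_lit 3, nat_lit 0, nat_lit 1, nat_lit 2, nat_lit 0, nat_lit 3, nat_lit 1, nat_lit 3, nat_lit 2, nat_lit 4, nat_lit 0, nat_lit 1, nat_lit 3, nat_lit 1, nat_lit 2]))
 (TT.l (Ty.relL (nat_lit 4) [nat_lit 1, nat_lit 3, nat_lit 4, nat_lit 1, nat_lit 3, nat_lit 4, nat_lit 1]))))))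
noncomputable def ty4 : TT := (TT.n (TT.n (TT.n (TT.n (TT.n (TT.l (Ty.rel1 (nat_lit 4)))
 (TT.l (Ty.skip)))
 (TT.l (Ty.srel [nat_lit 3, nat_lit 4, nat_lit 3, nat_lit 4, nat_lit 3])))
 (TT.n (TT.l (Ty.rel5 (nat_lit 3) (nat_lit 4) (nat_lit 3) (nat_lit 4) (nat_lit 3)))
 (TT.l (Ty.srel [nat_lit 0, nat_lit 3, nat_lit 1, nat_lit 2, nat_lit 3, nat_lit 2, nat_lit 1, nat_lit 3, nat_lit 1, nat_lit 0, nat_lit 4, nat_lit 2, nat_lit 3, nat_lit 1, nat_lit 3, nat_lit 0, nat_lit 2, nat_lit 1, nat_lit 0, nat_lit 3, nat_lit 1, nat_lit 3, nat_lit 2]))))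
 (TT.n (TT.n (TT.l (Ty.rel5 (nat_lit 0) (nat_lit 4) (nat_lit 0) (nat_lit 4) (nat_lit 0)))
 (TT.l (Ty.relL (nat_lit 1) [nat_lit 3, nat_lit 4, nat_lit 1, nat_lit 3, nat_lit 4, nat_lit 1, nat_lit 3])))
 (TT.n (TT.l (Ty.relL (nat_lit 3) [nat_lit 1, nat_lit 4, nat_lit 3, nat_lit 1, nat_lit 4, nat_lit 3, nat_lit 1]))
 (TT.l (Ty.srel [nat_lit 3, nat_lit 1, nat_lit 4, nat_lit 3, nat_lit 1, nat_lit 4, nat_lit 3, nat_lit 1])))))
 (TT.n (TT.n (TT.n (TT.l (Ty.dfn))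
 (TT.l (Ty.srel [nat_lit 2, nat_lit 4, nat_lit 2])))
 (TT.n (TT.l (Ty.rel3 (nat_lit 2) (nat_lit 4) (nat_lit 2)))
 (TT.l (Ty.srel [nat_lit 0, nat_lit 1, nat_lit 3, nat_lit 1, nat_lit 2, nat_lit 3, nat_lit 2, nat_lit 1, nat_lit 3, nat_lit 0, nat_lit 4, nat_lit 2, nat_lit 3, nat_lit 1, nat_lit 3, nat_lit 0, nat_lit 1, nat_lit 2, nat_lit 0, nat_lit 3, nat_lit 1, nat_lit 3, nat_lit 2]))))
 (TT.n (TT.n (TT.l (Ty.srel [nat_lit 4]))
 (TT.l (Ty.srel [nat_lit 2, nat_lit 3, nat_lit 1, nat_lit 3, nat_lit 0, nat_lit 1, nat_lit 2, nat_lit 0, nat_lit 3, nat_lit 1, nat_lit 3, nat_lit 2, nat_lit 4, nat_lit 0, nat_lit 1, nat_lit 3, nat_lit 1, nat_lit 2, nat_lit 3, nat_lit 2, nat_lit 1, nat_lit 3, nat_lit 0])))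
 (TT.n (TT.l (Ty.relL (nat_lit 1) [nat_lit 4, nat_lit 1, nat_lit 4, nat_lit 1, nat_lit 4, nat_lit 1]))
 (TT.l (Ty.srel [nat_lit 0, nat_lit 4, nat_lit 0, nat_lit 4, nat_lit 0]))))))
noncomputable def ty5 : TT := (TT.n (TT.n (TT.n (TT.n (TT.n (TT.l (Ty.skip))
 (TT.l (Ty.srel [nat_lit 4, nat_lit 0, nat_lit 1, nat_lit 3, nat_lit 1, nat_lit 2, nat_lit 3, nat_lit 2, nat_lit 1, nat_lit 3, nat_lit 0, nat_lit 4, nat_lit 2, nat_lit 3, nat_lit 1, nat_lit 3, nat_lit 0, nat_lit 1, nat_lit 2, nat_lit 0, nat_lit 3, nat_lit 1, nat_lit 3, nat_lit 2])))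
 (TT.n (TT.l (Ty.srel [nat_lit 0, nat_lit 4, nat_lit 0, nat_lit 4, nat_lit 0, nat_lit 4]))
 (TT.l (Ty.relL (nat_lit 3) [nat_lit 1, nat_lit 3, nat_lit 1, nat_lit 3, nat_lit 1, nat_lit 3, nat_lit 1]))))
 (TT.n (TT.n (TT.l (Ty.relL (nat_lit 3) [nat_lit 2, nat_lit 3, nat_lit 2, nat_lit 3, nat_lit 2]))
 (TT.l (Ty.srel [nat_lit 4, nat_lit 3, nat_lit 4, nat_lit 3, nat_lit 4, nat_lit 3])))
 (TT.n (TT.l (Ty.relL (nat_lit 3) [nat_lit 1, nat_lit 4, nat_lit 3, nat_lit 1, nat_lit 4, nat_lit 3, nat_lit 1, nat_lit 4]))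
 (TT.l (Ty.srel [nat_lit 0, nat_lit 1, nat_lit 2, nat_lit 0, nat_lit 3, nat_lit 1, nat_lit 3, nat_lit 2, nat_lit 4, nat_lit 0, nat_lit 1, nat_lit 3, nat_lit 1, nat_lit 2, nat_lit 3, nat_lit 2, nat_lit 1, nat_lit 3, nat_lit 0, nat_lit 4, nat_lit 2, nat_lit 3, nat_lit 1, nat_lit 3])))))
 (TT.n (TT.n (TT.n (TT.l (Ty.relL (nat_lit 2) [nat_lit 3, nat_lit 2, nat_lit 1, nat_lit 3, nat_lit 0, nat_lit 4, nat_lit 2, nat_lit 3, nat_lit 1, nat_lit 3, nat_lit 0, nat_lit 1, nat_lit 2, nat_lit 0, nat_lit 3, nat_lit 1, nat_lit 3, nat_lit 2, nat_lit 4, nat_lit 0, nat_lit 1, nat_lit 3, nat_lit 1]))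
 (TT.l (Ty.srel [nat_lit 1, nat_lit 2, nat_lit 1, nat_lit 2, nat_lit 1, nat_lit 2])))
 (TT.n (TT.l (Ty.srel [nat_lit 1, nat_lit 4, nat_lit 1, nat_lit 4, nat_lit 1, nat_lit 4, nat_lit 1, nat_lit 4]))
 (TT.l (Ty.srel [nat_lit 0, nat_lit 2, nat_lit 0, nat_lit 2, nat_lit 0, nat_lit 2]))))
 (TT.n (TT.n (TT.l (Ty.srel [nat_lit 3, nat_lit 1, nat_lit 2, nat_lit 3, nat_lit 2, nat_lit 1, nat_lit 3, nat_lit 1, nat_lit 0, nat_lit 4, nat_lit 2, nat_lit 3, nat_lit 1, nat_lit 3, nat_lit 0, nat_lit 2, nat_lit 1, nat_lit 0, nat_lit 3, nat_lit 1, nat_lit 3, nat_lit 2, nat_lit 4, nat_lit 0]))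
 (TT.l (Ty.srel [nat_lit 1, nat_lit 0, nat_lit 2, nat_lit 1, nat_lit 3, nat_lit 0, nat_lit 1, nat_lit 2, nat_lit 0, nat_lit 1, nat_lit 3, nat_lit 1, nat_lit 2, nat_lit 0, nat_lit 1, nat_lit 3, nat_lit 1, nat_lit 2, nat_lit 1, nat_lit 3, nat_lit 1, nat_lit 0, nat_lit 2, nat_lit 1, nat_lit 3])))
 (TT.n (TT.l (Ty.srel [nat_lit 3, nat_lit 1, nat_lit 0, nat_lit 4, nat_lit 2, nat_lit 3, nat_lit 1, nat_lit 3, nat_lit 0, nat_lit 2, nat_lit 1, nat_lit 0, nat_lit 3, nat_lit 1, nat_lit 3, nat_lit 2, nat_lit 4, nat_lit 0, nat_lit 3, nat_lit 1, nat_lit 2, nat_lit 3, nat_lit 2, nat_lit 1]))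
 (TT.l (Ty.srel [nat_lit 1, nat_lit 2, nat_lit 3, nat_lit 2, nat_lit 1, nat_lit 3, nat_lit 0, nat_lit 4, nat_lit 2, nat_lit 3, nat_lit 1, nat_lit 3, nat_lit 0, nat_lit 1, nat_lit 2, nat_lit 0, nat_lit 3, nat_lit 1, nat_lit 3, nat_lit 2, nat_lit 4, nat_lit 0, nat_lit 1, nat_lit 3]))))))
 (TT.n (TT.n (TT.n (TT.n (TT.l (Ty.relL (nat_lit 0) [nat_lit 2, nat_lit 3, nat_lit 2, nat_lit 0, nat_lit 1, nat_lit 2, nat_lit 3, nat_lit 2, nat_lit 0, nat_lit 1, nat_lit 2, nat_lit 3, nat_lit 2, nat_lit 0, nat_lit 1, nat_lit 2, nat_lit 3, nat_lit 2, nat_lit 1, nat_lit 0, nat_lit 2, nat_lit 3, nat_lit 2, nat_lit 1]))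
 (TT.l (Ty.srel [nat_lit 4, nat_lit 0, nat_lit 4, nat_lit 0, nat_lit 4, nat_lit 0])))
 (TT.n (TT.l (Ty.srel [nat_lit 0, nat_lit 4, nat_lit 2, nat_lit 3, nat_lit 1, nat_lit 3, nat_lit 0, nat_lit 2, nat_lit 1, nat_lit 0, nat_lit 3, nat_lit 1, nat_lit 3, nat_lit 2, nat_lit 4, nat_lit 0, nat_lit 3, nat_lit 1, nat_lit 2, nat_lit 3, nat_lit 2, nat_lit 1, nat_lit 3, nat_lit 1]))
 (TT.l (Ty.srel [nat_lit 3, nat_lit 2, nat_lit 3, nat_lit 2, nat_lit 3, nat_lit 2]))))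
 (TT.n (TT.n (TT.l (Ty.srel [nat_lit 1, nat_lit 0, nat_lit 3, nat_lit 1, nat_lit 3, nat_lit 2, nat_lit 4, nat_lit 0, nat_lit 3, nat_lit 1, nat_lit 2, nat_lit 3, nat_lit 2, nat_lit 1, nat_lit 3, nat_lit 1, nat_lit 0, nat_lit 4, nat_lit 2, nat_lit 3, nat_lit 1, nat_lit 3, nat_lit 0, nat_lit 2]))
 (TT.l (Ty.srel [nat_lit 4, nat_lit 1, nat_lit 3, nat_lit 4, nat_lit 1, nat_lit 3, nat_lit 4, nat_lit 1, nat_lit 3])))
 (TT.n (TT.l (Ty.srel [nat_lit 4, nat_lit 1, nat_lit 4, nat_lit 1, nat_lit 4, nat_lit 1, nat_lit 4, nat_lit 1]))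
 (TT.l (Ty.srel [nat_lit 1, nat_lit 2, nat_lit 0, nat_lit 1, nat_lit 3, nat_lit 1, nat_lit 2, nat_lit 1, nat_lit 3, nat_lit 1, nat_lit 0, nat_lit 2, nat_lit 1, nat_lit 3, nat_lit 1, nat_lit 0, nat_lit 2, nat_lit 1, nat_lit 3, nat_lit 0, nat_lit 1, nat_lit 2, nat_lit 0, nat_lit 1, nat_lit 3])))))
 (TT.n (TT.n (TT.n (TT.l (Ty.srel [nat_lit 1, nat_lit 4, nat_lit 3, nat_lit 1, nat_lit 4, nat_lit 3, nat_lit 1, nat_lit 4, nat_lit 3]))
 (TT.l (Ty.srel [nat_lit 0, nat_lit 3, nat_lit 1, nat_lit 2, nat_lit 3, nat_lit 2, nat_lit 1, nat_lit 3, nat_lit 1, nat_lit 0, nat_lit 4, nat_lit 2, nat_lit 3, nat_lit 1, nat_lit 3, nat_lit 0, nat_lit 2, nat_lit 1, nat_lit 0, nat_lit 3, nat_lit 1, nat_lit 3, nat_lit 2, nat_lit 4])))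
 (TT.n (TT.l (Ty.srel [nat_lit 3, nat_lit 4, nat_lit 1, nat_lit 3, nat_lit 4, nat_lit 1, nat_lit 3, nat_lit 4, nat_lit 1]))
 (TT.l (Ty.srel [nat_lit 0, nat_lit 1, nat_lit 3, nat_lit 1, nat_lit 2, nat_lit 3, nat_lit 2, nat_lit 1, nat_lit 3, nat_lit 0, nat_lit 4, nat_lit 2, nat_lit 3, nat_lit 1, nat_lit 3, nat_lit 0, nat_lit 1, nat_lit 2, nat_lit 0, nat_lit 3, nat_lit 1, nat_lit 3, nat_lit 2, nat_lit 4]))))
 (TT.n (TT.n (TT.l (Ty.srel [nat_lit 3, nat_lit 2, nat_lit 1, nat_lit 3, nat_lit 1, nat_lit 0, nat_lit 4, nat_lit 2, nat_lit 3, nat_lit 1, nat_lit 3, nat_lit 0, nat_lit 2, nat_lit 1, nat_lit 0, nat_lit 3, nat_lit 1, nat_lit 3, nat_lit 2, nat_lit 4, nat_lit 0, nat_lit 3, nat_lit 1, nat_lit 2]))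
 (TT.l (Ty.srel [nat_lit 1, nat_lit 3, nat_lit 4, nat_lit 1, nat_lit 3, nat_lit 4, nat_lit 1, nat_lit 3, nat_lit 4])))
 (TT.l (Ty.srel [nat_lit 3, nat_lit 2, nat_lit 1, nat_lit 0, nat_lit 2, nat_lit 3, nat_lit 2, nat_lit 0, nat_lit 1, nat_lit 2, nat_lit 3, nat_lit 2, nat_lit 0, nat_lit 1, nat_lit 2, nat_lit 3, nat_lit 2, nat_lit 0, nat_lit 1, nat_lit 2, nat_lit 3, nat_lit 2, nat_lit 1, nat_lit 0, nat_lit 2]))))))
noncomputable def C : Cert where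
  tabs := [tab0, tab1, tab2, tab3, tab4, tab5, tab6, tab7, tab8, tab9, tab10, tab11, tab12]
  tts := [ty0, ty1, ty2, ty3, ty4, ty5]
  k := nat_lit 6
  base := nat_lit 31
  mJ := nat_lit 448
  mR := nat_lit 63
  W := nat_lit 23
  mA := nat_lit 65535
  mI := nat_lit 511
  S := nat_lit 16
  mC := nat_lit 127
  nc := nat_lit 5
  lo := nat_lit 64
  live := nat_lit 226
  hi1 := nat_lit 383
  AW := nat_lit 15
  mAW := nat_lit 32767
def il : List ℕ := [0, 1, 2, 3, 4]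
def rels : List (List ℕ) := [[0, 1, 0, 1],
  [0, 2, 0, 2, 0, 2],
  [0, 3, 0, 3],
  [0, 4, 0, 4, 0, 4],
  [1, 2, 1, 2, 1, 2],
  [1, 3, 1, 3, 1, 3, 1, 3],
  [1, 4, 1, 4, 1, 4, 1, 4],
  [2, 3, 2, 3, 2, 3],
  [2, 4, 2, 4],
  [3, 4, 3, 4, 3, 4],
  [1, 2, 3, 1, 2, 3, 1, 2, 3, 1, 2, 3, 1, 2, 3],
  [0, 1, 2, 3, 2, 0, 1, 2, 3, 2, 0, 1, 2, 3, 2, 1, 0, 2, 3, 2, 1, 0, 2, 3, 2],
  [0, 1, 2, 0, 1, 3, 1, 2, 0, 1, 3, 1, 2, 1, 3, 1, 0, 2, 1, 3, 1, 0, 2, 1, 3],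
  [0, 1, 2, 0, 3, 1, 3, 2, 4, 0, 1, 3, 1, 2, 3, 2, 1, 3, 0, 4, 2, 3, 1, 3],
  [1, 3, 4, 1, 3, 4, 1, 3, 4]]
def subs : List (List ℕ) := [[0],
  [1],
  [2],
  [3]]
theorem valid : C.valid il rels subs = true := by decide +kernel
theorem p0 : C.OkL 64 226 := C.okL_of 64 1 34 226 (by decide) (by decide +kernel)
theorem p1 : C.OkR 226 384 := C.okR_of 226 1 30 384 (by decide) (by decide +kernel)
theorem covers {G : Type*} [Group G] (ev : ℕ → G) (H : Subgroup G)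
    (hinv : ∀ x < 5, ev (il.getD x 0) = (ev x)⁻¹) (hr : ∀ r ∈ rels, evw ev r = 1)
    (hs : ∀ s ∈ subs, evw ev s ∈ H) : Covers H (gensub ev 5) 162 :=
  C.sound il rels subs 5 162 valid (p0) (p1) (by decide) (by decide) ev H hinv hr hs
end CfH6.LT5
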