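import Cfsg.Agent.OD.Pre
import Cfsg.Agent.H6.TCTop
/-! coset enumeration certificate; generators a b c d e f t r ; index 1 -/
set_option autoImplicit false
set_option maxRecDepth 100000
set_option Elab.async false
set_option linter.all false
namespace CfH6.C2K
open CfH6
noncomputable def tab0 : Tr := (Tr.l (nat_lit 0x13ffe27ffc4fff902d713ffe27ffc616989fff255de27ffc4fff89fff13ffe38d604fff89fff13ffe27ffc20e50c35013ffe27ffc4fff89fff13ffe105184fff89fff13ffe27ffc4fff863ea0c6e827ffc4fff89fff0c6e21050c4fff863e413ffe409204fff8e24518488189945121062ce13ffe27ffc3166062cb0c3a418b24206002141))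
noncomputable def tab1 : Tr := (Tr.l (nat_lit 0x13ffe27ffc4fff89fff13ffe27ffc4fff89fff13ffe187404fff89fff13ffe27ffc4fff89fff13ffe27ffc4fff89fff13ffe27ffc4fff89fff13ffe27ffc4fff89fff13ffe27ffc4fff89fff13ffe27ffc4fff89fff13ffe27ffc512289fff13ffe27ffc4fff89fff13ffe27ffc30a089fff13ffe27ffc4fff89fff13ffe1830020e482142))
noncomputable def tab2 : Tr := (Tr.l (nat_lit 0x13ffe27ffc30e994a7413ffe4a9c84fff89fff13ffe27ffc4fff8a2d113ffe27ffc30e589fff1859a28b30816909fff13ffe27ffc4fff89fff456be8334c4fff89fff13ffe27ffc4fff89fff1c49027ffc61230a245084ea10d9421b609fff0c28427ffc21b384366084d2185044fff842d713ffe10b544fff89fff0c1801073c20e502143))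
noncomputable def tab3 : Tr := (Tr.l (nat_lit 0x13ffe1875c73aa252d713ffe27ffc30e909fff18edc27ffc4fff89fff13ffe117304fff89fff13ffe27ffc4fff861c90c29027ffc4fff89fff0c28c8b3504fff89fff0c28a27ffd062909fff084ec27ffc4fff847f50c286109c44fff8614213ffe27ffc4fff8a56a0c28227ffc2132041e313ffe1077c20ed860c0083a61074020e582144))
noncomputable def tab4 : Tr := (Tr.l (nat_lit 0x13ffe27ffc4fff9327413ffe27ffc4fff8cc6d0c3a027ffc4fff861cf14d9a1872c22300c45913ffe187284fff89fff13ffe27ffc4fff903e913ffe27ffc71240c24613ffe27ffc4fff86144163ae27ffc4fff8614313ffe27ffc30a10426f084d827ffc23b586141084d4109984fff842dd13ffe10b703060041d8083a81074420e602145))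
noncomputable def tab5 : Tr := (Tr.l (nat_lit 0xbffe17ffc2fff85fff0bffe207482fff881d0196da17ffc35f785fff1039617ffc2fff85fff1039417ffc2fff85fff0bffe17ffc812405fff456a43b3782fff881450bffe17ffc40a20c3e841f9017ffc40a185fff15aa6189c82fff862700bffe17ffc40a085fff0c4d61899c2fff862e10bffe2030030ee061d90c3aa17ffc2fff82146))
noncomputable def tab6 : Tr := (Tr.l (nat_lit 0x103ae17ffc2fff95374103a449f4c2fff85fff0bffe17ffc40e78acf020ea817ffc71ae081ca0bffe17ffc2fff85fff0bffe309202fff88146496a68a9482fff85fff0bffe17ffc527305fff0c4ee2050c2fff85fff0d0e4189cc2fff85fff0bffe17ffd042185fff0bffe189a02fff862e210180187802fff85fff0c3ac17ffc2fff82147))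
noncomputable def tab7 : Tr := (Tr.l (nat_lit 0xfffe1fffc3fff881d20fffe1fffc3fff87fff0fffe1fffc3fff87fff0fffe1fffc3fff87fff0fffe1fffc3fff87fff0fffe2051c40a307fff0fffe1fffc40a287fff0fffe205103fff87fff102861fffc3fff87fff0fffe109d03fff87fff0fffe205043fff87fff0fffe1fffc3fff880c0083c41078420ee841da083ae1fffc20e702148))
noncomputable def tab8 : Tr := (Tr.l (nat_lit 0x3deae749d0d62f193d72d3bc52b7c95ec83fff07ffe435441fff83fffb52b20fffec373567c607fff5275294e950a50223913d32267abca74a1dbbd2394e33ad4475918cb10c52207ea3e7407a89029f35d7a0390436dea40fffc1fffb4dc407ffeca72044630664b07ffec250d74e1055c05aa80abb0d4362270c04a9808b90104a000000))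
noncomputable def tab9 : Tr := (Tr.l (nat_lit 0x63276535416454265403377630753754765430432754321765432100))
noncomputable def tab10 : Tr := (Tr.l (nat_lit 0))
noncomputable def tab11 : Tr := (Tr.l (nat_lit 0))
noncomputable def tab12 : Tr := (Tr.l (nat_lit 0x3901d40))
noncomputable def tab13 : Tr := (Tr.l (nat_lit 0x7603a81c40))
noncomputable def tab14 : Tr := (Tr.l (nat_lit 0))
noncomputable def tab15 : Tr := (Tr.l (nat_lit 0x3901840))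
noncomputable def tab16 : Tr := (Tr.l (nat_lit 0x7203981580))
noncomputable def tab17 : Tr := (Tr.l (nat_lit 0))
noncomputable def tab18 : Tr := (Tr.l (nat_lit 0x2689322b02eb9a501243e93461f4897c28a3c51620f7a38a1f40a3054c0bf2ee0608f366820e21ef87300b22d71e807345))
noncomputable def ty0 : TT := (TT.n (TT.n (TT.n (TT.n (TT.l (Ty.srel [nat_lit 0]))
 (TT.l (Ty.srel [nat_lit 4, nat_lit 0, nat_lit 4])))
 (TT.l (Ty.rel3 (nat_lit 1) (nat_lit 0) (nat_lit 1))))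
 (TT.n (TT.l (Ty.rel1 (nat_lit 0)))
 (TT.l (Ty.rel3 (nat_lit 4) (nat_lit 0) (nat_lit 4)))))
 (TT.n (TT.n (TT.l (Ty.dfn))
 (TT.l (Ty.rel3 (nat_lit 3) (nat_lit 0) (nat_lit 3))))
 (TT.n (TT.l (Ty.skip))
 (TT.l (Ty.rel3 (nat_lit 7) (nat_lit 0) (nat_lit 7))))))
noncomputable def ty1 : TT := (TT.n (TT.n (TT.n (TT.l (Ty.srel [nat_lit 1]))
 (TT.l (Ty.rel3 (nat_lit 4) (nat_lit 1) (nat_lit 4))))
 (TT.l (Ty.dfn)))
 (TT.n (TT.l (Ty.rel1 (nat_lit 1)))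
 (TT.l (Ty.skip))))
noncomputable def ty2 : TT := (TT.n (TT.n (TT.n (TT.n (TT.l (Ty.srel [nat_lit 2]))
 (TT.l (Ty.srel [nat_lit 5, nat_lit 2, nat_lit 5])))
 (TT.l (Ty.rel3 (nat_lit 4) (nat_lit 2) (nat_lit 4))))
 (TT.n (TT.l (Ty.dfn))
 (TT.l (Ty.rel3 (nat_lit 7) (nat_lit 2) (nat_lit 7)))))
 (TT.n (TT.n (TT.n (TT.l (Ty.rel1 (nat_lit 2)))
 (TT.l (Ty.srel [nat_lit 7, nat_lit 2, nat_lit 7])))
 (TT.l (Ty.rel3 (nat_lit 5) (nat_lit 2) (nat_lit 5))))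
 (TT.n (TT.l (Ty.skip))
 (TT.l (Ty.rel5 (nat_lit 0) (nat_lit 2) (nat_lit 0) (nat_lit 2) (nat_lit 0))))))
noncomputable def ty3 : TT := (TT.n (TT.n (TT.n (TT.l (Ty.srel [nat_lit 3]))
 (TT.l (Ty.rel5 (nat_lit 4) (nat_lit 0) (nat_lit 5) (nat_lit 6) (nat_lit 2))))
 (TT.n (TT.l (Ty.dfn))
 (TT.l (Ty.srel [nat_lit 2, nat_lit 3, nat_lit 2, nat_lit 3, nat_lit 2]))))
 (TT.n (TT.n (TT.l (Ty.rel1 (nat_lit 3)))
 (TT.l (Ty.srel [nat_lit 1, nat_lit 3, nat_lit 4, nat_lit 1, nat_lit 3, nat_lit 1, nat_lit 3, nat_lit 4])))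
 (TT.l (Ty.skip))))
noncomputable def ty4 : TT := (TT.n (TT.n (TT.n (TT.n (TT.l (Ty.srel [nat_lit 4]))
 (TT.l (Ty.rel3 (nat_lit 0) (nat_lit 4) (nat_lit 0))))
 (TT.l (Ty.srel [nat_lit 5, nat_lit 4, nat_lit 5])))
 (TT.n (TT.l (Ty.dfn))
 (TT.l (Ty.rel3 (nat_lit 7) (nat_lit 4) (nat_lit 7)))))
 (TT.n (TT.n (TT.l (Ty.rel1 (nat_lit 4)))
 (TT.l (Ty.rel3 (nat_lit 5) (nat_lit 4) (nat_lit 5))))
 (TT.n (TT.l (Ty.skip))
 (TT.l (Ty.rel3 (nat_lit 6) (nat_lit 4) (nat_lit 6))))))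
noncomputable def ty5 : TT := (TT.n (TT.n (TT.n (TT.l (Ty.srel [nat_lit 5]))
 (TT.l (Ty.srel [nat_lit 2, nat_lit 5, nat_lit 2])))
 (TT.n (TT.l (Ty.rel1 (nat_lit 5)))
 (TT.l (Ty.srel [nat_lit 0, nat_lit 4, nat_lit 3, nat_lit 2, nat_lit 6]))))
 (TT.n (TT.n (TT.l (Ty.skip))
 (TT.l (Ty.rel5 (nat_lit 6) (nat_lit 2) (nat_lit 3) (nat_lit 4) (nat_lit 0))))
 (TT.n (TT.l (Ty.dfn))
 (TT.l (Ty.rel3 (nat_lit 7) (nat_lit 5) (nat_lit 7))))))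
noncomputable def ty6 : TT := (TT.n (TT.n (TT.n (TT.n (TT.l (Ty.srel [nat_lit 6]))
 (TT.l (Ty.rel5 (nat_lit 2) (nat_lit 3) (nat_lit 4) (nat_lit 0) (nat_lit 5))))
 (TT.l (Ty.rel3 (nat_lit 4) (nat_lit 6) (nat_lit 4))))
 (TT.n (TT.l (Ty.rel1 (nat_lit 6)))
 (TT.l (Ty.rel5 (nat_lit 5) (nat_lit 0) (nat_lit 4) (nat_lit 3) (nat_lit 2)))))
 (TT.n (TT.n (TT.n (TT.l (Ty.skip))
 (TT.l (Ty.srel [nat_lit 3, nat_lit 6, nat_lit 3])))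
 (TT.l (Ty.rel3 (nat_lit 7) (nat_lit 6) (nat_lit 7))))
 (TT.n (TT.l (Ty.dfn))
 (TT.l (Ty.srel [nat_lit 2, nat_lit 3, nat_lit 4, nat_lit 0, nat_lit 5])))))
noncomputable def ty7 : TT := (TT.n (TT.n (TT.l (Ty.srel [nat_lit 7]))
 (TT.l (Ty.skip)))
 (TT.n (TT.l (Ty.rel1 (nat_lit 7)))
 (TT.l (Ty.dfn))))
noncomputable def ty8 : TT := (TT.n (TT.n (TT.n (TT.n (TT.l (Ty.skip))
 (TT.l (Ty.relL (nat_lit 5) [nat_lit 3, nat_lit 5, nat_lit 3, nat_lit 5, nat_lit 3])))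
 (TT.n (TT.l (Ty.relL (nat_lit 4) [nat_lit 6, nat_lit 4, nat_lit 6]))
 (TT.l (Ty.srel [nat_lit 6, nat_lit 3, nat_lit 6, nat_lit 3]))))
 (TT.n (TT.n (TT.l (Ty.relL (nat_lit 4) [nat_lit 3, nat_lit 4, nat_lit 3, nat_lit 4, nat_lit 3]))
 (TT.l (Ty.srel [nat_lit 0, nat_lit 6, nat_lit 0, nat_lit 6])))
 (TT.n (TT.l (Ty.srel [nat_lit 5, nat_lit 6, nat_lit 5, nat_lit 6, nat_lit 5, nat_lit 6]))
 (TT.l (Ty.srel [nat_lit 7, nat_lit 6, nat_lit 7, nat_lit 6])))))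
 (TT.n (TT.n (TT.n (TT.l (Ty.srel [nat_lit 7, nat_lit 4, nat_lit 3, nat_lit 5, nat_lit 4, nat_lit 2, nat_lit 3, nat_lit 7, nat_lit 4, nat_lit 3, nat_lit 5, nat_lit 4, nat_lit 2, nat_lit 3, nat_lit 7, nat_lit 4, nat_lit 3, nat_lit 5, nat_lit 4, nat_lit 2, nat_lit 3, nat_lit 7, nat_lit 4, nat_lit 3, nat_lit 5, nat_lit 4, nat_lit 2, nat_lit 3, nat_lit 7, nat_lit 4, nat_lit 3, nat_lit 5, nat_lit 4, nat_lit 2, nat_lit 3]))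
 (TT.l (Ty.srel [nat_lit 3, nat_lit 6, nat_lit 3, nat_lit 6])))
 (TT.n (TT.l (Ty.relL (nat_lit 0) [nat_lit 3, nat_lit 0, nat_lit 3]))
 (TT.l (Ty.srel [nat_lit 7, nat_lit 5, nat_lit 3, nat_lit 7, nat_lit 6, nat_lit 5, nat_lit 0, nat_lit 3, nat_lit 5, nat_lit 6, nat_lit 7, nat_lit 3, nat_lit 5, nat_lit 0, nat_lit 7, nat_lit 3]))))
 (TT.n (TT.n (TT.l (Ty.srel [nat_lit 5, nat_lit 2, nat_lit 6, nat_lit 2, nat_lit 5, nat_lit 6, nat_lit 5, nat_lit 2, nat_lit 6]))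
 (TT.l (Ty.srel [nat_lit 4, nat_lit 3, nat_lit 4, nat_lit 3, nat_lit 4, nat_lit 3])))
 (TT.l (Ty.srel [nat_lit 2, nat_lit 6, nat_lit 5, nat_lit 0, nat_lit 4, nat_lit 3])))))
noncomputable def C : Cert where
  tabs := [tab0, tab1, tab2, tab3, tab4, tab5, tab6, tab7, tab8, tab9, tab10, tab11, tab12, tab13, tab14, tab15, tab16, tab17, tab18]
  tts := [ty0, ty1, ty2, ty3, ty4, ty5, ty6, ty7, ty8]
  k := nat_lit 6
  base := nat_lit 15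
  mJ := nat_lit 64
  mR := nat_lit 63
  W := nat_lit 19
  mA := nat_lit 8191
  mI := nat_lit 127
  S := nat_lit 13
  mC := nat_lit 63
  nc := nat_lit 8
  lo := nat_lit 64
  live := nat_lit 65
  hi1 := nat_lit 119
  AW := nat_lit 13
  mAW := nat_lit 8191
def il : List ℕ := [0, 1, 2, 3, 4, 5, 6, 7]
def rels : List (List ℕ) := [[0, 1, 0, 1],
  [0, 2, 0, 2, 0, 2],
  [0, 3, 0, 3],
  [0, 4, 0, 4],
  [0, 5, 0, 5, 0, 5],
  [0, 6, 0, 6],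
  [0, 7, 0, 7],
  [1, 2, 1, 2, 1, 2],
  [1, 3, 1, 3, 1, 3, 1, 3],
  [1, 4, 1, 4],
  [1, 5, 1, 5, 1, 5, 1, 5],
  [1, 6, 1, 6],
  [1, 7, 1, 7],
  [2, 3, 2, 3, 2, 3],
  [2, 4, 2, 4],
  [2, 5, 2, 5],
  [2, 6, 2, 6, 2, 6, 2, 6],
  [2, 7, 2, 7],
  [3, 4, 3, 4, 3, 4],
  [3, 5, 3, 5, 3, 5],
  [3, 6, 3, 6],
  [3, 7, 3, 7, 3, 7, 3, 7],
  [4, 5, 4, 5],
  [4, 6, 4, 6],
  [4, 7, 4, 7],
  [5, 6, 5, 6, 5, 6],
  [5, 7, 5, 7],
  [6, 7, 6, 7],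
  [1, 2, 3, 1, 2, 3, 1, 2, 3, 1, 2, 3, 1, 2, 3],
  [0, 1, 2, 3, 2, 0, 1, 2, 3, 2, 0, 1, 2, 3, 2, 1, 0, 2, 3, 2, 1, 0, 2, 3, 2],
  [0, 1, 2, 0, 1, 3, 1, 2, 0, 1, 3, 1, 2, 1, 3, 1, 0, 2, 1, 3, 1, 0, 2, 1, 3],
  [1, 3, 1, 3, 4, 3, 1, 3, 4],
  [0, 1, 2, 0, 3, 1, 3, 2, 5, 0, 1, 3, 1, 2, 3, 2, 1, 3, 0, 5, 2, 3, 1, 3],
  [1, 3, 5, 1, 3, 5, 1, 3, 5],
  [0, 2, 3, 6, 2, 0, 6, 2, 3, 6, 2, 6, 0, 2, 6, 3, 2, 6],
  [1, 2, 1, 5, 1, 2, 5, 1, 5],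
  [1, 2, 1, 3, 1, 3, 2, 1, 6, 5, 3, 2, 6, 2, 3, 5, 6],
  [0, 1, 3, 6, 7, 3, 1, 3, 7, 3],
  [2, 5, 6, 2, 5, 6, 5, 2, 6],
  [0, 3, 5, 6, 7, 3, 5, 0, 7, 3, 7, 5, 3, 7, 6, 5],
  [7, 4, 3, 5, 4, 2, 3, 7, 4, 3, 5, 4, 2, 3, 7, 4, 3, 5, 4, 2, 3, 7, 4, 3, 5, 4, 2, 3, 7, 4, 3, 5, 4, 2, 3],
  [4, 3, 2, 6, 5, 0]]
def subs : List (List ℕ) := []
theorem valid : C.valid il rels subs = true := by decide +kernel
theorem p0 : C.OkL 64 65 := C.okL_of 64 0 1 65 (by decide) (by decide +kernel)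
theorem p1 : C.OkR 65 120 := C.okR_of 65 0 55 120 (by decide) (by decide +kernel)
theorem covers {G : Type*} [Group G] (ev : ℕ → G) (H : Subgroup G)
    (hinv : ∀ x < 8, ev (il.getD x 0) = (ev x)⁻¹) (hr : ∀ r ∈ rels, evw ev r = 1)
    (hs : ∀ s ∈ subs, evw ev s ∈ H) : Covers H (gensub ev 8) 1 :=
  C.sound il rels subs 8 1 valid (p0) (p1) (by decide) (by decide) ev H hinv hr hs
end CfH6.C2K
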