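import Cfsg.Agent.OD.Pre
import Cfsg.Agent.H6.C2B
import Cfsg.Agent.H6.TCPart
import Cfsg.Agent.H6.LT11
import Cfsg.Agent.H6.LT10
import Cfsg.Agent.H6.LT9
import Cfsg.Agent.H6.LT5
import Cfsg.Agent.H6.LT2
import Cfsg.Agent.H6.LT1
set_option autoImplicit false
set_option maxRecDepth 100000
set_option linter.all false
namespace CfH6.C2O
open CfH6
def s0 : List (List ℕ) := [[0], [1], [2], [3], [4], [5], [6], [7]]
def t0 : List (List ℕ) := [[0], [1], [2], [3], [5], [6], [7]]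
theorem cov0 : Covers (gensub (byW C2B.el t0) 7) (gensub (byW C2B.el s0) 8) 2300 :=
  cov_step C2B.el C2B.hinv C2B.hrel s0 t0 7 4 (fun ev H => LT11.covers ev H) (by decide +kernel)
theorem top0 : gensub (byW C2B.el s0) 8 = ⊤ := (gensub_id C2B.el (by decide)).trans C2B.htop
theorem covT0 : Covers (gensub (byW C2B.el t0) 7) ⊤ 2300 := cov0.top top0
def s1 : List (List ℕ) := [[0], [1], [2], [3], [5], [6], [7]]
def t1 : List (List ℕ) := [[0], [1], [2], [3], [5], [6]]
theorem cov1 : Covers (gensub (byW C2B.el t1) 6) (gensub (byW C2B.el s1) 7) 2 :=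
  cov_step C2B.el C2B.hinv C2B.hrel s1 t1 6 4 (fun ev H => LT10.covers ev H) (by decide +kernel)
def s2 : List (List ℕ) := [[0], [1], [2], [3], [5], [6]]
def t2 : List (List ℕ) := [[0], [1], [2], [3], [5]]
theorem cov2 : Covers (gensub (byW C2B.el t2) 5) (gensub (byW C2B.el s2) 6) 2816 :=
  cov_step C2B.el C2B.hinv C2B.hrel s2 t2 5 4 (fun ev H => LT9.covers ev H) (by decide +kernel)
def s3 : List (List ℕ) := [[0], [1], [2], [3], [5]]
def t3 : List (List ℕ) := [[0], [1], [2], [3]]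
theorem cov3 : Covers (gensub (byW C2B.el t3) 4) (gensub (byW C2B.el s3) 5) 162 :=
  cov_step C2B.el C2B.hinv C2B.hrel s3 t3 4 4 (fun ev H => LT5.covers ev H) (by decide +kernel)
def s4 : List (List ℕ) := [[0], [1], [2], [3]]
def t4 : List (List ℕ) := [[1], [2], [3]]
theorem cov4 : Covers (gensub (byW C2B.el t4) 3) (gensub (byW C2B.el s4) 4) 56 :=
  cov_step C2B.el C2B.hinv C2B.hrel s4 t4 3 4 (fun ev H => LT2.covers ev H) (by decide +kernel)
def s5 : List (List ℕ) := [[1], [2], [3]]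
def t5 : List (List ℕ) := []
theorem cov5 : Covers (gensub (byW C2B.el t5) 0) (gensub (byW C2B.el s5) 3) 360 :=
  cov_step C2B.el C2B.hinv C2B.hrel s5 t5 0 4 (fun ev H => LT1.covers ev H) (by decide +kernel)
theorem finT5 : Finite (gensub (byW C2B.el t5) 0) ∧ Nat.card (gensub (byW C2B.el t5) 0) ≤ 1 := (gensub_zero _)
theorem fin5 : Finite (gensub (byW C2B.el s5) 3) ∧ Nat.card (gensub (byW C2B.el s5) 3) ≤ 360 :=
  fin_cast (cov5.card_le finT5) (by decide)
theorem finT4 : Finite (gensub (byW C2B.el t4) 3) ∧ Nat.card (gensub (byW C2B.el t4) 3) ≤ 360 := (fin_le (gensub_le_of_subsIn C2B.el (by decide)) fin5)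
theorem fin4 : Finite (gensub (byW C2B.el s4) 4) ∧ Nat.card (gensub (byW C2B.el s4) 4) ≤ 20160 :=
  fin_cast (cov4.card_le finT4) (by decide)
theorem finT3 : Finite (gensub (byW C2B.el t3) 4) ∧ Nat.card (gensub (byW C2B.el t3) 4) ≤ 20160 := (fin_le (gensub_le_of_subsIn C2B.el (by decide)) fin4)
theorem fin3 : Finite (gensub (byW C2B.el s3) 5) ∧ Nat.card (gensub (byW C2B.el s3) 5) ≤ 3265920 :=
  fin_cast (cov3.card_le finT3) (by decide)
theorem finT2 : Finite (gensub (byW C2B.el t2) 5) ∧ Nat.card (gensub (byW C2B.el t2) 5) ≤ 3265920 := (fin_le (gensub_le_of_subsIn C2B.el (by decide)) fin3)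
theorem fin2 : Finite (gensub (byW C2B.el s2) 6) ∧ Nat.card (gensub (byW C2B.el s2) 6) ≤ 9196830720 :=
  fin_cast (cov2.card_le finT2) (by decide)
theorem finT1 : Finite (gensub (byW C2B.el t1) 6) ∧ Nat.card (gensub (byW C2B.el t1) 6) ≤ 9196830720 := (fin_le (gensub_le_of_subsIn C2B.el (by decide)) fin2)
theorem fin1 : Finite (gensub (byW C2B.el s1) 7) ∧ Nat.card (gensub (byW C2B.el s1) 7) ≤ 18393661440 :=
  fin_cast (cov1.card_le finT1) (by decide)
theorem finT0 : Finite (gensub (byW C2B.el t0) 7) ∧ Nat.card (gensub (byW C2B.el t0) 7) ≤ 18393661440 := (fin_le (gensub_le_of_subsIn C2B.el (by decide)) fin1)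
theorem fin0 : Finite (gensub (byW C2B.el s0) 8) ∧ Nat.card (gensub (byW C2B.el s0) 8) ≤ 42305421312000 :=
  fin_cast (cov0.card_le finT0) (by decide)
theorem finG : Finite C2B.G ∧ Nat.card C2B.G ≤ 42305421312000 := fin_top (top0 ▸ fin0)
end CfH6.C2O
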