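import Cfsg.Agent.OD.Pre
import Cfsg.Agent.H6.TCTop
/-! coset enumeration certificate; generators a b c d e f s h ; index 1 -/
set_option autoImplicit false
set_option maxRecDepth 100000
set_option Elab.async false
set_option linter.all false
namespace CfH6.C3K
open CfH6
noncomputable def tab0 : Tr := (Tr.l (nat_lit 0x27ffc4fff89fff13ffe27ffc836409fff13ffe27ffc4fff89fff13ffe27ffc4fff89fff13ffe27ffc4fff89fff13ffe27ffc20a189fff13ffe27ffc4fff89fff13ffe27ffc4fff8e2451848827ffc51210676513ffe27ffc3166062cb0c3aa18b24206002141))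
noncomputable def tab1 : Tr := (Tr.l (nat_lit 0x27ffc736a09fff187c231d5c4fff89fff13ffe185184fff9866113ffe27ffc4fff8614413ffe2891c4fff89fff08fcc1850c4fff89fff13ffe27ffc612289fff0909c29f3c4fff89fff13ffe27ffc30a09664713ffe107882168841dc083ac1830020e482142))
noncomputable def tab2 : Tr := (Tr.l (nat_lit 0x18520846b8e34e13ffe27ffc4fff89fff13ffe27ffc4fff89fff13ffe27ffc30a209fff13ffe27ffc4fff8c245092d227ffc4fff89fff1448e27ffcb6a40614213ffe10fa04fff89fff13ffe185044fff841ea085a627ffc216c041dd0c1801074020e502143))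
noncomputable def tab3 : Tr := (Tr.l (nat_lit 0x1fffc246c07fff0fffe2051c3fff87fff1028c5c318536987fff0fffe291143fff87fff0fffe1fffc3fff8c869102861fffc3fff87fff0fffe1fffc3fff87fff1619c1453c3fff87fff102821fffc3fff87fff083cc1078c226f080c0083ae1fffc20e582144))
noncomputable def tab4 : Tr := (Tr.l (nat_lit 0x27ffc812b89fff0c28e38b504fff8614613ffe33f3c51ad09fff3cc8c185104fff89fff13ffe10f84e5a306143085d227ffc4fff8436613ffe27ffc30a109fff0a0c46bd184fff8614130d8227ffc4fff96661083ce107903060041de083b01074420e602145))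
noncomputable def tab5 : Tr := (Tr.l (nat_lit 0x1fffc3fff881470fffe1fffc3fff87fff0fffe1fffc3fff87fff102881fffc3fff87fff0fffe1fffc40a187fff0fffe1fffc3fff87fff1449c205083fff87fff0fffe10b4c40a087fff0fffe1fffc3fff87fff083d0203003fff841df083b21074820e682146))
noncomputable def tab6 : Tr := (Tr.l (nat_lit 0x1fffc3fff8e2c90fffe1fffc40a307fff0fffe1fffc3fff881440fffe1fffc3fff87fff0fffe2050c3fff8c3e10fffe1fffc3fff87fff102841fffc3fff87fff14e94205043fff87fff0fffe1fffc21b41664310180107943fff841e0083b41074c20e702147))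
noncomputable def tab7 : Tr := (Tr.l (nat_lit 0x1fffc40a387fff0fffe1fffc3fff87fff0fffe1fffc40a207fff0fffe409683fff87fff1028610b783fff87fff1cfc01fffc3fff881420fffe1fffc61b307fff102821fffc3fff87fff0fffe1fffc5831080c0083d21fffc3fff841e1083b61075020e782148))
noncomputable def tab8 : Tr := (Tr.l (nat_lit 0x5334694e250ec624bc13ad0a6724905df1e0c43473a55a3c8ac88d5b229502232c426518158ef9721e7670a95775580e2b51b565b4b5165784c31381fffaec475a48cad1054a60a664b49d928cb2449a006dc241c807cf00e2e21aa4331c845cf042aa000000))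
noncomputable def tab9 : Tr := (Tr.l (nat_lit 0x2754364317654217654310765427654321765432100))
noncomputable def tab10 : Tr := (Tr.l (nat_lit 0))
noncomputable def tab11 : Tr := (Tr.l (nat_lit 0x3381680))
noncomputable def tab12 : Tr := (Tr.l (nat_lit 0x1a80))
noncomputable def tab13 : Tr := (Tr.l (nat_lit 0x18c0))
noncomputable def tab14 : Tr := (Tr.l (nat_lit 0x1900be05902601680))
noncomputable def tab15 : Tr := (Tr.l (nat_lit 0))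
noncomputable def tab16 : Tr := (Tr.l (nat_lit 0x1680))
noncomputable def tab17 : Tr := (Tr.l (nat_lit 0))
noncomputable def tab18 : Tr := (Tr.l (nat_lit 0x588b2cd5c1900441e20d1058b145874cf787862e90b4c3120890e10e9cb4e2c50c91e14b1408604f1a403246bc1d80e40d240))
noncomputable def ty0 : TT := (TT.n (TT.n (TT.n (TT.l (Ty.srel [nat_lit 0]))
 (TT.l (Ty.rel3 (nat_lit 1) (nat_lit 0) (nat_lit 1))))
 (TT.n (TT.l (Ty.rel1 (nat_lit 0)))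
 (TT.l (Ty.rel3 (nat_lit 4) (nat_lit 0) (nat_lit 4)))))
 (TT.n (TT.n (TT.l (Ty.dfn))
 (TT.l (Ty.rel3 (nat_lit 3) (nat_lit 0) (nat_lit 3))))
 (TT.n (TT.l (Ty.skip))
 (TT.l (Ty.relL (nat_lit 1) [nat_lit 6, nat_lit 5, nat_lit 6])))))
noncomputable def ty1 : TT := (TT.n (TT.n (TT.n (TT.l (Ty.srel [nat_lit 1]))
 (TT.l (Ty.rel3 (nat_lit 6) (nat_lit 2) (nat_lit 6))))
 (TT.n (TT.l (Ty.dfn))
 (TT.l (Ty.rel5 (nat_lit 7) (nat_lit 1) (nat_lit 7) (nat_lit 1) (nat_lit 7)))))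
 (TT.n (TT.n (TT.l (Ty.rel1 (nat_lit 1)))
 (TT.l (Ty.rel3 (nat_lit 4) (nat_lit 1) (nat_lit 4))))
 (TT.l (Ty.skip))))
noncomputable def ty2 : TT := (TT.n (TT.n (TT.n (TT.l (Ty.srel [nat_lit 2]))
 (TT.l (Ty.rel3 (nat_lit 6) (nat_lit 1) (nat_lit 6))))
 (TT.n (TT.l (Ty.dfn))
 (TT.l (Ty.rel3 (nat_lit 5) (nat_lit 2) (nat_lit 5)))))
 (TT.n (TT.n (TT.l (Ty.rel1 (nat_lit 2)))
 (TT.l (Ty.rel3 (nat_lit 4) (nat_lit 2) (nat_lit 4))))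
 (TT.n (TT.l (Ty.skip))
 (TT.l (Ty.srel [nat_lit 3, nat_lit 2, nat_lit 3, nat_lit 2, nat_lit 3])))))
noncomputable def ty3 : TT := (TT.n (TT.n (TT.n (TT.l (Ty.srel [nat_lit 3]))
 (TT.l (Ty.relL (nat_lit 2) [nat_lit 6, nat_lit 7, nat_lit 4])))
 (TT.l (Ty.skip)))
 (TT.n (TT.n (TT.l (Ty.rel1 (nat_lit 3)))
 (TT.l (Ty.srel [nat_lit 4, nat_lit 7, nat_lit 6, nat_lit 2])))
 (TT.l (Ty.dfn))))
noncomputable def ty4 : TT := (TT.n (TT.n (TT.n (TT.l (Ty.srel [nat_lit 4]))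
 (TT.l (Ty.rel3 (nat_lit 7) (nat_lit 4) (nat_lit 7))))
 (TT.n (TT.l (Ty.dfn))
 (TT.l (Ty.relL (nat_lit 7) [nat_lit 6, nat_lit 2, nat_lit 3]))))
 (TT.n (TT.n (TT.l (Ty.rel1 (nat_lit 4)))
 (TT.l (Ty.rel3 (nat_lit 1) (nat_lit 4) (nat_lit 1))))
 (TT.n (TT.l (Ty.skip))
 (TT.l (Ty.relL (nat_lit 3) [nat_lit 2, nat_lit 6, nat_lit 7])))))
noncomputable def ty5 : TT := (TT.n (TT.n (TT.n (TT.l (Ty.srel [nat_lit 5]))
 (TT.l (Ty.relL (nat_lit 6) [nat_lit 0, nat_lit 1, nat_lit 6])))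
 (TT.l (Ty.skip)))
 (TT.n (TT.l (Ty.rel1 (nat_lit 5)))
 (TT.l (Ty.dfn))))
noncomputable def ty6 : TT := (TT.n (TT.n (TT.n (TT.l (Ty.srel [nat_lit 6]))
 (TT.l (Ty.relL (nat_lit 2) [nat_lit 3, nat_lit 4, nat_lit 7])))
 (TT.n (TT.l (Ty.skip))
 (TT.l (Ty.relL (nat_lit 0) [nat_lit 1, nat_lit 6, nat_lit 5]))))
 (TT.n (TT.n (TT.l (Ty.rel1 (nat_lit 6)))
 (TT.l (Ty.rel3 (nat_lit 4) (nat_lit 6) (nat_lit 4))))
 (TT.l (Ty.dfn))))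
noncomputable def ty7 : TT := (TT.n (TT.n (TT.n (TT.l (Ty.srel [nat_lit 7]))
 (TT.l (Ty.srel [nat_lit 4, nat_lit 7, nat_lit 4])))
 (TT.n (TT.l (Ty.skip))
 (TT.l (Ty.srel [nat_lit 1, nat_lit 7, nat_lit 1, nat_lit 7, nat_lit 1]))))
 (TT.n (TT.n (TT.l (Ty.rel1 (nat_lit 7)))
 (TT.l (Ty.rel3 (nat_lit 4) (nat_lit 7) (nat_lit 4))))
 (TT.n (TT.l (Ty.dfn))
 (TT.l (Ty.relL (nat_lit 6) [nat_lit 2, nat_lit 3, nat_lit 4])))))
noncomputable def ty8 : TT := (TT.n (TT.n (TT.n (TT.n (TT.l (Ty.skip))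
 (TT.l (Ty.srel [nat_lit 6, nat_lit 4, nat_lit 6, nat_lit 4])))
 (TT.l (Ty.relL (nat_lit 4) [nat_lit 3, nat_lit 4, nat_lit 3, nat_lit 4, nat_lit 3])))
 (TT.n (TT.l (Ty.srel [nat_lit 7, nat_lit 2, nat_lit 7, nat_lit 2, nat_lit 7, nat_lit 2, nat_lit 7, nat_lit 2]))
 (TT.l (Ty.srel [nat_lit 4, nat_lit 7, nat_lit 6, nat_lit 2, nat_lit 3]))))
 (TT.n (TT.n (TT.n (TT.l (Ty.srel [nat_lit 0, nat_lit 5, nat_lit 0, nat_lit 5, nat_lit 0, nat_lit 5]))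
 (TT.l (Ty.srel [nat_lit 4, nat_lit 2, nat_lit 4, nat_lit 2])))
 (TT.l (Ty.srel [nat_lit 3, nat_lit 4, nat_lit 3, nat_lit 4, nat_lit 3, nat_lit 4])))
 (TT.n (TT.l (Ty.srel [nat_lit 0, nat_lit 2, nat_lit 0, nat_lit 2, nat_lit 0, nat_lit 2]))
 (TT.l (Ty.srel [nat_lit 5, nat_lit 4, nat_lit 5, nat_lit 4])))))
noncomputable def C : Cert where
  tabs := [tab0, tab1, tab2, tab3, tab4, tab5, tab6, tab7, tab8, tab9, tab10, tab11, tab12, tab13, tab14, tab15, tab16, tab17, tab18]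
  tts := [ty0, ty1, ty2, ty3, ty4, ty5, ty6, ty7, ty8]
  k := nat_lit 6
  base := nat_lit 10
  mJ := nat_lit 64
  mR := nat_lit 63
  W := nat_lit 19
  mA := nat_lit 8191
  mI := nat_lit 127
  S := nat_lit 13
  mC := nat_lit 63
  nc := nat_lit 8
  lo := nat_lit 64
  live := nat_lit 65
  hi1 := nat_lit 106
  AW := nat_lit 13
  mAW := nat_lit 8191
def il : List ℕ := [0, 1, 2, 3, 4, 5, 6, 7]
def rels : List (List ℕ) := [[0, 1, 0, 1],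
  [0, 2, 0, 2, 0, 2],
  [0, 3, 0, 3],
  [0, 4, 0, 4],
  [0, 5, 0, 5, 0, 5],
  [0, 6, 0, 6, 0, 6, 0, 6, 0, 6, 0, 6, 0, 6, 0, 6],
  [0, 7, 0, 7, 0, 7],
  [1, 2, 1, 2, 1, 2],
  [1, 3, 1, 3, 1, 3, 1, 3],
  [1, 4, 1, 4],
  [1, 5, 1, 5, 1, 5, 1, 5],
  [1, 6, 1, 6, 1, 6, 1, 6, 1, 6, 1, 6],
  [1, 7, 1, 7, 1, 7],
  [2, 3, 2, 3, 2, 3],
  [2, 4, 2, 4],
  [2, 5, 2, 5],
  [2, 6, 2, 6, 2, 6, 2, 6, 2, 6, 2, 6],
  [2, 7, 2, 7, 2, 7, 2, 7],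
  [3, 4, 3, 4, 3, 4],
  [3, 5, 3, 5, 3, 5],
  [3, 6, 3, 6, 3, 6, 3, 6],
  [3, 7, 3, 7, 3, 7],
  [4, 5, 4, 5],
  [4, 6, 4, 6],
  [4, 7, 4, 7],
  [5, 6, 5, 6, 5, 6, 5, 6, 5, 6, 5, 6],
  [5, 7, 5, 7, 5, 7],
  [6, 7, 6, 7, 6, 7, 6, 7],
  [1, 2, 3, 1, 2, 3, 1, 2, 3, 1, 2, 3, 1, 2, 3],
  [0, 1, 2, 3, 2, 0, 1, 2, 3, 2, 0, 1, 2, 3, 2, 1, 0, 2, 3, 2, 1, 0, 2, 3, 2],
  [0, 1, 2, 0, 1, 3, 1, 2, 0, 1, 3, 1, 2, 1, 3, 1, 0, 2, 1, 3, 1, 0, 2, 1, 3],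
  [1, 3, 1, 3, 4, 3, 1, 3, 4],
  [0, 1, 2, 0, 3, 1, 3, 2, 5, 0, 1, 3, 1, 2, 3, 2, 1, 3, 0, 5, 2, 3, 1, 3],
  [1, 3, 5, 1, 3, 5, 1, 3, 5],
  [0, 1, 2, 0, 1, 7, 2, 7],
  [1, 2, 3, 6, 3, 2, 1, 3, 6, 3],
  [0, 1, 6, 5, 6],
  [0, 6, 0, 6, 0, 7, 6, 0, 7, 0, 6, 7],
  [1, 2, 1, 3, 1, 2, 1, 7, 2, 3, 2, 1, 3, 1, 2, 3, 7],
  [1, 6, 2, 6],
  [6, 7, 5, 1, 7, 3, 4, 6, 7, 5, 1, 7, 3, 4, 6, 7, 5, 1, 7, 3, 4, 6, 7, 5, 1, 7, 3, 4, 6, 7, 5, 1, 7, 3, 4],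
  [4, 7, 6, 2, 3]]
def subs : List (List ℕ) := []
theorem valid : C.valid il rels subs = true := by decide +kernel
theorem p0 : C.OkL 64 65 := C.okL_of 64 0 1 65 (by decide) (by decide +kernel)
theorem p1 : C.OkR 65 107 := C.okR_of 65 0 42 107 (by decide) (by decide +kernel)
theorem covers {G : Type*} [Group G] (ev : ℕ → G) (H : Subgroup G)
    (hinv : ∀ x < 8, ev (il.getD x 0) = (ev x)⁻¹) (hr : ∀ r ∈ rels, evw ev r = 1)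
    (hs : ∀ s ∈ subs, evw ev s ∈ H) : Covers H (gensub ev 8) 1 :=
  C.sound il rels subs 8 1 valid (p0) (p1) (by decide) (by decide) ev H hinv hr hs
end CfH6.C3K
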