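import Cfsg.Agent.OD.Pre
import Cfsg.Agent.H6.TCTop
/-! coset enumeration certificate; generators a b c d e f ; index 275 -/
set_option autoImplicit false
set_option maxRecDepth 100000
set_option Elab.async false
set_option linter.all false
namespace CfH6.LT6
open CfH6
noncomputable def t0 : Tr := (Tr.n (Tr.n (Tr.n (Tr.l (nat_lit 0xe34c420667c40acd82167c08294e204e6820d4d041a9810370a206e1c20d4e04129d08352a2451c810a2e0714700c28b60c517818a2d0416920a1cac10622c409bb04188a0624a81c499840bb708176d0825061071fc30b2a88136b0628be1059b840bb1841671082cde1059b41882707104f0c209a1041ac20c308414670a1894204564189258712500824b01049642092b850a470828a210394c3072305084408189810412428421840a4808148a0c210810320810240)) (Tr.l (nat_lit 0xc2efe4ffffc9ffff93ffff0a22be4ffffc18aaf13ffff0a22ba1441a49ffff93ffff27fffe4ffffc9ffff93ffff27fffe0c519430a3204199e0a20c04ffffc9ffff84139827fffe143d6020dc113ffff0c28ba104e0c38ab093ffff0826f6105de4209bb93ffff27fffe184d502872913ffff27fffe4ffffc286a984155a27fffe0e8d3428ea487a14a0d4290146d14252a907a14b094698128d4020fa884a34f253a7c1464cc20ea70683440ef2860e64e034e9f85192f)))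 (Tr.l (nat_lit 0x8a224115c80342650272cb043578123b341a85d867ad60ef1da1ddbb838c5b8618b508ed7241bb5028a5983790006ed8c11e3d823d7b84731004e63219d36c89e6e8346b008e626250aa824784034ee40c9dc635e37823856841b170a254211eb8821f74833eab08edd4415b3c10d6c821ca308a22211f3e07a4688470f20a25280d2af42256a8474b108b1b40dc3383c67d0276cc08e9f8121bf420d83848d020a251811e3bc10d47031a8d082e08106c04289440252c0)))
 (Tr.n (Tr.n (Tr.l (nat_lit 0x8c56408faf822669041cfb08a5f211ca3c4ba798316850835ea185a1020d7a051282082de20d82fc339680448e80c3d0294f28073770a43c9e0881b8111398113540428a90a24f634fa984a652a33d99083db08891f420a6f8815ab102b522056a02883a03187542acec0861e438c4c8618784089007d224c30c398414d3102b4c1851b03b7488c749006e17410731420e620414c7042cd41859a05aa448414c114a10e78f21820c5c0418b60a20c61052d0210578815a2)) (Tr.l (nat_lit 0x4ffffc28c9585171d0a2e1e4ffffc289cc93ffff0a25404ffffc2894f85129e27fffe144a4c9ffff93ffff27fffe144a009ffff93ffff062cfc185db09ffff93ffff0a24fa1441e820ad685116827fffe4ffffc9ffff93ffff27fffe4ffffc9ffff93ffff27fffe4ffffc9ffff93ffff27fffe4ffffc9ffff93ffff0430ec4ffffc18c3b93ffff0a22c40865949ffff831780)))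 (Tr.l (nat_lit 0x93e82127d1c3d09e04a33d0d32640c7c9c1c995049b420e426e0e4cb01be971e9d2b08368c126cec3c09883751f08368011fcd41298a0495361037621254e41488d831d0a084274086c1433c8c098f09063a060a242c147870254fe08ee6009e45440cd803511c0926520df45823a75847b250431c011fc6823d8f04552d06e1ce093bfc3276b8670ec10335e1244841bc86837506091644107ca024892038ce504319211dc3020e930514c3083e46262b2010c61047af0))))
noncomputable def t1 : Tr := (Tr.n (Tr.n (Tr.n (Tr.l (nat_lit 0x8295e1052b040ace0a1a7c082950104a9820b51860e5e08253c08497040bc78912740c1cb4204e3440bc38813890c1cb2104a602094a860e56082524105a3820948060e54082514204dc420943860e52082508104a043072888136c1026d41041e0306278414760c189c1041cc208378811630c18981041b0306258410681022b410419020830891050081cba10396c30523840e57081caa203d5030522870e4808189a18210c20624850c4408148c0c210810320810240)) (Tr.l (nat_lit 0xc22c25ffffcbffff97ffff0e2ecc5ffffcbffff86115d2ffffe5ffffcbffff97ffff2ffffe5ffffc3083310155c2ffffe5ffffc308ac861060082b3c18417cbffff97ffff0827245ffffc20bc817ffff0c1cb0104e10209bf860f572026b05ffffc209bc17ffff2ffffe18394c209b684155f0822c018354cbffff860c4a081eac32a5383d1a804a5510c368e12ad484d1a2899b4b093a98267d24250a505993e083a9e7a9ccc252a686193112f26e327cf430c9793993f)))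 (Tr.l (nat_lit 0x8962810748830a5d8218bc04e996123b34640650614b728f5d02462e44bb6b0614b426f9dc1852cc2396a04510018e58c11fbcc30a58096eda083a3c1852b410c57047cf70c295411f44c48b728330e40c254a11db789386d8216e00e2dbe29d38810b500c16a208e5c211c3b05225f02169a1a897a11e3d43094b0770f1229538105c4430949907097082e200dd3384c67d02169108edf6120be420d8486128c1f220411d3bc10b458e648d1ad186093b083a760821689)))
 (Tr.n (Tr.n (Tr.l (nat_lit 0xa2d64111b642236b841afc082dfa184a1420d7b0c708f082df0184a0c309410416f4082de41062fc309400416ed0c24fe106ba420b7506127e4274fa105b9c5905386127b0845521841e820a71882b990428f210637048a508418dd10df521841dc38a4e844cd340ace2106360fa24306106e08e5a0105354308369e4a750829a21841ac20c6606106908e5700851a8233620414c808318a18419c20c60094c880c20ca20569420a5d06106308296c1052d4308310414b1)) (Tr.l (nat_lit 0x1864cc8cbd797ffff09336215dc3cbffff97ffff2ffffe5ffffcc364f97ffff2ffffe5ffffc3094317ffff2ffffe5ffffc80bd089176f2ffffe184dacbffff86127d2ffffe5ffffc2945217ffff2ffffe5ffffcbffff8215942ffffe18459cbffff8215651828ea5ffffc3083917ffff2ffffe5ffffc3083817ffff0428e25ffffcbffff8611622ffffe5ffffcbffff97ffff)))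 (Tr.l (nat_lit 0x93680126d20250a1169b380c324e0e54c81c994049d3c08f686324cd81a78f86171d103764125ce820da203752e08368211dcc010d8903912c3d2e1e0dac281369484953908367609b49830b8184930706ea30086bf81478702850b08a26a086bac20c9a0c331c12323631ec6823a8a84772304322e55e4581398c8248ff18f5cc1074b430a690614cf10f35c12448463b868c7906090e4011b4a810c648c6b080f224811ec3013582876b0408324a124b1c12880854ef0))))
noncomputable def t2 : Tr := (Tr.n (Tr.n (Tr.n (Tr.l (nat_lit 0x820c20c52b418c550318a90820be1c49e81093c8312a106253e285e50509cb040e5b14271c285e2c50bc5040e590625360c4a641894b0a137a0625260c5a442072a03128c1426e610394c189440a136f062d041039441893f8712520624f62041783082e82125c0620e828459018838040c4c1422c2285d74488258310690620cc0c518018831040c4908149020413830826830e580624aa1c392818728030c4f0e188818311828622830e47080c840c210c10320810240)) (Tr.l (nat_lit 0xc2ac64bfffc97fff84116025fffe1041b097fff92ffff25fffe4bfffc208ad92ffff0820ce4bfffc97fff92ffff0820c84bfffc97fff8315a025fffe4bfffc97fff83179525fffe4bfffc97fff840e5a062efe0c5e042072b83137c25fffe4bfffc38a2b12ffff0626ea4bfffc97fff92ffff25fffe4bfffc97fff92ffff25fffe22a5441d5a9041b4713529c0ead3c20da1041b41083680106ce438f9c07973b063aa0154d1820c99067d440832600c753418ea6031d4b)))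 (Tr.l (nat_lit 0x4317c0862f033e63027d0c063a421052e03c566867ee808296c1052d420a5a0376d016ddda0dbb4c3396a8248e920f5741052c41b879871ab304315c191afc1a5780380f806e6261c6aac2095303171d062e360c746438b520216a306fa22085a8018d8a886ea208253c104a7010b4d031b140825301c5a5c1ba788412951ed9e435134818d880774f40825242063381c67c831d09063a161c5a3c10b47061690063a080dfbf418d8288688d082514085a2471e60824cc0)))
 (Tr.n (Tr.n (Tr.l (nat_lit 0x691d40c6bfc20943031afe08250a0df3bc209420316fa0825060c5bdc18b7b0316f50639d83512b018b770716800c2d020c6bac2093f0346b20639cc1c59f410b3e0c1aa80a2d4e0c539438a528318e10631c00dc3702083c0318de0820ee0c536cfa93b0314da0820de0c6364208370314d70631ac1041b418a6a1e58730820d60c533c10a350318c80631940c63241b5620410680ed9160c530c18c6104106516950e0c52f418a5d8314b906296e1c518c18c578318b0)) (Tr.l (nat_lit 0x4bfffc97fff92ffff25fffe4bfffc97fff92ffff25fffe1c5e6497fff92ffff25fffe4bfffc97fff92ffff25fffe4bfffc97fff84136c25fffe4bfffc97fff92ffff25fffe4bfffc18cd512ffff25fffe1041d438ab402147625fffe4bfffc97fff92ffff25fffe1041cc97fff92ffff0e28e40851c4f243892ffff25fffe4bfffc97fff92ffff25fffe4bfffc38ab112ffff)))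 (Tr.l (nat_lit 0xe465e1064a81d09d041928073290227cf418ea503214908324621e4d41bd9b063334082e380c6d1420b8d031b43064a7e207c6013f8b919125082e1a0c6cf813b94831b3c10da14087c1c1c99607412406366e0a041810d7d828f0e103a3e092c0020a720319330829c60c64c438d7103212e07025a206c5810c6e8218d810e1ce091c487bd6f8618d10e361e0e448018c95837efc0e35960dbc9c10d6608750806424c0e0c8810c62851ac71036061cfc0811f80834d1e))))
noncomputable def t3 : Tr := (Tr.n (Tr.n (Tr.n (Tr.l (nat_lit 0x43d4e0c418040ace89147c0828c41449e84893c8212a2061cba206e401872d88139310271e205dd0489388216990425380c39601872b8815681026f22449a82093482128d061ca6204dc81872902128604250a0859ec3893082127e061ca00c313c1083b89105c0420ea0c31341862602106e0420da2045783882a830c4a0420ce0841941862482105f041cbc0c291c1072d020e5906148c08395010728860c4804189c08312c30622850a440814860c110410321010240)) (Tr.l (nat_lit 0x37fffe6ffffc188b01bffff37fffe6ffffc188359bffff37fffe6ffffcdffff85147237fffe0c4198116d09bffff37fffe0c4564dffff9bffff042b3e6ffffcdffff8b126c061eb06ffffcdffff9bffff04270a6ffffc109c002137d37fffe0c3958dffff9bffff061ea86ffffc109b7021167061aa66ffffcdffff82115b041eae0c752cd53a48435500e3e9e18851823da6027d4d043ea4110d28154a8854b48063268088d3820e99877d44083e620c64bccbc9f829938)))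 (Tr.l (nat_lit 0x49e240a0450c4268826d0604f2000a3b3418a5b977cd708f9dc11cbb48265d82731006296659239c33b5c891cbc06296209fbdc13a7b0b40b504323e55db7c49e6c0314aa0495e4150ac013a810312a5042e38085c683386082171804f1d4085c5848d5183129e28d542415b3c4a560023ee904fdf00a244413d6502171326952a0c4a4c1437e856ec604b1b40c4a442467d02170d042e1811e35410b8502170804d60809c3404b44703128a24c918085c0c13970824cd9)))
 (Tr.n (Tr.n (Tr.l (nat_lit 0x22bd2e245af881d4b021ef0049dea3dbad813c78831283042df209c2e812176224c82042de60c4a0010b778244e61c3d02245ab820b4408379c427558085ba0690540222a90c38fe14ba9810a720526a40439ba0c41e01366d8914a008293e0853710273a03106f3ead2424526820a381e287d04c17e08f2f412669881b920429a420666010a670c729016290809ab14188340266c312291608531048a448218ad148f120c41901883182168f04297020568c110578214b2)) (Tr.l (nat_lit 0x6ffffcdffff861bb037fffe6ffffcdffff9bffff37fffe6ffffc30bd49bffff37fffe6ffffcdffff9bffff0625046ffffc595b89bffff0626d66ffffc1893e8a34ac37fffe6ffffcc96cc86169237fffe6ffffcdffff9bffff0620e8646250dffff8918760620e66ffffcdffff9bffff37fffe6ffffc124439bffff3c99246ffffc188b19bffff37fffe6ffffcdffff831161)))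 (Tr.l (nat_lit 0x4f682107cac5ce9e029f3d30da520c649818c9205974008826e0c648418c8f021b47043e8a0c5c6c110a18317190436840c5c544c59003170e04427c0c5c241379d831707062e0a086ce8c3d8b821b39062e0226242c10d9b028d2d062dd6086cd420c8e8314e30432640c538810c980314e004fa4a0c537810c97097efe0629a82533fc3c36b0770f40a321e0864b018a660314cb0516440c532410c950314c80432502dabf010c938668c706298415cb9410c918b76fb))))
noncomputable def t4 : Tr := (Tr.n (Tr.n (Tr.n (Tr.l (nat_lit 0x830c40452b808c5582105f022952045a941072f0112a302254008396c48bc7891394122720245e301072c89138a12270e044a68489c1091d78123aee0839500894881128e022516104998089448712640235000469fc40a288512600224f80441e43882e820c4e0220ec244594088388410580e20ae2465744092581106a0c20a614414808b30841050081c9e04397038726860e4c0228aa14392838724860c480a188e1c311830622850a440814860c210810120010441)) (Tr.l (nat_lit 0x21fffe08458087fff90ffff21fffe43fffc87fff871a6c0c34d643fffc87fff90ffff21fffe43fffc38ab890ffff21fffe43fffc87fff87156c21fffe43fffc87fff81179721fffe43fffc1072d10ffff21fffe43fffc87fff81137e21fffe43fffc28b2b10ffff21fffe43fffc87fff90ffff21fffe43fffc87fff90ffff21fffe0ea5440d5a904ad4e10428e06bd40251a4849f4b03429811ed140d2a685953e02469e18d5180bea5072d4408f26e0e7ce03cda0019d41)))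 (Tr.l (nat_lit 0x4297a0852ec08c910214ba04297004648408c900778f508f1e811c3cc0bd7c017af702e5ec11bb680bb880214b20242181082e43905a8520b304295a04647810a560f47a302e6261462a808f8d8318e40e314c145a9008d8c8212a1022e2e084a7c1094f0a16a2022e2a05c3c81094c821298022e28392adc6a5688450cf189538045c480a66a856eb602a5a80c5b3808d870212900a2d1e046c2c10946011709022e0e046c18109450b648d022e0a084a2008b80821287)))
 (Tr.n (Tr.n (Tr.l (nat_lit 0x23600084a1808b7f821285022dfc045bf0091770116fb0299ac05c34009176a34ce80245d8045bc038e42051c820e39020849f808b758116e90a2cfa046b981093d8a24a7024d50046b8c28a3d0118e20420f004637008a700210770229bc0453751293a014cd342acde0841b808a6c8114d84089067d2a4c0a8491e4a75122b4e213a54108348114cc0231960841a00b3620114c90420ce045314108328114c20229800452f808a5e011eb1123f44047ac008f57851863)) (Tr.l (nat_lit 0x43fffc87fff90ffff21fffe43fffc87fff85179921fffe43fffc87fff90ffff04252643fffc87fff90ffff0291d018720c28bd090ffff21fffe43fffc87fff90ffff21fffe43fffc08cd610ffff0a2ad043fffc87fff82107421fffe43fffc87fff8210731428ea43fffc87fff85147221fffe0841c0f243810ffff0420de43fffc87fff90ffff21fffe0841b487fff90ffff)))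 (Tr.l (nat_lit 0xae65e065d202509e01a33d0eda540db4a01bb9901a14202f6860e3cb01be92871d3408666605e4e42159883752302ea7e0dbc6010b8881913608ee5605bcec10b84016f3a06d214085c100bf9a851b0202ee60085bf410b7d0216f9063606085ba820d8e83311c0839ca0ca46828c7081712e0429be0c645810a6d8214d706e1ce08534808c968774f10a321e1463341ba86831eef0a319405ac9c10a6401192904298e14631810a61811926023a3e04749010a608518bf))))
noncomputable def t5 : Tr := (Tr.n (Tr.n (Tr.n (Tr.l (nat_lit 0x629601466742082f8314ab062954103978189528312a40a2732144e5c28bc90513950a2722103964289c605138b0a2710144e181894b8312940631060849a84093483128f0a26e820516018b42851370081ca20c4a0818940040e500624fa0c41e8288b482105c0a22d0145580188390316660a22c410312c288ae8710540c209810312418831831060101c9e1c3938287ac031253061cac10291418729060c4808108614354c1862504064206148e0c211010320810240)) (Tr.l (nat_lit 0x2dfffe085d9438bb38817642dfffe5bfffcb7fff96ffff2dfffe5bfffcb7fff8410672dfffe5bfffcb7fff8410642dfffe5bfffcb7fff8315a10c2ad65bfffc2072e840e5b2dfffe0c5e0cb7fff96ffff2dfffe10395c189c094125a081eac1c4d5c2072a840f54062d0e5bfffc309aa840c4d062abc0c457cb7fff96ffff08148c1e7548311a888ad4e293e8e0ebd40410a188a3451132940e6d2c20d9b841b3607429e1a0d181d2a612874406469a1c74c05cf99069539)))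 (Tr.l (nat_lit 0x69a3c087308a456183710c048df6211be81c5640b7cf510e1a821cbb41bf7c0972cf0e896a21e3b81bf880218f00eed740debc81ba7b0414af065e280d2af411f748d19a30706261052a44176d8716e414edba104a8c2095083171907062279da801bc718226dc0661ca4daae41246c8f28ae26515a104a5893d688372f70ce9620e3c201be6a84129206e9e80c5c3c2094803170e08251c104a3018b859188f9071e08104a2818b83106c9b0719fa0c7bf818b810f688b)))
 (Tr.n (Tr.n (Tr.l (nat_lit 0x8250c0c5c00424750218891031100de3bc1b66d0d44b810352639b2541a379a34ce80825021c5ac81bb6984127f062dd80cab601956b8d3cac0824f81049ec18b730c3ea70681502caa782083c8410780629c488928818a708515ac0a2b540cb2990a93a206a8406dd88212a685234c9f287e0820da0c53581b75b04106c06396e0c534010a488314cd0820d00c532cf36378314ca06d5800c531818d5e031abb122ab60c52fc38a328515a40c2cd610418818a59841061)) (Tr.l (nat_lit 0x5bfffc74cd896ffff2dfffe105c34b7fff8412a02dfffe104a7cb7fff96ffff2dfffe5bfffcb7fff8412840635d05bfffc209b616ffff2dfffe5bfffc38b3f16ffff0c2f365bfffc2083b96ffff0820ec5bfffc2083a1e4c742dfffe5051d42083996ffff2dfffe5bfffcb7fff8410710820e05bfffcb7fff84106f2dfffe1041b8b7fff96ffff0c2acc5bfffc208b096ffff)))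 (Tr.l (nat_lit 0x8325c224cb020c94039f3a172a6a5674f01cba0041923063a920c75201cb9d9f9d3410fe620e85041c099831f42082e300c6cfc1428b83953e3d2e1a562c9414889031b3d0f22140a441c1c6950417010636700a3c1412490828b090f0606092bfc40c8e877b1a10f62a0df47020a7003192f070e5a35e4581be8d822ceb0f01ce0e4ca4a406f8a7cf108299c10533028cd7076efc0829920e4c9c1c690078cd207264c1053141c891068cc7070a3e10530418c920414be))))
noncomputable def t6 : Tr := (Tr.n (Tr.n (Tr.n (Tr.l (nat_lit 0)) (Tr.l (nat_lit 0x8a6ca511092c0ffffc3424b8484981551d60a135c044737e88da11c1a41a6adbe66877acccef0c999d98333a5e57726caee0e995b9d323632586a6cba08617da1c2eb348766488b4c5115d8222b2f44565c68c0b5719161c322b405554808ea501594212d27604c4cc8ce95912921c2923424d447c9684f90d01d249f62533c788c0000000000000000000000000000000000000000000000000000000000000000000000000000000000000000000000000000000000000))) (Tr.l (nat_lit 0)))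
 (Tr.n (Tr.n (Tr.l (nat_lit 0)) (Tr.l (nat_lit 0x769519b4d9a1c970f6b323a6e54ac91d523474de34755c65c1dd9ba52183aac2e912c591a58aa14c94689c269568490a5c897b8b2344c6270eec0d13c8134c0f38ab1c45441139e97b94fae4b875a94b6b159b15a5ca0d509d18993aa919cd4a43aa8466c4e91282d5a5133538256a7048d4e2291e251b439096a8d10a9361cd1b911b3f065a52428ec48119acf9db81e3a86))) (Tr.l (nat_lit 0))))
noncomputable def t7 : Tr := (Tr.n (Tr.n (Tr.n (Tr.l (nat_lit 0x2354254134321542133104213231521533141332151305322310351051052340)) (Tr.l (nat_lit 0x1432023100252315231101553042152153553105310153021022225530212310))) (Tr.l (nat_lit 0x4414423122213104321541431523155404432244251203152354554105432404)))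
 (Tr.n (Tr.n (Tr.l (nat_lit 0x5424212321105315142155410155432421032421521521415432414213310515)) (Tr.l (nat_lit 0x100050505004015305231310050525431543215541545310453))) (Tr.l (nat_lit 0x5252133523312323534323433415344434232353434434115533534345403545))))
noncomputable def t8 : Tr := (Tr.n (Tr.l (nat_lit 0))
 (Tr.n (Tr.n (Tr.l (nat_lit 0xd581a8035a066c0c381a2034c06000)) (Tr.l (nat_lit 0))) (Tr.l (nat_lit 0x6c40))))
noncomputable def t9 : Tr := (Tr.n (Tr.n (Tr.n (Tr.l (nat_lit 0)) (Tr.l (nat_lit 0x6c80))) (Tr.l (nat_lit 0)))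
 (Tr.n (Tr.n (Tr.l (nat_lit 0xce0187034a063c0)) (Tr.l (nat_lit 0))) (Tr.l (nat_lit 0x6b80))))
noncomputable def t10 : Tr := (Tr.n (Tr.l (nat_lit 0))
 (Tr.n (Tr.n (Tr.l (nat_lit 0x32806380)) (Tr.l (nat_lit 0x6280))) (Tr.l (nat_lit 0))))
noncomputable def t11 : Tr := (Tr.n (Tr.l (nat_lit 0))
 (Tr.n (Tr.n (Tr.l (nat_lit 0x68c0ce0193030e06740)) (Tr.l (nat_lit 0x6600))) (Tr.l (nat_lit 0))))
noncomputable def t12 : Tr := (Tr.n (Tr.l (nat_lit 0))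
 (Tr.n (Tr.n (Tr.l (nat_lit 0x34606500c381a2034e063c0)) (Tr.l (nat_lit 0x6280))) (Tr.l (nat_lit 0))))
noncomputable def t13 : Tr := (Tr.n (Tr.n (Tr.l (nat_lit 0)) (Tr.l (nat_lit 0x6b00)))
 (Tr.n (Tr.n (Tr.l (nat_lit 0x346066c0ca01a4033a06200)) (Tr.l (nat_lit 0x6540))) (Tr.l (nat_lit 0x36206b80))))
noncomputable def t14 : Tr := (Tr.n (Tr.n (Tr.n (Tr.l (nat_lit 0)) (Tr.l (nat_lit 0xb1856012c0157c0af015d06ba056e5adc5a18f420d882d003590eb20e845cf036b97211d603bd837e16f82db21c2037f06ae0d585ab8b6096e00d503aa017f82be0d4c3a9835916b82d540))) (Tr.l (nat_lit 0)))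
 (Tr.n (Tr.n (Tr.l (nat_lit 0)) (Tr.l (nat_lit 0x6bc1d84199133305b02b5876c035415a00b4097a8ad0159c1c94b6507251e261c4c9898ae91d8c3b30b6502c22d843))) (Tr.l (nat_lit 0))))
noncomputable def tab0 : Tr := t0
noncomputable def tab1 : Tr := t1
noncomputable def tab2 : Tr := t2
noncomputable def tab3 : Tr := t3
noncomputable def tab4 : Tr := t4
noncomputable def tab5 : Tr := t5
noncomputable def tab6 : Tr := t6
noncomputable def tab7 : Tr := t7
noncomputable def tab8 : Tr := t8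
noncomputable def tab9 : Tr := t9
noncomputable def tab10 : Tr := t10
noncomputable def tab11 : Tr := t11
noncomputable def tab12 : Tr := t12
noncomputable def tab13 : Tr := t13
noncomputable def tab14 : Tr := t14
noncomputable def ty0 : TT := (TT.n (TT.n (TT.n (TT.n (TT.n (TT.l (Ty.ssub [] []))
 (TT.l (Ty.srel [nat_lit 4, nat_lit 0, nat_lit 4])))
 (TT.l (Ty.rel5 (nat_lit 5) (nat_lit 0) (nat_lit 5) (nat_lit 0) (nat_lit 5))))
 (TT.n (TT.l (Ty.dfn))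
 (TT.l (Ty.srel [nat_lit 5, nat_lit 0, nat_lit 5, nat_lit 0, nat_lit 5]))))
 (TT.n (TT.n (TT.n (TT.l (Ty.rel3 (nat_lit 3) (nat_lit 0) (nat_lit 3)))
 (TT.l (Ty.skip)))
 (TT.l (Ty.relL (nat_lit 1) [nat_lit 2, nat_lit 0, nat_lit 1, nat_lit 3, nat_lit 1, nat_lit 2, nat_lit 0, nat_lit 1, nat_lit 3, nat_lit 1, nat_lit 2, nat_lit 1, nat_lit 3, nat_lit 1, nat_lit 0, nat_lit 2, nat_lit 1, nat_lit 3, nat_lit 1, nat_lit 0, nat_lit 2, nat_lit 1, nat_lit 3])))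
 (TT.n (TT.l (Ty.rel5 (nat_lit 2) (nat_lit 0) (nat_lit 2) (nat_lit 0) (nat_lit 2)))
 (TT.l (Ty.srel [nat_lit 1, nat_lit 0, nat_lit 1])))))
 (TT.n (TT.n (TT.n (TT.n (TT.l (Ty.rel3 (nat_lit 4) (nat_lit 0) (nat_lit 4)))
 (TT.l (Ty.srel [nat_lit 3, nat_lit 0, nat_lit 3])))
 (TT.l (Ty.srel [nat_lit 2, nat_lit 1, nat_lit 3, nat_lit 1, nat_lit 0, nat_lit 2, nat_lit 1, nat_lit 3, nat_lit 0, nat_lit 1, nat_lit 2, nat_lit 0, nat_lit 1, nat_lit 3, nat_lit 1, nat_lit 2, nat_lit 0, nat_lit 1, nat_lit 3, nat_lit 1, nat_lit 2, nat_lit 1, nat_lit 3, nat_lit 1])))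
 (TT.n (TT.l (Ty.rel3 (nat_lit 1) (nat_lit 0) (nat_lit 1)))
 (TT.l (Ty.srel [nat_lit 2, nat_lit 1, nat_lit 0, nat_lit 3, nat_lit 1, nat_lit 3, nat_lit 2, nat_lit 5, nat_lit 0, nat_lit 3, nat_lit 1, nat_lit 2, nat_lit 3, nat_lit 2, nat_lit 1, nat_lit 3, nat_lit 1, nat_lit 0, nat_lit 5, nat_lit 2, nat_lit 3, nat_lit 1, nat_lit 3]))))
 (TT.n (TT.n (TT.l (Ty.rel1 (nat_lit 0)))
 (TT.l (Ty.srel [nat_lit 1, nat_lit 2, nat_lit 0, nat_lit 1, nat_lit 3, nat_lit 1, nat_lit 2, nat_lit 0, nat_lit 1, nat_lit 3, nat_lit 1, nat_lit 2, nat_lit 1, nat_lit 3, nat_lit 1, nat_lit 0, nat_lit 2, nat_lit 1, nat_lit 3, nat_lit 1, nat_lit 0, nat_lit 2, nat_lit 1, nat_lit 3])))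
 (TT.n (TT.l (Ty.srel [nat_lit 0]))
 (TT.l (Ty.srel [nat_lit 2, nat_lit 0, nat_lit 2, nat_lit 0, nat_lit 2]))))))
noncomputable def ty1 : TT := (TT.n (TT.n (TT.n (TT.n (TT.n (TT.l (Ty.ssub [] []))
 (TT.l (Ty.srel [nat_lit 0, nat_lit 1, nat_lit 0])))
 (TT.l (Ty.rel5 (nat_lit 2) (nat_lit 1) (nat_lit 2) (nat_lit 1) (nat_lit 2))))
 (TT.n (TT.n (TT.l (Ty.relL (nat_lit 3) [nat_lit 5, nat_lit 1, nat_lit 3, nat_lit 5, nat_lit 1, nat_lit 3, nat_lit 5]))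
 (TT.l (Ty.srel [nat_lit 3, nat_lit 4, nat_lit 3, nat_lit 1, nat_lit 3, nat_lit 4, nat_lit 1, nat_lit 3])))
 (TT.l (Ty.srel [nat_lit 2, nat_lit 1, nat_lit 2, nat_lit 1, nat_lit 2]))))
 (TT.n (TT.n (TT.n (TT.l (Ty.relL (nat_lit 3) [nat_lit 4, nat_lit 3, nat_lit 1, nat_lit 3, nat_lit 4, nat_lit 1, nat_lit 3]))
 (TT.l (Ty.relL (nat_lit 5) [nat_lit 3, nat_lit 1, nat_lit 5, nat_lit 3, nat_lit 1, nat_lit 5, nat_lit 3])))
 (TT.l (Ty.relL (nat_lit 3) [nat_lit 1, nat_lit 3, nat_lit 4, nat_lit 3, nat_lit 1, nat_lit 3, nat_lit 4])))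
 (TT.n (TT.n (TT.l (Ty.rel3 (nat_lit 0) (nat_lit 1) (nat_lit 0)))
 (TT.l (Ty.skip)))
 (TT.l (Ty.relL (nat_lit 3) [nat_lit 1, nat_lit 2, nat_lit 3, nat_lit 2, nat_lit 1, nat_lit 3, nat_lit 0, nat_lit 5, nat_lit 2, nat_lit 3, nat_lit 1, nat_lit 3, nat_lit 0, nat_lit 1, nat_lit 2, nat_lit 0, nat_lit 3, nat_lit 1, nat_lit 3, nat_lit 2, nat_lit 5, nat_lit 0])))))
 (TT.n (TT.n (TT.n (TT.n (TT.l (Ty.rel3 (nat_lit 4) (nat_lit 1) (nat_lit 4)))
 (TT.l (Ty.srel [nat_lit 2, nat_lit 0, nat_lit 1, nat_lit 3, nat_lit 1, nat_lit 2, nat_lit 0, nat_lit 1, nat_lit 3, nat_lit 1, nat_lit 2, nat_lit 1, nat_lit 3, nat_lit 1, nat_lit 0, nat_lit 2, nat_lit 1, nat_lit 3, nat_lit 1, nat_lit 0, nat_lit 2, nat_lit 1, nat_lit 3, nat_lit 0])))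
 (TT.l (Ty.srel [nat_lit 4, nat_lit 1, nat_lit 4])))
 (TT.n (TT.n (TT.l (Ty.dfn))
 (TT.l (Ty.relL (nat_lit 3) [nat_lit 0, nat_lit 5, nat_lit 2, nat_lit 3, nat_lit 1, nat_lit 3, nat_lit 0, nat_lit 1, nat_lit 2, nat_lit 0, nat_lit 3, nat_lit 1, nat_lit 3, nat_lit 2, nat_lit 5, nat_lit 0, nat_lit 1, nat_lit 3, nat_lit 1, nat_lit 2, nat_lit 3, nat_lit 2])))
 (TT.l (Ty.srel [nat_lit 3, nat_lit 1, nat_lit 3, nat_lit 1, nat_lit 3, nat_lit 1, nat_lit 3]))))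
 (TT.n (TT.n (TT.n (TT.l (Ty.rel1 (nat_lit 1)))
 (TT.l (Ty.relL (nat_lit 3) [nat_lit 2, nat_lit 1, nat_lit 3, nat_lit 2, nat_lit 1, nat_lit 3, nat_lit 2, nat_lit 1, nat_lit 3, nat_lit 2, nat_lit 1, nat_lit 3, nat_lit 2])))
 (TT.l (Ty.relL (nat_lit 3) [nat_lit 1, nat_lit 3, nat_lit 1, nat_lit 3, nat_lit 1, nat_lit 3])))
 (TT.n (TT.n (TT.l (Ty.srel [nat_lit 1]))
 (TT.l (Ty.srel [nat_lit 2, nat_lit 3, nat_lit 2, nat_lit 0, nat_lit 1, nat_lit 2, nat_lit 3, nat_lit 2, nat_lit 0, nat_lit 1, nat_lit 2, nat_lit 3, nat_lit 2, nat_lit 1, nat_lit 0, nat_lit 2, nat_lit 3, nat_lit 2, nat_lit 1, nat_lit 0, nat_lit 2, nat_lit 3, nat_lit 2, nat_lit 0])))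
 (TT.l (Ty.relL (nat_lit 5) [nat_lit 1, nat_lit 5, nat_lit 1, nat_lit 5, nat_lit 1, nat_lit 5]))))))
noncomputable def ty2 : TT := (TT.n (TT.n (TT.n (TT.n (TT.n (TT.l (Ty.ssub [] []))
 (TT.l (Ty.relL (nat_lit 1) [nat_lit 3, nat_lit 2, nat_lit 1, nat_lit 3, nat_lit 2, nat_lit 1, nat_lit 3, nat_lit 2, nat_lit 1, nat_lit 3, nat_lit 2, nat_lit 1, nat_lit 3])))
 (TT.l (Ty.relL (nat_lit 3) [nat_lit 1, nat_lit 2, nat_lit 3, nat_lit 1, nat_lit 2, nat_lit 3, nat_lit 1, nat_lit 2, nat_lit 3, nat_lit 1, nat_lit 2, nat_lit 3, nat_lit 1])))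
 (TT.n (TT.l (Ty.rel5 (nat_lit 0) (nat_lit 2) (nat_lit 0) (nat_lit 2) (nat_lit 0)))
 (TT.l (Ty.srel [nat_lit 3, nat_lit 2, nat_lit 3, nat_lit 2, nat_lit 3]))))
 (TT.n (TT.n (TT.l (Ty.rel1 (nat_lit 2)))
 (TT.l (Ty.srel [nat_lit 1, nat_lit 3, nat_lit 2, nat_lit 1, nat_lit 3, nat_lit 2, nat_lit 1, nat_lit 3, nat_lit 2, nat_lit 1, nat_lit 3, nat_lit 2, nat_lit 1, nat_lit 3])))
 (TT.n (TT.l (Ty.rel3 (nat_lit 5) (nat_lit 2) (nat_lit 5)))
 (TT.l (Ty.srel [nat_lit 3, nat_lit 1, nat_lit 2, nat_lit 3, nat_lit 1, nat_lit 2, nat_lit 3, nat_lit 1, nat_lit 2, nat_lit 3, nat_lit 1, nat_lit 2, nat_lit 3, nat_lit 1])))))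
 (TT.n (TT.n (TT.n (TT.n (TT.l (Ty.rel3 (nat_lit 4) (nat_lit 2) (nat_lit 4)))
 (TT.l (Ty.skip)))
 (TT.l (Ty.srel [nat_lit 2])))
 (TT.n (TT.l (Ty.rel5 (nat_lit 1) (nat_lit 2) (nat_lit 1) (nat_lit 2) (nat_lit 1)))
 (TT.l (Ty.srel [nat_lit 0, nat_lit 2, nat_lit 0, nat_lit 2, nat_lit 0]))))
 (TT.n (TT.n (TT.l (Ty.dfn))
 (TT.l (Ty.srel [nat_lit 1, nat_lit 2, nat_lit 1, nat_lit 2, nat_lit 1])))
 (TT.n (TT.l (Ty.rel5 (nat_lit 3) (nat_lit 2) (nat_lit 3) (nat_lit 2) (nat_lit 3)))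
 (TT.l (Ty.srel [nat_lit 5, nat_lit 0, nat_lit 1, nat_lit 3, nat_lit 1, nat_lit 2, nat_lit 3, nat_lit 2, nat_lit 1, nat_lit 3, nat_lit 0, nat_lit 5, nat_lit 2, nat_lit 3, nat_lit 1, nat_lit 3, nat_lit 0, nat_lit 1, nat_lit 2, nat_lit 0, nat_lit 3, nat_lit 1, nat_lit 3]))))))
noncomputable def ty3 : TT := (TT.n (TT.n (TT.n (TT.n (TT.n (TT.l (Ty.ssub [] []))
 (TT.l (Ty.srel [nat_lit 5, nat_lit 3, nat_lit 5, nat_lit 3, nat_lit 5])))
 (TT.n (TT.l (Ty.rel5 (nat_lit 4) (nat_lit 3) (nat_lit 4) (nat_lit 3) (nat_lit 4)))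
 (TT.l (Ty.relL (nat_lit 5) [nat_lit 1, nat_lit 3, nat_lit 5, nat_lit 1, nat_lit 3, nat_lit 5, nat_lit 1]))))
 (TT.n (TT.n (TT.l (Ty.rel5 (nat_lit 5) (nat_lit 3) (nat_lit 5) (nat_lit 3) (nat_lit 5)))
 (TT.l (Ty.srel [nat_lit 0, nat_lit 5, nat_lit 2, nat_lit 3, nat_lit 1, nat_lit 3, nat_lit 0, nat_lit 1, nat_lit 2, nat_lit 0, nat_lit 3, nat_lit 1, nat_lit 3, nat_lit 2, nat_lit 5, nat_lit 0, nat_lit 1, nat_lit 3, nat_lit 1, nat_lit 2, nat_lit 3, nat_lit 2, nat_lit 1])))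
 (TT.l (Ty.relL (nat_lit 1) [nat_lit 3, nat_lit 4, nat_lit 1, nat_lit 3, nat_lit 1, nat_lit 3, nat_lit 4]))))
 (TT.n (TT.n (TT.n (TT.l (Ty.dfn))
 (TT.l (Ty.srel [nat_lit 0, nat_lit 3, nat_lit 0])))
 (TT.n (TT.l (Ty.relL (nat_lit 1) [nat_lit 5, nat_lit 3, nat_lit 1, nat_lit 5, nat_lit 3, nat_lit 1, nat_lit 5]))
 (TT.l (Ty.skip))))
 (TT.n (TT.n (TT.l (Ty.relL (nat_lit 1) [nat_lit 3, nat_lit 1, nat_lit 3, nat_lit 1, nat_lit 3, nat_lit 1]))
 (TT.l (Ty.relL (nat_lit 2) [nat_lit 1, nat_lit 3, nat_lit 2, nat_lit 1, nat_lit 3, nat_lit 2, nat_lit 1, nat_lit 3, nat_lit 2, nat_lit 1, nat_lit 3, nat_lit 2, nat_lit 1])))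
 (TT.l (Ty.srel [nat_lit 5, nat_lit 1, nat_lit 3, nat_lit 5, nat_lit 1, nat_lit 3, nat_lit 5, nat_lit 1])))))
 (TT.n (TT.n (TT.n (TT.n (TT.l (Ty.rel1 (nat_lit 3)))
 (TT.l (Ty.srel [nat_lit 2, nat_lit 1, nat_lit 3, nat_lit 1, nat_lit 0, nat_lit 5, nat_lit 2, nat_lit 3, nat_lit 1, nat_lit 3, nat_lit 0, nat_lit 2, nat_lit 1, nat_lit 0, nat_lit 3, nat_lit 1, nat_lit 3, nat_lit 2, nat_lit 5, nat_lit 0, nat_lit 3, nat_lit 1, nat_lit 2])))
 (TT.n (TT.l (Ty.srel [nat_lit 1, nat_lit 3, nat_lit 1, nat_lit 3, nat_lit 1, nat_lit 3, nat_lit 1]))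
 (TT.l (Ty.relL (nat_lit 0) [nat_lit 1, nat_lit 2, nat_lit 0, nat_lit 3, nat_lit 1, nat_lit 3, nat_lit 2, nat_lit 5, nat_lit 0, nat_lit 1, nat_lit 3, nat_lit 1, nat_lit 2, nat_lit 3, nat_lit 2, nat_lit 1, nat_lit 3, nat_lit 0, nat_lit 5, nat_lit 2, nat_lit 3, nat_lit 1]))))
 (TT.n (TT.n (TT.l (Ty.rel3 (nat_lit 0) (nat_lit 3) (nat_lit 0)))
 (TT.l (Ty.relL (nat_lit 1) [nat_lit 3, nat_lit 4, nat_lit 3, nat_lit 1, nat_lit 3, nat_lit 4, nat_lit 1])))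
 (TT.l (Ty.relL (nat_lit 1) [nat_lit 2, nat_lit 0, nat_lit 1, nat_lit 3, nat_lit 1, nat_lit 2, nat_lit 1, nat_lit 3, nat_lit 1, nat_lit 0, nat_lit 2, nat_lit 1, nat_lit 3, nat_lit 1, nat_lit 0, nat_lit 2, nat_lit 1, nat_lit 3, nat_lit 0, nat_lit 1, nat_lit 2, nat_lit 0, nat_lit 1]))))
 (TT.n (TT.n (TT.n (TT.l (Ty.rel5 (nat_lit 2) (nat_lit 3) (nat_lit 2) (nat_lit 3) (nat_lit 2)))
 (TT.l (Ty.relL (nat_lit 2) [nat_lit 1, nat_lit 3, nat_lit 0, nat_lit 5, nat_lit 2, nat_lit 3, nat_lit 1, nat_lit 3, nat_lit 0, nat_lit 1, nat_lit 2, nat_lit 0, nat_lit 3, nat_lit 1, nat_lit 3, nat_lit 2, nat_lit 5, nat_lit 0, nat_lit 1, nat_lit 3, nat_lit 1, nat_lit 2])))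
 (TT.l (Ty.srel [nat_lit 1, nat_lit 2, nat_lit 0, nat_lit 1, nat_lit 3, nat_lit 1, nat_lit 2, nat_lit 1, nat_lit 3, nat_lit 1, nat_lit 0, nat_lit 2, nat_lit 1, nat_lit 3, nat_lit 1, nat_lit 0, nat_lit 2, nat_lit 1, nat_lit 3, nat_lit 0, nat_lit 1, nat_lit 2, nat_lit 0, nat_lit 1])))
 (TT.n (TT.n (TT.l (Ty.srel [nat_lit 3]))
 (TT.l (Ty.relL (nat_lit 4) [nat_lit 3, nat_lit 1, nat_lit 3, nat_lit 4, nat_lit 1, nat_lit 3, nat_lit 1])))
 (TT.l (Ty.srel [nat_lit 2, nat_lit 3, nat_lit 2, nat_lit 3, nat_lit 2]))))))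
noncomputable def ty4 : TT := (TT.n (TT.n (TT.n (TT.n (TT.l (Ty.rel1 (nat_lit 4)))
 (TT.l (Ty.srel [nat_lit 4])))
 (TT.n (TT.l (Ty.rel3 (nat_lit 5) (nat_lit 4) (nat_lit 5)))
 (TT.l (Ty.srel [nat_lit 1, nat_lit 4, nat_lit 1]))))
 (TT.n (TT.n (TT.l (Ty.rel5 (nat_lit 3) (nat_lit 4) (nat_lit 3) (nat_lit 4) (nat_lit 3)))
 (TT.l (Ty.srel [nat_lit 3, nat_lit 1, nat_lit 3, nat_lit 4, nat_lit 1, nat_lit 3, nat_lit 1, nat_lit 3])))
 (TT.n (TT.l (Ty.rel3 (nat_lit 1) (nat_lit 4) (nat_lit 1)))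
 (TT.l (Ty.srel [nat_lit 3, nat_lit 4, nat_lit 3, nat_lit 4, nat_lit 3])))))
 (TT.n (TT.n (TT.n (TT.l (Ty.dfn))
 (TT.l (Ty.relL (nat_lit 3) [nat_lit 1, nat_lit 3, nat_lit 4, nat_lit 1, nat_lit 3, nat_lit 1, nat_lit 3])))
 (TT.n (TT.l (Ty.rel3 (nat_lit 0) (nat_lit 4) (nat_lit 0)))
 (TT.l (Ty.srel [nat_lit 5, nat_lit 4, nat_lit 5]))))
 (TT.n (TT.n (TT.l (Ty.rel3 (nat_lit 2) (nat_lit 4) (nat_lit 2)))
 (TT.l (Ty.srel [nat_lit 0, nat_lit 4, nat_lit 0])))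
 (TT.n (TT.l (Ty.relL (nat_lit 1) [nat_lit 3, nat_lit 1, nat_lit 3, nat_lit 4, nat_lit 3, nat_lit 1, nat_lit 3]))
 (TT.l (Ty.skip))))))
noncomputable def ty5 : TT := (TT.n (TT.n (TT.n (TT.n (TT.n (TT.l (Ty.ssub [] []))
 (TT.l (Ty.srel [nat_lit 0, nat_lit 1, nat_lit 3, nat_lit 1, nat_lit 2, nat_lit 3, nat_lit 2, nat_lit 1, nat_lit 3, nat_lit 0, nat_lit 5, nat_lit 2, nat_lit 3, nat_lit 1, nat_lit 3, nat_lit 0, nat_lit 1, nat_lit 2, nat_lit 0, nat_lit 3, nat_lit 1, nat_lit 3, nat_lit 2])))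
 (TT.l (Ty.srel [nat_lit 3, nat_lit 1, nat_lit 5, nat_lit 3, nat_lit 1, nat_lit 5, nat_lit 3, nat_lit 1])))
 (TT.n (TT.n (TT.l (Ty.srel [nat_lit 5]))
 (TT.l (Ty.relL (nat_lit 1) [nat_lit 3, nat_lit 5, nat_lit 1, nat_lit 3, nat_lit 5, nat_lit 1, nat_lit 3])))
 (TT.l (Ty.srel [nat_lit 3, nat_lit 5, nat_lit 3, nat_lit 5, nat_lit 3]))))
 (TT.n (TT.n (TT.n (TT.l (Ty.rel1 (nat_lit 5)))
 (TT.l (Ty.srel [nat_lit 2, nat_lit 5, nat_lit 2])))
 (TT.l (Ty.relL (nat_lit 1) [nat_lit 5, nat_lit 1, nat_lit 5, nat_lit 1, nat_lit 5, nat_lit 1])))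
 (TT.n (TT.l (Ty.rel5 (nat_lit 3) (nat_lit 5) (nat_lit 3) (nat_lit 5) (nat_lit 3)))
 (TT.l (Ty.srel [nat_lit 4, nat_lit 5, nat_lit 4])))))
 (TT.n (TT.n (TT.n (TT.n (TT.l (Ty.rel3 (nat_lit 4) (nat_lit 5) (nat_lit 4)))
 (TT.l (Ty.relL (nat_lit 0) [nat_lit 1, nat_lit 3, nat_lit 1, nat_lit 2, nat_lit 3, nat_lit 2, nat_lit 1, nat_lit 3, nat_lit 0, nat_lit 5, nat_lit 2, nat_lit 3, nat_lit 1, nat_lit 3, nat_lit 0, nat_lit 1, nat_lit 2, nat_lit 0, nat_lit 3, nat_lit 1, nat_lit 3, nat_lit 2])))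
 (TT.l (Ty.srel [nat_lit 1, nat_lit 5, nat_lit 1, nat_lit 5, nat_lit 1, nat_lit 5, nat_lit 1])))
 (TT.n (TT.n (TT.l (Ty.rel5 (nat_lit 0) (nat_lit 5) (nat_lit 0) (nat_lit 5) (nat_lit 0)))
 (TT.l (Ty.skip)))
 (TT.l (Ty.srel [nat_lit 0, nat_lit 5, nat_lit 0, nat_lit 5, nat_lit 0]))))
 (TT.n (TT.n (TT.n (TT.l (Ty.dfn))
 (TT.l (Ty.relL (nat_lit 3) [nat_lit 1, nat_lit 5, nat_lit 3, nat_lit 1, nat_lit 5, nat_lit 3, nat_lit 1])))
 (TT.l (Ty.srel [nat_lit 2, nat_lit 3, nat_lit 1, nat_lit 3, nat_lit 0, nat_lit 1, nat_lit 2, nat_lit 0, nat_lit 3, nat_lit 1, nat_lit 3, nat_lit 2, nat_lit 5, nat_lit 0, nat_lit 1, nat_lit 3, nat_lit 1, nat_lit 2, nat_lit 3, nat_lit 2, nat_lit 1, nat_lit 3, nat_lit 0])))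
 (TT.n (TT.l (Ty.rel3 (nat_lit 2) (nat_lit 5) (nat_lit 2)))
 (TT.l (Ty.srel [nat_lit 1, nat_lit 3, nat_lit 5, nat_lit 1, nat_lit 3, nat_lit 5, nat_lit 1, nat_lit 3]))))))
noncomputable def ty6 : TT := (TT.n (TT.n (TT.n (TT.n (TT.n (TT.l (Ty.skip))
 (TT.l (Ty.relL (nat_lit 4) [nat_lit 3, nat_lit 4, nat_lit 3, nat_lit 4, nat_lit 3])))
 (TT.n (TT.l (Ty.srel [nat_lit 3, nat_lit 5, nat_lit 3, nat_lit 5, nat_lit 3, nat_lit 5]))
 (TT.l (Ty.srel [nat_lit 0, nat_lit 2, nat_lit 0, nat_lit 2, nat_lit 0, nat_lit 2]))))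
 (TT.n (TT.n (TT.l (Ty.srel [nat_lit 3, nat_lit 2, nat_lit 3, nat_lit 2, nat_lit 3, nat_lit 2]))
 (TT.l (Ty.srel [nat_lit 2, nat_lit 3, nat_lit 2, nat_lit 1, nat_lit 3, nat_lit 0, nat_lit 5, nat_lit 2, nat_lit 3, nat_lit 1, nat_lit 3, nat_lit 0, nat_lit 1, nat_lit 2, nat_lit 0, nat_lit 3, nat_lit 1, nat_lit 3, nat_lit 2, nat_lit 5, nat_lit 0, nat_lit 1, nat_lit 3, nat_lit 1])))
 (TT.n (TT.l (Ty.srel [nat_lit 3, nat_lit 2, nat_lit 1, nat_lit 3, nat_lit 2, nat_lit 1, nat_lit 3, nat_lit 2, nat_lit 1, nat_lit 3, nat_lit 2, nat_lit 1, nat_lit 3, nat_lit 2, nat_lit 1]))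
 (TT.l (Ty.relL (nat_lit 0) [nat_lit 5, nat_lit 2, nat_lit 3, nat_lit 1, nat_lit 3, nat_lit 0, nat_lit 2, nat_lit 1, nat_lit 0, nat_lit 3, nat_lit 1, nat_lit 3, nat_lit 2, nat_lit 5, nat_lit 0, nat_lit 3, nat_lit 1, nat_lit 2, nat_lit 3, nat_lit 2, nat_lit 1, nat_lit 3, nat_lit 1])))))
 (TT.n (TT.n (TT.n (TT.l (Ty.relL (nat_lit 5) [nat_lit 2, nat_lit 5, nat_lit 2]))
 (TT.l (Ty.relL (nat_lit 0) [nat_lit 5, nat_lit 0, nat_lit 5, nat_lit 0, nat_lit 5])))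
 (TT.n (TT.l (Ty.srel [nat_lit 1, nat_lit 3, nat_lit 2, nat_lit 1, nat_lit 3, nat_lit 2, nat_lit 1, nat_lit 3, nat_lit 2, nat_lit 1, nat_lit 3, nat_lit 2, nat_lit 1, nat_lit 3, nat_lit 2]))
 (TT.l (Ty.relL (nat_lit 3) [nat_lit 5, nat_lit 3, nat_lit 5, nat_lit 3, nat_lit 5]))))
 (TT.n (TT.n (TT.l (Ty.srel [nat_lit 1, nat_lit 3, nat_lit 5, nat_lit 1, nat_lit 3, nat_lit 5, nat_lit 1, nat_lit 3, nat_lit 5]))
 (TT.l (Ty.srel [nat_lit 2, nat_lit 4, nat_lit 2, nat_lit 4])))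
 (TT.l (Ty.srel [nat_lit 4, nat_lit 3, nat_lit 1, nat_lit 3, nat_lit 1, nat_lit 4, nat_lit 3, nat_lit 1, nat_lit 3])))))
 (TT.n (TT.n (TT.n (TT.n (TT.l (Ty.relL (nat_lit 2) [nat_lit 3, nat_lit 2, nat_lit 0, nat_lit 1, nat_lit 2, nat_lit 3, nat_lit 2, nat_lit 0, nat_lit 1, nat_lit 2, nat_lit 3, nat_lit 2, nat_lit 1, nat_lit 0, nat_lit 2, nat_lit 3, nat_lit 2, nat_lit 1, nat_lit 0, nat_lit 2, nat_lit 3, nat_lit 2, nat_lit 0, nat_lit 1]))
 (TT.l (Ty.srel [nat_lit 5, nat_lit 0, nat_lit 5, nat_lit 0, nat_lit 5, nat_lit 0])))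
 (TT.n (TT.l (Ty.srel [nat_lit 1, nat_lit 3, nat_lit 1, nat_lit 3, nat_lit 4, nat_lit 3, nat_lit 1, nat_lit 3, nat_lit 4]))
 (TT.l (Ty.srel [nat_lit 4, nat_lit 0, nat_lit 4, nat_lit 0]))))
 (TT.n (TT.n (TT.l (Ty.srel [nat_lit 3, nat_lit 1, nat_lit 2, nat_lit 3, nat_lit 2, nat_lit 1, nat_lit 3, nat_lit 0, nat_lit 5, nat_lit 2, nat_lit 3, nat_lit 1, nat_lit 3, nat_lit 0, nat_lit 1, nat_lit 2, nat_lit 0, nat_lit 3, nat_lit 1, nat_lit 3, nat_lit 2, nat_lit 5, nat_lit 0, nat_lit 1]))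
 (TT.l (Ty.srel [nat_lit 2, nat_lit 0, nat_lit 2, nat_lit 0, nat_lit 2, nat_lit 0])))
 (TT.l (Ty.relL (nat_lit 3) [nat_lit 1, nat_lit 2, nat_lit 3, nat_lit 2, nat_lit 1, nat_lit 3, nat_lit 1, nat_lit 0, nat_lit 5, nat_lit 2, nat_lit 3, nat_lit 1, nat_lit 3, nat_lit 0, nat_lit 2, nat_lit 1, nat_lit 0, nat_lit 3, nat_lit 1, nat_lit 3, nat_lit 2, nat_lit 5, nat_lit 0]))))
 (TT.n (TT.n (TT.n (TT.l (Ty.relL (nat_lit 4) [nat_lit 0, nat_lit 4, nat_lit 0]))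
 (TT.l (Ty.srel [nat_lit 3, nat_lit 1, nat_lit 5, nat_lit 3, nat_lit 1, nat_lit 5, nat_lit 3, nat_lit 1, nat_lit 5])))
 (TT.n (TT.l (Ty.srel [nat_lit 0, nat_lit 1, nat_lit 2, nat_lit 0, nat_lit 1, nat_lit 3, nat_lit 1, nat_lit 2, nat_lit 0, nat_lit 1, nat_lit 3, nat_lit 1, nat_lit 2, nat_lit 1, nat_lit 3, nat_lit 1, nat_lit 0, nat_lit 2, nat_lit 1, nat_lit 3, nat_lit 1, nat_lit 0, nat_lit 2, nat_lit 1, nat_lit 3]))
 (TT.l (Ty.srel [nat_lit 1, nat_lit 3, nat_lit 2, nat_lit 5, nat_lit 0, nat_lit 1, nat_lit 3, nat_lit 1, nat_lit 2, nat_lit 3, nat_lit 2, nat_lit 1, nat_lit 3, nat_lit 0, nat_lit 5, nat_lit 2, nat_lit 3, nat_lit 1, nat_lit 3, nat_lit 0, nat_lit 1, nat_lit 2, nat_lit 0, nat_lit 3]))))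
 (TT.n (TT.n (TT.l (Ty.relL (nat_lit 2) [nat_lit 0, nat_lit 2, nat_lit 0, nat_lit 2, nat_lit 0]))
 (TT.l (Ty.srel [nat_lit 1, nat_lit 0, nat_lit 1, nat_lit 0])))
 (TT.l (Ty.relL (nat_lit 0) [nat_lit 3, nat_lit 0, nat_lit 3]))))))
noncomputable def C : Cert where
  tabs := [tab0, tab1, tab2, tab3, tab4, tab5, tab6, tab7, tab8, tab9, tab10, tab11, tab12, tab13, tab14]
  tts := [ty0, ty1, ty2, ty3, ty4, ty5, ty6]
  k := nat_lit 6
  base := nat_lit 29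
  mJ := nat_lit 448
  mR := nat_lit 63
  W := nat_lit 23
  mA := nat_lit 65535
  mI := nat_lit 511
  S := nat_lit 16
  mC := nat_lit 127
  nc := nat_lit 6
  lo := nat_lit 64
  live := nat_lit 339
  hi1 := nat_lit 434
  AW := nat_lit 15
  mAW := nat_lit 32767
def il : List ℕ := [0, 1, 2, 3, 4, 5]
def rels : List (List ℕ) := [[0, 1, 0, 1],
  [0, 2, 0, 2, 0, 2],
  [0, 3, 0, 3],
  [0, 4, 0, 4],
  [0, 5, 0, 5, 0, 5],
  [1, 2, 1, 2, 1, 2],
  [1, 3, 1, 3, 1, 3, 1, 3],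
  [1, 4, 1, 4],
  [1, 5, 1, 5, 1, 5, 1, 5],
  [2, 3, 2, 3, 2, 3],
  [2, 4, 2, 4],
  [2, 5, 2, 5],
  [3, 4, 3, 4, 3, 4],
  [3, 5, 3, 5, 3, 5],
  [4, 5, 4, 5],
  [1, 2, 3, 1, 2, 3, 1, 2, 3, 1, 2, 3, 1, 2, 3],
  [0, 1, 2, 3, 2, 0, 1, 2, 3, 2, 0, 1, 2, 3, 2, 1, 0, 2, 3, 2, 1, 0, 2, 3, 2],
  [0, 1, 2, 0, 1, 3, 1, 2, 0, 1, 3, 1, 2, 1, 3, 1, 0, 2, 1, 3, 1, 0, 2, 1, 3],
  [1, 3, 1, 3, 4, 3, 1, 3, 4],
  [0, 1, 2, 0, 3, 1, 3, 2, 5, 0, 1, 3, 1, 2, 3, 2, 1, 3, 0, 5, 2, 3, 1, 3],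
  [1, 3, 5, 1, 3, 5, 1, 3, 5]]
def subs : List (List ℕ) := [[0],
  [1],
  [2],
  [3],
  [5]]
theorem valid : C.valid il rels subs = true := by decide +kernel
theorem p0 : C.OkL 64 339 := C.okL_of 64 2 19 339 (by decide) (by decide +kernel)
theorem p1 : C.OkR 339 435 := C.okR_of 339 0 96 435 (by decide) (by decide +kernel)
theorem covers {G : Type*} [Group G] (ev : ℕ → G) (H : Subgroup G)
    (hinv : ∀ x < 6, ev (il.getD x 0) = (ev x)⁻¹) (hr : ∀ r ∈ rels, evw ev r = 1)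
    (hs : ∀ s ∈ subs, evw ev s ∈ H) : Covers H (gensub ev 6) 275 :=
  C.sound il rels subs 6 275 valid (p0) (p1) (by decide) (by decide) ev H hinv hr hs
end CfH6.LT6
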