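import Cfsg.Agent.OD.Pre
import Cfsg.Agent.H6.TCTop
/-! coset enumeration certificate; generators a b c d e f s h ; index 276 -/
set_option autoImplicit false
set_option maxRecDepth 100000
set_option Elab.async false
set_option linter.all false
namespace CfH6.LT8
open CfH6
noncomputable def t0 : Tr := (Tr.n (Tr.n (Tr.n (Tr.l (nat_lit 0x1224fe088334387cd020eca0e1f302c4984289300d1c681240ba0852444913a851e5e0a24e62491c860d388212b00820de2431b8206368a0c4f0e1b100832a8386be821e780e22c22c719850e328232860419401c35cc10a3d0214790e1ae00881d01113b880e5304211408422418424090e58043d041c35a8587260a0e4a0420b808792448828880a45041cd80c1910385b102105508349608415030e29020a590a14861029181062802084e04188e0c110410321010240)) (Tr.l (nat_lit 0x141ebe67fffc1853488137833fffe67fffccffff82157c33fffe67fffccffff99ffff0614c467fffc1094f030a5f33fffe308db8cffff99ffff33fffe0c2958cffff99ffff33fffe143d68cffff850d5833fffe0c21344073399ffff33fffe0c255ccffff99ffff33fffe084598cffff820f640416bc103d58505aa020d55097a7c12c498c5fa708b12d11769e0b05445288a97e52c0a721e335ce47648c8ac517061e1626bc6c466a00cc94305968816f4cc1878082cf45)))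 (Tr.n (Tr.l (nat_lit 0x252ba008d49c5ae82859f200ed79620d368a47cb876bd104227e0c326013c8eaf9f035d55f01dd748a4270828cb704edd60c32401089b82932f1ce9deb5723ca39648214d50576484122ac10c9502113004a6260a4428143788259160422562c4a3850946030c872adb3208dbe964e4d2b98a85559fe0c320c40974074bc704e5422182594cf830e2e9b044a46a2935040f3f1448cc0ed3a60c31f013a7482112104223e19ca5c59053132ab21849869e53e438cdc8a24c0)) (Tr.l (nat_lit 0x33fffe67fffccffff99ffff0ccd9625cbc87b47c0296ff06195067fffccffff8a6b032ad1f667fffccffff8261061891a80c32681864c99ffff14878667fffccffff99ffff))))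
 (Tr.n (Tr.n (Tr.l (nat_lit 0x16452809ac1058a5e8a14bc04461c149ae81078c2d4a8b1515e0093c4810b848512b4046e1a08b3102875885107010e93ab1c1ed5b34e0272a30495cc0c29a95344c870fcf0e9b4c088b149ad510b1ea424e1580972948b869830a6352d14e4045c413b578f459f0461a01c3f18387e2820ef604e98c098b484a04a8224bf1051261c9e582893b020eee0e1f6608537829d468214dd0e2b6014396c5072d070faf041db838c19050842a8329e041dac20715c387d0a74e80)) (Tr.l (nat_lit 0x33fffe67fffccffff99ffff33fffe67fffc58b6099ffff142f2a67fffccffff99ffff06191e28f6c8cffff85128b061910204eaccffff99ffff042b5c67fffccffff99ffff33fffe692a9ccffff99ffff33fffe67fffc1864099ffff048d3867fffc50ace99ffff33fffe0c31f4cffff830c7b0521f214924810cdb86399433fffe67fffccffff99ffff33fffe67fffc28ec699ffff33fffe67fffd3b33d830a6b33fffe67fffccffff99ffff33fffe67fffccffff99ffff))) (Tr.l (nat_lit 0x61dee0afd4c1499a8e9732111e1026e4a416ca50a5336061dda0954e02c89e853b02057e840a64f0b4a94030ee41121d8092488159a802e74c061dbe145b9415d9d0297310a65fc0acd482e7888ab8e70a459e211cb81876402a0fc061d8e56ac702bb7a82ad1e05628c16ac68165a4830cb9058e90215b80129a685ab0724a1c61132d8168928b15100476962082ec51a598b110c04228e323b8850a5a82913b055a28557f2012f7e8868be0edb9808f4d0108a0a7b4f2))))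
noncomputable def t1 : Tr := (Tr.n (Tr.n (Tr.n (Tr.l (nat_lit 0x41f3a1071f8107cd8c285f04873020395458c30051a780e44ee083e5418760020f930619781c31c851228830cb50a18de1c91b82883686084e06195a08361c109bc09206808189a0c429030425870c640422e20c327040626031a790654f80835b03962e84205206191818212018644830c850834ae0c32001883d0608470818920c897019338840a500c0c880c29b018733830e610614ca18190c18729830a5a0614a81439182042283084f061094082554103aa010240)) (Tr.l (nat_lit 0xc16bc7ffffcfffff9fffff3ffffe7ffffcfffff8410693ffffe7ffffcfffff841d74068b3e7ffffc20731832eca3ffffe7ffffcfffff860a5e3ffffe7ffffcfffff9fffff0c12b47ffffc304ac1fffff061b087ffffcfffff9fffff0c12ae0c35fcfffff9fffff3ffffe0c2d9cfffff830b650616be142d58303210604413d2a50172d2cee0a3049f2a089e341eac6c307891ce525079aa40f04e42ec8c060f0b1b822e0f0d44267a203d14537868066fd084c99a83c543))) (Tr.n (Tr.l (nat_lit 0x765ac62a4504308283a4df61458c08e718847cb860c992efb62252b98b3c70af9ea75d5552151bc81c98e9588af0c192025dbac1889c038f0806f1dcb573541b88984108f076e460d33d818a9683152e1c2192b203dc1bd7a860c8b2945f80d347c306452b589106c20c4cca6954e7d2998bf0c19064ac3fc10bd98376a30a39a60d94848ae60851ed0062248a292b020f66904ebd06c92e3cb5c018971832a9606951c09cf4c40e628430b30861869e53e41af68860c75))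 (Tr.l (nat_lit 0x3ffffe7ffffcfffff860cb13ce18c7ffffc306549fffff12817e7ffffcfffff860ca73ffffe7ffffcfffff97739907155824dbe8fffff9fffff0c192a7ffffcfffff8e538b))))
 (Tr.n (Tr.n (Tr.l (nat_lit 0x4879e0d9c101a866060a7306321caa89fc1878c8313161c1d3a0c3c54305380450b40665880c3c34107ea030f090715e0a5c1ec305358b89c7086d30a0f1d0107e8834094041f981c9a981af51080e6608e9a83572953a05089129e061e060c52801885b860a620e21360cd3681877c0338ab0ac59614a320107e1843ea8084d26083eec107db830eef0625d021231c107d9060a5b061dc00c3b743052c8213ab041f581472183052c021d85061dae107208107d1060a56)) (Tr.l (nat_lit 0x3ffffe7ffffcfffff9fffff0c19247ffffcfffff9fffff0c19227ffffcfffff9fffff1229aa1832341bf7b9fffff3ffffe7ffffcfffff860c870821107ffffc20ed49fffff3ffffe7ffffcfffff9fffff3ffffe183204fffff9fffff3a86e650ce783063f9fffff0c18fa7ffffc1bae40d407b0721f2a23a483063b1fffff0c18e87ffffcfffff9fffff3ffffe7ffffcfffff9fffff06ab807ffffd3b33d9fffff0c14d47ffffca8d42060b633ffffe7ffffcfffff9fffff)))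 (Tr.l (nat_lit 0x1322141ec4c423f80857d0208b25e1e34e83dfa5060eed1a9e6c0d44dc1caa08397320882661254d01d99f09492206b676104b90c89729ad111134e400e854029f94839753286a0e12943c1f3a6060ecf2969ce0d2cc04b16903a92b1295bc1e9470cc87883a71e075a9c0d453c3065c83db4907868e1042e03065b03aafe1cddd20c45341e996085310074e4c105aec3065913530c0622900e4cfc30658058cec066e4e5d7b6c1b17e8464be0c193e0dfcf01c09e841f00))))
noncomputable def t2 : Tr := (Tr.n (Tr.n (Tr.n (Tr.l (nat_lit 0x61da00c5aa020e3e82246506258c0c4b1439230060a540661801476101113a850f940a1b200c52c818e2e030cb60c109e0c32cc304270c0e6c06195c10415c1894d0523700a22ea2831301933e021a6412189a0c425c1884b0326790c10941435b45922e891a7106191a0ca14448b28030c860624d410695850d2a830c781220a61031204132d0318590614de0c29b418731830e660c0c860c297d38e22830e520e308e181908284ac8408440610960c211810320810240)) (Tr.l (nat_lit 0x3bfffe77fffceffff9dffff3bfffe77fffceffff832cc13bfffe77fffc48733890f743bfffe77fffceffff8e20683bfffe77fffc3052f1dffff3bfffe77fffceffff86095a061b1e77fffceffff9dffff061b0a77fffceffff9dffff3bfffe77fffceffff9dffff3bfffe0c2da0303229dffff3bfffe181d50606aa8309560c223a183c6c257a00913161362482d3c5c6898a8be53939928e138444307858cd5450796966e8c9c1eba404c7180c1e0e6ac48c7489d83b151)))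 (Tr.n (Tr.l (nat_lit 0x83dfe0ec4981b27c03ad1a53455a0e64704ca548a62fd070650397ba81889e04129906d53e18325452a71060c902b11d80e44c02295a038aef06a1c60d83d81889a8362d5047dce24423c188988950b70e9dd60d5bc4306458351020f459e28fb781889483630406f1b2357b4423b6d860c8351597a0ec3346b0740910820c19000d92981b06d060c7f0749be9e92a8a576b025ebf08514a38a328188910226a4268d181041ec5083d0924c406661c0de40c915bc0c2e77)) (Tr.l (nat_lit 0x3bfffe77fffceffff954cb10c195a77fffceffff8262bd3bfffe77fffc306539dffff3bfffe77fffceffff8235ba268d547d16e4effff9dffff288b8677fffceffff9dffff))))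
 (Tr.n (Tr.n (Tr.l (nat_lit 0x6c1980d22782b2e82a5a74121d761d5ae81a68a03530a06a5c81829c0187890354ed0c14dc0849c82a7ea034b09061e101829ac287e9a96e73126d3015271c1cb7c84147e0a1f9a398b48195658328c808394645827142050a7469120d1e63d1af8187808362a20439362441a418a7a0338ab081cc428398418779094094125d26143ef0287dc030ef00625cc1536c83052d8348c7061dc238f22868d448513a90a275418296060d42852195061db00c4b50287d1830ed3)) (Tr.l (nat_lit 0x3bfffe77fffceffff860c923bfffe0cdf201a3e3060c913bfffe77fffceffff9dffff3bfffe352a38effff9dffff3bfffe77fffceffff9dffff123f5610421c488441dffff3bfffe77fffceffff9dffff0c190277fffceffff9dffff3bfffe77fffc60ece9dffff3bfffe77fffd3c5491dffff3bfffe77fffc68f42060c743bfffe77fffceffff860a730c16ce77fffceffff9dffff3bfffe77fffceffff9dffff3bfffe77fffc305b19e1a76082700243d84effff9dffff))) (Tr.l (nat_lit 0x1d2e5466ecc84be97060ef50726822d4c7c1f3a60d57381cae6e1184403077487632d1376560ef4f8307728e8eee212a260dfcf41b29a04a725077a660e64fc3076e8b80f7074a8c26bbf81d49603b34f076684183b24715908b4b2006aa74667c18189a98496fa0622a426abf0c538783c94406a29c0c554018aa6824ab9072e5e1832d41f1a503633607523224c30c68b8692530c0622921142e0ba458060caf0622860e84793d0538960dc2ced84253b803064e891300))))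
noncomputable def t3 : Tr := (Tr.n (Tr.n (Tr.n (Tr.l (nat_lit 0x81f3c083b3c10766022c64041d921871841852a02245f081f2c0c294c3a03a830a520610a20832e8206c683084f04196810362c10658820cb004195e0832ac206bf042970081af21035d850632892a7c04194208327410f3d03084a1044f00c212410649020c9106109008322c10645070c580419080832043062a820c790418ec0831d010539840b660414e0102d90205b1860a4c0a14960829801052f020a5b060c849c5918204ad04095806088208211c10321810240)) (Tr.l (nat_lit 0x47fffe0c29a51ffffa3ffff47fffe8ffffc185338265ca47fffe0c29991ffffa3ffff47fffe8ffffd1ffff8c266847fffe8ffffc68eb423ffff47fffe8ffffd1ffff821f6d47fffe0c21411ffff83084e06109a8ffffd1ffff830957041b028ffffd1ffffa3ffff47fffe0c19151ffff8306440416c02435591ffffa3ffff0a2a44144d48a599c979f162f5a9e1efd291488a82ab2c061e1a0b05390ee90a0c517184e8e569c381638894c9430596880c3c1464d99141525))) (Tr.n (Tr.l (nat_lit 0x2d0fa00c326c15e99830c9a5b45dc0a94ac1864c82531c2add8e4963701864b82b50305723c0a539c1425182849c09138e123f4c12b5b030c8f0499a80a54bc9b6c48211340f25e40932a81864602793028517c184388694c802112d08477418437810895025af6267db6b2837c139900277065759fe4a529c11d81084aeb049d400aa4608b0540211270618fcaa93bc10891830c7d530d2030ca181863d82af1904e1ee0844742d48a104ec45148fe9e52a43086082a91a))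 (Tr.l (nat_lit 0x47fffe8ffffd1ffffa3ffff4d19dc8ffffd1ffff8288ff47fffe8ffffd1ffffa3ffff47fffe758de01865223ffff330dde8ffffd1ffff830c9647fffe8ffffd1ffff830c93))))
 (Tr.n (Tr.n (Tr.l (nat_lit 0xc217e08ab8c3075e8451a2041e360c29c96d34b2c4a8908a33e1553b55a85a830a6f041e1e1d52c818536830a6c0614d6a9c3a54b35ba86ee10614d4312b98247cb8262d1052dac083c1c7af51040fc91d05e2098294185318d4cd34f250630d208185310b82f0041dfc083bf01077c843d95041dea103f103914a860e94081f800c29741852e040fb5041dd8183a38209ca020ee50614b40c2964207d80449a9081f5a08d32839842830a57081f4a08da781852b041d8e)) (Tr.l (nat_lit 0x47fffe8ffffd1ffffa3ffff47fffe1c837d1ffffa3ffff47fffe8ffffc1864823ffff47fffe8ffffd1ffff830c8947fffe8ffffc18643a3ffff048f4e8ffffc7a34423ffff288b568ffffc18641a3ffff47fffe613af11ffffa3ffff4a9d6e0c31fd1ffffa3ffff2c9f368ffffc3bccca3ffff0d19520c31dcc1d4c05108d47fffe8ffffd1ffff822ae1484f0e3c6a0018538860f8c0614dc8ffffc13774a3ffff47fffe5c3da51ffff851f8447fffe8ffffc185afa3ffff)))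 (Tr.l (nat_lit 0x18e63e7ef4b8bc39d85130105127a1e4ca415aa88b8f3618ae240a44e02b984030ee82f75fa0a75042c1941e76e43b25d40afcf81877014a94c1945f40c3b7414a9d028531061da05c4c9810ba0114500061d9a085d4c16fa49370d904ea7e72dbcc187631950f80619766e9b00d566412a6d2058e900a8540149a682aac532ce080964dc3e2a28611100619660aa518108a586110c0e4a16506c28c258482753506194c1dd360108a10269133165e85ce35410a9e024724))))
noncomputable def t4 : Tr := (Tr.n (Tr.n (Tr.n (Tr.l (nat_lit 0x41cb018395c2872b0412c814272e20295058c30040ec5041cee103b041073a840ebf08197a0831c8286388a0d8c0e18de0831b838636890c6c082552104aa0306268410a61422f020212c2065204109b08213410426440425041a7908192c1032501062e860c5c08191c2431681862c84107f0820fc1041f440423840c7a0c18a614314810528860a5012149e0c2938207348806430814cc10298430524850a480814aa1c2918304228508440810980c210810320810240)) (Tr.l (nat_lit 0x27fffe4ffffc188b106116127fffe4ffffc9ffff860e6727fffe4ffffc9ffff93ffff27fffe4ffffc9ffff93ffff27fffe4ffffc9ffff93ffff27fffe4ffffc9ffff93ffff27fffe4ffffc9ffff93ffff27fffe104df4209be13ffff27fffe4ffffc286ab93ffff27fffe4ffffc9ffff93ffff081eba4ffffc9ffff93ffff0f76781f2d2c2daa4069f2a0caa3409545c4aa8a821311099aa416cce43d39384b75107663609442c358a005c9430996883ef4cc1ca9e84b345)))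 (Tr.n (Tr.l (nat_lit 0xa254612b4641095104a92404253e184a787c75709129c04f9c00d2b9825c8e8510975b555a12cb4c22a708750e306eddc11e3bc20b9b04973004212018423c8464e8460d5089a401133d82409684152f08a5e020322c2a978847ef71f459e2032282268f82a3065935222032115ce502a98aa53595812d3504af7409b2d60d61e4184a20289438712860949be084a0c309410e50bc51414e105c842465782107c1a8d1812dc0c4063c0610c40a21869e51ec4063b0910c0)) (Tr.l (nat_lit 0x27fffe4ffffc9ffff93ffff27fffe4ffffc48a568214ac0629544ffffc9ffff93ffff04254e4ffffc9ffff93ffff27fffe0c4a809ffff93ffff27fffe0842549ffff93ffff))))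
 (Tr.n (Tr.n (Tr.l (nat_lit 0x1018e8104c70405398452cc0c1d76a28a142298a04530a08a626114c493a838040f100e1d66083ac820786044f091315921243e450be88a17d00c6d30285f3c1083585106a142b960839a020982880a650829fe1053f4222800a15c60829f61053e8247748414f8041cc818398c287310438ab0825e820297c509e1080a5e0c1d26283ef4507dc8412eb0825d420296c626d90448c7081dc4103b78487448414d20829a210534050ace840eda08299c10533452ad10a159b)) (Tr.l (nat_lit 0x27fffe4ffffc4064913ffff27fffe4ffffc4064893ffff27fffe4ffffc9ffff93ffff27fffe4ffffc9ffff93ffff27fffe4ffffc9ffff93ffff27fffe4ffffc9ffff93ffff27fffe4ffffc9ffff93ffff27fffe454a049ffff93ffff27fffe4ffffc4894293ffff1225004ffffc9ffff93ffff0a20f64ffffc9ffff93ffff27fffe4ffffc9ffff93ffff27fffe4ffffc9ffff880a7027fffe4ffffc9ffff93ffff27fffe4ffffc9ffff93ffff27fffe4ffffc9ffff93ffff))) (Tr.l (nat_lit 0x7022c0ac4c824ba084bd530caa5c0a4ca425aa509513708a6701453b43c8808f8531097e8412ccf82439a0394ec0c25c8115cec7bf7285a725074e4612854024a9d0281020952921a943c2549609a6fc0952561e342018a65024ae70695ba0adc107db7a8510be096a8e115d3c4d57f03af0708ae9c120cfc22ba69250b91aa16e3142d820aa6080cb4094e4c18443848886880cb108a68c1542e08a658048f220962301293702885284b91e0b698c120ca02499a8642a1))))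
noncomputable def t5 : Tr := (Tr.n (Tr.n (Tr.n (Tr.l (nat_lit 0x41da2084a682052a820ecb0814a80c3e5c10763820ec6041d869ca99c50b3a89187404197c1c91c820427820cb71038b81c8acc40d2806186c061b1210213410654030d7a063eea0c35dc10652820ca30c18ae1021281064c830d7204192e0c35b83862e821e6f04210208a14428627020c87041cc610211c1063e820c7b0c20a61021183132d021c6d0414e208396410535030b5d0616b8082988290248406420414ac082948184ad8404410612ae08212010322010240)) (Tr.l (nat_lit 0x31fffe597e78c7fff98ffff0c470e1029a0c7fff98ffff0814cc63fffc30e3398ffff042b30102980c7fff98ffff31fffe102978c7fff98ffff31fffe143d78c7fff98ffff31fffe63fffc106c718ffff31fffe63fffc106c1890d5831fffe0845a82042604084b080c8a63fffcc7fff98ffff080c8663fffcc7fff98ffff10527823652c2078d06973f0d62901eed385d99f17a72705b6a4103c2c1708882b34f05ae362abce435892040f07058e304a7c3c2d597040efc))) (Tr.n (Tr.l (nat_lit 0x819360ad4ac5207e8211405b45a60e57404c8549346f804e592094c401138e840c9608192a21aa7c206480258e20d21dc0a4bbc2064782993010a1c20844d813896ac5cd5049240193ad09244e8254b6081916215bc0129758d68af042258392b781248f8510dc0ee9b0098b40206418276db5759f43ad334188eb11468206d3a60982982063f8860da04224aaa928015b6b0910cc0818f8a552844b87ba8a0a70818f21031e0859818624930818ee9e51e8795bc023b0e))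 (Tr.l (nat_lit 0x31fffe103b54c7fff8d36b134cda663fffc5c9cd8792fa188b7210329cc7fff98ffff31fffe63fffcc7fff98ffff08194063fffcc7fff98ffff31fffe63fffc2064a0951c0))))
 (Tr.n (Tr.n (Tr.l (nat_lit 0x1c357e1029cc1078e0e54bc0c4d76aa8a5015c8a024f090814e0214b90107898250e60448dc1c7ac819cea020f0a04d5c0a5c1ad43340276e9e0c715634f2441497c840a69061f9c197b4820532820f050814c8157a881a2d5830fc704d9e40d2e401257285509c041dfe1841f820530861a980814be083bd010779830fc1044d880c3ef811f55020ef1041dda0d368818ad1831d81041dc631222858d448313a90814b00c3ea8187d4030fa7041db20923504872d830f9f)) (Tr.l (nat_lit 0x31fffe103248c7fff98ffff31fffe63fffcc7fff98ffff26836e63fffcc7fff98ffff31fffe63fffcc7fff98ffff31fffe63fffcc7fff98ffff0c854210321830844040c8508190863fffcc7fff98ffff10251a4d2a38c7fff98ffff08190063fffd3ae4a18ffff052ba263fffcc7fff8513730818f463fffcc7fff881b9431fffe63fffcc7fff88489e31fffe102d94c7fff98ffff0d279a63fffc2053598ffff044af663fffcc7fff98ffff0816c2183e00c8d46021182)))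 (Tr.l (nat_lit 0x532a00ad5343439d822b5305127a2a4ca4158a3135f3704c270103ba84389a0273350d6e4c0abc54426808596ec052a240ab5044b774840edf2965fc59345814a9d07a7220552980ae4cc2076782b345136e320aa4a065b800a46e7188dba1c8c784927a840cbd0faa8e08454415c9196c5430f722e093ca85d69907b6b908196a564cbca6fa48e50f605428418e300319868f530c0422941032c06a65c086b020422881c94182065206610405698a09b4201279882b921))))
noncomputable def t6 : Tr := (Tr.n (Tr.n (Tr.n (Tr.l (nat_lit 0x41da40c295410766882d951c78e8085aa069a55881787041d889ca99460f37023e7b101b220832ec58c2d020cb80431120881d450a3602166d101b1424415018426080d7b0610962035e0406ba880d740610940832781064d020c98101ae22035bc1064983084804191e0869c410b27820c8806108e0832081063f02126a06108c1c7948305288306440a28b210493818321820a690414ce08298c18321020a5c0414ae08294c1822082085004109a08212410322810240)) (Tr.l (nat_lit 0x33fffe67fffc389bb830b5d0614d067fffccffff830a6633fffe083f2818532830a6433fffe67fffc1852f99ffff0614bc9cf1a0cffff99ffff33fffe67fffc184ad19ffff33fffe67fffccffff99ffff041b0c1c3d70184ab99ffff041b0467fffc106be19ffff33fffe67fffccffff99ffff0416c267fffccffff99ffff152e6a2b4cb04e5a4830f15061e283365287cd9506c347315e4a0b6d38166a88faf27058a9832b42c1878382cd4313968862dc803c08e89ad18)))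 (Tr.n (Tr.l (nat_lit 0x561e44eb49015c8f0fa9190d299c0c32641496602971c052a261ce31c1089e8839c61691ae42bbfc1089d828d081f19de4e3bb848a6ea98a9004aa600c323814994030c8d0422660c323010899030c8b048a440844bc10897054cb7052a1e094c4010b76a858a504e94e54ca5843de6026b030495e6591a5418640830c8022e5460c31fc1306402652104224c0a5bec1863e8a90f912592220d69ca20648a5ed10475ec245aa8a9e4a030c77045e1a9e52fca95520f22b3)) (Tr.l (nat_lit 0x33fffe67fffccffff99ffff151b8e67fffc7cbe819ffff33fffe25df2053b830f78d933fffe0c35d8cffff8279ce33fffe1cdbd0cffff99ffff33fffe67fffccffff99ffff))))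
 (Tr.n (Tr.n (Tr.l (nat_lit 0x10872e29227014a54ac5b980614e4ae8a981078d030a70049dc0083c5812a85144c8a044980083c38a29589350b024e55ea9c2f08b8560272ad046cf20863184c95e89147a20e5b6217e74418db822cc104e9a6083c114a03207109750d1060c298810781024abe041e000c29841077d030a6004254008d3681246b023ec50614ba203efc11765880fb60614b6083ba810774020ee6041dc8093ad078b37830a58101f5c203eac407d4a7325f101f4c0c29581076a820ed4)) (Tr.l (nat_lit 0x6192467fffccffff99ffff33fffe67fffccffff99ffff1e5d4a0c3240cffff99ffff0e2b4667fffccffff99ffff0e27540c321ccffff99ffff06190c0856bc1864299ffff3465940c320ccffff99ffff042f6667fffccffff99ffff33fffe67fffcd2e5319ffff33fffe67fffc948c582459412817e67fffcb953e0a439833fffe67fffc1853999ffff33fffe67fffccffff99ffff33fffe0c29ad3b35e19ffff1e28f00c2d8ccffff99ffff1222fe0c2d7ccffff830b5e))) (Tr.l (nat_lit 0xf2a240b04b41877a827f01061de21a9cdc1608b8f192905527425347c14ca9989331061dce0c3b9414a9a0752eb061dc40c3b84c5f9f02d5520f72460a753410d9c0690e90562900c3b3c158a582aefe057656290b8c3b16802b942049e6c1adbf4141a08994f8058e220c32e41557e02af400d7e720c32d8108a802114f1d25ee0a5cfc3628d9350de1b25be0c32c82966193550c055e8c254ad42a7848a8af004228a21e7353d083030ca22ed1b00c327493e9e030c9b))))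
noncomputable def t7 : Tr := (Tr.n (Tr.n (Tr.n (Tr.l (nat_lit 0x414aa183e7008767020a540c1f32043b20795300320780414a6043b08105290e3e740c1b2408213c69138810cb90231660821380865909226c04109a0432b00865482084b02194e0432986113282084a02194404327c0864d812c79025d0a043254104240120590219202ca96850f2e0208470c1ad604320c0863f810c7c0218ee0431d410322890e500214e40429b808535880a4c0214d004299039024810a5d0214b0184d58084288508440810860c210810120010441)) (Tr.l (nat_lit 0x3ffffe7ffffcfffff9fffff3ffffe7ffffcfffff810fcb3ffffe7ffffcfffff9fffff3ffffe7ffffcfffff9fffff3ffffe7ffffcfffff9fffff0414ae7ffffcfffff9fffff3ffffe7ffffcfffff9fffff3ffffe7ffffcfffff9fffff3ffffe7ffffcfffff9fffff3ffffe7ffffcfffff9fffff3ffffe504118fffff9fffff1b827e375d2c2dfa407bd2a217a60083c48a5393820f1003b2a416f4d8f288a81c151062a30083c24ee18781d54319a6886f04b81dd9205c126))) (Tr.n (Tr.l (nat_lit 0x361a606b4641064d04bd3d0419326243e40c97d179d1c0419300444f825c8ead9ead2cb52e05ba8c2c87281113a034e460454ac0889c95a91a04191c06ec2810646947d0204191818475c0c97894b6e4032652b2022c0c096937aab041914069b3c0c880867bcd041908ae8244288438a72a1555950491b5808894054ad4255dfe4503494cf500133211149bc0831f442e66015ecd510d240cca181bb64820c7a022240044478411629116c40a25860831d93ce3d8c2289))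 (Tr.l (nat_lit 0x41dcc7ffffc1065c214fd43ffffe0832a8fffff820ca83ffffe7ffffc5bc6e0c10ad041af07ffffcfffff820ca04117867ffffcfffff9fffff3ffffe083250fffff9fffff))))
 (Tr.n (Tr.n (Tr.l (nat_lit 0x10817e35ca706305eab5a82204526aa8a5810538060fd5096a26043c5c0878a010f111a2cde0829b54a958810f0b0afd5ea1c278309e6020a6a02f9c0183f4810534860fd00414ce082998087830824a40ad9e408298c0ba6c060fc80414c419b6253c7408174be0414c2043bf40877d810ef702b9e618b6741052f060fc2024976184ed4307dd020a5b0c1f68043bac08774810ee70c1f62043b7c092600842880225b204d3286162f810edb0414ac190e50307d2060fa0)) (Tr.l (nat_lit 0x3ffffe7ffffcfffff9fffff3ffffe083244fffff9fffff3ffffe7ffffc20849020c8f3ffffe7ffffc106459fffff1c86dc7ffffcfffff9fffff02974e7ffffcfffff9fffff1e93567ffffcfffff820c813ffffe7ffffcfffff820c803ffffe7ffffc6154b020c7e3ffffe7ffffc1063d9fffff3ffffe7ffffcfffff8a40823ffffe0829ccfffff9fffff3ffffe7ffffcfffff9fffff3ffffe7ffffc8b54f124da63ffffe7ffffcfffff9fffff3ffffe7ffffcfffff9fffff)))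 (Tr.l (nat_lit 0x386a6083bd80df7e0abd16235e66083bc01077693593702b67006fd285278f848531036276a6bb980c39a01bf4f23725e070d08dbf70854b2c0625dc06fd405c871820ed503529a070d002d49281bd413749de72942019868020ec702a26a083b180dd7a819ef837460e06abb06557f01174704196c06fcf00a9a4820cb5036d6e0445381065a01114c038a8a4094386098688550c0419606ae3a8088a301a722034a360832954506e10750302ee0805fba0cc76ea7b4aa))))
noncomputable def t8 : Tr := (Tr.n (Tr.n (Tr.n (Tr.l (nat_lit 0)) (Tr.l (nat_lit 0x9480a92681de422bc4742698c76dd15622049033c49c92868ccd0a824c4143b073ea10cc4d7051a32018423f54887c74f0f55a15e1b2f3b3a6a0a78aee91159c9820b834496e688ad8d141aa427b4484e66589ac9099d8a026b044415e8494b9091d6a2262c444b08348aacc91418d24aa464452848608511940c20a716420000000000000000000000000000000000000000000000000000000000000000000000000000000000000000000000000000000000000000000))) (Tr.n (Tr.l (nat_lit 0))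 (Tr.l (nat_lit 0x4b5a64116ba07d547a450b16941f68ecc019d479b2aad7452db0c67b2184f82af9cf45d3d96b6797564f372b9cd155459ca66b649335498a4b95148fa9ea2010adcea093bf))))
 (Tr.n (Tr.n (Tr.l (nat_lit 0)) (Tr.l (nat_lit 0x9b3ccc36266664f339f89993d1b2d2e7b6a54c6d9d44a092adb81e23b0e4265c8acb88eb5d5196204dbf711a48b88aa8bf1151f21ab4c42567682a595014a11fab343e585e32a10cf59a7cc484f978c9d78b11c595a34aa340bbaa9474c95ae68b0ca505d133e7e714d2a4919f5bcd60b66589232584d679a5a2a43b358bc2075543cd1cc739358d6cac646c92c529c5826400c4eb55f3948b9d1cc5b7572d64625870bcacb90d51731a92a67147cd407fffd42230274057))) (Tr.l (nat_lit 0))))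
noncomputable def t9 : Tr := (Tr.n (Tr.n (Tr.n (Tr.l (nat_lit 0x7657543273733753272175676417654323763107654165761064216532653070)) (Tr.l (nat_lit 0x1306653653660560652170621313306310555323521122566717352107652305))) (Tr.n (Tr.l (nat_lit 0x5373763170355252105376767636542174107452106626523763503755465741)) (Tr.l (nat_lit 0x757127170521763750031753))))
 (Tr.n (Tr.n (Tr.l (nat_lit 0x4541637652132733321730757754573076317656547463376421331652137631)) (Tr.l (nat_lit 0x6542174216370173063165655637210753171070531217622534365016215636))) (Tr.l (nat_lit 0x762677105236620663503273651320707353610761752743614751237561626))))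
noncomputable def t10 : Tr := (Tr.n (Tr.n (Tr.l (nat_lit 0)) (Tr.n (Tr.l (nat_lit 0x7300e881b3038c073c0e801c8038e065c0)) (Tr.l (nat_lit 0))))
 (Tr.n (Tr.n (Tr.l (nat_lit 0x1b00312067c0e281a602e206340)) (Tr.l (nat_lit 0x6600))) (Tr.l (nat_lit 0x7480))))
noncomputable def t11 : Tr := (Tr.n (Tr.n (Tr.l (nat_lit 0)) (Tr.n (Tr.l (nat_lit 0x3a607300e881b3036206dc0e301cf038e065c0)) (Tr.l (nat_lit 0))))
 (Tr.n (Tr.n (Tr.l (nat_lit 0xce8189032605d00)) (Tr.l (nat_lit 0x37606600))) (Tr.l (nat_lit 0))))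
noncomputable def t12 : Tr := (Tr.n (Tr.n (Tr.n (Tr.l (nat_lit 0x5640)) (Tr.l (nat_lit 0))) (Tr.n (Tr.l (nat_lit 0x1d303a0071c0)) (Tr.l (nat_lit 0))))
 (Tr.n (Tr.n (Tr.l (nat_lit 0xca019002e806e00)) (Tr.l (nat_lit 0x6f00))) (Tr.l (nat_lit 0x7340))))
noncomputable def t13 : Tr := (Tr.n (Tr.n (Tr.n (Tr.l (nat_lit 0x5580)) (Tr.l (nat_lit 0))) (Tr.n (Tr.l (nat_lit 0x1d3037407400e381b5033c065c0)) (Tr.l (nat_lit 0))))
 (Tr.n (Tr.n (Tr.l (nat_lit 0x1c4036006300c4819f032006940)) (Tr.l (nat_lit 0))) (Tr.l (nat_lit 0))))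
noncomputable def t14 : Tr := (Tr.n (Tr.n (Tr.l (nat_lit 0)) (Tr.n (Tr.l (nat_lit 0x1d1037207180e781d00396065c0)) (Tr.l (nat_lit 0))))
 (Tr.n (Tr.n (Tr.l (nat_lit 0x33a06300)) (Tr.l (nat_lit 0))) (Tr.l (nat_lit 0))))
noncomputable def t15 : Tr := (Tr.n (Tr.n (Tr.n (Tr.l (nat_lit 0x5d40)) (Tr.l (nat_lit 0))) (Tr.n (Tr.l (nat_lit 0x1d303ac07400e381ab039c065c0)) (Tr.l (nat_lit 0))))
 (Tr.n (Tr.n (Tr.l (nat_lit 0xce8189033e06400)) (Tr.l (nat_lit 0x7040))) (Tr.l (nat_lit 0))))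
noncomputable def t16 : Tr := (Tr.n (Tr.n (Tr.n (Tr.l (nat_lit 0x5d40)) (Tr.l (nat_lit 0x5ec0))) (Tr.n (Tr.l (nat_lit 0x1b6036e065c0)) (Tr.l (nat_lit 0))))
 (Tr.n (Tr.n (Tr.l (nat_lit 0x32806740c48174034c05c40)) (Tr.l (nat_lit 0x6600))) (Tr.l (nat_lit 0x7340))))
noncomputable def t17 : Tr := (Tr.n (Tr.n (Tr.l (nat_lit 0)) (Tr.n (Tr.l (nat_lit 0x1cc036206e80e801c8036a06640)) (Tr.l (nat_lit 0))))
 (Tr.n (Tr.n (Tr.l (nat_lit 0x6500ce81d4031206900)) (Tr.l (nat_lit 0))) (Tr.l (nat_lit 0x1d7039a07480))))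
noncomputable def t18 : Tr := (Tr.n (Tr.n (Tr.n (Tr.l (nat_lit 0)) (Tr.l (nat_lit 0xc18d968ec425844c38ba9973315f46e50d81970b0eae1c3cdaf1ed01e1e1af0b860eb415681ad015806b006101b0c18316ae1dfc0c00d7c1ac435a46b00b611aa805582))) (Tr.n (Tr.l (nat_lit 0)) (Tr.l (nat_lit 0x397066c5e88dc81b162f1a6bc0f780f171e641e98db90b8e3e6e4))))
 (Tr.n (Tr.n (Tr.l (nat_lit 0)) (Tr.l (nat_lit 0x1789af127202e78b9503ab3e8c6d143aa1b5606563cac3a70f4f2dc22b74b881f452f0a7b9837e17870ee60b98b788355168a3b38565171d1e646c8cd73831e1d8c6b185758abe1e0c2))) (Tr.l (nat_lit 0))))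
noncomputable def tab0 : Tr := t0
noncomputable def tab1 : Tr := t1
noncomputable def tab2 : Tr := t2
noncomputable def tab3 : Tr := t3
noncomputable def tab4 : Tr := t4
noncomputable def tab5 : Tr := t5
noncomputable def tab6 : Tr := t6
noncomputable def tab7 : Tr := t7
noncomputable def tab8 : Tr := t8
noncomputable def tab9 : Tr := t9
noncomputable def tab10 : Tr := t10
noncomputable def tab11 : Tr := t11
noncomputable def tab12 : Tr := t12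
noncomputable def tab13 : Tr := t13
noncomputable def tab14 : Tr := t14
noncomputable def tab15 : Tr := t15
noncomputable def tab16 : Tr := t16
noncomputable def tab17 : Tr := t17
noncomputable def tab18 : Tr := t18
noncomputable def ty0 : TT := (TT.n (TT.n (TT.n (TT.n (TT.n (TT.l (Ty.ssub [] []))
 (TT.l (Ty.srel [nat_lit 1, nat_lit 2, nat_lit 0, nat_lit 3, nat_lit 1, nat_lit 3, nat_lit 2, nat_lit 5, nat_lit 0, nat_lit 1, nat_lit 3, nat_lit 1, nat_lit 2, nat_lit 3, nat_lit 2, nat_lit 1, nat_lit 3, nat_lit 0, nat_lit 5, nat_lit 2, nat_lit 3, nat_lit 1, nat_lit 3])))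
 (TT.n (TT.l (Ty.rel5 (nat_lit 7) (nat_lit 0) (nat_lit 7) (nat_lit 0) (nat_lit 7)))
 (TT.l (Ty.skip))))
 (TT.n (TT.n (TT.l (Ty.rel3 (nat_lit 3) (nat_lit 0) (nat_lit 3)))
 (TT.l (Ty.srel [nat_lit 7, nat_lit 0, nat_lit 7, nat_lit 0, nat_lit 7])))
 (TT.l (Ty.relL (nat_lit 7) [nat_lit 2, nat_lit 7, nat_lit 1, nat_lit 0, nat_lit 2, nat_lit 1]))))
 (TT.n (TT.n (TT.n (TT.l (Ty.dfn))
 (TT.l (Ty.relL (nat_lit 7) [nat_lit 6, nat_lit 0, nat_lit 7, nat_lit 0, nat_lit 6, nat_lit 7, nat_lit 0, nat_lit 6, nat_lit 0, nat_lit 6])))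
 (TT.l (Ty.rel3 (nat_lit 4) (nat_lit 0) (nat_lit 4))))
 (TT.n (TT.n (TT.l (Ty.srel [nat_lit 0]))
 (TT.l (Ty.relL (nat_lit 1) [nat_lit 2, nat_lit 0, nat_lit 1, nat_lit 7, nat_lit 2, nat_lit 7])))
 (TT.l (Ty.srel [nat_lit 1, nat_lit 0, nat_lit 1])))))
 (TT.n (TT.n (TT.n (TT.n (TT.l (Ty.rel1 (nat_lit 0)))
 (TT.l (Ty.srel [nat_lit 5, nat_lit 0, nat_lit 5, nat_lit 0, nat_lit 5])))
 (TT.n (TT.l (Ty.rel3 (nat_lit 1) (nat_lit 0) (nat_lit 1)))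
 (TT.l (Ty.srel [nat_lit 7, nat_lit 6, nat_lit 0, nat_lit 7, nat_lit 0, nat_lit 6, nat_lit 7, nat_lit 0, nat_lit 6, nat_lit 0, nat_lit 6]))))
 (TT.n (TT.n (TT.l (Ty.srel [nat_lit 2, nat_lit 0, nat_lit 2, nat_lit 0, nat_lit 2]))
 (TT.l (Ty.relL (nat_lit 6) [nat_lit 0, nat_lit 7, nat_lit 6, nat_lit 0, nat_lit 7, nat_lit 0, nat_lit 6, nat_lit 7, nat_lit 0, nat_lit 6])))
 (TT.l (Ty.relL (nat_lit 1) [nat_lit 7, nat_lit 2, nat_lit 7, nat_lit 0, nat_lit 1, nat_lit 2]))))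
 (TT.n (TT.n (TT.n (TT.l (Ty.rel5 (nat_lit 2) (nat_lit 0) (nat_lit 2) (nat_lit 0) (nat_lit 2)))
 (TT.l (Ty.srel [nat_lit 3, nat_lit 0, nat_lit 3])))
 (TT.l (Ty.rel5 (nat_lit 5) (nat_lit 0) (nat_lit 5) (nat_lit 0) (nat_lit 5))))
 (TT.n (TT.n (TT.l (Ty.relL (nat_lit 1) [nat_lit 6, nat_lit 5, nat_lit 6]))
 (TT.l (Ty.srel [nat_lit 1, nat_lit 3, nat_lit 1, nat_lit 2, nat_lit 3, nat_lit 2, nat_lit 1, nat_lit 3, nat_lit 0, nat_lit 5, nat_lit 2, nat_lit 3, nat_lit 1, nat_lit 3, nat_lit 0, nat_lit 1, nat_lit 2, nat_lit 0, nat_lit 3, nat_lit 1, nat_lit 3, nat_lit 2, nat_lit 5])))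
 (TT.l (Ty.srel [nat_lit 1, nat_lit 6, nat_lit 5, nat_lit 6]))))))
noncomputable def ty1 : TT := (TT.n (TT.n (TT.n (TT.n (TT.n (TT.l (Ty.ssub [] []))
 (TT.l (Ty.srel [nat_lit 5, nat_lit 1, nat_lit 5, nat_lit 1, nat_lit 5, nat_lit 1, nat_lit 5])))
 (TT.n (TT.l (Ty.rel3 (nat_lit 0) (nat_lit 1) (nat_lit 0)))
 (TT.l (Ty.relL (nat_lit 3) [nat_lit 1, nat_lit 3, nat_lit 1, nat_lit 3, nat_lit 1, nat_lit 3]))))
 (TT.n (TT.n (TT.l (Ty.rel5 (nat_lit 2) (nat_lit 1) (nat_lit 2) (nat_lit 1) (nat_lit 2)))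
 (TT.l (Ty.srel [nat_lit 3, nat_lit 6, nat_lit 3, nat_lit 1, nat_lit 2, nat_lit 3, nat_lit 6, nat_lit 3, nat_lit 2])))
 (TT.n (TT.l (Ty.relL (nat_lit 6) [nat_lit 5, nat_lit 6, nat_lit 0]))
 (TT.l (Ty.relL (nat_lit 5) [nat_lit 1, nat_lit 5, nat_lit 1, nat_lit 5, nat_lit 1, nat_lit 5])))))
 (TT.n (TT.n (TT.n (TT.l (Ty.rel1 (nat_lit 1)))
 (TT.l (Ty.srel [nat_lit 4, nat_lit 1, nat_lit 4])))
 (TT.n (TT.l (Ty.srel [nat_lit 3, nat_lit 1, nat_lit 3, nat_lit 1, nat_lit 3, nat_lit 1, nat_lit 3]))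
 (TT.l (Ty.relL (nat_lit 7) [nat_lit 2, nat_lit 3, nat_lit 2, nat_lit 1, nat_lit 3, nat_lit 1, nat_lit 2, nat_lit 3, nat_lit 7, nat_lit 1, nat_lit 2, nat_lit 1, nat_lit 3, nat_lit 1, nat_lit 2]))))
 (TT.n (TT.n (TT.l (Ty.rel5 (nat_lit 7) (nat_lit 1) (nat_lit 7) (nat_lit 1) (nat_lit 7)))
 (TT.l (Ty.srel [nat_lit 7, nat_lit 1, nat_lit 7, nat_lit 1, nat_lit 7])))
 (TT.n (TT.l (Ty.srel [nat_lit 0, nat_lit 1, nat_lit 0]))
 (TT.l (Ty.skip))))))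
 (TT.n (TT.n (TT.n (TT.n (TT.l (Ty.srel [nat_lit 1]))
 (TT.l (Ty.srel [nat_lit 0, nat_lit 7, nat_lit 2, nat_lit 7, nat_lit 1, nat_lit 0, nat_lit 2])))
 (TT.n (TT.l (Ty.srel [nat_lit 7, nat_lit 2, nat_lit 7, nat_lit 0, nat_lit 1, nat_lit 2, nat_lit 0]))
 (TT.l (Ty.relL (nat_lit 3) [nat_lit 1, nat_lit 3, nat_lit 4, nat_lit 3, nat_lit 1, nat_lit 3, nat_lit 4]))))
 (TT.n (TT.n (TT.l (Ty.dfn))
 (TT.l (Ty.relL (nat_lit 5) [nat_lit 3, nat_lit 1, nat_lit 5, nat_lit 3, nat_lit 1, nat_lit 5, nat_lit 3])))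
 (TT.n (TT.l (Ty.relL (nat_lit 3) [nat_lit 5, nat_lit 1, nat_lit 3, nat_lit 5, nat_lit 1, nat_lit 3, nat_lit 5]))
 (TT.l (Ty.srel [nat_lit 2, nat_lit 1, nat_lit 2, nat_lit 1, nat_lit 2])))))
 (TT.n (TT.n (TT.n (TT.l (Ty.rel3 (nat_lit 6) (nat_lit 2) (nat_lit 6)))
 (TT.l (Ty.relL (nat_lit 3) [nat_lit 4, nat_lit 3, nat_lit 1, nat_lit 3, nat_lit 4, nat_lit 1, nat_lit 3])))
 (TT.n (TT.l (Ty.relL (nat_lit 2) [nat_lit 1, nat_lit 3, nat_lit 1, nat_lit 2, nat_lit 1, nat_lit 7, nat_lit 2, nat_lit 3, nat_lit 2, nat_lit 1, nat_lit 3, nat_lit 1, nat_lit 2, nat_lit 3, nat_lit 7]))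
 (TT.l (Ty.relL (nat_lit 0) [nat_lit 2, nat_lit 1, nat_lit 0, nat_lit 7, nat_lit 2, nat_lit 7]))))
 (TT.n (TT.n (TT.l (Ty.rel3 (nat_lit 4) (nat_lit 1) (nat_lit 4)))
 (TT.l (Ty.relL (nat_lit 2) [nat_lit 3, nat_lit 2, nat_lit 1, nat_lit 3, nat_lit 0, nat_lit 5, nat_lit 2, nat_lit 3, nat_lit 1, nat_lit 3, nat_lit 0, nat_lit 1, nat_lit 2, nat_lit 0, nat_lit 3, nat_lit 1, nat_lit 3, nat_lit 2, nat_lit 5, nat_lit 0, nat_lit 1, nat_lit 3])))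
 (TT.l (Ty.srel [nat_lit 3, nat_lit 4, nat_lit 3, nat_lit 1, nat_lit 3, nat_lit 4, nat_lit 1, nat_lit 3]))))))
noncomputable def ty2 : TT := (TT.n (TT.n (TT.n (TT.n (TT.n (TT.l (Ty.ssub [] []))
 (TT.l (Ty.relL (nat_lit 0) [nat_lit 3, nat_lit 1, nat_lit 3, nat_lit 2, nat_lit 5, nat_lit 0, nat_lit 1, nat_lit 3, nat_lit 1, nat_lit 2, nat_lit 3, nat_lit 2, nat_lit 1, nat_lit 3, nat_lit 0, nat_lit 5, nat_lit 2, nat_lit 3, nat_lit 1, nat_lit 3, nat_lit 0, nat_lit 1])))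
 (TT.n (TT.l (Ty.rel3 (nat_lit 6) (nat_lit 1) (nat_lit 6)))
 (TT.l (Ty.srel [nat_lit 7, nat_lit 2, nat_lit 7, nat_lit 2, nat_lit 7, nat_lit 2, nat_lit 7]))))
 (TT.n (TT.n (TT.l (Ty.srel [nat_lit 2]))
 (TT.l (Ty.relL (nat_lit 3) [nat_lit 6, nat_lit 3, nat_lit 2, nat_lit 1, nat_lit 3, nat_lit 6, nat_lit 3, nat_lit 1])))
 (TT.n (TT.l (Ty.rel5 (nat_lit 1) (nat_lit 2) (nat_lit 1) (nat_lit 2) (nat_lit 1)))
 (TT.l (Ty.skip)))))
 (TT.n (TT.n (TT.n (TT.l (Ty.rel1 (nat_lit 2)))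
 (TT.l (Ty.srel [nat_lit 5, nat_lit 2, nat_lit 5])))
 (TT.n (TT.l (Ty.relL (nat_lit 7) [nat_lit 2, nat_lit 7, nat_lit 2, nat_lit 7, nat_lit 2, nat_lit 7]))
 (TT.l (Ty.srel [nat_lit 3, nat_lit 2, nat_lit 1, nat_lit 3, nat_lit 1, nat_lit 2, nat_lit 3, nat_lit 7, nat_lit 1, nat_lit 2, nat_lit 1, nat_lit 3, nat_lit 1, nat_lit 2, nat_lit 1, nat_lit 7]))))
 (TT.n (TT.n (TT.l (Ty.rel5 (nat_lit 3) (nat_lit 2) (nat_lit 3) (nat_lit 2) (nat_lit 3)))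
 (TT.l (Ty.srel [nat_lit 0, nat_lit 3, nat_lit 1, nat_lit 3, nat_lit 2, nat_lit 5, nat_lit 0, nat_lit 1, nat_lit 3, nat_lit 1, nat_lit 2, nat_lit 3, nat_lit 2, nat_lit 1, nat_lit 3, nat_lit 0, nat_lit 5, nat_lit 2, nat_lit 3, nat_lit 1, nat_lit 3, nat_lit 0, nat_lit 1])))
 (TT.n (TT.l (Ty.srel [nat_lit 5, nat_lit 0, nat_lit 3, nat_lit 1, nat_lit 2, nat_lit 3, nat_lit 2, nat_lit 1, nat_lit 3, nat_lit 1, nat_lit 0, nat_lit 5, nat_lit 2, nat_lit 3, nat_lit 1, nat_lit 3, nat_lit 0, nat_lit 2, nat_lit 1, nat_lit 0, nat_lit 3, nat_lit 1, nat_lit 3]))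
 (TT.l (Ty.srel [nat_lit 0, nat_lit 2, nat_lit 0, nat_lit 2, nat_lit 0]))))))
 (TT.n (TT.n (TT.n (TT.n (TT.l (Ty.relL (nat_lit 7) [nat_lit 0, nat_lit 1, nat_lit 2, nat_lit 0, nat_lit 1, nat_lit 7]))
 (TT.l (Ty.srel [nat_lit 4, nat_lit 2, nat_lit 4])))
 (TT.n (TT.l (Ty.rel3 (nat_lit 4) (nat_lit 2) (nat_lit 4)))
 (TT.l (Ty.srel [nat_lit 3, nat_lit 2, nat_lit 3, nat_lit 2, nat_lit 3]))))
 (TT.n (TT.n (TT.l (Ty.dfn))
 (TT.l (Ty.srel [nat_lit 7, nat_lit 0, nat_lit 1, nat_lit 2, nat_lit 0, nat_lit 1, nat_lit 7])))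
 (TT.n (TT.l (Ty.rel5 (nat_lit 0) (nat_lit 2) (nat_lit 0) (nat_lit 2) (nat_lit 0)))
 (TT.l (Ty.srel [nat_lit 3, nat_lit 6, nat_lit 3, nat_lit 2, nat_lit 1, nat_lit 3, nat_lit 6, nat_lit 3, nat_lit 1])))))
 (TT.n (TT.n (TT.n (TT.l (Ty.rel3 (nat_lit 5) (nat_lit 2) (nat_lit 5)))
 (TT.l (Ty.srel [nat_lit 0, nat_lit 1, nat_lit 7, nat_lit 2, nat_lit 7, nat_lit 0, nat_lit 1])))
 (TT.n (TT.l (Ty.relL (nat_lit 0) [nat_lit 1, nat_lit 7, nat_lit 2, nat_lit 7, nat_lit 0, nat_lit 1]))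
 (TT.l (Ty.srel [nat_lit 1, nat_lit 3, nat_lit 6, nat_lit 3, nat_lit 1, nat_lit 2, nat_lit 3, nat_lit 6, nat_lit 3]))))
 (TT.n (TT.n (TT.l (Ty.relL (nat_lit 1) [nat_lit 0, nat_lit 7, nat_lit 2, nat_lit 7, nat_lit 1, nat_lit 0]))
 (TT.l (Ty.srel [nat_lit 3, nat_lit 1, nat_lit 2, nat_lit 3, nat_lit 1, nat_lit 2, nat_lit 3, nat_lit 1, nat_lit 2, nat_lit 3, nat_lit 1, nat_lit 2, nat_lit 3, nat_lit 1])))
 (TT.l (Ty.srel [nat_lit 6, nat_lit 1, nat_lit 6]))))))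
noncomputable def ty3 : TT := (TT.n (TT.n (TT.n (TT.n (TT.n (TT.n (TT.l (Ty.ssub [] []))
 (TT.l (Ty.relL (nat_lit 2) [nat_lit 1, nat_lit 3, nat_lit 1, nat_lit 2, nat_lit 3, nat_lit 7, nat_lit 1, nat_lit 2, nat_lit 1, nat_lit 3, nat_lit 1, nat_lit 2, nat_lit 1, nat_lit 7, nat_lit 2])))
 (TT.l (Ty.srel [nat_lit 4, nat_lit 3, nat_lit 1, nat_lit 3, nat_lit 4, nat_lit 1, nat_lit 3, nat_lit 1])))
 (TT.n (TT.l (Ty.relL (nat_lit 1) [nat_lit 2, nat_lit 1, nat_lit 7, nat_lit 2, nat_lit 3, nat_lit 2, nat_lit 1, nat_lit 3, nat_lit 1, nat_lit 2, nat_lit 3, nat_lit 7, nat_lit 1, nat_lit 2, nat_lit 1]))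
 (TT.l (Ty.relL (nat_lit 1) [nat_lit 5, nat_lit 3, nat_lit 1, nat_lit 5, nat_lit 3, nat_lit 1, nat_lit 5]))))
 (TT.n (TT.n (TT.n (TT.l (Ty.rel5 (nat_lit 2) (nat_lit 3) (nat_lit 2) (nat_lit 3) (nat_lit 2)))
 (TT.l (Ty.srel [nat_lit 5, nat_lit 3, nat_lit 5, nat_lit 3, nat_lit 5])))
 (TT.l (Ty.srel [nat_lit 2, nat_lit 1, nat_lit 3, nat_lit 1, nat_lit 2, nat_lit 3, nat_lit 2, nat_lit 7, nat_lit 1, nat_lit 2, nat_lit 1, nat_lit 3, nat_lit 1, nat_lit 2, nat_lit 1, nat_lit 7])))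
 (TT.n (TT.l (Ty.srel [nat_lit 2, nat_lit 3, nat_lit 2, nat_lit 3, nat_lit 2]))
 (TT.l (Ty.relL (nat_lit 2) [nat_lit 1, nat_lit 3, nat_lit 6, nat_lit 3, nat_lit 1, nat_lit 2, nat_lit 3, nat_lit 6])))))
 (TT.n (TT.n (TT.n (TT.n (TT.l (Ty.dfn))
 (TT.l (Ty.skip)))
 (TT.l (Ty.srel [nat_lit 7, nat_lit 3, nat_lit 7, nat_lit 3, nat_lit 7])))
 (TT.n (TT.l (Ty.relL (nat_lit 5) [nat_lit 1, nat_lit 3, nat_lit 5, nat_lit 1, nat_lit 3, nat_lit 5, nat_lit 1]))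
 (TT.l (Ty.srel [nat_lit 6, nat_lit 3, nat_lit 6, nat_lit 3, nat_lit 6, nat_lit 3, nat_lit 6]))))
 (TT.n (TT.n (TT.l (Ty.rel5 (nat_lit 7) (nat_lit 3) (nat_lit 7) (nat_lit 3) (nat_lit 7)))
 (TT.l (Ty.relL (nat_lit 6) [nat_lit 3, nat_lit 6, nat_lit 3, nat_lit 6, nat_lit 3, nat_lit 6])))
 (TT.n (TT.l (Ty.srel [nat_lit 1, nat_lit 5, nat_lit 3, nat_lit 1, nat_lit 5, nat_lit 3, nat_lit 1, nat_lit 5]))
 (TT.l (Ty.relL (nat_lit 2) [nat_lit 1, nat_lit 3, nat_lit 1, nat_lit 2, nat_lit 3, nat_lit 2, nat_lit 7, nat_lit 1, nat_lit 2, nat_lit 1, nat_lit 3, nat_lit 1, nat_lit 2, nat_lit 1, nat_lit 7]))))))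
 (TT.n (TT.n (TT.n (TT.n (TT.n (TT.l (Ty.rel1 (nat_lit 3)))
 (TT.l (Ty.relL (nat_lit 1) [nat_lit 3, nat_lit 1, nat_lit 3, nat_lit 1, nat_lit 3, nat_lit 1])))
 (TT.l (Ty.srel [nat_lit 0, nat_lit 3, nat_lit 0])))
 (TT.n (TT.l (Ty.relL (nat_lit 1) [nat_lit 2, nat_lit 3, nat_lit 7, nat_lit 1, nat_lit 2, nat_lit 1, nat_lit 3, nat_lit 1, nat_lit 2, nat_lit 1, nat_lit 7, nat_lit 2, nat_lit 3, nat_lit 2, nat_lit 1]))
 (TT.l (Ty.srel [nat_lit 1, nat_lit 3, nat_lit 4, nat_lit 3, nat_lit 1, nat_lit 3, nat_lit 4, nat_lit 1]))))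
 (TT.n (TT.n (TT.n (TT.l (Ty.rel5 (nat_lit 4) (nat_lit 3) (nat_lit 4) (nat_lit 3) (nat_lit 4)))
 (TT.l (Ty.srel [nat_lit 1, nat_lit 3, nat_lit 0, nat_lit 1, nat_lit 2, nat_lit 0, nat_lit 3, nat_lit 1, nat_lit 3, nat_lit 2, nat_lit 5, nat_lit 0, nat_lit 1, nat_lit 3, nat_lit 1, nat_lit 2, nat_lit 3, nat_lit 2, nat_lit 1, nat_lit 3, nat_lit 0, nat_lit 5, nat_lit 2])))
 (TT.l (Ty.srel [nat_lit 4, nat_lit 3, nat_lit 4, nat_lit 3, nat_lit 4])))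
 (TT.n (TT.l (Ty.srel [nat_lit 2, nat_lit 1, nat_lit 3, nat_lit 6, nat_lit 3, nat_lit 1, nat_lit 2, nat_lit 3, nat_lit 6]))
 (TT.l (Ty.relL (nat_lit 0) [nat_lit 1, nat_lit 2, nat_lit 0, nat_lit 1, nat_lit 3, nat_lit 1, nat_lit 2, nat_lit 0, nat_lit 1, nat_lit 3, nat_lit 1, nat_lit 2, nat_lit 1, nat_lit 3, nat_lit 1, nat_lit 0, nat_lit 2, nat_lit 1, nat_lit 3, nat_lit 1, nat_lit 0, nat_lit 2, nat_lit 1])))))
 (TT.n (TT.n (TT.n (TT.n (TT.l (Ty.srel [nat_lit 3]))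
 (TT.l (Ty.relL (nat_lit 6) [nat_lit 3, nat_lit 2, nat_lit 1, nat_lit 3, nat_lit 6, nat_lit 3, nat_lit 1, nat_lit 2])))
 (TT.l (Ty.rel5 (nat_lit 5) (nat_lit 3) (nat_lit 5) (nat_lit 3) (nat_lit 5))))
 (TT.n (TT.l (Ty.rel3 (nat_lit 0) (nat_lit 3) (nat_lit 0)))
 (TT.l (Ty.srel [nat_lit 4, nat_lit 6, nat_lit 7, nat_lit 5, nat_lit 1, nat_lit 7, nat_lit 3, nat_lit 4, nat_lit 6, nat_lit 7, nat_lit 5, nat_lit 1, nat_lit 7, nat_lit 3, nat_lit 4, nat_lit 6, nat_lit 7, nat_lit 5, nat_lit 1, nat_lit 7, nat_lit 3, nat_lit 4, nat_lit 6, nat_lit 7, nat_lit 5, nat_lit 1, nat_lit 7, nat_lit 3, nat_lit 4, nat_lit 6, nat_lit 7, nat_lit 5, nat_lit 1, nat_lit 7]))))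
 (TT.n (TT.n (TT.l (Ty.srel [nat_lit 7, nat_lit 1, nat_lit 2, nat_lit 1, nat_lit 3, nat_lit 1, nat_lit 2, nat_lit 1, nat_lit 7, nat_lit 2, nat_lit 3, nat_lit 2, nat_lit 1, nat_lit 3, nat_lit 1, nat_lit 2]))
 (TT.l (Ty.srel [nat_lit 1, nat_lit 3, nat_lit 1, nat_lit 3, nat_lit 1, nat_lit 3, nat_lit 1])))
 (TT.n (TT.l (Ty.srel [nat_lit 1, nat_lit 2, nat_lit 1, nat_lit 7, nat_lit 3, nat_lit 2, nat_lit 1, nat_lit 3, nat_lit 1, nat_lit 2, nat_lit 3, nat_lit 2, nat_lit 7, nat_lit 1, nat_lit 2, nat_lit 1]))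
 (TT.l (Ty.relL (nat_lit 1) [nat_lit 3, nat_lit 4, nat_lit 3, nat_lit 1, nat_lit 3, nat_lit 4, nat_lit 1])))))))
noncomputable def ty4 : TT := (TT.n (TT.n (TT.n (TT.n (TT.n (TT.l (Ty.ssub [] []))
 (TT.l (Ty.relL (nat_lit 1) [nat_lit 3, nat_lit 1, nat_lit 3, nat_lit 4, nat_lit 3, nat_lit 1, nat_lit 3])))
 (TT.l (Ty.rel3 (nat_lit 1) (nat_lit 4) (nat_lit 1))))
 (TT.n (TT.l (Ty.rel3 (nat_lit 5) (nat_lit 4) (nat_lit 5)))
 (TT.l (Ty.srel [nat_lit 5, nat_lit 4, nat_lit 5]))))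
 (TT.n (TT.n (TT.n (TT.l (Ty.rel3 (nat_lit 0) (nat_lit 4) (nat_lit 0)))
 (TT.l (Ty.skip)))
 (TT.l (Ty.srel [nat_lit 3, nat_lit 1, nat_lit 3, nat_lit 4, nat_lit 1, nat_lit 3, nat_lit 1, nat_lit 3])))
 (TT.n (TT.l (Ty.rel3 (nat_lit 2) (nat_lit 4) (nat_lit 2)))
 (TT.l (Ty.rel5 (nat_lit 3) (nat_lit 4) (nat_lit 3) (nat_lit 4) (nat_lit 3))))))
 (TT.n (TT.n (TT.n (TT.n (TT.l (Ty.rel3 (nat_lit 7) (nat_lit 4) (nat_lit 7)))
 (TT.l (Ty.srel [nat_lit 7, nat_lit 4, nat_lit 7])))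
 (TT.l (Ty.srel [nat_lit 4])))
 (TT.n (TT.l (Ty.rel3 (nat_lit 6) (nat_lit 4) (nat_lit 6)))
 (TT.l (Ty.srel [nat_lit 1, nat_lit 3, nat_lit 1, nat_lit 3, nat_lit 4, nat_lit 3, nat_lit 1, nat_lit 3]))))
 (TT.n (TT.n (TT.l (Ty.rel1 (nat_lit 4)))
 (TT.l (Ty.srel [nat_lit 2, nat_lit 4, nat_lit 2])))
 (TT.n (TT.l (Ty.dfn))
 (TT.l (Ty.srel [nat_lit 3, nat_lit 1, nat_lit 3, nat_lit 1, nat_lit 4, nat_lit 3, nat_lit 1, nat_lit 3]))))))
noncomputable def ty5 : TT := (TT.n (TT.n (TT.n (TT.n (TT.n (TT.l (Ty.ssub [] []))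
 (TT.l (Ty.srel [nat_lit 6, nat_lit 0, nat_lit 1, nat_lit 6])))
 (TT.n (TT.l (Ty.rel5 (nat_lit 3) (nat_lit 5) (nat_lit 3) (nat_lit 5) (nat_lit 3)))
 (TT.l (Ty.srel [nat_lit 1, nat_lit 3, nat_lit 5, nat_lit 1, nat_lit 3, nat_lit 5, nat_lit 1, nat_lit 3]))))
 (TT.n (TT.n (TT.l (Ty.rel5 (nat_lit 0) (nat_lit 5) (nat_lit 0) (nat_lit 5) (nat_lit 0)))
 (TT.l (Ty.srel [nat_lit 0, nat_lit 3, nat_lit 1, nat_lit 2, nat_lit 3, nat_lit 2, nat_lit 1, nat_lit 3, nat_lit 1, nat_lit 0, nat_lit 5, nat_lit 2, nat_lit 3, nat_lit 1, nat_lit 3, nat_lit 0, nat_lit 2, nat_lit 1, nat_lit 0, nat_lit 3, nat_lit 1, nat_lit 3, nat_lit 2])))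
 (TT.l (Ty.srel [nat_lit 3, nat_lit 1, nat_lit 5, nat_lit 3, nat_lit 1, nat_lit 5, nat_lit 3, nat_lit 1]))))
 (TT.n (TT.n (TT.n (TT.l (Ty.srel [nat_lit 5]))
 (TT.l (Ty.srel [nat_lit 1, nat_lit 5, nat_lit 1, nat_lit 5, nat_lit 1, nat_lit 5, nat_lit 1])))
 (TT.l (Ty.relL (nat_lit 1) [nat_lit 5, nat_lit 1, nat_lit 5, nat_lit 1, nat_lit 5, nat_lit 1])))
 (TT.n (TT.n (TT.l (Ty.rel5 (nat_lit 7) (nat_lit 5) (nat_lit 7) (nat_lit 5) (nat_lit 7)))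
 (TT.l (Ty.srel [nat_lit 1, nat_lit 7, nat_lit 3, nat_lit 4, nat_lit 6, nat_lit 7, nat_lit 5, nat_lit 1, nat_lit 7, nat_lit 3, nat_lit 4, nat_lit 6, nat_lit 7, nat_lit 5, nat_lit 1, nat_lit 7, nat_lit 3, nat_lit 4, nat_lit 6, nat_lit 7, nat_lit 5, nat_lit 1, nat_lit 7, nat_lit 3, nat_lit 4, nat_lit 6, nat_lit 7, nat_lit 5, nat_lit 1, nat_lit 7, nat_lit 3, nat_lit 4, nat_lit 6, nat_lit 7])))
 (TT.l (Ty.srel [nat_lit 4, nat_lit 5, nat_lit 4])))))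
 (TT.n (TT.n (TT.n (TT.n (TT.l (Ty.rel1 (nat_lit 5)))
 (TT.l (Ty.srel [nat_lit 3, nat_lit 5, nat_lit 3, nat_lit 5, nat_lit 3])))
 (TT.n (TT.l (Ty.srel [nat_lit 7, nat_lit 5, nat_lit 7, nat_lit 5, nat_lit 7]))
 (TT.l (Ty.srel [nat_lit 2, nat_lit 5, nat_lit 2]))))
 (TT.n (TT.n (TT.l (Ty.relL (nat_lit 6) [nat_lit 0, nat_lit 1, nat_lit 6]))
 (TT.l (Ty.relL (nat_lit 1) [nat_lit 3, nat_lit 5, nat_lit 1, nat_lit 3, nat_lit 5, nat_lit 1, nat_lit 3])))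
 (TT.l (Ty.rel3 (nat_lit 4) (nat_lit 5) (nat_lit 4)))))
 (TT.n (TT.n (TT.n (TT.l (Ty.dfn))
 (TT.l (Ty.srel [nat_lit 2, nat_lit 3, nat_lit 1, nat_lit 3, nat_lit 0, nat_lit 1, nat_lit 2, nat_lit 0, nat_lit 3, nat_lit 1, nat_lit 3, nat_lit 2, nat_lit 5, nat_lit 0, nat_lit 1, nat_lit 3, nat_lit 1, nat_lit 2, nat_lit 3, nat_lit 2, nat_lit 1, nat_lit 3, nat_lit 0])))
 (TT.l (Ty.srel [nat_lit 0, nat_lit 5, nat_lit 0, nat_lit 5, nat_lit 0])))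
 (TT.n (TT.n (TT.l (Ty.rel3 (nat_lit 2) (nat_lit 5) (nat_lit 2)))
 (TT.l (Ty.skip)))
 (TT.l (Ty.srel [nat_lit 0, nat_lit 1, nat_lit 3, nat_lit 1, nat_lit 2, nat_lit 3, nat_lit 2, nat_lit 1, nat_lit 3, nat_lit 0, nat_lit 5, nat_lit 2, nat_lit 3, nat_lit 1, nat_lit 3, nat_lit 0, nat_lit 1, nat_lit 2, nat_lit 0, nat_lit 3, nat_lit 1, nat_lit 3, nat_lit 2]))))))
noncomputable def ty6 : TT := (TT.n (TT.n (TT.n (TT.n (TT.n (TT.l (Ty.ssub [] []))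
 (TT.l (Ty.srel [nat_lit 5, nat_lit 6, nat_lit 0, nat_lit 1])))
 (TT.n (TT.l (Ty.relL (nat_lit 0) [nat_lit 1, nat_lit 6, nat_lit 5]))
 (TT.l (Ty.skip))))
 (TT.n (TT.n (TT.l (Ty.relL (nat_lit 5) [nat_lit 6, nat_lit 0, nat_lit 1]))
 (TT.l (Ty.srel [nat_lit 4, nat_lit 6, nat_lit 4])))
 (TT.l (Ty.relL (nat_lit 3) [nat_lit 2, nat_lit 1, nat_lit 3, nat_lit 6, nat_lit 3, nat_lit 1, nat_lit 2, nat_lit 3]))))
 (TT.n (TT.n (TT.n (TT.l (Ty.dfn))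
 (TT.l (Ty.rel3 (nat_lit 4) (nat_lit 6) (nat_lit 4))))
 (TT.l (Ty.relL (nat_lit 1) [nat_lit 0, nat_lit 6, nat_lit 5])))
 (TT.n (TT.n (TT.l (Ty.relL (nat_lit 5) [nat_lit 6, nat_lit 1, nat_lit 0]))
 (TT.l (Ty.srel [nat_lit 2, nat_lit 6, nat_lit 1])))
 (TT.l (Ty.rel3 (nat_lit 2) (nat_lit 6) (nat_lit 1))))))
 (TT.n (TT.n (TT.n (TT.n (TT.l (Ty.rel1 (nat_lit 6)))
 (TT.l (Ty.srel [nat_lit 3, nat_lit 2, nat_lit 1, nat_lit 3, nat_lit 6, nat_lit 3, nat_lit 1, nat_lit 2, nat_lit 3])))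
 (TT.n (TT.l (Ty.rel3 (nat_lit 1) (nat_lit 6) (nat_lit 2)))
 (TT.l (Ty.srel [nat_lit 0, nat_lit 1, nat_lit 6, nat_lit 5]))))
 (TT.n (TT.n (TT.l (Ty.relL (nat_lit 7) [nat_lit 6, nat_lit 7, nat_lit 6, nat_lit 7, nat_lit 6, nat_lit 7]))
 (TT.l (Ty.srel [nat_lit 7, nat_lit 0, nat_lit 6, nat_lit 0, nat_lit 6, nat_lit 0, nat_lit 7, nat_lit 6, nat_lit 0, nat_lit 7, nat_lit 0])))
 (TT.l (Ty.srel [nat_lit 1, nat_lit 0, nat_lit 6, nat_lit 5]))))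
 (TT.n (TT.n (TT.n (TT.l (Ty.relL (nat_lit 0) [nat_lit 6, nat_lit 0, nat_lit 7, nat_lit 6, nat_lit 0, nat_lit 7, nat_lit 0, nat_lit 6, nat_lit 7, nat_lit 0]))
 (TT.l (Ty.relL (nat_lit 3) [nat_lit 6, nat_lit 3, nat_lit 6, nat_lit 3, nat_lit 6, nat_lit 3])))
 (TT.l (Ty.relL (nat_lit 0) [nat_lit 7, nat_lit 0, nat_lit 6, nat_lit 7, nat_lit 0, nat_lit 6, nat_lit 0, nat_lit 6, nat_lit 0, nat_lit 7])))
 (TT.n (TT.n (TT.l (Ty.srel [nat_lit 6]))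
 (TT.l (Ty.srel [nat_lit 3, nat_lit 6, nat_lit 3, nat_lit 6, nat_lit 3, nat_lit 6, nat_lit 3])))
 (TT.l (Ty.srel [nat_lit 0, nat_lit 7, nat_lit 0, nat_lit 6, nat_lit 7, nat_lit 0, nat_lit 6, nat_lit 0, nat_lit 6, nat_lit 0, nat_lit 7]))))))
noncomputable def ty7 : TT := (TT.n (TT.n (TT.n (TT.n (TT.n (TT.n (TT.l (Ty.rel1 (nat_lit 7)))
 (TT.l (Ty.relL (nat_lit 2) [nat_lit 3, nat_lit 2, nat_lit 1, nat_lit 3, nat_lit 1, nat_lit 2, nat_lit 3, nat_lit 7, nat_lit 1, nat_lit 2, nat_lit 1, nat_lit 3, nat_lit 1, nat_lit 2, nat_lit 1])))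
 (TT.l (Ty.srel [nat_lit 6, nat_lit 7, nat_lit 6, nat_lit 7, nat_lit 6, nat_lit 7, nat_lit 6])))
 (TT.n (TT.l (Ty.relL (nat_lit 0) [nat_lit 6, nat_lit 7, nat_lit 0, nat_lit 6, nat_lit 0, nat_lit 6, nat_lit 0, nat_lit 7, nat_lit 6, nat_lit 0]))
 (TT.l (Ty.srel [nat_lit 0, nat_lit 1, nat_lit 2, nat_lit 0, nat_lit 1, nat_lit 7, nat_lit 2]))))
 (TT.n (TT.n (TT.l (Ty.rel5 (nat_lit 5) (nat_lit 7) (nat_lit 5) (nat_lit 7) (nat_lit 5)))
 (TT.l (Ty.srel [nat_lit 3, nat_lit 2, nat_lit 1, nat_lit 3, nat_lit 1, nat_lit 2, nat_lit 3, nat_lit 2, nat_lit 7, nat_lit 1, nat_lit 2, nat_lit 1, nat_lit 3, nat_lit 1, nat_lit 2, nat_lit 1])))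
 (TT.n (TT.l (Ty.relL (nat_lit 2) [nat_lit 7, nat_lit 2, nat_lit 7, nat_lit 2, nat_lit 7, nat_lit 2]))
 (TT.l (Ty.srel [nat_lit 5, nat_lit 1, nat_lit 7, nat_lit 3, nat_lit 4, nat_lit 6, nat_lit 7, nat_lit 5, nat_lit 1, nat_lit 7, nat_lit 3, nat_lit 4, nat_lit 6, nat_lit 7, nat_lit 5, nat_lit 1, nat_lit 7, nat_lit 3, nat_lit 4, nat_lit 6, nat_lit 7, nat_lit 5, nat_lit 1, nat_lit 7, nat_lit 3, nat_lit 4, nat_lit 6, nat_lit 7, nat_lit 5, nat_lit 1, nat_lit 7, nat_lit 3, nat_lit 4, nat_lit 6])))))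
 (TT.n (TT.n (TT.n (TT.l (Ty.rel5 (nat_lit 0) (nat_lit 7) (nat_lit 0) (nat_lit 7) (nat_lit 0)))
 (TT.l (Ty.srel [nat_lit 2, nat_lit 3, nat_lit 2, nat_lit 1, nat_lit 3, nat_lit 1, nat_lit 2, nat_lit 3, nat_lit 7, nat_lit 1, nat_lit 2, nat_lit 1, nat_lit 3, nat_lit 1, nat_lit 2, nat_lit 1])))
 (TT.n (TT.l (Ty.srel [nat_lit 2, nat_lit 7, nat_lit 2, nat_lit 7, nat_lit 2, nat_lit 7, nat_lit 2]))
 (TT.l (Ty.srel [nat_lit 3, nat_lit 7, nat_lit 3, nat_lit 7, nat_lit 3]))))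
 (TT.n (TT.n (TT.l (Ty.relL (nat_lit 0) [nat_lit 6, nat_lit 0, nat_lit 6, nat_lit 0, nat_lit 7, nat_lit 6, nat_lit 0, nat_lit 7, nat_lit 0, nat_lit 6]))
 (TT.l (Ty.srel [nat_lit 3, nat_lit 4, nat_lit 6, nat_lit 7, nat_lit 5, nat_lit 1, nat_lit 7, nat_lit 3, nat_lit 4, nat_lit 6, nat_lit 7, nat_lit 5, nat_lit 1, nat_lit 7, nat_lit 3, nat_lit 4, nat_lit 6, nat_lit 7, nat_lit 5, nat_lit 1, nat_lit 7, nat_lit 3, nat_lit 4, nat_lit 6, nat_lit 7, nat_lit 5, nat_lit 1, nat_lit 7, nat_lit 3, nat_lit 4, nat_lit 6, nat_lit 7, nat_lit 5, nat_lit 1])))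
 (TT.n (TT.l (Ty.relL (nat_lit 1) [nat_lit 2, nat_lit 1, nat_lit 3, nat_lit 1, nat_lit 2, nat_lit 1, nat_lit 7, nat_lit 2, nat_lit 3, nat_lit 2, nat_lit 1, nat_lit 3, nat_lit 1, nat_lit 2, nat_lit 3]))
 (TT.l (Ty.skip))))))
 (TT.n (TT.n (TT.n (TT.n (TT.l (Ty.dfn))
 (TT.l (Ty.srel [nat_lit 0, nat_lit 7, nat_lit 0, nat_lit 7, nat_lit 0])))
 (TT.n (TT.l (Ty.relL (nat_lit 0) [nat_lit 1, nat_lit 2, nat_lit 0, nat_lit 1, nat_lit 7, nat_lit 2]))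
 (TT.l (Ty.srel [nat_lit 1, nat_lit 5, nat_lit 7, nat_lit 6, nat_lit 4, nat_lit 3, nat_lit 7, nat_lit 1, nat_lit 5, nat_lit 7, nat_lit 6, nat_lit 4, nat_lit 3, nat_lit 7, nat_lit 1, nat_lit 5, nat_lit 7, nat_lit 6, nat_lit 4, nat_lit 3, nat_lit 7, nat_lit 1, nat_lit 5, nat_lit 7, nat_lit 6, nat_lit 4, nat_lit 3, nat_lit 7, nat_lit 1, nat_lit 5, nat_lit 7, nat_lit 6, nat_lit 4, nat_lit 3]))))
 (TT.n (TT.n (TT.l (Ty.srel [nat_lit 7]))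
 (TT.l (Ty.srel [nat_lit 5, nat_lit 7, nat_lit 5, nat_lit 7, nat_lit 5])))
 (TT.n (TT.l (Ty.srel [nat_lit 0, nat_lit 6, nat_lit 7, nat_lit 0, nat_lit 6, nat_lit 0, nat_lit 6, nat_lit 0, nat_lit 7, nat_lit 6, nat_lit 0]))
 (TT.l (Ty.relL (nat_lit 1) [nat_lit 0, nat_lit 2, nat_lit 1, nat_lit 0, nat_lit 7, nat_lit 2])))))
 (TT.n (TT.n (TT.n (TT.l (Ty.rel5 (nat_lit 3) (nat_lit 7) (nat_lit 3) (nat_lit 7) (nat_lit 3)))
 (TT.l (Ty.relL (nat_lit 2) [nat_lit 7, nat_lit 0, nat_lit 1, nat_lit 2, nat_lit 0, nat_lit 1])))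
 (TT.n (TT.l (Ty.rel5 (nat_lit 1) (nat_lit 7) (nat_lit 1) (nat_lit 7) (nat_lit 1)))
 (TT.l (Ty.srel [nat_lit 1, nat_lit 2, nat_lit 1, nat_lit 3, nat_lit 1, nat_lit 2, nat_lit 1, nat_lit 7, nat_lit 3, nat_lit 2, nat_lit 1, nat_lit 3, nat_lit 1, nat_lit 2, nat_lit 3, nat_lit 2]))))
 (TT.n (TT.n (TT.l (Ty.rel3 (nat_lit 4) (nat_lit 7) (nat_lit 4)))
 (TT.l (Ty.srel [nat_lit 0, nat_lit 6, nat_lit 0, nat_lit 6, nat_lit 0, nat_lit 7, nat_lit 6, nat_lit 0, nat_lit 7, nat_lit 0, nat_lit 6])))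
 (TT.n (TT.l (Ty.relL (nat_lit 6) [nat_lit 7, nat_lit 6, nat_lit 7, nat_lit 6, nat_lit 7, nat_lit 6]))
 (TT.l (Ty.srel [nat_lit 1, nat_lit 7, nat_lit 1, nat_lit 7, nat_lit 1])))))))
noncomputable def ty8 : TT := (TT.n (TT.n (TT.n (TT.n (TT.n (TT.n (TT.l (Ty.skip))
 (TT.l (Ty.srel [nat_lit 4, nat_lit 5, nat_lit 4, nat_lit 5])))
 (TT.l (Ty.srel [nat_lit 7, nat_lit 5, nat_lit 1, nat_lit 7, nat_lit 3, nat_lit 4, nat_lit 6, nat_lit 7, nat_lit 5, nat_lit 1, nat_lit 7, nat_lit 3, nat_lit 4, nat_lit 6, nat_lit 7, nat_lit 5, nat_lit 1, nat_lit 7, nat_lit 3, nat_lit 4, nat_lit 6, nat_lit 7, nat_lit 5, nat_lit 1, nat_lit 7, nat_lit 3, nat_lit 4, nat_lit 6, nat_lit 7, nat_lit 5, nat_lit 1, nat_lit 7, nat_lit 3, nat_lit 4, nat_lit 6])))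
 (TT.n (TT.l (Ty.relL (nat_lit 1) [nat_lit 3, nat_lit 1, nat_lit 3, nat_lit 1, nat_lit 3, nat_lit 1, nat_lit 3]))
 (TT.l (Ty.srel [nat_lit 2, nat_lit 3, nat_lit 1, nat_lit 3, nat_lit 0, nat_lit 1, nat_lit 2, nat_lit 0, nat_lit 3, nat_lit 1, nat_lit 3, nat_lit 2, nat_lit 5, nat_lit 0, nat_lit 1, nat_lit 3, nat_lit 1, nat_lit 2, nat_lit 3, nat_lit 2, nat_lit 1, nat_lit 3, nat_lit 0, nat_lit 5]))))
 (TT.n (TT.n (TT.n (TT.l (Ty.srel [nat_lit 1, nat_lit 2, nat_lit 1, nat_lit 3, nat_lit 1, nat_lit 2, nat_lit 1, nat_lit 7, nat_lit 3, nat_lit 2, nat_lit 1, nat_lit 3, nat_lit 1, nat_lit 2, nat_lit 3, nat_lit 2, nat_lit 7]))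
 (TT.l (Ty.srel [nat_lit 1, nat_lit 0, nat_lit 2, nat_lit 1, nat_lit 0, nat_lit 7, nat_lit 2, nat_lit 7])))
 (TT.l (Ty.srel [nat_lit 3, nat_lit 0, nat_lit 3, nat_lit 0])))
 (TT.n (TT.l (Ty.relL (nat_lit 7) [nat_lit 5, nat_lit 7, nat_lit 5, nat_lit 7, nat_lit 5]))
 (TT.l (Ty.srel [nat_lit 0, nat_lit 2, nat_lit 0, nat_lit 2, nat_lit 0, nat_lit 2])))))
 (TT.n (TT.n (TT.n (TT.n (TT.l (Ty.srel [nat_lit 6, nat_lit 1, nat_lit 6, nat_lit 2]))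
 (TT.l (Ty.rel5 (nat_lit 6) (nat_lit 5) (nat_lit 6) (nat_lit 1) (nat_lit 0))))
 (TT.l (Ty.srel [nat_lit 4, nat_lit 7, nat_lit 4, nat_lit 7])))
 (TT.n (TT.l (Ty.srel [nat_lit 2, nat_lit 7, nat_lit 1, nat_lit 0, nat_lit 2, nat_lit 1, nat_lit 0, nat_lit 7]))
 (TT.l (Ty.relL (nat_lit 4) [nat_lit 3, nat_lit 1, nat_lit 3, nat_lit 4, nat_lit 3, nat_lit 1, nat_lit 3, nat_lit 1]))))
 (TT.n (TT.n (TT.l (Ty.relL (nat_lit 3) [nat_lit 6, nat_lit 3, nat_lit 6, nat_lit 3, nat_lit 6, nat_lit 3, nat_lit 6]))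
 (TT.l (Ty.srel [nat_lit 0, nat_lit 1, nat_lit 2, nat_lit 0, nat_lit 1, nat_lit 7, nat_lit 2, nat_lit 7])))
 (TT.n (TT.l (Ty.srel [nat_lit 3, nat_lit 7, nat_lit 3, nat_lit 7, nat_lit 3, nat_lit 7]))
 (TT.l (Ty.relL (nat_lit 7) [nat_lit 0, nat_lit 1, nat_lit 2, nat_lit 0, nat_lit 1, nat_lit 7, nat_lit 2]))))))
 (TT.n (TT.n (TT.n (TT.n (TT.n (TT.l (Ty.relL (nat_lit 0) [nat_lit 7, nat_lit 0, nat_lit 7, nat_lit 0, nat_lit 7]))
 (TT.l (Ty.relL (nat_lit 6) [nat_lit 2, nat_lit 6, nat_lit 1])))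
 (TT.l (Ty.srel [nat_lit 4, nat_lit 0, nat_lit 4, nat_lit 0])))
 (TT.n (TT.l (Ty.relL (nat_lit 0) [nat_lit 5, nat_lit 0, nat_lit 5, nat_lit 0, nat_lit 5]))
 (TT.l (Ty.srel [nat_lit 6, nat_lit 3, nat_lit 1, nat_lit 2, nat_lit 3, nat_lit 6, nat_lit 3, nat_lit 2, nat_lit 1, nat_lit 3]))))
 (TT.n (TT.n (TT.l (Ty.relL (nat_lit 7) [nat_lit 2, nat_lit 7, nat_lit 0, nat_lit 1, nat_lit 2, nat_lit 0, nat_lit 1]))
 (TT.l (Ty.srel [nat_lit 2, nat_lit 3, nat_lit 6, nat_lit 3, nat_lit 2, nat_lit 1, nat_lit 3, nat_lit 6, nat_lit 3, nat_lit 1])))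
 (TT.n (TT.l (Ty.relL (nat_lit 2) [nat_lit 6, nat_lit 1, nat_lit 6]))
 (TT.l (Ty.srel [nat_lit 3, nat_lit 1, nat_lit 2, nat_lit 1, nat_lit 7, nat_lit 2, nat_lit 3, nat_lit 2, nat_lit 1, nat_lit 3, nat_lit 1, nat_lit 2, nat_lit 3, nat_lit 7, nat_lit 1, nat_lit 2, nat_lit 1])))))
 (TT.n (TT.n (TT.n (TT.n (TT.l (Ty.srel [nat_lit 6, nat_lit 0, nat_lit 1, nat_lit 6, nat_lit 5]))
 (TT.l (Ty.relL (nat_lit 3) [nat_lit 2, nat_lit 1, nat_lit 3, nat_lit 1, nat_lit 2, nat_lit 3, nat_lit 2, nat_lit 7, nat_lit 1, nat_lit 2, nat_lit 1, nat_lit 3, nat_lit 1, nat_lit 2, nat_lit 1, nat_lit 7])))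
 (TT.l (Ty.srel [nat_lit 3, nat_lit 7, nat_lit 1, nat_lit 5, nat_lit 7, nat_lit 6, nat_lit 4, nat_lit 3, nat_lit 7, nat_lit 1, nat_lit 5, nat_lit 7, nat_lit 6, nat_lit 4, nat_lit 3, nat_lit 7, nat_lit 1, nat_lit 5, nat_lit 7, nat_lit 6, nat_lit 4, nat_lit 3, nat_lit 7, nat_lit 1, nat_lit 5, nat_lit 7, nat_lit 6, nat_lit 4, nat_lit 3, nat_lit 7, nat_lit 1, nat_lit 5, nat_lit 7, nat_lit 6, nat_lit 4])))
 (TT.n (TT.l (Ty.relL (nat_lit 0) [nat_lit 4, nat_lit 0, nat_lit 4]))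
 (TT.l (Ty.relL (nat_lit 5) [nat_lit 3, nat_lit 5, nat_lit 3, nat_lit 5, nat_lit 3]))))
 (TT.n (TT.n (TT.l (Ty.relL (nat_lit 3) [nat_lit 1, nat_lit 2, nat_lit 3, nat_lit 1, nat_lit 2, nat_lit 3, nat_lit 1, nat_lit 2, nat_lit 3, nat_lit 1, nat_lit 2, nat_lit 3, nat_lit 1, nat_lit 2]))
 (TT.l (Ty.relL (nat_lit 7) [nat_lit 3, nat_lit 7, nat_lit 3, nat_lit 7, nat_lit 3])))
 (TT.n (TT.l (Ty.srel [nat_lit 0, nat_lit 1, nat_lit 0, nat_lit 1]))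
 (TT.l (Ty.srel [nat_lit 6, nat_lit 2, nat_lit 6, nat_lit 1])))))))
noncomputable def C : Cert where
  tabs := [tab0, tab1, tab2, tab3, tab4, tab5, tab6, tab7, tab8, tab9, tab10, tab11, tab12, tab13, tab14, tab15, tab16, tab17, tab18]
  tts := [ty0, ty1, ty2, ty3, ty4, ty5, ty6, ty7, ty8]
  k := nat_lit 6
  base := nat_lit 38
  mJ := nat_lit 448
  mR := nat_lit 63
  W := nat_lit 23
  mA := nat_lit 65535
  mI := nat_lit 511
  S := nat_lit 16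
  mC := nat_lit 127
  nc := nat_lit 8
  lo := nat_lit 64
  live := nat_lit 340
  hi1 := nat_lit 471
  AW := nat_lit 15
  mAW := nat_lit 32767
def il : List ℕ := [0, 1, 2, 3, 4, 5, 6, 7]
def rels : List (List ℕ) := [[0, 1, 0, 1],
  [0, 2, 0, 2, 0, 2],
  [0, 3, 0, 3],
  [0, 4, 0, 4],
  [0, 5, 0, 5, 0, 5],
  [0, 6, 0, 6, 0, 6, 0, 6, 0, 6, 0, 6, 0, 6, 0, 6],
  [0, 7, 0, 7, 0, 7],
  [1, 2, 1, 2, 1, 2],
  [1, 3, 1, 3, 1, 3, 1, 3],
  [1, 4, 1, 4],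
  [1, 5, 1, 5, 1, 5, 1, 5],
  [1, 6, 1, 6, 1, 6, 1, 6, 1, 6, 1, 6],
  [1, 7, 1, 7, 1, 7],
  [2, 3, 2, 3, 2, 3],
  [2, 4, 2, 4],
  [2, 5, 2, 5],
  [2, 6, 2, 6, 2, 6, 2, 6, 2, 6, 2, 6],
  [2, 7, 2, 7, 2, 7, 2, 7],
  [3, 4, 3, 4, 3, 4],
  [3, 5, 3, 5, 3, 5],
  [3, 6, 3, 6, 3, 6, 3, 6],
  [3, 7, 3, 7, 3, 7],
  [4, 5, 4, 5],
  [4, 6, 4, 6],
  [4, 7, 4, 7],
  [5, 6, 5, 6, 5, 6, 5, 6, 5, 6, 5, 6],
  [5, 7, 5, 7, 5, 7],
  [6, 7, 6, 7, 6, 7, 6, 7],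
  [1, 2, 3, 1, 2, 3, 1, 2, 3, 1, 2, 3, 1, 2, 3],
  [0, 1, 2, 3, 2, 0, 1, 2, 3, 2, 0, 1, 2, 3, 2, 1, 0, 2, 3, 2, 1, 0, 2, 3, 2],
  [0, 1, 2, 0, 1, 3, 1, 2, 0, 1, 3, 1, 2, 1, 3, 1, 0, 2, 1, 3, 1, 0, 2, 1, 3],
  [1, 3, 1, 3, 4, 3, 1, 3, 4],
  [0, 1, 2, 0, 3, 1, 3, 2, 5, 0, 1, 3, 1, 2, 3, 2, 1, 3, 0, 5, 2, 3, 1, 3],
  [1, 3, 5, 1, 3, 5, 1, 3, 5],
  [0, 1, 2, 0, 1, 7, 2, 7],
  [1, 2, 3, 6, 3, 2, 1, 3, 6, 3],
  [0, 1, 6, 5, 6],
  [0, 6, 0, 6, 0, 7, 6, 0, 7, 0, 6, 7],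
  [1, 2, 1, 3, 1, 2, 1, 7, 2, 3, 2, 1, 3, 1, 2, 3, 7],
  [1, 6, 2, 6],
  [6, 7, 5, 1, 7, 3, 4, 6, 7, 5, 1, 7, 3, 4, 6, 7, 5, 1, 7, 3, 4, 6, 7, 5, 1, 7, 3, 4, 6, 7, 5, 1, 7, 3, 4]]
def subs : List (List ℕ) := [[0],
  [1],
  [2],
  [3],
  [4],
  [5],
  [6]]
theorem valid : C.valid il rels subs = true := by decide +kernel
theorem p0 : C.OkL 64 340 := C.okL_of 64 2 20 340 (by decide) (by decide +kernel)
theorem p1 : C.OkR 340 472 := C.okR_of 340 1 4 472 (by decide) (by decide +kernel)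
theorem covers {G : Type*} [Group G] (ev : ℕ → G) (H : Subgroup G)
    (hinv : ∀ x < 8, ev (il.getD x 0) = (ev x)⁻¹) (hr : ∀ r ∈ rels, evw ev r = 1)
    (hs : ∀ s ∈ subs, evw ev s ∈ H) : Covers H (gensub ev 8) 276 :=
  C.sound il rels subs 8 276 valid (p0) (p1) (by decide) (by decide) ev H hinv hr hs
end CfH6.LT8
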