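import Cfsg.Agent.OD.Pre
import Cfsg.Agent.H6.CoE
/-! A subgroup of Conway type containing the centraliser of its central involution is the whole group. -/
set_option autoImplicit false
set_option linter.all false
open CfL MulAction Subgroup CfH9
namespace CfH6.Co
variable {G : Type*} [Group G]

theorem dih1 {z v : G} (z2 : z * z = 1) (v2 : v * v = 1) (j : ℤ) : ((v * z) ^ j)⁻¹ * z = z * (v * z) ^ j := by
  rw [← (inv_conj_mul v2 z2 (zpow_mem_zpowers (v * z) j)).2, inv_mul_cancel_right]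

theorem dih2 {z v : G} (z2 : z * z = 1) (v2 : v * v = 1) (j : ℤ) :
    ((v * z) ^ (j + 1))⁻¹ * v * ((v * z) ^ (j + 1))⁻¹⁻¹ = z * (v * z) ^ (2 * j + 1) := by
  have e : v = v * z * z := by rw [mul_assoc, z2, mul_one]
  have := dih1 z2 v2 j
  generalize v * z = x at e this
  calc _ = (x ^ j)⁻¹ * z * x ^ (j + 1) := by rw [e]; group
    _ = _ := by rw [this]; group

theorem dih {z v w : G} (z2 : z * z = 1) (v2 : v * v = 1) (hw : w ∈ zpowers (v * z)) :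
    ∃ k ∈ zpowers (v * z), k * z * k⁻¹ = z * w ∨ k * v * k⁻¹ = z * w := by
  obtain ⟨n, rfl⟩ := mem_zpowers_iff.1 hw
  rcases Int.even_or_odd' n with ⟨j, rfl | rfl⟩
  · exact ⟨_, inv_mem (zpow_mem_zpowers _ j), Or.inl (by rw [dih1 z2 v2]; group)⟩
  · exact ⟨_, inv_mem (zpow_mem_zpowers _ (j + 1)), Or.inr (dih2 z2 v2 j)⟩

variable [Finite G]

theorem cenE {M E : Subgroup G} (O : Set G) (EM : E ≤ M) (OE : ∀ b ∈ O, b ∈ E)
    (hO : ∀ b ∈ O, ∀ m ∈ M, m * b * m⁻¹ ∈ E → m * b * m⁻¹ ∈ O) (hC : ∀ b ∈ O, ∀ g, g * b * g⁻¹ ∈ M → g ∈ M)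
    (e2 : ∀ u ∈ E, u * u = 1) (cE : Nat.card E = 2 ^ 11) (cO : O.ncard = 759)
    (hu : ∀ u ∈ E, u ≠ 1 → u ∉ O → {b ∈ O | b * u ∈ O}.ncard = 264 ∧ ∀ m ∈ M, m * u = u * m → ∀ e ∈ E, m * e * m⁻¹ ∈ E) :
    ∀ u ∈ E, u ≠ 1 → Cx(u) ≤ M := by
  classical
  have ec : ∀ a ∈ E, ∀ b ∈ E, a * b = b * a := fun a ha b hb => by
    rw [← inv_eq_of_mul_eq_one_right (e2 _ (mul_mem ha hb)), mul_inv_rev, inv_eq_of_mul_eq_one_right (e2 a ha),
      inv_eq_of_mul_eq_one_right (e2 b hb)]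
  have cO' : ∀ b ∈ O, Cx(b) ≤ M := fun b hb g hg => hC b hb g (by rw [mem_Cx'.1 hg]; exact EM (OE b hb))
  intro u0 h0 h1
  by_contra h2
  obtain ⟨U, ⟨U1, U2, U3⟩, U4⟩ := (Set.toFinite {U : Subgroup G | U ≤ E ∧ U ≠ ⊥ ∧ ¬ Cz(U) ≤ M}).exists_maximal
    ⟨zpowers u0, zpowers_le.2 h0, by simpa using h1, by rwa [Cz_zpowers]⟩
  have UO : ∀ u ∈ U, u ∉ O := fun u hu a => U3 fun g hg => cO' u a (mem_Cx.2 (hg u hu).symm)
  obtain ⟨g, g1, g2⟩ := SetLike.not_le_iff_exists.1 U3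
  obtain ⟨⟨u1, u2⟩, u3⟩ := (ne_bot_iff_exists_ne_one).1 U2
  have nE : ∀ m ∈ M, m ∈ Cz(U) → ∀ e ∈ E, m * e * m⁻¹ ∈ E := fun m a b =>
    (hu u1 (U1 u2) (fun e => u3 (Subtype.ext e)) (UO u1 u2)).2 m a (b u1 u2).symm
  have EL : E ≤ Cz(U) := fun e he u hu => ec u (U1 hu) e he
  have key : ∀ b ∈ O, ∀ b' ∈ O, ∃ h ∈ M, h ∈ Cz(U) ∧ ∃ u ∈ U, h * b * h⁻¹ = b' * u := fun b hb b' hb' => by
    have b2 := e2 b' (OE b' hb')
    have t2 : g * b * g⁻¹ * (g * b * g⁻¹) = 1 := by rw [conj_mul, e2 b (OE b hb)]; simp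
    have tL : g * b * g⁻¹ ∈ Cz(U) := mul_mem (mul_mem g1 (EL (OE b hb))) (inv_mem g1)
    have xL : zpowers (g * b * g⁻¹ * b') ≤ Cz(U) := zpowers_le.2 (mul_mem tL (EL (OE b' hb')))
    have fin : ∀ k ∈ zpowers (g * b * g⁻¹ * b'), ∀ y ∈ M, k * (g * b * g⁻¹) * k⁻¹ = b' * y →
        k * g ∈ M ∧ k * g ∈ Cz(U) ∧ k * g * b * (k * g)⁻¹ = b' * y := fun k hk y hy e => by
      have e' : k * g * b * (k * g)⁻¹ = b' * y := by rw [← e]; group
      exact ⟨hC b hb _ (e' ▸ mul_mem (EM (OE b' hb')) hy), mul_mem (xL hk) g1, e'⟩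
    have inE : ∀ y ∈ zpowers (g * b * g⁻¹ * b'), y ∈ M → y ∈ E := fun y hy a => by
      refine (mul_mem_cancel_left (OE b' hb')).1 ?_
      obtain ⟨k, hk, e | e⟩ := dih b2 t2 hy
      · exact e ▸ nE k (hC b' hb' k (e ▸ mul_mem (EM (OE b' hb')) a)) (xL hk) _ (OE b' hb')
      · obtain ⟨c1, c2, c3⟩ := fin k hk y a e
        exact c3 ▸ nE _ c1 c2 _ (OE b hb)
    rcases Nat.even_or_odd (orderOf (g * b * g⁻¹ * b')) with a | ⟨j, a⟩
    · obtain ⟨w, hw, w2, w1⟩ := exists_invol_of_even a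
      obtain ⟨c1, c2⟩ := comm_of_mem_zpowers t2 b2 hw w2
      have wM := cO' b' hb' (mem_Cx.2 c2.symm)
      have wE := inE w hw wM
      have wU : w ∈ U := by
        by_contra n
        refine n (U4 (y := U ⊔ zpowers w) ⟨sup_le U1 (zpowers_le.2 wE), fun e => U2 (eq_bot_iff.2 (le_sup_left.trans e.le)),
          fun e => g2 (hC b hb g (e ?_))⟩ le_sup_left (mem_sup_right (mem_zpowers w)))
        exact fun y hy => mem_Cx.1 ((sup_le (fun u hu => mem_Cx.2 (tL u hu)) (zpowers_le.2 (mem_Cx.2 c1.symm)) :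
          U ⊔ zpowers w ≤ Cx(g * b * g⁻¹)) hy)
      obtain ⟨k, hk, e | e⟩ := dih b2 t2 hw
      · rw [ec k (inE k hk (hC b' hb' k (e ▸ mul_mem (EM (OE b' hb')) wM))) b' (OE b' hb'), mul_inv_cancel_right,
          eq_comm, mul_eq_left] at e
        exact absurd e w1
      · obtain ⟨c1, c2, c3⟩ := fin k hk w wM e
        exact ⟨_, c1, c2, w, wU, c3⟩
    · have e := dih2 b2 t2 j
      rw [show (2 * j + 1 : ℤ) = (2 * j + 1 : ℕ) by push_cast; rfl, ← a, zpow_natCast, pow_orderOf_eq_one] at e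
      obtain ⟨c1, c2, c3⟩ := fin _ (inv_mem (zpow_mem_zpowers _ _)) 1 (one_mem _) e
      exact ⟨_, c1, c2, 1, one_mem _, c3⟩
  let Of := (Set.toFinite O).toFinset
  let Uf := (Set.toFinite (U : Set G)).toFinset
  have mO : ∀ {b}, b ∈ Of ↔ b ∈ O := Set.Finite.mem_toFinset _
  have mU : ∀ {b}, b ∈ Uf ↔ b ∈ U := Set.Finite.mem_toFinset _
  have le : ∀ b ∈ O, ∀ b' ∈ O, (Uf.filter fun u => b * u ∈ O).card ≤ (Uf.filter fun u => b' * u ∈ O).card :=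
    fun b hb b' hb' => by
      obtain ⟨h, h1, h2, u, hu, e⟩ := key b hb b' hb'
      refine Finset.card_le_card_of_injOn (u * ·) (fun y hy => ?_) (mul_right_injective u).injOn
      simp only [Finset.coe_filter, Set.mem_setOf_eq, mU] at hy ⊢
      refine ⟨mul_mem hu hy.1, ?_⟩
      have : h * (b * y) * h⁻¹ = b' * (u * y) := by
        rw [← mul_assoc b', ← e, ← mul_assoc h, mul_assoc _ y, mul_assoc _ h⁻¹, (show Commute y h from h2 y hy.1).inv_right.eq]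
      exact this ▸ hO _ hy.2 h h1 (nE h h1 h2 _ (OE _ hy.2))
  obtain ⟨b0, hb0⟩ : O.Nonempty := Set.nonempty_of_ncard_ne_zero (by omega)
  have s := Finset.sum_card_bipartiteAbove_eq_sum_card_bipartiteBelow (s := Of) (t := Uf) fun b u => b * u ∈ O
  have c1 : Of.card = 759 := by rw [← cO, Set.ncard_eq_toFinset_card O]
  have c2 : Uf.card = Nat.card U := by rw [← Set.ncard_eq_toFinset_card (U : Set G)]; rfl
  simp only [Finset.bipartiteAbove, Finset.bipartiteBelow] at s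
  rw [Finset.sum_const_nat (m := (Uf.filter fun u => b0 * u ∈ O).card) fun b hb =>
    le_antisymm (le b (mO.1 hb) b0 hb0) (le b0 hb0 b (mO.1 hb)), ← Finset.add_sum_erase _ _ (mU.2 U.one_mem),
    Finset.sum_const_nat (m := 264) fun u a => ?_, Finset.card_erase_of_mem (mU.2 U.one_mem), c1, c2,
    Finset.filter_true_of_mem (s := Of) fun b hb => by simpa using mO.1 hb, c1] at s
  · obtain ⟨k, k1, k2⟩ := (Nat.dvd_prime_pow Nat.prime_two).1 (cE ▸ card_dvd_of_le U1)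
    have k0 : k ≠ 0 := fun e => U2 (eq_bot_of_card_eq _ (by rw [k2, e, pow_zero]))
    have k3 : k ≠ 11 := fun e => UO b0 ((eq_of_le_of_card_ge U1 (by rw [k2, e, cE])).ge (OE b0 hb0)) hb0
    rw [k2] at s
    interval_cases k <;> omega
  · rw [Finset.mem_erase, mU] at a
    rw [← (hu u (U1 a.2) a.1 (UO u a.2)).1, ← Set.ncard_coe_finset]
    congr 1
    ext b
    simp [mO]

theorem fin_surj {Γ : Type*} [Group Γ] (ψ : Γ →* G) (hψ : Function.Injective ψ) (a : Γ) (E : Subgroup Γ) (B : Γ → Prop)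
    (aE : a ∈ E) (hz : Cx(ψ a) ≤ ψ.range) (h11 : ¬ 11 ∣ Nat.card Cx(ψ a)) (h13 : ¬ 13 ∣ Nat.card Cx(ψ a))
    (e2 : ∀ u ∈ E, u * u = 1) (cE : Nat.card E = 2 ^ 11) (cO : {b ∈ E | IsConj a b}.ncard = 759)
    (hu : ∀ u ∈ E, u ≠ 1 → ¬ IsConj a u → {b ∈ E | IsConj a b ∧ IsConj a (b * u)}.ncard = 264 ∧
      (∀ m, m * u = u * m → ∀ e ∈ E, m * e * m⁻¹ ∈ E) ∧ 11 ∣ Nat.card Cx(u) ∧ ¬ 13 ∣ Nat.card Cx(u))
    (cl : ∀ s, s * s = 1 → (∃ u ∈ E, IsConj u s) ∨ B s)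
    (hB : ∀ s, B s → 13 ∣ Nat.card Cx(s) ∧ (s * a = a * s → B (a * s))) : Function.Surjective ψ := by
  have : Finite Γ := Finite.of_injective ψ hψ
  have a2 := e2 a aE
  have mr : ∀ m, ψ m ∈ ψ.range := fun m => ⟨m, rfl⟩
  have dv : ∀ s, Nat.card Cx(s) ∣ Nat.card Cx(ψ s) := fun s => by
    rw [← card_map_of_injective (K := Cx(s)) hψ]
    refine card_dvd_of_le ?_
    rintro _ ⟨g, hg, rfl⟩
    rw [mem_Cx, ← map_mul, ← map_mul, mem_Cx.1 hg]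
  have eq : ∀ s, Cx(ψ s) ≤ ψ.range → Nat.card Cx(ψ s) = Nat.card Cx(s) := fun s h => by
    rw [← card_map_of_injective (K := Cx(s)) hψ]
    refine congrArg (fun K : Subgroup G => Nat.card K) (le_antisymm (fun g hg => ?_) ?_)
    · obtain ⟨g, rfl⟩ := h hg
      exact ⟨g, mem_Cx.2 (hψ (by rw [map_mul, map_mul, mem_Cx.1 hg])), rfl⟩
    · rintro _ ⟨g, hg, rfl⟩
      rw [mem_Cx, ← map_mul, ← map_mul, mem_Cx.1 hg]
  have a1 : a ≠ 1 := fun e => by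
    have : {b ∈ E | IsConj a b} ⊆ {1} := fun b hb => by simpa [e, eq_comm] using hb.2
    have := Set.ncard_le_ncard this
    rw [cO, Set.ncard_singleton] at this
    omega
  have fu : ∀ s, IsConj (ψ a) (ψ s) → IsConj a s := fun s h => by
    have c := dv s
    rw [← card_Cx_conj h] at c
    rcases cl s (hψ (by rw [map_mul, sq_of_isConj h (by rw [← map_mul, a2, map_one]), map_one])) with ⟨u, h1, h2⟩ | b
    · by_contra n
      refine h11 (Dvd.dvd.trans ?_ c)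
      rw [← card_Cx_conj h2]
      refine (hu u h1 (fun e => ne_one_of_isConj h (fun e => a1 (hψ (e.trans (map_one ψ).symm))) ?_)
        fun e => n (e.trans h2)).2.2.1
      rw [e, isConj_one_right] at h2
      rw [h2, map_one]
    · exact absurd ((hB s b).1.trans c) h13
  have hC : ∀ b, IsConj a b → ∀ g, g * ψ b * g⁻¹ ∈ ψ.range → g ∈ ψ.range := fun b hb g ⟨s, e⟩ => by
    obtain ⟨m, rfl⟩ := isConj_iff.1 hb
    obtain ⟨n, rfl⟩ := isConj_iff.1 (fu s ((ψ.map_isConj hb).trans (isConj_iff.2 ⟨g, e.symm⟩)))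
    have : (ψ n)⁻¹ * g * ψ m ∈ ψ.range := hz (mem_Cx'.2 (by
      simp only [map_mul, map_inv] at e
      calc _ = (ψ n)⁻¹ * (g * (ψ m * ψ a * (ψ m)⁻¹) * g⁻¹) * ψ n := by group
        _ = _ := by rw [← e]; group))
    rwa [mul_mem_cancel_right (mr m), mul_mem_cancel_left (inv_mem (mr n))] at this
  have cen : ∀ u ∈ E, u ≠ 1 → Cx(ψ u) ≤ ψ.range := fun u h1 h2 => cenE (E := E.map ψ) (ψ '' {b ∈ E | IsConj a b})
    (map_le_range _ _) (by rintro _ ⟨b, hb, rfl⟩; exact ⟨b, hb.1, rfl⟩) (by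
      rintro _ ⟨b, hb, rfl⟩ _ ⟨m, rfl⟩ ⟨c, hc, e⟩
      rw [← map_inv, ← map_mul, ← map_mul] at e ⊢
      exact ⟨_, ⟨hψ e ▸ hc, hb.2.trans (isConj_iff.2 ⟨m, rfl⟩)⟩, rfl⟩) (by rintro _ ⟨b, hb, rfl⟩; exact hC b hb.2)
    (by rintro _ ⟨b, hb, rfl⟩; rw [← map_mul, e2 b hb, map_one]) (by rw [card_map_of_injective hψ, cE])
    (by rw [Set.ncard_image_of_injective _ hψ, cO]) (by
      rintro _ ⟨u, h1, rfl⟩ h2 h3
      obtain ⟨c1, c2, -⟩ := hu u h1 (fun e => h2 (by rw [e, map_one])) fun e => h3 ⟨u, ⟨h1, e⟩, rfl⟩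
      refine ⟨?_, ?_⟩
      · rw [← c1, ← Set.ncard_image_of_injective _ hψ]
        congr 1
        ext b
        refine ⟨?_, ?_⟩
        · rintro ⟨⟨b, hb, rfl⟩, c, hc, e⟩
          exact ⟨b, ⟨hb.1, hb.2, hψ (e.trans (map_mul ψ _ _).symm) ▸ hc.2⟩, rfl⟩
        · rintro ⟨b, hb, rfl⟩
          exact ⟨⟨b, ⟨hb.1, hb.2.1⟩, rfl⟩, b * u, ⟨mul_mem hb.1 h1, hb.2.2⟩, map_mul ψ _ _⟩
      · rintro _ ⟨m, rfl⟩ e _ ⟨c, hc, rfl⟩
        exact ⟨_, c2 m (hψ (by simpa using e)) c hc, by simp⟩) _ ⟨u, h1, rfl⟩ fun e => h2 (hψ (e.trans (map_one ψ).symm))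
  have cen' : ∀ s, s * s = 1 → s ≠ 1 → ¬ B s → Cx(ψ s) ≤ ψ.range ∧ ¬ 13 ∣ Nat.card Cx(ψ s) := fun s s2 s1 nb => by
    obtain ⟨u, h1, h2⟩ := (cl s s2).resolve_right nb
    have u1 := ne_one_of_isConj h2.symm s1
    refine ⟨fun g hg => ?_, ?_⟩
    · obtain ⟨m, rfl⟩ := isConj_iff.1 h2
      have : (ψ m)⁻¹ * g * ψ m ∈ ψ.range := cen u h1 u1 (mem_Cx'.2 (by
        have e := mem_Cx'.1 hg
        simp only [map_mul, map_inv] at e
        calc _ = (ψ m)⁻¹ * (g * (ψ m * ψ u * (ψ m)⁻¹) * g⁻¹) * ψ m := by group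
          _ = _ := by rw [e]; group))
      rwa [mul_mem_cancel_right (mr m), mul_mem_cancel_left (inv_mem (mr m))] at this
    · rw [← card_Cx_conj (ψ.map_isConj h2)]
      by_cases c : IsConj a u
      · rwa [← card_Cx_conj (ψ.map_isConj c)]
      · rw [eq u (cen u h1 u1)]; exact (hu u h1 u1 c).2.2.2
  obtain ⟨v, v1, v2, v3⟩ : ∃ v ∈ E, v ≠ 1 ∧ ¬ IsConj a v := by
    by_contra n
    have : (E : Set Γ) ⊆ insert 1 {b ∈ E | IsConj a b} := fun v hv => by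
      by_contra c
      exact n ⟨v, hv, fun e => c (Or.inl e), fun e => c (Or.inr ⟨hv, e⟩)⟩
    have := (Set.ncard_le_ncard this).trans (Set.ncard_insert_le _ _)
    rw [cO, ← Nat.card_coe_set_eq, show Nat.card (E : Set Γ) = 2 ^ 11 from cE] at this
    omega
  intro g
  refine hC a (IsConj.refl a) g ?_
  have z2 : ψ a * ψ a = 1 := by rw [← map_mul, a2, map_one]
  have w2 : ψ v * ψ v = 1 := by rw [← map_mul, e2 v v1, map_one]
  have tc : IsConj (ψ a) (g * ψ a * g⁻¹) := isConj_iff.2 ⟨g, rfl⟩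
  have t2 := sq_of_isConj tc z2
  rcases Nat.even_or_odd (orderOf (ψ v * (g * ψ a * g⁻¹))) with h | h
  swap
  · obtain ⟨j, j2, hj⟩ := invol_conj_of_odd t2 w2 h
    exact absurd (fu v (tc.trans (isConj_iff.2 ⟨j, by rwa [inv_eq_of_mul_eq_one_right j2]⟩))) v3
  obtain ⟨w, hw, x2, x1⟩ := exists_invol_of_even h
  obtain ⟨c1, c2⟩ := comm_of_mem_zpowers w2 t2 hw x2
  obtain ⟨s, rfl⟩ := cen v v1 v2 (mem_Cx.2 c1.symm)
  obtain ⟨s', e⟩ := hz (x := g⁻¹ * ψ s * g) (mem_Cx.2 (by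
    calc _ = g⁻¹ * (ψ s * (g * ψ a * g⁻¹)) * g := by group
      _ = _ := by rw [← c2]; group))
  have cs : IsConj (ψ s) (ψ s') := isConj_iff.2 ⟨g⁻¹, by rw [e, inv_inv]⟩
  have s1 : s ≠ 1 := fun e => x1 (by rw [e, map_one])
  refine (cen' s (hψ (by rw [map_mul, x2, map_one])) s1 fun b => ?_).1 (mem_Cx.2 c2)
  have b' : B s' := by
    by_contra n
    exact (cen' s' (hψ (by rw [map_mul, sq_of_isConj cs x2, map_one])) (fun e => ne_one_of_isConj cs x1 (by rw [e, map_one]))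
      n).2 (card_Cx_conj cs ▸ (hB s b).1.trans (dv s))
  have d := (hB _ ((hB s' b').2 (hψ (by
    rw [map_mul, map_mul, e]
    calc _ = g⁻¹ * (ψ s * (g * ψ a * g⁻¹)) * g := by group
      _ = _ := by rw [← c2]; group)))).1.trans (dv _)
  rw [card_Cx_conj (b := g * ψ a * g⁻¹ * ψ s) (isConj_iff.2 ⟨g, by rw [map_mul, e]; group⟩)] at d
  rcases conj_mul_zpowers t2 w2 hw with k | k <;> rw [← card_Cx_conj k] at d
  · exact h13 (card_Cx_conj tc ▸ d)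
  · rw [eq v (cen v v1 v2)] at d
    exact (hu v v1 v2 v3).2.2.2 d
end CfH6.Co
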