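import Cfsg.Agent.OD.Pre
import Cfsg.Agent.H6.TCTop
/-! coset enumeration certificate; generators c d e f h i ; index 27 -/
set_option autoImplicit false
set_option maxRecDepth 100000
set_option Elab.async false
set_option linter.all false
namespace CfH6.F22T4
open CfH6
noncomputable def tab0 : Tr := (Tr.l (nat_lit 0x8a5a69d97958385648d7275447d555d126d246532650364f25ce35cd65cc354b854a84c774c8454963c54446524342c4324221c110c0))
noncomputable def tab1 : Tr := (Tr.l (nat_lit 0x795a68d9475737d887d6275526d256d33754454f265035d1254e85cd65cc84cb74c9354a434673c733c86345534441c2324321c110c0))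
noncomputable def tab2 : Tr := (Tr.l (nat_lit 0x695a57d84859385737d627d52754875326d076d1475235cd254e464f544a34cb44cc6449744863c752c45243434642c5324221c110c0))
noncomputable def tab3 : Tr := (Tr.l (nat_lit 0x785968da485837d73756275526d456d326524651264e35cf66d0354b854c65cd73c87346644a72c563c96347534442c3324221c110c0))
noncomputable def tab4 : Tr := (Tr.l (nat_lit 0x795a68d9485836d53654275726d656d38652465185d034cc854e344a254f33c824cd7449244b73c763c66345534442c3314121c210c0))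
noncomputable def tab5 : Tr := (Tr.l (nat_lit 0x795a68d9485837d73756265325d116d5254f165424cd15d2244b1550654c14ce74ca7449444873c763c66345534442c3324220c01141))
noncomputable def tab6 : Tr := (Tr.l (nat_lit 0))
noncomputable def tab7 : Tr := (Tr.l (nat_lit 0x321445505154542433132201450))
noncomputable def tab8 : Tr := (Tr.l (nat_lit 0))
noncomputable def tab9 : Tr := (Tr.l (nat_lit 0))
noncomputable def tab10 : Tr := (Tr.l (nat_lit 0))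
noncomputable def tab11 : Tr := (Tr.l (nat_lit 0))
noncomputable def tab12 : Tr := (Tr.l (nat_lit 0))
noncomputable def tab13 : Tr := (Tr.l (nat_lit 0))
noncomputable def tab14 : Tr := (Tr.l (nat_lit 0))
noncomputable def ty0 : TT := (TT.n (TT.n (TT.n (TT.l (Ty.ssub [] []))
 (TT.l (Ty.dfn)))
 (TT.n (TT.l (Ty.rel3 (nat_lit 4) (nat_lit 0) (nat_lit 4)))
 (TT.l (Ty.rel5 (nat_lit 1) (nat_lit 0) (nat_lit 1) (nat_lit 0) (nat_lit 1)))))
 (TT.n (TT.n (TT.l (Ty.rel3 (nat_lit 5) (nat_lit 0) (nat_lit 5)))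
 (TT.l (Ty.rel3 (nat_lit 2) (nat_lit 0) (nat_lit 2))))
 (TT.n (TT.l (Ty.rel1 (nat_lit 0)))
 (TT.l (Ty.rel3 (nat_lit 3) (nat_lit 0) (nat_lit 3))))))
noncomputable def ty1 : TT := (TT.n (TT.n (TT.n (TT.l (Ty.ssub [] []))
 (TT.l (Ty.rel5 (nat_lit 0) (nat_lit 1) (nat_lit 0) (nat_lit 1) (nat_lit 0))))
 (TT.n (TT.l (Ty.rel1 (nat_lit 1)))
 (TT.l (Ty.rel3 (nat_lit 3) (nat_lit 1) (nat_lit 3)))))
 (TT.n (TT.n (TT.l (Ty.rel3 (nat_lit 5) (nat_lit 1) (nat_lit 5)))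
 (TT.l (Ty.rel5 (nat_lit 2) (nat_lit 1) (nat_lit 2) (nat_lit 1) (nat_lit 2))))
 (TT.n (TT.l (Ty.dfn))
 (TT.l (Ty.rel5 (nat_lit 4) (nat_lit 1) (nat_lit 4) (nat_lit 1) (nat_lit 4))))))
noncomputable def ty2 : TT := (TT.n (TT.n (TT.n (TT.l (Ty.ssub [] []))
 (TT.l (Ty.dfn)))
 (TT.n (TT.l (Ty.rel3 (nat_lit 4) (nat_lit 2) (nat_lit 4)))
 (TT.l (Ty.rel5 (nat_lit 1) (nat_lit 2) (nat_lit 1) (nat_lit 2) (nat_lit 1)))))
 (TT.n (TT.n (TT.l (Ty.rel3 (nat_lit 5) (nat_lit 2) (nat_lit 5)))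
 (TT.l (Ty.rel5 (nat_lit 3) (nat_lit 2) (nat_lit 3) (nat_lit 2) (nat_lit 3))))
 (TT.n (TT.l (Ty.rel1 (nat_lit 2)))
 (TT.l (Ty.rel3 (nat_lit 0) (nat_lit 2) (nat_lit 0))))))
noncomputable def ty3 : TT := (TT.n (TT.n (TT.n (TT.l (Ty.ssub [] []))
 (TT.l (Ty.rel3 (nat_lit 0) (nat_lit 3) (nat_lit 0))))
 (TT.n (TT.l (Ty.rel3 (nat_lit 4) (nat_lit 3) (nat_lit 4)))
 (TT.l (Ty.dfn))))
 (TT.n (TT.n (TT.l (Ty.rel3 (nat_lit 5) (nat_lit 3) (nat_lit 5)))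
 (TT.l (Ty.rel1 (nat_lit 3))))
 (TT.n (TT.l (Ty.rel3 (nat_lit 1) (nat_lit 3) (nat_lit 1)))
 (TT.l (Ty.rel5 (nat_lit 2) (nat_lit 3) (nat_lit 2) (nat_lit 3) (nat_lit 2))))))
noncomputable def ty4 : TT := (TT.n (TT.n (TT.n (TT.l (Ty.ssub [] []))
 (TT.l (Ty.rel3 (nat_lit 0) (nat_lit 4) (nat_lit 0))))
 (TT.n (TT.l (Ty.dfn))
 (TT.l (Ty.rel3 (nat_lit 3) (nat_lit 4) (nat_lit 3)))))
 (TT.n (TT.n (TT.l (Ty.rel1 (nat_lit 4)))
 (TT.l (Ty.rel3 (nat_lit 2) (nat_lit 4) (nat_lit 2))))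
 (TT.n (TT.l (Ty.rel5 (nat_lit 1) (nat_lit 4) (nat_lit 1) (nat_lit 4) (nat_lit 1)))
 (TT.l (Ty.rel5 (nat_lit 5) (nat_lit 4) (nat_lit 5) (nat_lit 4) (nat_lit 5))))))
noncomputable def ty5 : TT := (TT.n (TT.n (TT.n (TT.l (Ty.rel1 (nat_lit 5)))
 (TT.l (Ty.rel3 (nat_lit 0) (nat_lit 5) (nat_lit 0))))
 (TT.n (TT.l (Ty.rel5 (nat_lit 4) (nat_lit 5) (nat_lit 4) (nat_lit 5) (nat_lit 4)))
 (TT.l (Ty.rel3 (nat_lit 3) (nat_lit 5) (nat_lit 3)))))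
 (TT.n (TT.n (TT.l (Ty.dfn))
 (TT.l (Ty.rel3 (nat_lit 2) (nat_lit 5) (nat_lit 2))))
 (TT.l (Ty.rel3 (nat_lit 1) (nat_lit 5) (nat_lit 1)))))
noncomputable def ty6 : TT := (TT.l (Ty.skip))
noncomputable def C : Cert where
  tabs := [tab0, tab1, tab2, tab3, tab4, tab5, tab6, tab7, tab8, tab9, tab10, tab11, tab12, tab13, tab14]
  tts := [ty0, ty1, ty2, ty3, ty4, ty5, ty6]
  k := nat_lit 6
  base := nat_lit 8
  mJ := nat_lit 64
  mR := nat_lit 63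
  W := nat_lit 16
  mA := nat_lit 4095
  mI := nat_lit 127
  S := nat_lit 12
  mC := nat_lit 15
  nc := nat_lit 6
  lo := nat_lit 64
  live := nat_lit 91
  hi1 := nat_lit 90
  AW := nat_lit 13
  mAW := nat_lit 8191
def il : List ℕ := [0, 1, 2, 3, 4, 5]
def rels : List (List ℕ) := [[0, 1, 0, 1, 0, 1],
  [0, 2, 0, 2],
  [0, 3, 0, 3],
  [0, 4, 0, 4],
  [0, 5, 0, 5],
  [1, 2, 1, 2, 1, 2],
  [1, 3, 1, 3],
  [1, 4, 1, 4, 1, 4],
  [1, 5, 1, 5],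
  [2, 3, 2, 3, 2, 3],
  [2, 4, 2, 4],
  [2, 5, 2, 5],
  [3, 4, 3, 4],
  [3, 5, 3, 5],
  [4, 5, 4, 5, 4, 5]]
def subs : List (List ℕ) := [[0],
  [1],
  [2],
  [3],
  [4]]
theorem valid : C.valid il rels subs = true := by decide +kernel
theorem p0 : C.OkL 64 91 := C.okL_of 64 0 27 91 (by decide) (by decide +kernel)
theorem covers {G : Type*} [Group G] (ev : ℕ → G) (H : Subgroup G)
    (hinv : ∀ x < 6, ev (il.getD x 0) = (ev x)⁻¹) (hr : ∀ r ∈ rels, evw ev r = 1)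
    (hs : ∀ s ∈ subs, evw ev s ∈ H) : Covers H (gensub ev 6) 27 :=
  C.sound il rels subs 6 27 valid (p0) (Cert.OkR.nil C _) (by decide) (by decide) ev H hinv hr hs
end CfH6.F22T4
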