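import Cfsg.Agent.OD.Pre
import Cfsg.Agent.H6.TCTop
/-! coset enumeration certificate; generators c d e f h ; index 16 -/
set_option autoImplicit false
set_option maxRecDepth 100000
set_option Elab.async false
set_option linter.all false
namespace CfH6.F22T5
open CfH6
noncomputable def tab0 : Tr := (Tr.l (nat_lit 0x9539dcf573554cb52d4caf327c46d11dcc8ad11bc58709a4347048c0))
noncomputable def tab1 : Tr := (Tr.l (nat_lit 0x993dccd553bd4cb52fc4ad1214c96b173464d1eac48b0d94147088c0))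
noncomputable def tab2 : Tr := (Tr.l (nat_lit 0xfb3f64e5531dcd8f2544a712ebc8cf1eb46890e1c26b15a4447048c0))
noncomputable def tab3 : Tr := (Tr.l (nat_lit 0x993ddce55354caf32ed4ccd1f2c5af27244ad22ac68b0da4247048c0))
noncomputable def tab4 : Tr := (Tr.l (nat_lit 0x993ddce512d3c9333534731333c82f2b346ad16ac48b0da424300941))
noncomputable def tab5 : Tr := (Tr.l (nat_lit 0))
noncomputable def tab6 : Tr := (Tr.l (nat_lit 0x144243313220140))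
noncomputable def tab7 : Tr := (Tr.l (nat_lit 0))
noncomputable def tab8 : Tr := (Tr.l (nat_lit 0))
noncomputable def tab9 : Tr := (Tr.l (nat_lit 0))
noncomputable def tab10 : Tr := (Tr.l (nat_lit 0))
noncomputable def tab11 : Tr := (Tr.l (nat_lit 0))
noncomputable def tab12 : Tr := (Tr.l (nat_lit 0))
noncomputable def ty0 : TT := (TT.n (TT.n (TT.n (TT.l (Ty.ssub [] []))
 (TT.l (Ty.rel3 (nat_lit 2) (nat_lit 0) (nat_lit 2))))
 (TT.n (TT.l (Ty.rel1 (nat_lit 0)))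
 (TT.l (Ty.rel3 (nat_lit 3) (nat_lit 0) (nat_lit 3)))))
 (TT.n (TT.n (TT.l (Ty.rel3 (nat_lit 4) (nat_lit 0) (nat_lit 4)))
 (TT.l (Ty.rel5 (nat_lit 1) (nat_lit 0) (nat_lit 1) (nat_lit 0) (nat_lit 1))))
 (TT.l (Ty.dfn))))
noncomputable def ty1 : TT := (TT.n (TT.n (TT.n (TT.l (Ty.ssub [] []))
 (TT.l (Ty.rel5 (nat_lit 2) (nat_lit 1) (nat_lit 2) (nat_lit 1) (nat_lit 2))))
 (TT.n (TT.l (Ty.dfn))
 (TT.l (Ty.rel5 (nat_lit 4) (nat_lit 1) (nat_lit 4) (nat_lit 1) (nat_lit 4)))))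
 (TT.n (TT.n (TT.l (Ty.rel1 (nat_lit 1)))
 (TT.l (Ty.rel3 (nat_lit 3) (nat_lit 1) (nat_lit 3))))
 (TT.l (Ty.rel5 (nat_lit 0) (nat_lit 1) (nat_lit 0) (nat_lit 1) (nat_lit 0)))))
noncomputable def ty2 : TT := (TT.n (TT.n (TT.n (TT.l (Ty.ssub [] []))
 (TT.l (Ty.rel5 (nat_lit 3) (nat_lit 2) (nat_lit 3) (nat_lit 2) (nat_lit 3))))
 (TT.n (TT.l (Ty.rel1 (nat_lit 2)))
 (TT.l (Ty.rel3 (nat_lit 0) (nat_lit 2) (nat_lit 0)))))
 (TT.n (TT.n (TT.l (Ty.rel3 (nat_lit 4) (nat_lit 2) (nat_lit 4)))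
 (TT.l (Ty.rel5 (nat_lit 1) (nat_lit 2) (nat_lit 1) (nat_lit 2) (nat_lit 1))))
 (TT.l (Ty.dfn))))
noncomputable def ty3 : TT := (TT.n (TT.n (TT.n (TT.l (Ty.ssub [] []))
 (TT.l (Ty.rel1 (nat_lit 3))))
 (TT.n (TT.l (Ty.rel3 (nat_lit 1) (nat_lit 3) (nat_lit 1)))
 (TT.l (Ty.rel5 (nat_lit 2) (nat_lit 3) (nat_lit 2) (nat_lit 3) (nat_lit 2)))))
 (TT.n (TT.n (TT.l (Ty.rel3 (nat_lit 4) (nat_lit 3) (nat_lit 4)))
 (TT.l (Ty.dfn)))
 (TT.l (Ty.rel3 (nat_lit 0) (nat_lit 3) (nat_lit 0)))))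
noncomputable def ty4 : TT := (TT.n (TT.n (TT.n (TT.l (Ty.rel1 (nat_lit 4)))
 (TT.l (Ty.rel3 (nat_lit 2) (nat_lit 4) (nat_lit 2))))
 (TT.l (Ty.rel5 (nat_lit 1) (nat_lit 4) (nat_lit 1) (nat_lit 4) (nat_lit 1))))
 (TT.n (TT.n (TT.l (Ty.dfn))
 (TT.l (Ty.rel3 (nat_lit 3) (nat_lit 4) (nat_lit 3))))
 (TT.l (Ty.rel3 (nat_lit 0) (nat_lit 4) (nat_lit 0)))))
noncomputable def ty5 : TT := (TT.l (Ty.skip))
noncomputable def C : Cert where
  tabs := [tab0, tab1, tab2, tab3, tab4, tab5, tab6, tab7, tab8, tab9, tab10, tab11, tab12]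
  tts := [ty0, ty1, ty2, ty3, ty4, ty5]
  k := nat_lit 6
  base := nat_lit 7
  mJ := nat_lit 64
  mR := nat_lit 63
  W := nat_lit 14
  mA := nat_lit 2047
  mI := nat_lit 127
  S := nat_lit 11
  mC := nat_lit 7
  nc := nat_lit 5
  lo := nat_lit 64
  live := nat_lit 80
  hi1 := nat_lit 79
  AW := nat_lit 13
  mAW := nat_lit 8191
def il : List ℕ := [0, 1, 2, 3, 4]
def rels : List (List ℕ) := [[0, 1, 0, 1, 0, 1],
  [0, 2, 0, 2],
  [0, 3, 0, 3],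
  [0, 4, 0, 4],
  [1, 2, 1, 2, 1, 2],
  [1, 3, 1, 3],
  [1, 4, 1, 4, 1, 4],
  [2, 3, 2, 3, 2, 3],
  [2, 4, 2, 4],
  [3, 4, 3, 4]]
def subs : List (List ℕ) := [[0],
  [1],
  [2],
  [3]]
theorem valid : C.valid il rels subs = true := by decide +kernel
theorem p0 : C.OkL 64 80 := C.okL_of 64 0 16 80 (by decide) (by decide +kernel)
theorem covers {G : Type*} [Group G] (ev : ℕ → G) (H : Subgroup G)
    (hinv : ∀ x < 5, ev (il.getD x 0) = (ev x)⁻¹) (hr : ∀ r ∈ rels, evw ev r = 1)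
    (hs : ∀ s ∈ subs, evw ev s ∈ H) : Covers H (gensub ev 5) 16 :=
  C.sound il rels subs 5 16 valid (p0) (Cert.OkR.nil C _) (by decide) (by decide) ev H hinv hr hs
end CfH6.F22T5
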