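import Cfsg.Agent.OD.Pre
import Cfsg.Agent.H6.TCTop
/-! coset enumeration certificate; generators c d e f ; index 120 -/
set_option autoImplicit false
set_option maxRecDepth 100000
set_option Elab.async false
set_option linter.all false
namespace CfH6.F22T6
open CfH6
noncomputable def t0 : Tr := (Tr.n (Tr.l (nat_lit 0x2795696b29924566456527912a8f8763278e2b89298b455f686188602787445c26862984865a26832a7e2880445667588757267c267b685b287844512973297226748650664f25702964276d434b286828672569854a6549664d864c2562275e275d434527532752245926552654424284446443244e25472546234841402241))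
 (Tr.l (nat_lit 0x4ab349b049ad49ab2bb748a748a52ab648a248a02ab5489d2ab46b9c4799479729b2479429b16a93479029af478d29ae6a8c478a29ac2caa8988468528a9468228a86981467f28a62ba4887d467a28a36979467728a12b9f8875289e6a762a9b4671456f279a686e456c27982a96876a)))
noncomputable def t1 : Tr := (Tr.n (Tr.l (nat_lit 0x4568279467678769887045642790686d4561278d67602987278a2988455d297b445b26852978445826826657287c267f287d44544453267a6652865926772875444f67552671434d256f654c2762256c276a4349285e25662565276343466547255f8548245c265a424364442456264e265024514241254a234b414023452242))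
 (Tr.l (nat_lit 0x8db48cb18cae2eb749aa8ba82db648a48ba32db5489f8ca1489c2ab38a9a2cb247968b98479329b02caf478f2dac478c29ad8a8e478929ab6a8b2ba946842ca6468128a78983467e28a569808a86467928a22b9e467628a02b9b4673289d687288742b91456e27992a95456b27972a92)))
noncomputable def t2 : Tr := (Tr.n (Tr.l (nat_lit 0x2a8a456727932a872a8e29904563278f67654560278c8862455e2789676629832885445a2684665c4457268187594455267e287128774452267929744450267666512673444e276c434c256e2869434a256b654b2568434843472564275f25614345255d4244245b265624584242245424534241244f234d4140234923462243))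
 (Tr.l (nat_lit 0x8eb58db22fb78cac6cad2eb68ba66ba78ca98ba12db32db46a9d489b2daf8a982cb02cb1699447928a916a992cae698d478b8b952bab478829aa89862ba22ba8688246802c9e2aa5467d28a42ba3687a4678897b2aa04675289f697f4672289c897c2a9a676f456d88702997456a2796)))
noncomputable def t3 : Tr := (Tr.n (Tr.l (nat_lit 0x2a946768456627922b918865298c45622a8d6761455f278b2989455d27882a86875c288144592982665844562680287e4454267d297a6653445126782876444f2675444e2672286f654d434b256d276b4349256a4348256727644346256343452560255e265b4243245a4242245724554241245224504140234c234a23472244))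
 (Tr.l (nat_lit 0xafb630b7aeafadb18db0ada92eb42eb32fb5aca38ca2ac9e8ba56ba42eb2ab9a8b99ab952cab2caa2dae2dadab8e8a906a8f2dac8a8a699347872ca82ca7aa83898569842ca6897f2a9c467caa7b2ba02b9f2ca18977687946742b9d68734671289ba9702a972a962b98886c676e4569)))
noncomputable def t4 : Tr := (Tr.n (Tr.l (nat_lit 0x1230012312302310123123023112302313212302313223132023132032132100))
 (Tr.l (nat_lit 0x1001001012001012010120123010120123012012312300120123)))
noncomputable def tab0 : Tr := t0
noncomputable def tab1 : Tr := t1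
noncomputable def tab2 : Tr := t2
noncomputable def tab3 : Tr := t3
noncomputable def tab4 : Tr := (Tr.l (nat_lit 0))
noncomputable def tab5 : Tr := t4
noncomputable def tab6 : Tr := (Tr.l (nat_lit 0))
noncomputable def tab7 : Tr := (Tr.l (nat_lit 0))
noncomputable def tab8 : Tr := (Tr.l (nat_lit 0))
noncomputable def tab9 : Tr := (Tr.l (nat_lit 0))
noncomputable def tab10 : Tr := (Tr.l (nat_lit 0))
noncomputable def ty0 : TT := (TT.n (TT.n (TT.l (Ty.rel1 (nat_lit 0)))
 (TT.l (Ty.rel3 (nat_lit 2) (nat_lit 0) (nat_lit 2))))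
 (TT.n (TT.l (Ty.dfn))
 (TT.l (Ty.rel3 (nat_lit 3) (nat_lit 0) (nat_lit 3)))))
noncomputable def ty1 : TT := (TT.n (TT.n (TT.l (Ty.rel1 (nat_lit 1)))
 (TT.l (Ty.rel3 (nat_lit 3) (nat_lit 1) (nat_lit 3))))
 (TT.n (TT.l (Ty.dfn))
 (TT.l (Ty.rel5 (nat_lit 0) (nat_lit 1) (nat_lit 0) (nat_lit 1) (nat_lit 0)))))
noncomputable def ty2 : TT := (TT.n (TT.n (TT.l (Ty.rel1 (nat_lit 2)))
 (TT.l (Ty.rel5 (nat_lit 1) (nat_lit 2) (nat_lit 1) (nat_lit 2) (nat_lit 1))))
 (TT.n (TT.l (Ty.dfn))
 (TT.l (Ty.rel3 (nat_lit 0) (nat_lit 2) (nat_lit 0)))))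
noncomputable def ty3 : TT := (TT.n (TT.n (TT.n (TT.l (Ty.rel1 (nat_lit 3)))
 (TT.l (Ty.rel3 (nat_lit 0) (nat_lit 3) (nat_lit 0))))
 (TT.l (Ty.rel5 (nat_lit 2) (nat_lit 3) (nat_lit 2) (nat_lit 3) (nat_lit 2))))
 (TT.n (TT.l (Ty.dfn))
 (TT.l (Ty.rel3 (nat_lit 1) (nat_lit 3) (nat_lit 1)))))
noncomputable def ty4 : TT := (TT.l (Ty.skip))
noncomputable def C : Cert where
  tabs := [tab0, tab1, tab2, tab3, tab4, tab5, tab6, tab7, tab8, tab9, tab10]
  tts := [ty0, ty1, ty2, ty3, ty4]
  k := nat_lit 6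
  base := nat_lit 5
  mJ := nat_lit 192
  mR := nat_lit 63
  W := nat_lit 16
  mA := nat_lit 8191
  mI := nat_lit 255
  S := nat_lit 13
  mC := nat_lit 7
  nc := nat_lit 4
  lo := nat_lit 64
  live := nat_lit 184
  hi1 := nat_lit 183
  AW := nat_lit 14
  mAW := nat_lit 16383
def il : List ℕ := [0, 1, 2, 3]
def rels : List (List ℕ) := [[0, 1, 0, 1, 0, 1],
  [0, 2, 0, 2],
  [0, 3, 0, 3],
  [1, 2, 1, 2, 1, 2],
  [1, 3, 1, 3],
  [2, 3, 2, 3, 2, 3]]
def subs : List (List ℕ) := []
theorem valid : C.valid il rels subs = true := by decide +kernel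
theorem p0 : C.OkL 64 184 := C.okL_of 64 0 120 184 (by decide) (by decide +kernel)
theorem covers {G : Type*} [Group G] (ev : ℕ → G) (H : Subgroup G)
    (hinv : ∀ x < 4, ev (il.getD x 0) = (ev x)⁻¹) (hr : ∀ r ∈ rels, evw ev r = 1)
    (hs : ∀ s ∈ subs, evw ev s ∈ H) : Covers H (gensub ev 4) 120 :=
  C.sound il rels subs 4 120 valid (p0) (Cert.OkR.nil C _) (by decide) (by decide) ev H hinv hr hs
end CfH6.F22T6
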