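import Cfsg.Agent.OD.Pre
import Cfsg.Agent.H6.TCTop
/-! coset enumeration certificate; generators a c d ; index 16 -/
set_option autoImplicit false
set_option maxRecDepth 100000
set_option Elab.async false
set_option linter.all false
namespace CfH6.D4T4
open CfH6
noncomputable def tab0 : Tr := (Tr.l (nat_lit 0x4928924afff2490bffc8e391c6238a47108a19142469c2f3d1e5b4ca189a6b68d6c9ad734aa6950d299a5233a267408600941))
noncomputable def tab1 : Tr := (Tr.l (nat_lit 0x9ffd3ffa7ff4ffe9ffd3ffa7ff4ffe9ffd3ffa7ff24966d345e71248159e47188e28acc228629285249141138e43004e20942))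
noncomputable def tab2 : Tr := (Tr.l (nat_lit 0x9ffd3ff92534ffe49493ffa7ff15b02b593ffa7ff389849289248ccf238e2b3856691c4149645088a08a48218027184e28943))
noncomputable def tab3 : Tr := (Tr.l (nat_lit 0x7130de393c0378c4f1ae24d44898871109e62b4c4000000000000000000000000000000000000000000000000000000000000))
noncomputable def tab4 : Tr := (Tr.l (nat_lit 0x2020000001221211212212100))
noncomputable def tab5 : Tr := (Tr.l (nat_lit 0x1680))
noncomputable def tab6 : Tr := (Tr.l (nat_lit 0))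
noncomputable def tab7 : Tr := (Tr.l (nat_lit 0))
noncomputable def tab8 : Tr := (Tr.l (nat_lit 0x2cc15e0b01560a9c14a0))
noncomputable def ty0 : TT := (TT.n (TT.n (TT.n (TT.l (Ty.rel1 (nat_lit 0)))
 (TT.l (Ty.skip)))
 (TT.l (Ty.srel [nat_lit 0])))
 (TT.n (TT.l (Ty.dfn))
 (TT.l (Ty.relL (nat_lit 2) [nat_lit 1, nat_lit 2, nat_lit 1, nat_lit 2, nat_lit 1, nat_lit 2, nat_lit 1]))))
noncomputable def ty1 : TT := (TT.n (TT.n (TT.l (Ty.rel1 (nat_lit 1)))
 (TT.l (Ty.relL (nat_lit 2) [nat_lit 1, nat_lit 2, nat_lit 0, nat_lit 1, nat_lit 2, nat_lit 1, nat_lit 2])))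
 (TT.n (TT.l (Ty.dfn))
 (TT.l (Ty.skip))))
noncomputable def ty2 : TT := (TT.n (TT.n (TT.l (Ty.rel1 (nat_lit 2)))
 (TT.l (Ty.srel [nat_lit 1, nat_lit 2, nat_lit 1, nat_lit 2, nat_lit 1, nat_lit 0, nat_lit 2, nat_lit 1])))
 (TT.n (TT.l (Ty.dfn))
 (TT.l (Ty.skip))))
noncomputable def ty3 : TT := (TT.n (TT.n (TT.l (Ty.skip))
 (TT.l (Ty.relL (nat_lit 1) [nat_lit 2, nat_lit 1, nat_lit 2, nat_lit 1, nat_lit 2, nat_lit 1, nat_lit 2, nat_lit 0])))
 (TT.l (Ty.relL (nat_lit 1) [nat_lit 2, nat_lit 1, nat_lit 2, nat_lit 1, nat_lit 2, nat_lit 1, nat_lit 0, nat_lit 2])))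
noncomputable def C : Cert where
  tabs := [tab0, tab1, tab2, tab3, tab4, tab5, tab6, tab7, tab8]
  tts := [ty0, ty1, ty2, ty3]
  k := nat_lit 6
  base := nat_lit 5
  mJ := nat_lit 64
  mR := nat_lit 63
  W := nat_lit 15
  mA := nat_lit 2047
  mI := nat_lit 127
  S := nat_lit 11
  mC := nat_lit 15
  nc := nat_lit 3
  lo := nat_lit 64
  live := nat_lit 80
  hi1 := nat_lit 90
  AW := nat_lit 13
  mAW := nat_lit 8191
def il : List ℕ := [0, 1, 2]
def rels : List (List ℕ) := [[0, 2, 1, 2, 1, 2, 1, 2, 1]]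
def subs : List (List ℕ) := []
theorem valid : C.valid il rels subs = true := by decide +kernel
theorem p0 : C.OkL 64 80 := C.okL_of 64 0 16 80 (by decide) (by decide +kernel)
theorem p1 : C.OkR 80 91 := C.okR_of 80 0 11 91 (by decide) (by decide +kernel)
theorem covers {G : Type*} [Group G] (ev : ℕ → G) (H : Subgroup G)
    (hinv : ∀ x < 3, ev (il.getD x 0) = (ev x)⁻¹) (hr : ∀ r ∈ rels, evw ev r = 1)
    (hs : ∀ s ∈ subs, evw ev s ∈ H) : Covers H (gensub ev 3) 16 :=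
  C.sound il rels subs 3 16 valid (p0) (p1) (by decide) (by decide) ev H hinv hr hs
end CfH6.D4T4
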