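import Cfsg.Agent.OD.Pre
import Cfsg.Agent.H6.D4B
import Cfsg.Agent.H6.TCPart
import Cfsg.Agent.H6.D4T1
import Cfsg.Agent.H6.D4T2
import Cfsg.Agent.H6.D4T3
import Cfsg.Agent.H6.D4T4
set_option autoImplicit false
set_option maxRecDepth 100000
set_option linter.all false
namespace CfH6.D4O
open CfH6
def s0 : List (List ℕ) := [[0], [1], [2], [3], [4], [5], [6], [7], [8]]
def t0 : List (List ℕ) := [[0], [1], [2], [3], [4], [7]]
theorem cov0 : Covers (gensub (byW D4B.el t0) 6) (gensub (byW D4B.el s0) 9) 17472 :=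
  cov_step D4B.el D4B.hinv D4B.hrel s0 t0 6 4 (fun ev H => D4T1.covers ev H) (by decide +kernel)
theorem top0 : gensub (byW D4B.el s0) 9 = ⊤ := (gensub_id D4B.el (by decide)).trans D4B.htop
theorem covT0 : Covers (gensub (byW D4B.el t0) 6) ⊤ 17472 := cov0.top top0
def s1 : List (List ℕ) := [[0], [1], [2], [3], [4], [7], [8]]
def t1 : List (List ℕ) := [[0], [1], [2], [3], [4]]
theorem cov1 : Covers (gensub (byW D4B.el t1) 5) (gensub (byW D4B.el s1) 7) 3 :=
  cov_step D4B.el D4B.hinv D4B.hrel s1 t1 5 4 (fun ev H => D4T2.covers ev H) (by decide +kernel)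
def s2 : List (List ℕ) := [[0], [1], [2], [3], [4]]
def t2 : List (List ℕ) := [[0], [2], [3]]
theorem cov2 : Covers (gensub (byW D4B.el t2) 3) (gensub (byW D4B.el s2) 5) 756 :=
  cov_step D4B.el D4B.hinv D4B.hrel s2 t2 3 4 (fun ev H => D4T3.covers ev H) (by decide +kernel)
def s3 : List (List ℕ) := [[0], [2], [3]]
def t3 : List (List ℕ) := []
theorem cov3 : Covers (gensub (byW D4B.el t3) 0) (gensub (byW D4B.el s3) 3) 16 :=
  cov_step D4B.el D4B.hinv D4B.hrel s3 t3 0 4 (fun ev H => D4T4.covers ev H) (by decide +kernel)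
theorem finT3 : Finite (gensub (byW D4B.el t3) 0) ∧ Nat.card (gensub (byW D4B.el t3) 0) ≤ 1 := (gensub_zero _)
theorem fin3 : Finite (gensub (byW D4B.el s3) 3) ∧ Nat.card (gensub (byW D4B.el s3) 3) ≤ 16 :=
  fin_cast (cov3.card_le finT3) (by decide)
theorem finT2 : Finite (gensub (byW D4B.el t2) 3) ∧ Nat.card (gensub (byW D4B.el t2) 3) ≤ 16 := (fin_le (gensub_le_of_subsIn D4B.el (by decide)) fin3)
theorem fin2 : Finite (gensub (byW D4B.el s2) 5) ∧ Nat.card (gensub (byW D4B.el s2) 5) ≤ 12096 :=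
  fin_cast (cov2.card_le finT2) (by decide)
theorem finT1 : Finite (gensub (byW D4B.el t1) 5) ∧ Nat.card (gensub (byW D4B.el t1) 5) ≤ 12096 := (fin_le (gensub_le_of_subsIn D4B.el (by decide)) fin2)
theorem fin1 : Finite (gensub (byW D4B.el s1) 7) ∧ Nat.card (gensub (byW D4B.el s1) 7) ≤ 36288 :=
  fin_cast (cov1.card_le finT1) (by decide)
theorem finT0 : Finite (gensub (byW D4B.el t0) 6) ∧ Nat.card (gensub (byW D4B.el t0) 6) ≤ 36288 := (fin_le (gensub_le_of_subsIn D4B.el (by decide)) fin1)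
theorem fin0 : Finite (gensub (byW D4B.el s0) 9) ∧ Nat.card (gensub (byW D4B.el s0) 9) ≤ 634023936 :=
  fin_cast (cov0.card_le finT0) (by decide)
theorem finG : Finite D4B.G ∧ Nat.card D4B.G ≤ 634023936 := fin_top (top0 ▸ fin0)
end CfH6.D4O
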