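import Cfsg.Agent.OD.Pre
import Cfsg.Agent.H6.D4A
import Cfsg.Agent.H6.D4O
import Cfsg.Agent.H6.D4O2
/-! The group ³D₄(2):3 by generators and relations: order and normal subgroups. -/
set_option autoImplicit false
set_option maxRecDepth 100000
set_option Elab.async false
set_option linter.all false
namespace CfH6.D4G
open CfH6
open MulAction
attribute [local instance] D4A.act

theorem stab : D4A.H = stabilizer D4B.G 0 ∧ D4A.H.index = 819 := D4A.stab D4O2.covT0
theorem card : Nat.card D4B.G = 634023936 := (D4A.top D4O.finG).1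
theorem base : ∀ g : D4B.G, (∀ b ∈ D4A.bs, g • b = b) → g = 1 := (D4A.top D4O.finG).2

theorem normal (M : Subgroup D4B.G) (hM : M.Normal) : M = ⊥ ∨ evw D4B.el [4, 0, 3, 2, 5, 1] ∈ M := by
  have := D4O.finG.1
  refine (D4A.hmax stab.1 stab.2 (M ⊔ D4A.H) le_sup_right).imp (fun h => ?_) fun h => ?_
  · exact normal_le_stab base D4A.hbs M (stab.1 ▸ (le_sup_left.trans h.le))
  · exact pow_words D4B.el h (by norm_num) (not_dvd_card card stab.2 (by decide)) 1 D4A.ex (D4A.hex base) _
      List.mem_cons_self
end CfH6.D4G
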