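import Cfsg.Agent.OD.Pre
import Cfsg.Agent.H6.DT
/-! Checker for double coset enumeration certificates. -/
set_option autoImplicit false
namespace CfH6.D

structure DP where
  fact : ℕ → ℕ
  eqc : List ℕ → List ℕ → ℕ
  ex : Bool
  sY : ℕ
  sA : ℕ
  sS : ℕ
  mc : ℕ
  ma : ℕ
  dw : ℕ
  md : ℕ
  rel : List (List ℕ)
  sub : List (List ℕ)
  wd : List (List ℕ)
  bp : List (ℕ × ℕ)
  dref : ℕ → ℕ

noncomputable def fk (F : ℕ) : ℕ := Nat.land F 3
noncomputable def fr (F : ℕ) : ℕ := Nat.land (Nat.shiftRight F 2) 15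
noncomputable def fi (F : ℕ) : ℕ := Nat.land (Nat.shiftRight F 6) 4095
noncomputable def fj (F : ℕ) : ℕ := Nat.land (Nat.shiftRight F 18) 4095

noncomputable def app (a b : List ℕ) : List ℕ := List.rec b (fun x _ ih => x :: ih) a
theorem app_eq (a b : List ℕ) : app a b = a ++ b := by
  induction a with
  | nil => rfl
  | cons x a ih => exact congrArg (List.cons x) ih

namespace DP
variable (P : DP)
noncomputable def fX (F : ℕ) : ℕ := Nat.land (Nat.shiftRight F 30) P.mc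
noncomputable def fY (F : ℕ) : ℕ := Nat.land (Nat.shiftRight F P.sY) P.mc
noncomputable def fA (F : ℕ) : ℕ := Nat.land (Nat.shiftRight F P.sA) P.ma
noncomputable def eqL (a b : List ℕ) : ℕ := Bool.rec 0 (P.eqc a b) P.ex

noncomputable def rd (s : ℕ) (k : ℕ → ℕ → ℕ) : ℕ :=
  force (Nat.land s P.md) fun a => force (Nat.shiftRight s P.dw) (k a)

/-- an earlier fact of the given kind -/
noncomputable def ref (k kind s : ℕ) (c : ℕ → ℕ → ℕ) : ℕ :=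
  P.rd s fun e s => gd (lt0 e k) (force (P.fact e) fun F => gd (Nat.xor (fk F) kind) (c F s))

noncomputable def rdE (k n : ℕ) : ℕ → ℕ → (ℕ → List ℕ → List ℕ → ℕ → ℕ) → ℕ :=
  Nat.rec (fun i s c => c i [] [] s) (fun _ ih i s c => P.ref k 0 s fun F s => gd (Nat.xor (fi F) i)
    (force (fj F) fun j => ih j s fun j' Xs As s => c j' (P.fX F :: Xs) (P.fA F :: As) s)) n

noncomputable def chE (k i s : ℕ) (c : ℕ → List ℕ → List ℕ → ℕ → ℕ) : ℕ := P.rd s fun n s => P.rdE k n i s c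

noncomputable def rdP (k n : ℕ) : ℕ → (List ℕ → List ℕ → ℕ → ℕ) → ℕ :=
  Nat.rec (fun s c => c [] [] s) (fun _ ih s c => P.ref k 2 s fun F s =>
    ih s fun Xs Ys s => c (P.fX F :: Xs) (P.fY F :: Ys) s) n

noncomputable def chP (k s : ℕ) (c : List ℕ → List ℕ → ℕ → ℕ) : ℕ := P.rd s fun n s => P.rdP k n s c

noncomputable def mv (k : ℕ) (Λ : List ℕ) (i : ℕ) (L : List ℕ) (s : ℕ) (c : List ℕ → ℕ → List ℕ → ℕ → ℕ) : ℕ :=
  P.chE k i s fun i' Xs As s => P.ref k 1 s fun F s => gd (Nat.xor (fi F) i') (P.chP k s fun Bs Cs s =>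
    gd (P.eqc L (app Xs (P.fX F :: Bs))) (force (fj F) fun j => c (app Λ (app As [P.fA F])) j (P.fY F :: Cs) s))

noncomputable def run (k n : ℕ) :
    List ℕ → ℕ → List ℕ → List ℕ → ℕ → (List ℕ → ℕ → List ℕ → List ℕ → ℕ → ℕ) → ℕ :=
  Nat.rec (fun Λ i L ns s c => c Λ i L ns s) (fun _ ih Λ i L ns s c => List.rec 1 (fun x ns' _ =>
    P.mv k Λ i L s fun Λ i L s => ih Λ i (app L [x]) ns' s c) ns) n

noncomputable def fin (k F a : ℕ) (LA Λ : List ℕ) (c : ℕ) (L ns : List ℕ) (s : ℕ) : ℕ :=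
  P.chE k c s fun c' Xs As _ => gd (Nat.lor (Nat.xor (fi F) c') (Nat.xor (fj F) a))
    (gd (P.eqL (app Λ (app As [P.fA F])) []) (List.rec
      (gd (fk F) (P.eqc L (app Xs (P.fX F :: LA))))
      (fun x ns' _ => List.rec
        (gd (Nat.xor (fk F) 1) (gd (P.eqc L (app Xs [P.fX F])) (P.eqc [P.fY F, x] LA))) (fun _ _ _ => 1) ns') ns))

noncomputable def rE0 (F : ℕ) : ℕ := gd (Nat.lor (fk F) (Nat.lor (fi F) (fj F))) (P.eqL [P.fX F] [P.fA F])

noncomputable def rED (k F s : ℕ) : ℕ := gd (fk F) (P.rd s fun a s => P.chE k a s fun i X1 A1 s =>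
  P.chE k a s fun j X2 A2 _ => gd (Nat.lor (Nat.xor (fi F) i) (Nat.xor (fj F) j))
    (gd (P.eqc (app X1 [P.fX F]) X2) (P.eqL (app A1 [P.fA F]) A2)))

noncomputable def rPG (F s : ℕ) : ℕ := gd (Nat.xor (fk F) 2) (P.rd s fun a _ =>
  Nat.lor (Nat.xor (lget P.bp (0, 0) a).1 (P.fX F)) (Nat.xor (lget P.bp (0, 0) a).2 (P.fY F)))

noncomputable def rPD (k F s : ℕ) : ℕ := gd (Nat.xor (fk F) 2) (P.chP k s fun X1 Y1 s => P.chP k s fun X2 Y2 _ =>
  gd (P.eqc (app X1 [P.fX F]) X2) (P.eqc (app Y1 [P.fY F]) Y2))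

noncomputable def rDEF (k F : ℕ) : ℕ := Nat.lor (Nat.lor (Nat.xor (fk F) 1) (lt0 (fi F) (fj F)))
  (Nat.lor (Nat.xor (P.dref (fj F)) k) (Nat.lor (P.fY F) (P.fA F)))

noncomputable def rLOOP (k F s : ℕ) : ℕ := P.rd s fun r s => List.rec 1 (fun x ns _ => P.ref k 1 s fun F0 s =>
  P.chP k s fun Bs Cs s => P.rd s fun n s => force (fj F0) fun j => P.run k n [P.fA F0] j (app (P.fY F0 :: Cs) [x]) ns s
    (P.fin k F (fi F0) (P.fX F0 :: Bs))) (lget P.rel [] r)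

noncomputable def rSUB (k F s : ℕ) : ℕ := P.rd s fun r s => List.rec 1 (fun x ns _ => P.rd s fun n s =>
  P.run k n [] 0 [x] ns s (P.fin k F 0 [])) (lget P.sub [] r)

noncomputable def rFORK (k F s : ℕ) : ℕ := gd (fk F) (P.ref k 1 s fun F0 s => force (fi F0) fun i =>
  P.mv k [] i [P.fX F0] s fun Λ c L _ => gd (Nat.lor (Nat.xor (fi F) c) (Nat.xor (fj F) (fj F0)))
    (gd (P.eqc L [P.fX F, P.fY F0]) (P.eqL (app Λ [P.fA F]) [P.fA F0])))

noncomputable def rTM (k F s : ℕ) : ℕ := gd (Nat.xor (fk F) 1) (force (fi F) fun i =>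
  P.mv k [] i [P.fX F] s fun Λ c L _ => gd (Nat.xor (fj F) c) (gd (P.eqc L [P.fY F]) (P.eqL Λ [P.fA F])))

noncomputable def rPE (k F s : ℕ) : ℕ := gd (Nat.xor (fk F) 2) (Bool.rec 1 (P.ref k 0 s fun E s => P.ref k 1 s fun T _ =>
  Nat.lor (Nat.lor (Nat.lor (fi T) (P.fX T)) (Nat.lor (P.fY T) (P.fA T)))
    (Nat.lor (Nat.lor (Nat.xor (fi E) (fj T)) (Nat.xor (fj E) (fj T)))
      (Nat.lor (Nat.xor (P.fX F) (P.fA E)) (Nat.xor (P.fY F) (P.fX E))))) P.ex)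

noncomputable def rW (k F s : ℕ) : ℕ := gd (Nat.xor (fk F) 3) (List.rec 1 (fun x ns _ => P.rd s fun n s =>
  force (fi F) fun i => P.run k n [] i [x] ns s fun Λ c L ns s => List.rec (P.chE k c s fun c' Xs As _ =>
    gd (Nat.xor (fj F) c') (gd (P.eqc L (app Xs [P.fX F])) (P.eqL (app Λ As) [P.fA F]))) (fun _ _ _ => 1) ns)
  (lget P.wd [] (P.fY F)))

noncomputable def chk (k : ℕ) : ℕ := force k fun k => force (P.fact k) fun F => force (Nat.shiftRight F P.sS) fun s =>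
  lget [P.rE0 F, P.rED k F s, P.rPG F s, P.rPD k F s, P.rDEF k F, P.rLOOP k F s, P.rSUB k F s, P.rFORK k F s,
    P.rTM k F s, P.rPE k F s, P.rW k F s] 1 (fr F)
end DP

/-- the meaning of the data -/
structure Ctx (P : DP) (N G : Type*) [Group N] [Group G] where
  ρ : N →* G
  t : G
  H : Subgroup G
  Bs : Subgroup N
  cd : ℕ → N
  cd0 : cd 0 = 1
  heq : ∀ a b, P.eqc a b = 0 → evw cd a = evw cd b
  hH : P.ex = false → ∀ n, ρ n ∈ H
  hB : P.ex = true → Bs = ⊤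
  hrel : ∀ r ∈ P.rel, evw (fun n => t * ρ (cd n)) r = 1
  hsub : ∀ r ∈ P.sub, P.ex = false ∧ ρ (cd (r.headD 0)) * evw (fun n => t * ρ (cd n)) r.tail ∈ H
  hbp : ∀ p ∈ P.bp, cd p.1 ∈ Bs ∧ ρ (cd p.1) * t = t * ρ (cd p.2)

namespace Ctx
variable {P : DP} {N G : Type*} [Group N] [Group G] (C : Ctx P N G)

noncomputable def g (j : ℕ) : G :=
  if _h : fi (P.fact (P.dref j)) < j then g (fi (P.fact (P.dref j))) * C.ρ (C.cd (P.fX (P.fact (P.dref j)))) * C.t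
  else 1
termination_by j

theorem g0 : C.g 0 = 1 := by rw [g, dif_neg (Nat.not_lt_zero _)]

def Lm (x : N) (a : G) : Prop := cond P.ex (a = C.ρ x) (a ∈ C.H)
abbrev pr (L : List ℕ) : N := evw C.cd L
abbrev W (L : List ℕ) : G := evw (fun n => C.t * C.ρ (C.cd n)) L
def Wd (r : List ℕ) : G := C.ρ (C.cd (r.headD 0)) * C.W r.tail

def SE (i j : ℕ) (x a : N) : Prop := ∃ l, C.Lm a l ∧ C.g i * C.ρ x = l * C.g j
def ST (i j : ℕ) (x y a : N) : Prop := ∃ l, C.Lm a l ∧ C.g i * C.ρ x * C.t = l * C.g j * C.ρ y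
def SP (x y : N) : Prop := x ∈ C.Bs ∧ C.ρ x * C.t = C.t * C.ρ y
def SW (i j : ℕ) (x : N) (r : ℕ) (a : N) : Prop := ∃ l, C.Lm a l ∧ C.g i * C.Wd (P.wd.getD r []) = l * C.g j * C.ρ x

def Sem (F : ℕ) : Prop :=
  (fk F = 0 → C.SE (fi F) (fj F) (C.cd (P.fX F)) (C.cd (P.fA F))) ∧
  (fk F = 1 → C.ST (fi F) (fj F) (C.cd (P.fX F)) (C.cd (P.fY F)) (C.cd (P.fA F))) ∧
  (fk F = 2 → C.SP (C.cd (P.fX F)) (C.cd (P.fY F))) ∧
  (fk F = 3 → C.SW (fi F) (fj F) (C.cd (P.fX F)) (P.fY F) (C.cd (P.fA F)))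

def Den (Λ : List ℕ) (i : ℕ) (L : List ℕ) (γ : G) : Prop := ∃ l, C.Lm (C.pr Λ) l ∧ γ = l * C.g i * C.ρ (C.pr L)

variable {C}

theorem Lm.mul {x y : N} {a b : G} (h : C.Lm x a) (h' : C.Lm y b) : C.Lm (x * y) (a * b) := by
  unfold Lm at *
  cases hx : P.ex <;> rw [hx] at h h'
  · exact mul_mem h h'
  · change _ = _ at h h' ⊢; rw [h, h', map_mul]

theorem Lm.inv {x : N} {a : G} (h : C.Lm x a) : C.Lm x⁻¹ a⁻¹ := by
  unfold Lm at *
  cases hx : P.ex <;> rw [hx] at h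
  · exact inv_mem h
  · change _ = _ at h ⊢; rw [h, map_inv]

theorem lm_rho (x : N) : C.Lm x (C.ρ x) := by
  unfold Lm
  cases hx : P.ex
  · exact C.hH hx x
  · rfl

theorem lm_one : C.Lm 1 1 := by simpa using lm_rho (C := C) 1

theorem Lm.eqL {a b : List ℕ} (h : P.eqL a b = 0) {x y : N} {l : G} (hl : C.Lm x l)
    (e : C.pr a = C.pr b → x = y) : C.Lm y l := by
  unfold Lm DP.eqL at *
  cases hx : P.ex <;> rw [hx] at hl h
  · exact hl
  · rw [← e (C.heq a b h)]; exact hl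

theorem sE {F : ℕ} (h : fk F = 0) (s : C.SE (fi F) (fj F) (C.cd (P.fX F)) (C.cd (P.fA F))) : C.Sem F :=
  ⟨fun _ => s, fun e => by omega, fun e => by omega, fun e => by omega⟩
theorem sT {F : ℕ} (h : fk F = 1) (s : C.ST (fi F) (fj F) (C.cd (P.fX F)) (C.cd (P.fY F)) (C.cd (P.fA F))) :
    C.Sem F := ⟨fun e => by omega, fun _ => s, fun e => by omega, fun e => by omega⟩
theorem sP {F : ℕ} (h : fk F = 2) (s : C.SP (C.cd (P.fX F)) (C.cd (P.fY F))) : C.Sem F :=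
  ⟨fun e => by omega, fun e => by omega, fun _ => s, fun e => by omega⟩
theorem sW {F : ℕ} (h : fk F = 3) (s : C.SW (fi F) (fj F) (C.cd (P.fX F)) (P.fY F) (C.cd (P.fA F))) : C.Sem F :=
  ⟨fun e => by omega, fun e => by omega, fun e => by omega, fun _ => s⟩

theorem rd_zero {s : ℕ} {c : ℕ → ℕ → ℕ} (h : P.rd s c = 0) : ∃ a s', c a s' = 0 := by
  simp only [DP.rd, force_eq] at h
  exact ⟨_, _, h⟩

section
variable {k : ℕ} (ih : ∀ e < k, C.Sem (P.fact e))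
include ih

theorem ref_zero {kind s : ℕ} {c : ℕ → ℕ → ℕ} (h : P.ref k kind s c = 0) :
    ∃ F s', c F s' = 0 ∧ fk F = kind ∧ C.Sem F := by
  obtain ⟨e, s', h⟩ := rd_zero h
  obtain ⟨h1, h⟩ := gd_zero h
  rw [force_eq] at h
  obtain ⟨h2, h⟩ := gd_zero h
  exact ⟨_, s', h, xor_zero' h2, ih e (lt0_zero h1)⟩

theorem rdE_zero {n i s : ℕ} {c : ℕ → List ℕ → List ℕ → ℕ → ℕ} (h : P.rdE k n i s c = 0) :
    ∃ j Xs As s', c j Xs As s' = 0 ∧ C.SE i j (C.pr Xs) (C.pr As) := by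
  induction n generalizing i s c with
  | zero => exact ⟨i, [], [], s, h, 1, lm_one, by simp⟩
  | succ n ihn =>
    obtain ⟨F, s', h, hk, hF⟩ := ref_zero ih h
    obtain ⟨h1, h⟩ := gd_zero h
    rw [force_eq] at h
    obtain ⟨j, Xs, As, s'', h, l2, a2, e2⟩ := ihn h
    obtain ⟨l1, a1, e1⟩ := hF.1 hk
    rw [xor_zero' h1] at e1
    refine ⟨j, _, _, s'', h, l1 * l2, by simpa using a1.mul a2, ?_⟩
    rw [pr, evw_cons, map_mul, ← mul_assoc, e1, mul_assoc, e2, mul_assoc]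

theorem chE_zero {i s : ℕ} {c : ℕ → List ℕ → List ℕ → ℕ → ℕ} (h : P.chE k i s c = 0) :
    ∃ j Xs As s', c j Xs As s' = 0 ∧ C.SE i j (C.pr Xs) (C.pr As) := by
  obtain ⟨n, s, h⟩ := rd_zero h
  exact rdE_zero ih h

theorem rdP_zero {n s : ℕ} {c : List ℕ → List ℕ → ℕ → ℕ} (h : P.rdP k n s c = 0) :
    ∃ Xs Ys s', c Xs Ys s' = 0 ∧ C.SP (C.pr Xs) (C.pr Ys) := by
  induction n generalizing s c with
  | zero => exact ⟨[], [], s, h, one_mem _, by simp⟩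
  | succ n ihn =>
    obtain ⟨F, s', h, hk, hF⟩ := ref_zero ih h
    obtain ⟨Xs, Ys, s'', h, a2, e2⟩ := ihn h
    obtain ⟨a1, e1⟩ := hF.2.2.1 hk
    refine ⟨_, _, s'', h, by simpa using mul_mem a1 a2, ?_⟩
    rw [pr, pr, evw_cons, evw_cons, map_mul, map_mul, mul_assoc, e2, ← mul_assoc, e1, mul_assoc]

theorem chP_zero {s : ℕ} {c : List ℕ → List ℕ → ℕ → ℕ} (h : P.chP k s c = 0) :
    ∃ Xs Ys s', c Xs Ys s' = 0 ∧ C.SP (C.pr Xs) (C.pr Ys) := by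
  obtain ⟨n, s, h⟩ := rd_zero h
  exact rdP_zero ih h

theorem mv_zero {Λ L : List ℕ} {i s : ℕ} {c : List ℕ → ℕ → List ℕ → ℕ → ℕ} (h : P.mv k Λ i L s c = 0) :
    ∃ Λ' j L' s', c Λ' j L' s' = 0 ∧ ∀ γ, C.Den Λ i L γ → C.Den Λ' j L' (γ * C.t) := by
  obtain ⟨i', Xs, As, s, h, l1, a1, e1⟩ := chE_zero ih h
  obtain ⟨F, s, h, hk, hF⟩ := ref_zero ih h
  obtain ⟨h1, h⟩ := gd_zero h
  obtain ⟨Bs, Cs, s, h, -, e3⟩ := chP_zero ih h
  obtain ⟨h2, h⟩ := gd_zero h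
  rw [force_eq] at h
  obtain ⟨l2, a2, e2⟩ := hF.2.1 hk
  rw [xor_zero' h1] at e2
  refine ⟨_, _, _, s, h, ?_⟩
  rintro γ ⟨l, a, rfl⟩
  refine ⟨l * (l1 * l2), by simpa [app_eq] using a.mul (a1.mul a2), ?_⟩
  have := C.heq _ _ h2
  rw [pr, this, app_eq, evw_append, evw_cons, pr, evw_cons, map_mul, map_mul, map_mul]
  calc _ = l * (C.g i * C.ρ (C.pr Xs)) * C.ρ (C.cd (P.fX F)) * (C.ρ (C.pr Bs) * C.t) := by simp only [mul_assoc]
    _ = l * l1 * (C.g i' * C.ρ (C.cd (P.fX F)) * C.t) * C.ρ (C.pr Cs) := by rw [e1, e3]; simp only [mul_assoc]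
    _ = _ := by rw [e2]; simp only [mul_assoc]

theorem run_zero {n : ℕ} {Λ L ns : List ℕ} {i s : ℕ} {c : List ℕ → ℕ → List ℕ → List ℕ → ℕ → ℕ}
    (h : P.run k n Λ i L ns s c = 0) : ∃ Λ' j L' ns' s', c Λ' j L' ns' s' = 0 ∧
      ∀ γ, C.Den Λ i L γ → ∃ γ', C.Den Λ' j L' γ' ∧ γ' * C.W ns' = γ * C.W ns := by
  induction n generalizing Λ L ns i s with
  | zero => exact ⟨Λ, i, L, ns, s, h, fun γ hγ => ⟨γ, hγ, rfl⟩⟩
  | succ n ihn =>
    cases ns with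
    | nil => exact absurd h Nat.one_ne_zero
    | cons x ns =>
      obtain ⟨Λ1, i1, L1, s1, h, e1⟩ := mv_zero ih
        (show P.mv k Λ i L s (fun Λ i L s => P.run k n Λ i (app L [x]) ns s c) = 0 from h)
      obtain ⟨Λ2, i2, L2, ns2, s2, h, e2⟩ := ihn h
      refine ⟨_, _, _, _, _, h, fun γ hγ => ?_⟩
      obtain ⟨l, a, e⟩ := e1 γ hγ
      obtain ⟨γ', d, e'⟩ := e2 (γ * C.t * C.ρ (C.cd x)) ⟨l, a, by rw [e]; simp [app_eq, mul_assoc]⟩
      exact ⟨γ', d, by rw [e']; simp [mul_assoc]⟩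

theorem fin_zero {F a c s : ℕ} {LA Λ L ns : List ℕ} (h : P.fin k F a LA Λ c L ns s = 0) {γ : G}
    (hγ : C.Den Λ c L γ) (hδ : C.Den [] a LA (γ * C.W ns)) : C.Sem F := by
  obtain ⟨c', Xs, As, s, h, l1, a1, e1⟩ := chE_zero ih h
  obtain ⟨h1, h⟩ := gd_zero h
  obtain ⟨h1, h2⟩ := lor_zero h1
  obtain ⟨h3, h⟩ := gd_zero h
  obtain ⟨l, b, rfl⟩ := hγ
  obtain ⟨l0, b0, e0⟩ := hδ
  have hl : C.Lm (C.cd (P.fA F)) ((l * l1)⁻¹ * l0) := Lm.eqL h3 ((b.mul a1).inv.mul b0) fun e => by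
    simp only [pr, app_eq, evw_append, evw_cons, evw_nil, mul_one] at e ⊢
    rw [← mul_assoc] at e
    exact (eq_inv_of_mul_eq_one_right e).symm
  cases ns with
  | nil =>
    obtain ⟨h4, h⟩ := gd_zero h
    refine sE h4 ⟨_, hl, ?_⟩
    have := C.heq _ _ h
    rw [pr, this, app_eq, evw_append, evw_cons, map_mul, map_mul, W, evw_nil, mul_one] at e0
    rw [xor_zero' h1, xor_zero' h2]
    have e2 : l * l1 * (C.g c' * C.ρ (C.cd (P.fX F))) = l0 * C.g a := by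
      apply mul_right_cancel (b := C.ρ (C.pr LA))
      rw [← e0]
      calc _ = l * (l1 * C.g c') * C.ρ (C.cd (P.fX F)) * C.ρ (C.pr LA) := by simp only [mul_assoc]
        _ = _ := by rw [← e1]; simp only [mul_assoc]
    rw [mul_assoc, ← e2, inv_mul_cancel_left]
  | cons x ns =>
    cases ns with
    | cons y ns => exact absurd h Nat.one_ne_zero
    | nil =>
      obtain ⟨h4, h⟩ := gd_zero h
      obtain ⟨h5, h⟩ := gd_zero h
      refine sT (xor_zero' h4) ⟨_, hl, ?_⟩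
      have t1 := C.heq _ _ h5
      have t2 := C.heq _ _ h
      rw [pr, t1, pr, ← t2] at e0
      simp only [app_eq, evw_append, evw_cons, evw_nil, mul_one, map_mul, W] at e0
      rw [xor_zero' h1, xor_zero' h2]
      have e2 : l * l1 * (C.g c' * C.ρ (C.cd (P.fX F)) * C.t) = l0 * C.g a * C.ρ (C.cd (P.fY F)) := by
        apply mul_right_cancel (b := C.ρ (C.cd x))
        calc _ = l * (l1 * C.g c') * C.ρ (C.cd (P.fX F)) * C.t * C.ρ (C.cd x) := by simp only [mul_assoc]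
          _ = _ := by
            rw [← e1]
            simp only [mul_assoc] at e0 ⊢
            exact e0
      rw [mul_assoc ((l * l1)⁻¹), mul_assoc ((l * l1)⁻¹), ← e2, inv_mul_cancel_left]

theorem rED_zero {F s : ℕ} (h : P.rED k F s = 0) : C.Sem F := by
  obtain ⟨hk, h⟩ := gd_zero h
  obtain ⟨a, s, h⟩ := rd_zero h
  obtain ⟨i, X1, A1, s, h, l1, a1, e1⟩ := chE_zero ih h
  obtain ⟨j, X2, A2, s, h, l2, a2, e2⟩ := chE_zero ih h
  obtain ⟨h1, h⟩ := gd_zero h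
  obtain ⟨h1, h2⟩ := lor_zero h1
  obtain ⟨h3, h4⟩ := gd_zero h
  refine sE hk ⟨l1⁻¹ * l2, Lm.eqL h4 (a1.inv.mul a2) fun e => ?_, ?_⟩
  · rw [← e]; simp [app_eq]
  · rw [xor_zero' h1, xor_zero' h2, mul_assoc, ← e2, pr, ← C.heq _ _ h3, app_eq, evw_append, map_mul, ← mul_assoc,
      ← mul_assoc, mul_assoc l1⁻¹, e1]
    simp

theorem rPD_zero {F s : ℕ} (h : P.rPD k F s = 0) : C.Sem F := by
  obtain ⟨hk, h⟩ := gd_zero h
  obtain ⟨X1, Y1, s, h, a1, e1⟩ := chP_zero ih h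
  obtain ⟨X2, Y2, s, h, a2, e2⟩ := chP_zero ih h
  obtain ⟨h3, h4⟩ := gd_zero h
  have t1 := C.heq _ _ h3
  have t2 := C.heq _ _ h4
  simp only [app_eq, evw_append, evw_cons, evw_nil, mul_one] at t1 t2
  have u1 : C.cd (P.fX F) = (C.pr X1)⁻¹ * C.pr X2 := by rw [pr, pr, ← t1]; simp
  have u2 : C.cd (P.fY F) = (C.pr Y1)⁻¹ * C.pr Y2 := by rw [pr, pr, ← t2]; simp
  refine sP (xor_zero' hk) ⟨u1 ▸ mul_mem (inv_mem a1) a2, ?_⟩
  rw [u1, u2, map_mul, map_mul, map_inv, map_inv, mul_assoc, e2, ← mul_assoc, ← mul_assoc]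
  congr 1
  rw [inv_mul_eq_iff_eq_mul, ← mul_assoc, e1, mul_inv_cancel_right]

theorem rLOOP_zero {F s : ℕ} (h : P.rLOOP k F s = 0) : C.Sem F := by
  obtain ⟨r, s, h⟩ := rd_zero h
  have hr : C.W (lget P.rel [] r) = 1 := by
    rw [lget_eq, List.getD_eq_getElem?_getD]
    cases hh : P.rel[r]? with
    | none => rfl
    | some v => exact C.hrel v (List.mem_of_getElem? hh)
  cases hl : lget P.rel [] r with
  | nil => rw [hl] at h; exact absurd h Nat.one_ne_zero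
  | cons x ns =>
    rw [hl] at h hr
    obtain ⟨F0, s, h, hk, hF⟩ := ref_zero ih h
    obtain ⟨Bs, Cs, s, h, -, e3⟩ := chP_zero ih h
    obtain ⟨n, s, h⟩ := rd_zero h
    rw [force_eq] at h
    obtain ⟨Λ, j, L, ns', s, h, e⟩ := run_zero ih h
    obtain ⟨l, a, e2⟩ := hF.2.1 hk
    obtain ⟨γ', d, e'⟩ := e (C.g (fi F0) * C.ρ (C.pr (P.fX F0 :: Bs)) * C.t * C.ρ (C.cd x)) ⟨l, by simpa using a, by
      simp only [pr, app_eq, evw_append, evw_cons, evw_nil, mul_one, map_mul]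
      calc _ = C.g (fi F0) * C.ρ (C.cd (P.fX F0)) * (C.ρ (C.pr Bs) * C.t) * C.ρ (C.cd x) := by
            simp only [mul_assoc]
        _ = C.g (fi F0) * C.ρ (C.cd (P.fX F0)) * C.t * C.ρ (C.pr Cs) * C.ρ (C.cd x) := by
            rw [e3]; simp only [mul_assoc]
        _ = _ := by rw [e2]; simp only [mul_assoc]⟩
    refine fin_zero ih h d ⟨1, lm_one, ?_⟩
    rw [W, evw_cons] at hr
    rw [e', one_mul, mul_assoc, mul_assoc, ← mul_assoc C.t, hr, mul_one]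

theorem rSUB_zero {F s : ℕ} (h : P.rSUB k F s = 0) : C.Sem F := by
  obtain ⟨r, s, h⟩ := rd_zero h
  cases hl : lget P.sub [] r with
  | nil => rw [hl] at h; exact absurd h Nat.one_ne_zero
  | cons x ns =>
    rw [hl] at h
    have hm : x :: ns ∈ P.sub := by
      rw [lget_eq, List.getD_eq_getElem?_getD] at hl
      cases hh : P.sub[r]? with
      | none => rw [hh] at hl; exact absurd hl (by simp)
      | some v => rw [hh] at hl; exact (show v = x :: ns from hl) ▸ List.mem_of_getElem? hh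
    obtain ⟨b1, b2⟩ := C.hsub _ hm
    obtain ⟨n, s, h⟩ := rd_zero h
    obtain ⟨Λ, j, L, ns', s, h, e⟩ := run_zero ih h
    obtain ⟨γ', d, e'⟩ := e (C.ρ (C.cd x)) ⟨1, lm_one, by simp [g0]⟩
    refine fin_zero ih h d ⟨C.ρ (C.cd x) * C.W ns, ?_, by simp [e', g0]⟩
    unfold Lm
    rw [b1]
    exact b2

theorem rFORK_zero {F s : ℕ} (h : P.rFORK k F s = 0) : C.Sem F := by
  obtain ⟨hk, h⟩ := gd_zero h
  obtain ⟨F0, s, h, hk0, hF⟩ := ref_zero ih h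
  rw [force_eq] at h
  obtain ⟨Λ, c, L, s, h, e⟩ := mv_zero ih h
  obtain ⟨h1, h⟩ := gd_zero h
  obtain ⟨h1, h2⟩ := lor_zero h1
  obtain ⟨h3, h4⟩ := gd_zero h
  obtain ⟨l0, a0, e0⟩ := hF.2.1 hk0
  obtain ⟨l, a, e1⟩ := e (C.g (fi F0) * C.ρ (C.cd (P.fX F0))) ⟨1, lm_one, by simp⟩
  refine sE hk ⟨l⁻¹ * l0, Lm.eqL h4 (a.inv.mul a0) fun e => ?_, ?_⟩
  · simp only [pr, app_eq, evw_append, evw_cons, evw_nil, mul_one] at e ⊢
    rw [← e]; simp
  · rw [e0, pr, C.heq _ _ h3] at e1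
    simp only [evw_cons, evw_nil, mul_one, map_mul, ← mul_assoc, mul_left_inj] at e1
    rw [xor_zero' h1, xor_zero' h2, mul_assoc, e1]
    simp [mul_assoc]

theorem rTM_zero {F s : ℕ} (h : P.rTM k F s = 0) : C.Sem F := by
  obtain ⟨hk, h⟩ := gd_zero h
  rw [force_eq] at h
  obtain ⟨Λ, c, L, s, h, e⟩ := mv_zero ih h
  obtain ⟨h1, h⟩ := gd_zero h
  obtain ⟨h3, h4⟩ := gd_zero h
  obtain ⟨l, a, e1⟩ := e (C.g (fi F) * C.ρ (C.cd (P.fX F))) ⟨1, lm_one, by simp⟩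
  refine sT (xor_zero' hk) ⟨l, Lm.eqL h4 a fun e => by simpa using e, ?_⟩
  rw [e1, pr, C.heq _ _ h3, xor_zero' h1]
  simp

theorem rPE_zero {F s : ℕ} (h : P.rPE k F s = 0) : C.Sem F := by
  obtain ⟨hk, h⟩ := gd_zero h
  cases hx : P.ex with
  | false => rw [hx] at h; exact absurd h Nat.one_ne_zero
  | true =>
    rw [hx] at h
    obtain ⟨E, s, h, hE, sE⟩ := ref_zero ih h
    obtain ⟨T, s, h, hT, sT⟩ := ref_zero ih h
    obtain ⟨h1, h2⟩ := lor_zero h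
    obtain ⟨h1, h3⟩ := lor_zero h1
    obtain ⟨h2, h4⟩ := lor_zero h2
    obtain ⟨a1, a2⟩ := lor_zero h1
    obtain ⟨a3, a4⟩ := lor_zero h3
    obtain ⟨a5, a6⟩ := lor_zero h2
    obtain ⟨a7, a8⟩ := lor_zero h4
    obtain ⟨l1, b1, e1⟩ := sE.1 hE
    obtain ⟨l2, b2, e2⟩ := sT.2.1 hT
    unfold Lm at b1 b2
    rw [hx] at b1 b2
    change _ = _ at b1 b2
    rw [b2, a1, a2, a3, a4, C.cd0, g0] at e2
    simp only [map_one, one_mul, mul_one] at e2
    rw [b1, xor_zero' a5, xor_zero' a6, ← e2] at e1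
    exact sP (xor_zero' hk) ⟨by rw [C.hB hx]; trivial, by rw [xor_zero' a7, xor_zero' a8, e1]⟩

theorem rW_zero {F s : ℕ} (h : P.rW k F s = 0) : C.Sem F := by
  obtain ⟨hk, h⟩ := gd_zero h
  cases hl : lget P.wd [] (P.fY F) with
  | nil => rw [hl] at h; exact absurd h Nat.one_ne_zero
  | cons x ns =>
    rw [hl] at h
    obtain ⟨n, s, h⟩ := rd_zero h
    rw [force_eq] at h
    obtain ⟨Λ, j, L, ns', s, h, e⟩ := run_zero ih h
    cases ns' with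
    | cons y ns' => exact absurd h Nat.one_ne_zero
    | nil =>
      obtain ⟨c', Xs, As, s, h, l1, a1, e1⟩ := chE_zero ih h
      obtain ⟨h1, h⟩ := gd_zero h
      obtain ⟨h3, h4⟩ := gd_zero h
      obtain ⟨γ', ⟨l, a, rfl⟩, e'⟩ := e (C.g (fi F) * C.ρ (C.cd x)) ⟨1, lm_one, by simp⟩
      refine sW (xor_zero' hk) ⟨l * l1, Lm.eqL h4 (a.mul a1) fun e => by simpa [app_eq] using e, ?_⟩
      rw [← lget_eq, hl, Wd, List.headD_cons, List.tail_cons, ← mul_assoc, ← e', pr, C.heq _ _ h3, xor_zero' h1,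
        mul_assoc l l1, ← e1]
      simp [app_eq, mul_assoc]

theorem chk_zero (h : P.chk k = 0) : C.Sem (P.fact k) := by
  simp only [DP.chk, force_eq, lget_eq] at h
  generalize hF : P.fact k = F at h
  generalize Nat.shiftRight F P.sS = s at h
  generalize fr F = r at h
  by_cases hr : 11 ≤ r
  · rw [List.getD_eq_default _ _ (by simpa using hr)] at h
    exact absurd h Nat.one_ne_zero
  replace hr : r < 11 := by omega
  interval_cases r
  · obtain ⟨h1, h2⟩ := gd_zero h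
    obtain ⟨h1, h3⟩ := lor_zero h1
    obtain ⟨h3, h4⟩ := lor_zero h3
    refine sE h1 ⟨_, Lm.eqL h2 (lm_rho (C.cd (P.fX F))) fun e => by simpa using e, ?_⟩
    rw [h3, h4, g0]; simp
  · exact rED_zero ih h
  · obtain ⟨h1, h2⟩ := gd_zero h
    obtain ⟨a, s, h2⟩ := rd_zero h2
    obtain ⟨h2, h3⟩ := lor_zero h2
    refine sP (xor_zero' h1) ?_
    rw [← xor_zero' h2, ← xor_zero' h3, lget_eq, List.getD_eq_getElem?_getD]
    cases hh : P.bp[a]? with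
    | none => exact ⟨by simp [C.cd0], by simp [C.cd0]⟩
    | some v => exact C.hbp v (List.mem_of_getElem? hh)
  · exact rPD_zero ih h
  · obtain ⟨h1, h2⟩ := lor_zero h
    obtain ⟨h1, h3⟩ := lor_zero h1
    obtain ⟨h2, h4⟩ := lor_zero h2
    obtain ⟨h4, h5⟩ := lor_zero h4
    refine sT (xor_zero' h1) ⟨1, by rw [h5, C.cd0]; exact lm_one, ?_⟩
    rw [h4, C.cd0, map_one, one_mul, mul_one]
    conv_rhs => rw [g]
    rw [xor_zero' h2, hF, dif_pos (lt0_zero h3)]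
  · exact rLOOP_zero ih h
  · exact rSUB_zero ih h
  · exact rFORK_zero ih h
  · exact rTM_zero ih h
  · exact rPE_zero ih h
  · exact rW_zero ih h
end

variable (C)
theorem sound {n : ℕ} (h : Rng P.chk 0 n) : ∀ k < n, C.Sem (P.fact k) := fun k => by
  induction k using Nat.strong_induction_on with
  | _ k ih => exact fun hk => chk_zero (fun e he => ih e he (by omega)) (h k (Nat.zero_le _) hk)
end Ctx
end CfH6.D
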