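import Cfsg.Agent.OD.Pre
import Cfsg.Agent.H6.DL
import Cfsg.Agent.OD.Helper8xa869c01c94
/-! Conclusions from a double coset enumeration certificate. -/
set_option autoImplicit false
namespace CfH6.D
open MulAction

structure Lev where
  ks : List ℕ
  b : ℕ
  T : ℕ
  c : ℕ

/-- shape of the rank tables on `m = 128 nb + r` points -/
structure RP where
  m : ℕ
  nb : ℕ
  r : ℕ
  w : ℕ
  mw : ℕ
  gb : ℕ
  gm : ℕ

noncomputable def fixs (tr : ℕ → ℕ → ℕ) (X : ℕ) (pre : List ℕ) : ℕ :=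
  List.rec 0 (fun b _ ih => Nat.lor (Nat.xor (tr X b) b) ih) pre

noncomputable def chkKeys (tr : ℕ → ℕ → ℕ) (code ok : ℕ → ℕ) (pre ks : List ℕ) : ℕ :=
  List.rec 0 (fun k _ ih => gd (ok k) (gd (force (code k) fun X => fixs tr X pre) ih)) ks

noncomputable def apK (tr : ℕ → ℕ → ℕ) (code : ℕ → ℕ) (ks : List ℕ) (γ : ℕ) : ℕ → ℕ := tr (code (lget ks 0 γ))

noncomputable def chkLevs (Q : RP) (tr : ℕ → ℕ → ℕ) (code ok : ℕ → ℕ) (L : List Lev) : List ℕ → ℕ :=
  List.rec (fun _ => 0) (fun l _ ih pre => gd (chkKeys tr code ok pre l.ks) (gd (lt0 l.b Q.m)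
    (gd (force l.T fun T => gd (lp (chkCov (apK tr code l.ks) (lk Q.w Q.mw T) Q.gb Q.gm l.ks.length
        (Nat.shiftLeft 1 l.b) 0) 0 Q.nb Q.r)
      (gd (lp (fun p => Nat.shiftRight (lk Q.w Q.mw T p) Q.gb) Q.m 0 (Nat.sub 128 Q.r))
        (Nat.sub l.c (cntM (lk Q.w Q.mw T) Q.gb (Nat.succ Q.nb))))) (ih (l.b :: pre))))) L

noncomputable def RP.ok (Q : RP) : Bool := Nat.beq (Nat.add (Nat.mul Q.nb 128) Q.r) Q.m && Nat.ble Q.r 128

theorem RP.rng {Q : RP} (hQ : Q.ok = true) {p : ℕ → ℕ} (h : lp p 0 Q.nb Q.r = 0) : Rng p 0 Q.m := by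
  simp only [RP.ok, Bool.and_eq_true] at hQ
  exact rng_of 0 Q.nb Q.r Q.m (by rw [h, Bool.and_eq_true]; exact ⟨rfl, by rw [← hQ.1]; simp⟩)

section
variable {N : Type*} [Group N] [MulAction N ℕ]

/-- `tr` gives the action of the codes -/
def Trs (tr : ℕ → ℕ → ℕ) (cd : ℕ → N) (m : ℕ) : Prop := ∀ X, ∀ p < m, tr X p = cd X • p ∧ cd X • p < m

theorem Tb.trs {f : ℕ → ℕ → ℕ} {m k : ℕ} {el : ℕ → N} (T : Tb f m k el) {lb ml : ℕ} (fu : ℕ)
    (hk : Nat.blt ml k = true) : Trs (trC f lb ml fu) (cdF el lb ml fu) m :=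
  fun X _ hp => T.code (Nat.blt_eq.mp hk) fu X hp

variable {tr : ℕ → ℕ → ℕ} {cd : ℕ → N} {code ok : ℕ → ℕ} {K : Subgroup N}

theorem keys_sound {m : ℕ} (T : Trs tr cd m) (hK : ∀ k, ok k = 0 → cd (code k) ∈ K) {pre ks : List ℕ}
    (hp : ∀ b ∈ pre, b < m) (h : chkKeys tr code ok pre ks = 0) :
    Aps (K ⊓ fixer N pre) (apK tr code ks) ks.length m := by
  have k0 : ∀ X (pre : List ℕ), (∀ b ∈ pre, b < m) → fixs tr X pre = 0 → ∀ b ∈ pre, cd X • b = b := fun X pre => by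
    induction pre with
    | nil => simp
    | cons b pre ih =>
      intro hp h2
      obtain ⟨h3, h4⟩ := lor_zero h2
      refine forall_cons ?_ (ih (fun b hb => hp b (List.mem_cons_of_mem _ hb)) h4)
      rw [← (T _ b (hp b List.mem_cons_self)).1]; exact xor_zero' h3
  have key : ∀ k ∈ ks, cd (code k) ∈ K ⊓ fixer N pre := by
    induction ks with
    | nil => simp
    | cons k ks ih =>
      obtain ⟨h1, h⟩ := gd_zero h
      obtain ⟨h2, h⟩ := gd_zero h
      rw [force_eq] at h2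
      exact forall_cons ⟨hK k h1, k0 _ _ hp h2⟩ (ih h)
  intro γ hγ
  refine ⟨_, key (lget ks 0 γ) ?_, fun p hp => T _ p hp⟩
  rw [lget_eq, List.getD_eq_getElem _ _ hγ]
  exact List.getElem_mem hγ

theorem levs_sound {Q : RP} (hQ : Q.ok = true) (T : Trs tr cd Q.m) (hK : ∀ k, ok k = 0 → cd (code k) ∈ K)
    (L : List Lev) {pre : List ℕ} (hp : ∀ b ∈ pre, b < Q.m) (h : chkLevs Q tr code ok L pre = 0) :
    Low (K ⊓ fixer N pre) (L.map Lev.b) (L.map Lev.c).prod := by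
  induction L generalizing pre with
  | nil => exact Low.nil _
  | cons l L ih =>
    obtain ⟨h1, h⟩ := gd_zero h
    obtain ⟨h2, h⟩ := gd_zero h
    obtain ⟨h3, h⟩ := gd_zero h
    rw [force_eq] at h3
    obtain ⟨h3, h4⟩ := gd_zero h3
    obtain ⟨h4, h5⟩ := gd_zero h4
    have hQ' := hQ
    simp only [RP.ok, Bool.and_eq_true, Nat.beq_eq, Nat.ble_eq] at hQ'
    refine Low.cons (K' := K ⊓ fixer N (l.b :: pre)) (fun g hg => ⟨hg.1, fun b hb => hg.2 b (List.mem_cons_of_mem _ hb)⟩)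
      (fun g hg => hg.2 _ List.mem_cons_self) (cov_orbGe (keys_sound T hK hp h1) (Q.nb + 1) _ (RP.rng hQ h3)
        (rng_of Q.m 0 (Nat.sub 128 Q.r) _ ?_) (Nat.ble_eq ▸ sub_zero' h5)) (ih (forall_cons (lt0_zero h2) hp) h)
    rw [h4, Bool.and_eq_true, Nat.beq_eq, Nat.beq_eq]
    refine ⟨rfl, ?_⟩
    have := hQ'.1
    change Q.nb * 128 + Q.r = _ at this
    change Q.m + 0 * 128 + (128 - Q.r) = _
    omega

theorem levs_low {Q : RP} (T : Trs tr cd Q.m) (hK : ∀ k, ok k = 0 → cd (code k) ∈ K) (L : List Lev) (bs : List ℕ)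
    (c : ℕ) (h : (Q.ok && Nat.beq (chkLevs Q tr code ok L []) 0 && leqb (L.map Lev.b) bs &&
      Nat.beq (L.map Lev.c).prod c) = true) : Low K bs c := by
  simp only [Bool.and_eq_true, Nat.beq_eq] at h
  rw [← h.2, ← leqb_sound _ _ h.1.2]
  exact (levs_sound h.1.1.1 T hK L forall_nil h.1.1.2).mono inf_le_left

theorem levs_card [Finite N] {Q : RP} (T : Trs tr cd Q.m) (hK : ∀ k, ok k = 0 → cd (code k) ∈ K) (L : List Lev)
    (c : ℕ) (h : (Q.ok && Nat.beq (chkLevs Q tr code ok L []) 0 && Nat.beq (L.map Lev.c).prod c) = true) :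
    c ≤ Nat.card K := by
  simp only [Bool.and_eq_true, Nat.beq_eq] at h
  rw [← h.2]
  exact ((levs_sound h.1.1 T hK L forall_nil h.1.2).mono inf_le_left).card_ge K le_rfl inferInstance

/-- the stabiliser is inside `B` as soon as enough of `B` fixes the point -/
theorem stab_le [Finite N] {B : Subgroup N} {n m c : ℕ} (hn : Nat.card N = n) (h1 : Low (⊤ : Subgroup N) [0] m)
    (h2 : c ≤ Nat.card (B ⊓ stabilizer N 0 : Subgroup N)) (h : (Nat.blt 0 m && Nat.ble n (m * c)) = true) :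
    stabilizer N 0 ≤ B := by
  simp only [Bool.and_eq_true, Nat.blt_eq, Nat.ble_eq] at h
  have h3 := h1 ⊤ le_rfl inferInstance
  have e : (⊤ ⊓ fixer N [0] : Subgroup N) = stabilizer N 0 := by
    ext g; simp [fixer]
  rw [e, Subgroup.card_top, hn] at h3
  have h4 : Nat.card (stabilizer N 0) ≤ Nat.card (B ⊓ stabilizer N 0 : Subgroup N) :=
    (Nat.le_of_mul_le_mul_left (h3.trans h.2) h.1).trans h2
  have := Subgroup.eq_of_le_of_card_ge (inf_le_right : B ⊓ stabilizer N 0 ≤ _) h4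
  rw [← this]
  exact inf_le_left
end

theorem index_le {N : Type*} [Group N] {T : Subgroup N} {n s c : ℕ} (hn : Nat.card N = n) (h1 : s ≤ Nat.card T)
    (h : (Nat.blt 0 s && Nat.ble n (c * s)) = true) : T.index ≤ c := by
  simp only [Bool.and_eq_true, Nat.blt_eq, Nat.ble_eq] at h
  have := T.index_mul_card
  rw [hn] at this
  exact Nat.le_of_mul_le_mul_right ((Nat.mul_le_mul_left _ h1).trans (this.le.trans h.2)) h.1

theorem loop1_bit {p : ℕ → ℕ} {a n x : ℕ} (h : (loop1 p a n).testBit x = true) :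
    ∃ e, a ≤ e ∧ e < a + n ∧ (p e).testBit x = true := by
  induction n with
  | zero => exact absurd h (by simp [loop1])
  | succ n ih =>
    change Nat.testBit (p (a + n) ||| loop1 p a n) x = true at h
    rw [Nat.testBit_or, Bool.or_eq_true] at h
    rcases h with h | h
    · exact ⟨a + n, by omega, by omega, h⟩
    · obtain ⟨e, h1, h2, h3⟩ := ih h
      exact ⟨e, h1, by omega, h3⟩

theorem lp_bit {p : ℕ → ℕ} {a nb r x : ℕ} (h : (lp p a nb r).testBit x = true) :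
    ∃ e, a ≤ e ∧ e < a + nb * 128 + r ∧ (p e).testBit x = true := by
  change Nat.testBit (_ ||| _) x = true at h
  rw [Nat.testBit_or, Bool.or_eq_true] at h
  rcases h with h | h
  · obtain ⟨b, -, h2, h3⟩ := loop1_bit h
    rw [force_eq] at h3
    obtain ⟨e, h4, h5, h6⟩ := loop1_bit h3
    change a + b * 128 ≤ e at h4
    change e < a + b * 128 + 128 at h5
    exact ⟨e, by omega, by omega, h6⟩
  · rw [force_eq] at h
    obtain ⟨e, h4, h5, h6⟩ := loop1_bit h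
    change a + nb * 128 ≤ e at h4
    exact ⟨e, by omega, h5, h6⟩

/-- elements that pass through `t` -/
def Bsub {N G : Type*} [Group N] [Group G] (ρ : N →* G) (t : G) : Subgroup N where
  carrier := {b | ∃ c, ρ b * t = t * ρ c}
  one_mem' := ⟨1, by simp⟩
  mul_mem' := by
    rintro a b ⟨c, hc⟩ ⟨d, hd⟩
    exact ⟨c * d, by rw [map_mul, map_mul, mul_assoc, hd, ← mul_assoc, hc, mul_assoc]⟩
  inv_mem' := by
    rintro a ⟨c, hc⟩
    exact ⟨c⁻¹, by rw [map_inv, map_inv, inv_mul_eq_iff_eq_mul, ← mul_assoc, hc, mul_inv_cancel_right]⟩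

namespace DP
variable (P : DP)
noncomputable def cdK (k : ℕ) : ℕ := P.fX (P.fact k)
noncomputable def okE (n i k : ℕ) : ℕ := gd (lt0 k n) (force (P.fact k) fun F =>
  Nat.lor (fk F) (Nat.lor (Nat.xor (fi F) i) (Nat.xor (fj F) i)))
noncomputable def okP (n : ℕ) (tr : ℕ → ℕ → ℕ) (k : ℕ) : ℕ := gd (lt0 k n) (force (P.fact k) fun F =>
  Nat.lor (Nat.xor (fk F) 2) (tr (P.fX F) 0))
noncomputable def okT (n LM : ℕ) (ed : ℕ → ℕ) (i e : ℕ) : ℕ := force (ed e) fun s => force (Nat.land s P.md) fun f =>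
  gd (lt0 f n) (force (P.fact f) fun F => gd (Nat.lor (Nat.xor (fk F) 1) (Nat.xor (fi F) i))
    (force (fj F) fun j => P.chE n j (Nat.shiftRight s P.dw) fun j _ _ _ => Bool.rec 1 0 (Nat.testBit LM j)))
noncomputable def chkCos (Q : RP) (tr : ℕ → ℕ → ℕ) (n LM : ℕ) (ed : ℕ → ℕ) (i : ℕ) (ks : List ℕ) (a nb r T : ℕ) : ℕ :=
  gd (chkKeys tr P.cdK (P.okE n i) [] ks) (gd (lp (P.okT n LM ed i) a nb r)
    (force (lp (fun e => Nat.shiftLeft 1 (tr (P.cdK (Nat.land (ed e) P.md)) 0)) a nb r) fun R => force T fun T =>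
      lp (chkCov (apK tr P.cdK ks) (lk Q.w Q.mw T) Q.gb Q.gm ks.length R 1) 0 Q.nb Q.r))
noncomputable def gtl (fu : ℕ) : ℕ → List ℕ → (List ℕ → ℕ) → ℕ :=
  Nat.rec (fun _ _ _ => 1) (fun _ ih i acc k => force (P.fact (P.dref i)) fun F => gd (lt0 (fi F) i)
    (Nat.rec (gd (P.fX F) (k acc)) (fun _ _ => ih (fi F) (P.fX F :: acc) k) (fi F))) fu
noncomputable def chkOv (n i : ℕ) (ns : List ℕ) (w f : ℕ) : ℕ := P.gtl 64 i [] fun tl =>
  gd (Nat.lor (lt0 w n) (lt0 f n)) (force (P.fact w) fun F => force (P.fact f) fun F' =>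
    gd (Nat.lor (Nat.lor (Nat.xor (fk F) 3) (fi F)) (Nat.lor (Nat.xor (fk F') 1) (Nat.xor (fi F') (fj F))))
      (gd (Nat.mul (fj F') (Nat.xor (fj F') (fj F)))
        (Bool.rec 1 0 (leqb (lget P.wd [] (P.fY F)) (0 :: ns.flatMap fun x => tl ++ [x])))))
end DP

namespace Ctx
variable {P : DP} {N G : Type*} [Group N] [Group G] (C : Ctx P N G)

noncomputable def T (i : ℕ) : Subgroup N := (C.H.comap (MulAut.conj (C.g i)).toMonoidHom).comap C.ρ

theorem mem_T {i : ℕ} {x : N} : x ∈ C.T i ↔ C.g i * C.ρ x * (C.g i)⁻¹ ∈ C.H := Iff.rfl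

def U (LM : ℕ) (γ : G) : Prop := ∃ j, LM.testBit j = true ∧ ∃ h ∈ C.H, ∃ x, γ = h * C.g j * C.ρ x

def Cos [MulAction N ℕ] (LM m i : ℕ) : Prop :=
  ∀ p < m, ∃ s ∈ C.T i, ∃ u : N, p = s • u • 0 ∧ C.U LM (C.g i * C.ρ u * C.t)

/-- every overgroup of `H` containing the `i`-th representative contains `t` -/
def Ov (i : ℕ) : Prop := ∀ L : Subgroup G, C.H ≤ L → C.g i ∈ L → C.t ∈ L

variable {C} (hx : P.ex = false) {n : ℕ} (hS : ∀ k < n, C.Sem (P.fact k))

include hx in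
theorem Lm.mem {x : N} {l : G} (h : C.Lm x l) : l ∈ C.H := by
  unfold Lm at h; rw [hx] at h; exact h

include hx in
theorem T0 : (C.T 0).index ≤ 1 := by
  have : C.T 0 = ⊤ := eq_top_iff.mpr fun x _ => by rw [mem_T, g0]; simpa using C.hH hx x
  rw [this, Subgroup.index_top]

include hx hS in
theorem okE_mem (i k : ℕ) (h : P.okE n i k = 0) : C.cd (P.cdK k) ∈ C.T i := by
  obtain ⟨h1, h⟩ := gd_zero h
  rw [force_eq] at h
  obtain ⟨h2, h⟩ := lor_zero h
  obtain ⟨h3, h4⟩ := lor_zero h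
  obtain ⟨l, a, e⟩ := (hS k (lt0_zero h1)).1 h2
  rw [xor_zero' h3, xor_zero' h4] at e
  rw [mem_T, DP.cdK, e, mul_inv_cancel_right]
  exact a.mem hx

include hS in
theorem okP_mem [MulAction N ℕ] {tr : ℕ → ℕ → ℕ} {m : ℕ} (T : Trs tr C.cd m) (hm : Nat.blt 0 m = true) (k : ℕ)
    (h : P.okP n tr k = 0) : C.cd (P.cdK k) ∈ Bsub C.ρ C.t ⊓ stabilizer N 0 := by
  obtain ⟨h1, h⟩ := gd_zero h
  rw [force_eq] at h
  obtain ⟨h2, h3⟩ := lor_zero h
  exact ⟨⟨_, ((hS k (lt0_zero h1)).2.2.1 (xor_zero' h2)).2⟩, (T _ 0 (Nat.blt_eq.mp hm)).1.symm.trans h3⟩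

include hx hS in
theorem cos_of [MulAction N ℕ] {tr : ℕ → ℕ → ℕ} {Q : RP} (T : Trs tr C.cd Q.m) {LM : ℕ} {ed : ℕ → ℕ} (i : ℕ)
    (ks : List ℕ) (a nb r Tb : ℕ)
    (h : (Q.ok && Nat.blt 0 Q.m && Nat.beq (P.chkCos Q tr n LM ed i ks a nb r Tb) 0) = true) : C.Cos LM Q.m i := by
  simp only [Bool.and_eq_true, Nat.beq_eq, Nat.blt_eq] at h
  obtain ⟨⟨hQ, hm⟩, h⟩ := h
  obtain ⟨h1, h⟩ := gd_zero h
  obtain ⟨h2, h⟩ := gd_zero h
  rw [force_eq, force_eq] at h
  intro p hp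
  obtain ⟨s, hs, r', hr, e⟩ := cov_sound (keys_sound T (okE_mem hx hS i) forall_nil h1) (RP.rng hQ h) hp
    fun h => absurd h Nat.one_ne_zero
  obtain ⟨e', b1, b2, b3⟩ := lp_bit hr
  have b4 := rng_of a nb r (a + nb * 128 + r) (by rw [h2]; simp) e' b1 b2
  simp only [DP.okT, force_eq] at b4
  obtain ⟨c1, b4⟩ := gd_zero b4
  obtain ⟨c2, b4⟩ := gd_zero b4
  obtain ⟨c2, c3⟩ := lor_zero c2
  obtain ⟨j, Xs, As, s', c4, l2, a2, e2⟩ := chE_zero hS b4
  obtain ⟨l1, a1, e1⟩ := (hS _ (lt0_zero c1)).2.1 (xor_zero' c2)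
  rw [xor_zero' c3] at e1
  refine ⟨s, hs.1, _, by rw [e, ← bit_one b3, (T _ 0 hm).1], j, ?_, l1 * l2, mul_mem (a1.mem hx) (a2.mem hx),
    (C.pr Xs)⁻¹ * C.cd (P.fY (P.fact (Nat.land (ed e') P.md))), ?_⟩
  · cases hb : LM.testBit j with
    | true => rfl
    | false => rw [hb] at c4; exact absurd c4 Nat.one_ne_zero
  · rw [DP.cdK, e1, mul_assoc l1 l2, ← e2]
    simp [mul_assoc]

theorem gtl_zero {fu i : ℕ} {acc : List ℕ} {k : List ℕ → ℕ} (h : P.gtl fu i acc k = 0) :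
    ∃ tl, k (tl ++ acc) = 0 ∧ ∀ x rest, C.W (tl ++ x :: rest) = C.g i * C.ρ (C.cd x) * C.W rest := by
  induction fu generalizing i acc with
  | zero => exact absurd h Nat.one_ne_zero
  | succ fu ih =>
    have e0 : P.gtl (fu + 1) i acc k = force (P.fact (P.dref i)) fun F => gd (lt0 (fi F) i)
      (Nat.rec (gd (P.fX F) (k acc)) (fun _ _ => P.gtl fu (fi F) (P.fX F :: acc) k) (fi F)) := rfl
    rw [e0, force_eq] at h
    obtain ⟨h1, h⟩ := gd_zero h
    have e := g.eq_def C i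
    rw [dif_pos (lt0_zero h1)] at e
    cases hi : fi (P.fact (P.dref i)) with
    | zero =>
      rw [hi] at h e
      obtain ⟨h2, h⟩ := gd_zero h
      exact ⟨[], h, fun x rest => by rw [e, h2, g0, C.cd0]; simp⟩
    | succ j =>
      rw [hi] at h e
      obtain ⟨tl, h2, h3⟩ := ih h
      exact ⟨tl ++ [P.fX (P.fact (P.dref i))], by simpa using h2, fun x rest => by
        rw [List.append_assoc, List.singleton_append, h3, e]; simp [mul_assoc]⟩

include hx hS in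
theorem ov_of (i : ℕ) (ns : List ℕ) (w f : ℕ) (h : Nat.beq (P.chkOv n i ns w f) 0 = true) : C.Ov i := by
  obtain ⟨tl, h, e⟩ := gtl_zero (C := C) (Nat.eq_of_beq_eq_true h)
  rw [List.append_nil] at h
  obtain ⟨h1, h⟩ := gd_zero h
  rw [force_eq, force_eq] at h
  obtain ⟨h2, h⟩ := gd_zero h
  obtain ⟨h3, h⟩ := gd_zero h
  obtain ⟨h1, h4⟩ := lor_zero h1
  obtain ⟨h2, h5⟩ := lor_zero h2
  obtain ⟨h2, h6⟩ := lor_zero h2
  obtain ⟨h5, h7⟩ := lor_zero h5
  intro L hL hi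
  have hρ : ∀ x, C.ρ x ∈ L := fun x => hL (C.hH hx x)
  obtain ⟨l1, a1, e1⟩ := (hS w (lt0_zero h1)).2.2.2 (xor_zero' h2)
  obtain ⟨l2, a2, e2⟩ := (hS f (lt0_zero h4)).2.1 (xor_zero' h5)
  have k1 : ∀ ns : List ℕ, C.W (ns.flatMap fun x => tl ++ [x]) ∈ L := fun ns => by
    induction ns with
    | nil => exact one_mem _
    | cons x ns ih =>
      rw [List.flatMap_cons, List.append_assoc, List.singleton_append, e]
      exact mul_mem (mul_mem hi (hρ _)) ih
  cases hb : leqb (lget P.wd [] (P.fY (P.fact w))) (0 :: ns.flatMap fun x => tl ++ [x]) with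
  | false => rw [hb] at h; exact absurd h Nat.one_ne_zero
  | true =>
    rw [← lget_eq, leqb_sound _ _ hb, h6, g0, one_mul] at e1
    have k2 : C.g (fj (P.fact w)) ∈ L := by
      have : l1 * C.g (fj (P.fact w)) * C.ρ (C.cd (P.fX (P.fact w))) ∈ L := e1 ▸ mul_mem (hρ _) (k1 ns)
      rwa [L.mul_mem_cancel_right (hρ _), L.mul_mem_cancel_left (hL (a1.mem hx))] at this
    have k3 : C.g (fj (P.fact f)) ∈ L := by
      rcases Nat.mul_eq_zero.mp h3 with h8 | h8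
      · rw [h8, g0]; exact one_mem _
      · rw [xor_zero' h8]; exact k2
    rw [← L.mul_mem_cancel_left (mul_mem (xor_zero' h7 ▸ k2) (hρ (C.cd (P.fX (P.fact f))))), e2]
    exact mul_mem (mul_mem (hL (a2.mem hx)) k3) (hρ _)

variable (C)
/-- the subgroup generated by `N` and `t` -/
def K : Subgroup G := Subgroup.closure (Set.range C.ρ ∪ {C.t})

theorem rho_K (x : N) : C.ρ x ∈ C.K := Subgroup.subset_closure (Or.inl ⟨x, rfl⟩)
theorem t_K : C.t ∈ C.K := Subgroup.subset_closure (Or.inr rfl)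
theorem g_K (i : ℕ) : C.g i ∈ C.K := by
  induction i using Nat.strong_induction_on with
  | _ i ih =>
    rw [g]
    split_ifs with h
    exacts [mul_mem (mul_mem (ih _ h) (C.rho_K _)) C.t_K, one_mem _]

theorem dec [MulAction N ℕ] {LM m a b : ℕ} (lv : List (ℕ × ℕ)) (h0 : LM.testBit 0 = true) (h2 : [a, b] ∈ P.rel)
    (hLM : ∀ j, LM.testBit j = true → ∃ p ∈ lv, p.1 = j) (hm : ∀ x : N, x • 0 < m)
    (hst : stabilizer N 0 ≤ Bsub C.ρ C.t) (hc : ∀ p ∈ lv, C.Cos LM m p.1) : ∀ γ ∈ C.K, C.U LM γ := by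
  have k1 : ∀ γ x, C.U LM γ → C.U LM (γ * C.ρ x) := by
    rintro γ x ⟨j, hj, h, hh, y, rfl⟩
    exact ⟨j, hj, h, hh, y * x, by rw [map_mul, mul_assoc]⟩
  have k2 : ∀ γ, C.U LM γ → C.U LM (γ * C.t) := by
    rintro γ ⟨j, hj, h, hh, y, rfl⟩
    obtain ⟨p, hp, rfl⟩ := hLM j hj
    obtain ⟨s, hs, u, e, j', hj', h', hh', y', e'⟩ := hc p hp _ (hm y)
    obtain ⟨c, ec⟩ := hst (show u⁻¹ * s⁻¹ * y ∈ stabilizer N 0 by
      rw [mem_stabilizer_iff, mul_smul, mul_smul, e, inv_smul_smul, inv_smul_smul])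
    refine ⟨j', hj', h * (C.g p.1 * C.ρ s * (C.g p.1)⁻¹) * h', mul_mem (mul_mem hh (C.mem_T.mp hs)) hh', y' * c, ?_⟩
    calc _ = h * (C.g p.1 * C.ρ s * (C.g p.1)⁻¹) * (C.g p.1 * C.ρ u * (C.ρ (u⁻¹ * s⁻¹ * y) * C.t)) := by
          simp [mul_assoc]
      _ = _ := by rw [ec, ← mul_assoc (C.g p.1 * C.ρ u), e']; simp [mul_assoc]
  intro γ hγ
  induction hγ using Subgroup.closure_induction_right with
  | one => exact ⟨0, h0, 1, one_mem _, 1, by simp [g0]⟩
  | mul_right g _ y hy ih =>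
    rcases hy with ⟨x, rfl⟩ | rfl
    exacts [k1 _ _ ih, k2 _ ih]
  | mul_inv_cancel g _ y hy ih =>
    rcases hy with ⟨x, rfl⟩ | rfl
    · rw [← map_inv]; exact k1 _ _ ih
    · have e := C.hrel _ h2
      simp only [evw_cons, evw_nil, mul_one, mul_assoc] at e
      rw [← eq_inv_of_mul_eq_one_right e, ← mul_assoc, ← mul_assoc]
      exact k1 _ _ (k2 _ (k1 _ _ ih))

theorem cover [Finite N] {LM : ℕ} (lv : List (ℕ × ℕ)) (hLM : ∀ j, LM.testBit j = true → ∃ p ∈ lv, p.1 = j)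
    (hd : ∀ γ ∈ C.K, C.U LM γ) (hi : ∀ p ∈ lv, (C.T p.1).index ≤ p.2) (c : ℕ)
    (hc : Nat.beq (lv.map Prod.snd).sum c = true) : Covers C.H C.K c := by
  have key : ∃ l : List G, l.length ≤ (lv.map Prod.snd).sum ∧ (∀ w ∈ l, w ∈ C.K) ∧
      ∀ p ∈ lv, ∀ x, ∃ w ∈ l, C.g p.1 * C.ρ x * w⁻¹ ∈ C.H := by
    clear hLM hc
    induction lv with
    | nil => exact ⟨[], le_rfl, by simp, by simp⟩
    | cons p lv ih =>
      obtain ⟨l, h1, h2, h3⟩ := ih fun q hq => hi q (List.mem_cons_of_mem _ hq)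
      have := Fintype.ofFinite (N ⧸ C.T p.1)
      refine ⟨(Finset.univ : Finset (N ⧸ C.T p.1)).toList.map (fun q => C.g p.1 * C.ρ q.out⁻¹) ++ l, ?_,
        fun w hw => (List.mem_append.mp hw).elim (fun hw => ?_) (h2 w), forall_cons (fun x => ?_) fun q hq x => ?_⟩
      · rw [List.length_append, List.length_map, Finset.length_toList, Finset.card_univ, List.map_cons,
          List.sum_cons, ← Nat.card_eq_fintype_card]
        exact Nat.add_le_add (hi p List.mem_cons_self) h1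
      · obtain ⟨q, -, rfl⟩ := List.mem_map.mp hw
        exact mul_mem (C.g_K _) (C.rho_K _)
      · refine ⟨_, List.mem_append_left _ (List.mem_map.mpr ⟨(x⁻¹ : N), by simp, rfl⟩), ?_⟩
        obtain ⟨s, hs⟩ := QuotientGroup.mk_out_eq_mul (C.T p.1) x⁻¹
        rw [hs]
        simpa [mul_assoc] using C.mem_T.mp s.2
      · obtain ⟨w, hw, e⟩ := h3 q hq x
        exact ⟨w, List.mem_append_right _ hw, e⟩
  obtain ⟨l, h1, h2, h3⟩ := key
  refine ⟨fun i => l.getD i 1, fun i => ?_, fun γ hγ => ?_⟩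
  · change l.getD i 1 ∈ _
    rw [List.getD_eq_getElem?_getD]
    cases hh : l[i]? with
    | none => exact one_mem _
    | some v => exact h2 v (List.mem_of_getElem? hh)
  · obtain ⟨j, hj, h, hh, x, rfl⟩ := hd γ hγ
    obtain ⟨p, hp, rfl⟩ := hLM j hj
    obtain ⟨w, hw, e⟩ := h3 p hp x
    obtain ⟨i, hi', rfl⟩ := List.getElem_of_mem hw
    refine ⟨i, by rw [← Nat.eq_of_beq_eq_true hc]; omega, ?_⟩
    change _ * (l.getD i 1)⁻¹ ∈ _
    rw [List.getD_eq_getElem _ _ hi', mul_assoc, mul_assoc, ← mul_assoc (C.g p.1)]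
    exact mul_mem hh e

include hx in
theorem hmax {LM : ℕ} (lv : List (ℕ × ℕ)) (hLM : ∀ j, LM.testBit j = true → ∃ p ∈ lv, p.1 = j)
    (hd : ∀ γ ∈ C.K, C.U LM γ) (hK : C.K = ⊤) (ho : ∀ p ∈ lv, p.1 = 0 ∨ C.Ov p.1) :
    ∀ L : Subgroup G, C.H ≤ L → L = C.H ∨ L = ⊤ := by
  intro L hL
  by_cases hc : L ≤ C.H
  · exact Or.inl (le_antisymm hc hL)
  obtain ⟨γ, h1, h2⟩ := SetLike.not_le_iff_exists.mp hc
  obtain ⟨j, hj, h, hh, x, rfl⟩ := hd γ (hK.ge trivial)
  obtain ⟨p, hp, rfl⟩ := hLM j hj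
  rcases ho p hp with h3 | h3
  · rw [h3, g0, mul_one] at h2
    exact absurd (mul_mem hh (C.hH hx x)) h2
  rw [L.mul_mem_cancel_right (hL (C.hH hx x)), L.mul_mem_cancel_left (hL hh)] at h1
  refine Or.inr (eq_top_iff.mpr (hK.ge.trans ((Subgroup.closure_le _).mpr ?_)))
  rintro _ (⟨y, rfl⟩ | rfl)
  exacts [hL (C.hH hx y), h3 L hL h1]
end Ctx

theorem lm_of (lv : List (ℕ × ℕ)) (LM : ℕ)
    (h : Nat.beq LM (List.rec 0 (fun p _ ih => Nat.lor (Nat.shiftLeft 1 p.1) ih) lv) = true) :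
    ∀ j, LM.testBit j = true → ∃ p ∈ lv, p.1 = j := by
  rw [Nat.eq_of_beq_eq_true h]
  clear h
  induction lv with
  | nil => intro j hj; simp at hj
  | cons p lv ih =>
    intro j hj
    change Nat.testBit (_ ||| _) j = true at hj
    rw [Nat.testBit_or, Bool.or_eq_true] at hj
    rcases hj with hj | hj
    · exact ⟨p, List.mem_cons_self, bit_one hj⟩
    · obtain ⟨q, hq, e⟩ := ih j hj
      exact ⟨q, List.mem_cons_of_mem _ hq, e⟩

/-! translation between codes and words in the generators of the big group -/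

def gw (σ : List (List ℕ)) (tc : ℕ) (us : List (List ℕ)) : List ℕ := us.flatMap fun u => tc :: subst σ u

noncomputable def chkU1 (eq : List ℕ → List ℕ → ℕ) (nc x : ℕ) (u : List ℕ) : Bool :=
  allLt nc u && Nat.beq (eq [x] (u.map Nat.succ)) 0

noncomputable def chkUs (eq : List ℕ → List ℕ → ℕ) (nc : ℕ) (r : List ℕ) : List (List ℕ) → Bool :=
  List.rec (fun us => us.isEmpty) (fun x _ ih us => List.rec false (fun u us _ => chkU1 eq nc x u && ih us) us) r

/-- what the translation needs -/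
structure Trl {N G : Type*} [Group N] [Group G] (ρ : N →* G) (cd : ℕ → N) (eq : List ℕ → List ℕ → ℕ) (nc : ℕ)
    (el : ℕ → G) (σ : List (List ℕ)) : Prop where
  heq : ∀ a b, eq a b = 0 → evw cd a = evw cd b
  hcd : ∀ x < nc, ρ (cd (x + 1)) = byW el σ x

section
variable {N G : Type*} [Group N] [Group G] {ρ : N →* G} {cd : ℕ → N} {eq : List ℕ → List ℕ → ℕ} {nc : ℕ}
  {el : ℕ → G} {σ : List (List ℕ)} (T : Trl ρ cd eq nc el σ)
include T

theorem Trl.one {x : ℕ} {u : List ℕ} (h : chkU1 eq nc x u = true) : ρ (cd x) = evw el (subst σ u) := by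
  simp only [chkU1, Bool.and_eq_true, Nat.beq_eq] at h
  have := T.heq _ _ h.2
  rw [evw_cons, evw_nil, mul_one] at this
  rw [this, evw_subst, map_evw, ← evw_congr T.hcd (allLt_sound h.1)]
  simp [evw, List.map_map, Function.comp_def]

theorem Trl.many (tc : ℕ) {r : List ℕ} {us : List (List ℕ)} (h : chkUs eq nc r us = true) :
    evw (fun n => el tc * ρ (cd n)) r = evw el (gw σ tc us) := by
  induction r generalizing us with
  | nil => rw [List.isEmpty_iff.mp h]; rfl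
  | cons x r ih => cases us with
    | nil => exact absurd h (by simp [chkUs])
    | cons u us =>
      have h' : (chkU1 eq nc x u && chkUs eq nc r us) = true := h
      rw [Bool.and_eq_true] at h'
      rw [evw_cons, ih h'.2, T.one h'.1]
      simp [gw, mul_assoc]

theorem Trl.rels (tc : ℕ) (rel : List (List ℕ)) (uss : List (List (List ℕ)))
    (h1 : ∀ w ∈ uss.map (gw σ tc), evw el w = 1)
    (h : ((List.range rel.length).all fun i => Nat.blt i uss.length && chkUs eq nc (rel.getD i []) (uss.getD i [])) = true) :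
    ∀ r ∈ rel, evw (fun n => el tc * ρ (cd n)) r = 1 := by
  intro r hr
  obtain ⟨i, hi, rfl⟩ := List.getElem_of_mem hr
  have := List.all_eq_true.mp h i (List.mem_range.mpr hi)
  rw [Bool.and_eq_true, Nat.blt_eq, List.getD_eq_getElem _ _ hi, List.getD_eq_getElem _ _ this.1] at this
  rw [T.many tc this.2]
  exact h1 _ (List.mem_map_of_mem (List.getElem_mem _))

theorem Trl.word (tc : ℕ) (r : List ℕ) (u : List ℕ) (us : List (List ℕ))
    (h : (chkU1 eq nc (r.headD 0) u && chkUs eq nc r.tail us) = true) :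
    ρ (cd (r.headD 0)) * evw (fun n => el tc * ρ (cd n)) r.tail = evw el (subst σ u ++ gw σ tc us) := by
  rw [Bool.and_eq_true] at h
  rw [T.one h.1, T.many tc h.2, evw_append]

theorem Trl.bp (tc tc' : ℕ) (ht : el tc' = (el tc)⁻¹) (bp : List (ℕ × ℕ)) (us : List (List ℕ × List ℕ))
    (h1 : ∀ w ∈ us.map (fun u => subst σ u.1 ++ tc :: (subst σ u.2 ++ [tc'])), evw el w = 1)
    (h : ((List.range bp.length).all fun i => Nat.blt i us.length && chkU1 eq nc (bp.getD i (0, 0)).1 (us.getD i ([], [])).1 &&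
      allLt nc (us.getD i ([], [])).2 &&
      Nat.beq (eq ((bp.getD i (0, 0)).2 :: (us.getD i ([], [])).2.map Nat.succ) []) 0) = true) :
    ∀ p ∈ bp, ρ (cd p.1) * el tc = el tc * ρ (cd p.2) := by
  intro p hp
  obtain ⟨i, hi, rfl⟩ := List.getElem_of_mem hp
  have := List.all_eq_true.mp h i (List.mem_range.mpr hi)
  simp only [Bool.and_eq_true, Nat.blt_eq, Nat.beq_eq] at this
  obtain ⟨⟨⟨a1, a2⟩, a3⟩, a4⟩ := this
  rw [List.getD_eq_getElem _ _ hi, List.getD_eq_getElem _ _ a1] at a2 a4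
  rw [List.getD_eq_getElem _ _ a1] at a3
  have b1 := h1 _ (List.mem_map_of_mem (List.getElem_mem a1))
  have b2 := congrArg ρ (T.heq _ _ a4)
  rw [evw_cons, evw_nil, map_mul, map_one, map_evw] at b2
  have b3 : evw (fun x => ρ (cd x)) (us[i].2.map Nat.succ) = evw el (subst σ us[i].2) := by
    rw [evw_subst, ← evw_congr T.hcd (allLt_sound a3)]
    simp [evw, List.map_map, Function.comp_def]
  rw [b3] at b2
  simp only [evw_append, evw_cons, evw_nil, mul_one, ht] at b1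
  rw [T.one a2, eq_inv_of_mul_eq_one_left b2, eq_inv_of_mul_eq_one_left b1]
  simp [mul_assoc]

theorem Trl.subs (tc : ℕ) (H : Subgroup G) (sub : List (List ℕ)) (us : List (List ℕ × List (List ℕ)))
    (h1 : ∀ w ∈ us.map (fun u => subst σ u.1 ++ gw σ tc u.2), evw el w ∈ H)
    (h : ((List.range sub.length).all fun i => Nat.blt i us.length &&
      (chkU1 eq nc ((sub.getD i []).headD 0) (us.getD i ([], [])).1 &&
        chkUs eq nc (sub.getD i []).tail (us.getD i ([], [])).2)) = true) :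
    ∀ r ∈ sub, ρ (cd (r.headD 0)) * evw (fun n => el tc * ρ (cd n)) r.tail ∈ H := by
  intro r hr
  obtain ⟨i, hi, rfl⟩ := List.getElem_of_mem hr
  have := List.all_eq_true.mp h i (List.mem_range.mpr hi)
  rw [Bool.and_eq_true, Nat.blt_eq, List.getD_eq_getElem _ _ hi, List.getD_eq_getElem _ _ this.1] at this
  rw [T.word tc _ _ _ this.2]
  exact h1 _ (List.mem_map_of_mem (List.getElem_mem _))
end

noncomputable def DP.chkGoal (P : DP) (n nc : ℕ) (g : ℕ × List ℕ × List (List ℕ)) : Bool :=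
  Nat.beq (gd (lt0 g.1 n) (force (P.fact g.1) fun F => gd (Nat.lor (Nat.xor (fk F) 3) (Nat.lor (fi F) (fj F)))
    (P.eqc [P.fA F, P.fX F] []))) 0 && (chkU1 P.eqc nc ((P.wd.getD (P.fY (P.fact g.1)) []).headD 0) g.2.1 &&
      chkUs P.eqc nc (P.wd.getD (P.fY (P.fact g.1)) []).tail g.2.2)

section
variable {P : DP} {N G : Type*} [Group N] [Group G] {C : Ctx P N G} {n : ℕ} (hS : ∀ k < n, C.Sem (P.fact k))
include hS

theorem Ctx.goals_of (hx : P.ex = true) {nc : ℕ} {el : ℕ → G} {σ : List (List ℕ)} (T : Trl C.ρ C.cd P.eqc nc el σ)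
    {tc : ℕ} (ht : C.t = el tc) (gs : List (ℕ × List ℕ × List (List ℕ))) (h : gs.all (P.chkGoal n nc) = true) :
    ∀ w ∈ gs.map (fun g => subst σ g.2.1 ++ gw σ tc g.2.2), evw el w = 1 := by
  intro w hw
  obtain ⟨g, hg, rfl⟩ := List.mem_map.mp hw
  have := List.all_eq_true.mp h g hg
  rw [DP.chkGoal, Bool.and_eq_true, Nat.beq_eq] at this
  obtain ⟨h1, h2⟩ := gd_zero this.1
  rw [force_eq] at h2
  obtain ⟨h2, h3⟩ := gd_zero h2
  obtain ⟨h2, h4⟩ := lor_zero h2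
  obtain ⟨h4, h5⟩ := lor_zero h4
  obtain ⟨l, a, e⟩ := (hS _ (lt0_zero h1)).2.2.2 (xor_zero' h2)
  unfold Ctx.Lm at a
  rw [hx] at a
  change _ = _ at a
  have h6 := C.heq _ _ h3
  rw [evw_cons, evw_cons, evw_nil, mul_one] at h6
  rw [h4, h5, Ctx.g0, one_mul, mul_one, a, ← map_mul, h6, map_one] at e
  rw [← T.word tc _ _ _ this.2, ← ht]
  exact e

theorem Ctx.pe_of (ks : List ℕ) (bp : List (ℕ × ℕ)) (h : (bp.all fun p => ks.any fun k => Nat.blt k n &&
    Nat.beq (fk (P.fact k)) 2 && Nat.beq (P.fX (P.fact k)) p.1 && Nat.beq (P.fY (P.fact k)) p.2) = true) :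
    ∀ p ∈ bp, C.ρ (C.cd p.1) * C.t = C.t * C.ρ (C.cd p.2) := by
  intro p hp
  obtain ⟨k, -, h1⟩ := List.any_eq_true.mp (List.all_eq_true.mp h p hp)
  simp only [Bool.and_eq_true, Nat.blt_eq, Nat.beq_eq] at h1
  rw [← h1.2, ← h1.1.2]
  exact ((hS k h1.1.1.1).2.2.1 h1.1.1.2).2
end

/-- the big group is generated by `N` and `t` -/
theorem Ctx.K_top {P : DP} {N G : Type*} [Group N] [Group G] (C : Ctx P N G) {el : ℕ → G} {σ : List (List ℕ)}
    {nc k tc tc' : ℕ} (hcd : ∀ x < nc, C.ρ (C.cd (x + 1)) = byW el σ x) (ht : C.t = el tc) (ht' : el tc' = (el tc)⁻¹)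
    (htop : gensub el k = ⊤) (h : ((List.range k).all fun x => Nat.beq x tc || Nat.beq x tc' ||
      (List.range nc).any fun y => leqb (σ.getD y []) [x]) = true) : C.K = ⊤ := by
  refine eq_top_iff.mpr (htop.ge.trans (gensub_le fun x hx => ?_))
  have := List.all_eq_true.mp h x (List.mem_range.mpr hx)
  simp only [Bool.or_eq_true, Nat.beq_eq, List.any_eq_true, List.mem_range] at this
  rcases this with (rfl | rfl) | ⟨y, hy, e⟩
  · exact ht ▸ C.t_K
  · rw [ht', ← ht]; exact inv_mem C.t_K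
  · have := C.rho_K (C.cd (y + 1))
    rw [hcd y hy, byW, leqb_sound _ _ e] at this
    simpa using this

end CfH6.D
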