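import Cfsg.Agent.OD.Pre
import Cfsg.Agent.H6.F23B
import Cfsg.Agent.H6.F23T1
import Cfsg.Agent.H6.F23T2
import Cfsg.Agent.H6.F23T3
import Cfsg.Agent.H6.F22T3
import Cfsg.Agent.H6.F22T4
import Cfsg.Agent.H6.F22T5
import Cfsg.Agent.H6.F22T6
set_option autoImplicit false
set_option maxRecDepth 100000
set_option linter.all false
namespace CfH6.F23O
open CfH6
def s0 : List (List ℕ) := [[0], [1], [2], [3], [4], [5], [6], [7], [8], [9]]
def t0 : List (List ℕ) := [[0], [1], [2], [3], [4], [5], [6], [8], [9]]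
theorem cov0 : Covers (gensub (byW F23B.el t0) 9) (gensub (byW F23B.el s0) 10) 31671 :=
  cov_step F23B.el F23B.hinv F23B.hrel s0 t0 9 4 (fun ev H => F23T1.covers ev H) (by decide +kernel)
theorem top0 : gensub (byW F23B.el s0) 10 = ⊤ := (gensub_id F23B.el (by decide)).trans F23B.htop
theorem covT0 : Covers (gensub (byW F23B.el t0) 9) ⊤ 31671 := cov0.top top0
def s1 : List (List ℕ) := [[0], [1], [2], [3], [4], [5], [6], [8], [9]]
def t1 : List (List ℕ) := [[1], [2], [3], [4], [5], [6], [8], [9]]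
theorem cov1 : Covers (gensub (byW F23B.el t1) 8) (gensub (byW F23B.el s1) 9) 14080 :=
  cov_step F23B.el F23B.hinv F23B.hrel s1 t1 8 4 (fun ev H => F23T2.covers ev H) (by decide +kernel)
def s2 : List (List ℕ) := [[1], [2], [3], [4], [5], [6], [8], [9]]
def t2 : List (List ℕ) := [[1], [2], [3], [4], [5], [8], [9]]
theorem cov2 : Covers (gensub (byW F23B.el t2) 7) (gensub (byW F23B.el s2) 8) 728 :=
  cov_step F23B.el F23B.hinv F23B.hrel s2 t2 7 4 (fun ev H => F23T3.covers ev H) (by decide +kernel)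
def s3 : List (List ℕ) := [[1], [2], [3], [4], [5], [8], [9]]
def t3 : List (List ℕ) := [[2], [3], [4], [5], [8], [9]]
theorem cov3 : Covers (gensub (byW F23B.el t3) 6) (gensub (byW F23B.el s3) 7) 243 :=
  cov_step F23B.el F23B.hinv F23B.hrel s3 t3 6 4 (fun ev H => F22T3.covers ev H) (by decide +kernel)
def s4 : List (List ℕ) := [[2], [3], [4], [5], [8], [9]]
def t4 : List (List ℕ) := [[2], [3], [4], [5], [8]]
theorem cov4 : Covers (gensub (byW F23B.el t4) 5) (gensub (byW F23B.el s4) 6) 27 :=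
  cov_step F23B.el F23B.hinv F23B.hrel s4 t4 5 4 (fun ev H => F22T4.covers ev H) (by decide +kernel)
def s5 : List (List ℕ) := [[2], [3], [4], [5], [8]]
def t5 : List (List ℕ) := [[2], [3], [4], [5]]
theorem cov5 : Covers (gensub (byW F23B.el t5) 4) (gensub (byW F23B.el s5) 5) 16 :=
  cov_step F23B.el F23B.hinv F23B.hrel s5 t5 4 4 (fun ev H => F22T5.covers ev H) (by decide +kernel)
def s6 : List (List ℕ) := [[2], [3], [4], [5]]
def t6 : List (List ℕ) := []
theorem cov6 : Covers (gensub (byW F23B.el t6) 0) (gensub (byW F23B.el s6) 4) 120 :=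
  cov_step F23B.el F23B.hinv F23B.hrel s6 t6 0 4 (fun ev H => F22T6.covers ev H) (by decide +kernel)
theorem finT6 : Finite (gensub (byW F23B.el t6) 0) ∧ Nat.card (gensub (byW F23B.el t6) 0) ≤ 1 := (gensub_zero _)
theorem fin6 : Finite (gensub (byW F23B.el s6) 4) ∧ Nat.card (gensub (byW F23B.el s6) 4) ≤ 120 :=
  fin_cast (cov6.card_le finT6) (by decide)
theorem finT5 : Finite (gensub (byW F23B.el t5) 4) ∧ Nat.card (gensub (byW F23B.el t5) 4) ≤ 120 := (fin_le (gensub_le_of_subsIn F23B.el (by decide)) fin6)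
theorem fin5 : Finite (gensub (byW F23B.el s5) 5) ∧ Nat.card (gensub (byW F23B.el s5) 5) ≤ 1920 :=
  fin_cast (cov5.card_le finT5) (by decide)
theorem finT4 : Finite (gensub (byW F23B.el t4) 5) ∧ Nat.card (gensub (byW F23B.el t4) 5) ≤ 1920 := (fin_le (gensub_le_of_subsIn F23B.el (by decide)) fin5)
theorem fin4 : Finite (gensub (byW F23B.el s4) 6) ∧ Nat.card (gensub (byW F23B.el s4) 6) ≤ 51840 :=
  fin_cast (cov4.card_le finT4) (by decide)
theorem finT3 : Finite (gensub (byW F23B.el t3) 6) ∧ Nat.card (gensub (byW F23B.el t3) 6) ≤ 51840 := (fin_le (gensub_le_of_subsIn F23B.el (by decide)) fin4)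
theorem fin3 : Finite (gensub (byW F23B.el s3) 7) ∧ Nat.card (gensub (byW F23B.el s3) 7) ≤ 12597120 :=
  fin_cast (cov3.card_le finT3) (by decide)
theorem finT2 : Finite (gensub (byW F23B.el t2) 7) ∧ Nat.card (gensub (byW F23B.el t2) 7) ≤ 12597120 := (fin_le (gensub_le_of_subsIn F23B.el (by decide)) fin3)
theorem fin2 : Finite (gensub (byW F23B.el s2) 8) ∧ Nat.card (gensub (byW F23B.el s2) 8) ≤ 9170703360 :=
  fin_cast (cov2.card_le finT2) (by decide)
theorem finT1 : Finite (gensub (byW F23B.el t1) 8) ∧ Nat.card (gensub (byW F23B.el t1) 8) ≤ 9170703360 := (fin_le (gensub_le_of_subsIn F23B.el (by decide)) fin2)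
theorem fin1 : Finite (gensub (byW F23B.el s1) 9) ∧ Nat.card (gensub (byW F23B.el s1) 9) ≤ 129123503308800 :=
  fin_cast (cov1.card_le finT1) (by decide)
theorem finT0 : Finite (gensub (byW F23B.el t0) 9) ∧ Nat.card (gensub (byW F23B.el t0) 9) ≤ 129123503308800 := (fin_le (gensub_le_of_subsIn F23B.el (by decide)) fin1)
theorem fin0 : Finite (gensub (byW F23B.el s0) 10) ∧ Nat.card (gensub (byW F23B.el s0) 10) ≤ 4089470473293004800 :=
  fin_cast (cov0.card_le finT0) (by decide)
theorem finG : Finite F23B.G ∧ Nat.card F23B.G ≤ 4089470473293004800 := fin_top (top0 ▸ fin0)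
end CfH6.F23O
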