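import Cfsg.Agent.OD.Pre
import Cfsg.Agent.H6.F24B
import Cfsg.Agent.H6.F24A.P0
set_option autoImplicit false
set_option maxRecDepth 100000
set_option Elab.async false
set_option linter.all false
namespace CfH6.F24A
open CfH6 MulAction
theorem eq0 : ∀ e ∈ eqs0, evw (lp nets0) e.1 = evw (lp nets0) e.2 :=
  EqsOk.sound (((((((((((((((((((e0_0).trans e0_1).trans e0_2).trans e0_3).trans e0_4).trans e0_5).trans e0_6).trans e0_7).trans e0_8).trans e0_9).trans e0_10).trans e0_11).trans e0_12).trans e0_13).trans e0_14).trans e0_15).trans e0_16).trans e0_17).trans e0_18) ok0 (by decide)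
theorem eq1 : ∀ e ∈ eqs1, evw (lp nets0) e.1 = evw (lp nets0) e.2 :=
  EqsOk.sound (((((((((((((((((((e1_0).trans e1_1).trans e1_2).trans e1_3).trans e1_4).trans e1_5).trans e1_6).trans e1_7).trans e1_8).trans e1_9).trans e1_10).trans e1_11).trans e1_12).trans e1_13).trans e1_14).trans e1_15).trans e1_16).trans e1_17).trans e1_18) ok0 (by decide)
theorem eq2 : ∀ e ∈ eqs2, evw (lp nets0) e.1 = evw (lp nets0) e.2 :=
  EqsOk.sound (((((((((((((((((((e2_0).trans e2_1).trans e2_2).trans e2_3).trans e2_4).trans e2_5).trans e2_6).trans e2_7).trans e2_8).trans e2_9).trans e2_10).trans e2_11).trans e2_12).trans e2_13).trans e2_14).trans e2_15).trans e2_16).trans e2_17).trans e2_18) ok0 (by decide)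
theorem eqAll : ∀ e ∈ eqs, evw (lp nets0) e.1 = evw (lp nets0) e.2 := forall_app eq0 (forall_app eq1 (eq2))
theorem hsd : (∀ x < 12, lp nets0 (F24B.il.getD x 0) = (lp nets0 x)⁻¹) ∧ ∀ r ∈ eqRels F24B.il sig eqs, evw (lp nets0) r = 1 :=
  eqRels_sound (lp nets0) (k := 14) (by decide +kernel) eqAll
theorem exRho : ∃ ρ : F24B.G →* Equiv.Perm ℕ, ∀ x < 12, ρ (F24B.el x) = lp nets0 x :=
  F24B.hhom _ hsd.1 (follows_sound (n := 4) _ hsd.1 hsd.2 (by decide +kernel))
noncomputable def rho : F24B.G →* Equiv.Perm ℕ := Classical.choose exRho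
@[reducible] noncomputable def act : MulAction F24B.G ℕ := MulAction.compHom ℕ rho
attribute [local instance] act
theorem L0 : Lvl 327680 nets0 12 F24B.el := lvl0 rho ok0 (Classical.choose_spec exRho)
noncomputable abbrev el1 : ℕ → F24B.G := byW F24B.el ws1
theorem L1 : Lvl 327680 nets1 11 el1 := L0.next sx1 (((((((x1_0).trans x1_3).trans x1_6).trans x1_9).trans x1_12).trans x1_15).trans x1_18)
noncomputable abbrev el2 : ℕ → F24B.G := byW el1 ws2
theorem L2 : Lvl 4096 nets2 5 el2 := L1.next sx2 (((((((((((((((((((x2_0).trans x2_1).trans x2_2).trans x2_3).trans x2_4).trans x2_5).trans x2_6).trans x2_7).trans x2_8).trans x2_9).trans x2_10).trans x2_11).trans x2_12).trans x2_13).trans x2_14).trans x2_15).trans x2_16).trans x2_17).trans x2_18)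
noncomputable abbrev el3 : ℕ → F24B.G := byW el2 ws3
theorem L3 : Lvl 768 nets3 4 el3 := L2.next sx3 (x3_0)
noncomputable abbrev el4 : ℕ → F24B.G := byW el3 ws4
theorem L4 : Lvl 256 nets4 4 el4 := L3.next sx4 (x4_0)
noncomputable abbrev el5 : ℕ → F24B.G := byW el4 ws5
theorem L5 : Lvl 96 nets5 3 el5 := L4.next sx5 (x5_0)
noncomputable abbrev el6 : ℕ → F24B.G := byW el5 ws6
theorem L6 : Lvl 32 nets6 2 el6 := L5.next sx6 (x6_0)
noncomputable abbrev el7 : ℕ → F24B.G := byW el6 ws7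
theorem L7 : Lvl 24 nets7 2 el7 := L6.next sx7 (x7_0)
noncomputable abbrev el8 : ℕ → F24B.G := byW el7 ws8
theorem L8 : Lvl 16 nets8 2 el8 := L7.next sx8 (x8_0)
noncomputable abbrev H : Subgroup F24B.G := gensub el1 11
theorem fix0 : H ≤ stabilizer F24B.G 0 := L1.fix' 0 (by decide +kernel)
theorem cU : (bitSet U).ncard = 306936 := ncard_ivls lU _ (by decide +kernel)
theorem oi1 : OrbIn (gensub el1 11) 1 327680 S1 :=
  (L1.orbStep (L1.orbStep (OrbIn.one _ (by decide)) 77 k430 oi1_0) 55 S1 oi1_1)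
theorem o1 : orbit H 1 = bitSet S1 := L1.orbEq oi1 ci1
theorem c1 : (bitSet S1).ncard = 275264 := ncard_ivls l1 _ (by decide +kernel)
theorem oi2 : OrbIn (gensub el1 11) 279359 327680 S2 :=
  (L1.orbStep (L1.orbStep (OrbIn.one _ (by decide)) 77 k431 oi2_0) 55 S2 oi2_1)
theorem o2 : orbit H 279359 = bitSet S2 := L1.orbEq oi2 ci2
theorem c2 : (bitSet S2).ncard = 31671 := ncard_ivls l2 _ (by decide +kernel)
theorem hJ : ∀ j ∈ J, orbit H j.2.1 = bitSet j.2.2 := (forall_cons o1 (forall_cons o2 forall_nil))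
theorem subU : bitSet U ⊆ orbit (⊤ : Subgroup F24B.G) 0 := L0.sub_top J hJ U (by decide +kernel)
theorem q1 (hH : H = stabilizer F24B.G 0) : (orbit H ((evw F24B.el w1 : F24B.G) : F24B.G ⧸ H)).ncard = 275264 :=
  L0.quot hH w1 o1 c1 (by decide +kernel)
theorem q2 (hH : H = stabilizer F24B.G 0) : (orbit H ((evw F24B.el w2 : F24B.G) : F24B.G ⧸ H)).ncard = 31671 :=
  L0.quot hH w2 o2 c2 (by decide +kernel)
theorem orbTop : OrbGe (⊤ : Subgroup F24B.G) 0 306936 := orbGe_of_sub subU cU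
theorem stab (hc : Covers H ⊤ 306936) : H = stabilizer F24B.G 0 ∧ H.index = 306936 := stab_eq hc fix0 orbTop
theorem mx2 (hH : H = stabilizer F24B.G 0) (hN : H.index = 306936) : Mx H S2 :=
  L0.mx hH hN w2 o2 J2 (forall_cons o1 forall_nil) lBig cm2
theorem mx1 (hH : H = stabilizer F24B.G 0) (hN : H.index = 306936) : Mx H S1 :=
  L0.mx hH hN w1 o1 J1 (forall_cons o1 forall_nil) lBig cm1
theorem hmax (hH : H = stabilizer F24B.G 0) (hN : H.index = 306936) : ∀ L : Subgroup F24B.G, H ≤ L → L = H ∨ L = ⊤ :=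
  coatom_of hH (Mx.lorJ J (forall_cons (mx1 hH hN) (forall_cons (mx2 hH hN) forall_nil))) (orbit_sub_of_card hH hN (by decide) subU cU) (by decide +kernel)
theorem low8 : Low (gensub el8 2) [8] 6 :=
  (Low.cons bot_le bot_le (L8.orbGe 8 4 4 6 (by decide) (by decide) og8) (Low.nil ⊥)).cast (by decide)
theorem low7 : Low (gensub el7 2) [7, 8] 36 :=
  (Low.step' L8 (L7.orbGe 7 4 5 6 (by decide) (by decide) og7) (by decide +kernel) low8).cast (by decide)
theorem low6 : Low (gensub el6 2) [6, 7, 8] 648 :=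
  (Low.step' L7 (L6.orbGe 6 8 5 18 (by decide) (by decide) og6) (by decide +kernel) low7).cast (by decide)
theorem low5 : Low (gensub el5 3) [5, 6, 7, 8] 52488 :=
  (Low.step' L6 (L5.orbGe 5 12 7 81 (by decide) (by decide) og5) (by decide +kernel) low6).cast (by decide)
theorem low4 : Low (gensub el4 4) [4, 5, 6, 7, 8] 12597120 :=
  (Low.step' L5 (L4.orbGe 4 16 8 240 (by decide) (by decide) og4) (by decide +kernel) low5).cast (by decide)
theorem low3 : Low (gensub el3 4) [3, 4, 5, 6, 7, 8] 9170703360 :=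
  (Low.step' L4 (L3.orbGe 3 24 10 728 (by decide) (by decide) og3) (by decide +kernel) low4).cast (by decide)
theorem low2 : Low (gensub el2 5) [2, 3, 4, 5, 6, 7, 8] 29713078886400 :=
  (Low.step' L3 (L2.orbGe 2 30 12 3240 (by decide) (by decide) og2) (by decide +kernel) low3).cast (by decide)
theorem low1 : Low (gensub el1 11) [1, 2, 3, 4, 5, 6, 7, 8] 8178940946586009600 :=
  (Low.step' L2 (orbGe_of_eq o1 c1) (by decide +kernel) low2).cast (by decide)
theorem low0 : Low (gensub F24B.el 12) [0, 1, 2, 3, 4, 5, 6, 7, 8] 2510411418381323442585600 :=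
  (Low.step' L1 (F24B.htop ▸ orbTop) (by decide +kernel) low1).cast (by decide)
def bs : List ℕ := [0, 1, 2, 3, 4, 5, 6, 7, 8]
theorem hbs : ∀ b ∈ bs, b ∈ orbit F24B.G 0 := base_mem subU bs (by decide +kernel)
theorem top (hf : Finite F24B.G ∧ Nat.card F24B.G ≤ 2510411418381323442585600) : Nat.card F24B.G = 2510411418381323442585600 ∧ ∀ g : F24B.G, (∀ b ∈ bs, g • b = b) → g = 1 := low0.top hf
end CfH6.F24A
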