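import Cfsg.Agent.OD.Pre
import Cfsg.Agent.H6.TCTop
/-! coset enumeration certificate; generators l k a b c d e f g j h i ; index 2 -/
set_option autoImplicit false
set_option maxRecDepth 100000
set_option Elab.async false
set_option linter.all false
namespace CfH6.F24K2
open CfH6
noncomputable def tab0 : Tr := (Tr.l (nat_lit 0x69263092d6494a24949242091ce48c624529221090c648412d7096b04b5425a812d3096904b4425a012cf096704b3441801141))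
noncomputable def tab1 : Tr := (Tr.l (nat_lit 0x1fff8fffc7ffe3fff1fff8fffc7ffe3fff1fff90d0c42823fff1fff8fffc7ffe3fff1fff8fffc7ffe3fff1fff88300239a1142))
noncomputable def tab2 : Tr := (Tr.l (nat_lit 0x17ff8bffc5ffe2fff17ff8bffc5ffe2fff22220c5045ffe2fff17ff8bffc5ffe2fff17ff8bffc5ffe2fff18600bffc239c1143))
noncomputable def tab3 : Tr := (Tr.l (nat_lit 0x17ff8bffc5ffe2fff17ff8bffc5ffe454518a08bffc5ffe2fff17ff8bffc5ffe2fff17ff8bffc5ffe30c017ff8bffc239e1144))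
noncomputable def tab4 : Tr := (Tr.l (nat_lit 0x17ff8bffc5ffe2fff17ff8bffc8c8c314117ff8bffc5ffe2fff17ff8bffc5ffe2fff17ff8bffc61802fff17ff8bffc23a01145))
noncomputable def tab5 : Tr := (Tr.l (nat_lit 0x17ff95d2c5ffe2fff17ff91d1c62822fff17ff8bffc5ffe2fff17ff8bffc5ffe2fff17ff8c3005ffe2fff17ff8bffc23a21146))
noncomputable def tab6 : Tr := (Tr.l (nat_lit 0x17ff8bffc5ffe2fff24240c5045ffe2fff17ff8bffc5ffe2fff17ff8bffc5ffe2fff18600bffc5ffe2fff17ff8bffc23a41147))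
noncomputable def tab7 : Tr := (Tr.l (nat_lit 0x17ff8bffc5ffe494918a08bffc5ffe2fff17ff8bffc5ffe2fff17ff8bffc5ffe30c017ff8bffc5ffe2fff17ff8bffc23a61148))
noncomputable def tab8 : Tr := (Tr.l (nat_lit 0x17ff8bffc9494314117ff8bffc5ffe2fff17ff8bffc5ffe2fff17ff8bffc61802fff17ff8bffc5ffe2fff17ff8bffc23a81149))
noncomputable def tab9 : Tr := (Tr.l (nat_lit 0x17ff8bffc62822fff17ff8bffc5ffe2fff17ff8bffc5ffe2fff17ff8c3005ffe2fff17ff8bffc5ffe2fff17ff8bffc23aa114a))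
noncomputable def tab10 : Tr := (Tr.l (nat_lit 0x24260c5045ffe2fff17ff8bffc5ffe2fff17ff8bffc5ffe2fff18600bffc5ffe2fff17ff8bffc5ffe2fff17ff8bffc23ac114b))
noncomputable def tab11 : Tr := (Tr.l (nat_lit 0x18a08bffc5ffe2fff17ff8bffc5ffe2fff17ff8bffc5ffe30c017ff8bffc5ffe2fff17ff8bffc5ffe2fff17ff8bffc23ae114c))
noncomputable def tab12 : Tr := (Tr.l (nat_lit 0xc4a05e102d6815a40a4a04e1024e81164082a03d101c680c8c15be0aab05338288c13be099b04ab8244c119e088b0400000000))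
noncomputable def tab13 : Tr := (Tr.l (nat_lit 0xba987654321ba98765432100))
noncomputable def tab14 : Tr := (Tr.l (nat_lit 0))
noncomputable def tab15 : Tr := (Tr.l (nat_lit 0))
noncomputable def tab16 : Tr := (Tr.l (nat_lit 0))
noncomputable def tab17 : Tr := (Tr.l (nat_lit 0))
noncomputable def tab18 : Tr := (Tr.l (nat_lit 0))
noncomputable def tab19 : Tr := (Tr.l (nat_lit 0))
noncomputable def tab20 : Tr := (Tr.l (nat_lit 0))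
noncomputable def tab21 : Tr := (Tr.l (nat_lit 0))
noncomputable def tab22 : Tr := (Tr.l (nat_lit 0))
noncomputable def tab23 : Tr := (Tr.l (nat_lit 0))
noncomputable def tab24 : Tr := (Tr.l (nat_lit 0))
noncomputable def tab25 : Tr := (Tr.l (nat_lit 0))
noncomputable def tab26 : Tr := (Tr.l (nat_lit 0x4c0258128092048023811808a04402181080))
noncomputable def ty0 : TT := (TT.n (TT.n (TT.n (TT.n (TT.l (Ty.rel1 (nat_lit 0)))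
 (TT.l (Ty.rel3 (nat_lit 7) (nat_lit 0) (nat_lit 7))))
 (TT.n (TT.l (Ty.rel3 (nat_lit 3) (nat_lit 0) (nat_lit 3)))
 (TT.l (Ty.rel3 (nat_lit 11) (nat_lit 0) (nat_lit 11)))))
 (TT.n (TT.n (TT.l (Ty.rel3 (nat_lit 1) (nat_lit 0) (nat_lit 1)))
 (TT.l (Ty.rel3 (nat_lit 9) (nat_lit 0) (nat_lit 9))))
 (TT.l (Ty.rel3 (nat_lit 5) (nat_lit 0) (nat_lit 5)))))
 (TT.n (TT.n (TT.n (TT.l (Ty.dfn))
 (TT.l (Ty.rel3 (nat_lit 8) (nat_lit 0) (nat_lit 8))))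
 (TT.l (Ty.rel3 (nat_lit 4) (nat_lit 0) (nat_lit 4))))
 (TT.n (TT.n (TT.l (Ty.rel3 (nat_lit 2) (nat_lit 0) (nat_lit 2)))
 (TT.l (Ty.rel3 (nat_lit 10) (nat_lit 0) (nat_lit 10))))
 (TT.l (Ty.rel3 (nat_lit 6) (nat_lit 0) (nat_lit 6))))))
noncomputable def ty1 : TT := (TT.n (TT.n (TT.l (Ty.srel [nat_lit 1]))
 (TT.l (Ty.skip)))
 (TT.n (TT.l (Ty.dfn))
 (TT.l (Ty.srel [nat_lit 2, nat_lit 1, nat_lit 2]))))
noncomputable def ty2 : TT := (TT.n (TT.n (TT.l (Ty.srel [nat_lit 2]))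
 (TT.l (Ty.dfn)))
 (TT.n (TT.l (Ty.skip))
 (TT.l (Ty.srel [nat_lit 3, nat_lit 2, nat_lit 3]))))
noncomputable def ty3 : TT := (TT.n (TT.n (TT.l (Ty.srel [nat_lit 3]))
 (TT.l (Ty.dfn)))
 (TT.n (TT.l (Ty.skip))
 (TT.l (Ty.srel [nat_lit 4, nat_lit 3, nat_lit 4]))))
noncomputable def ty4 : TT := (TT.n (TT.n (TT.l (Ty.srel [nat_lit 4]))
 (TT.l (Ty.dfn)))
 (TT.n (TT.l (Ty.skip))
 (TT.l (Ty.srel [nat_lit 5, nat_lit 4, nat_lit 5]))))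
noncomputable def ty5 : TT := (TT.n (TT.n (TT.n (TT.l (Ty.srel [nat_lit 5]))
 (TT.l (Ty.srel [nat_lit 10, nat_lit 5, nat_lit 10])))
 (TT.l (Ty.dfn)))
 (TT.n (TT.l (Ty.skip))
 (TT.l (Ty.srel [nat_lit 6, nat_lit 5, nat_lit 6]))))
noncomputable def ty6 : TT := (TT.n (TT.n (TT.l (Ty.srel [nat_lit 6]))
 (TT.l (Ty.dfn)))
 (TT.n (TT.l (Ty.skip))
 (TT.l (Ty.srel [nat_lit 7, nat_lit 6, nat_lit 7]))))
noncomputable def ty7 : TT := (TT.n (TT.n (TT.l (Ty.srel [nat_lit 7]))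
 (TT.l (Ty.dfn)))
 (TT.n (TT.l (Ty.skip))
 (TT.l (Ty.srel [nat_lit 8, nat_lit 7, nat_lit 8]))))
noncomputable def ty8 : TT := (TT.n (TT.n (TT.l (Ty.srel [nat_lit 8]))
 (TT.l (Ty.dfn)))
 (TT.n (TT.l (Ty.skip))
 (TT.l (Ty.srel [nat_lit 9, nat_lit 8, nat_lit 9]))))
noncomputable def ty9 : TT := (TT.n (TT.n (TT.l (Ty.srel [nat_lit 9]))
 (TT.l (Ty.dfn)))
 (TT.l (Ty.skip)))
noncomputable def ty10 : TT := (TT.n (TT.n (TT.l (Ty.srel [nat_lit 10]))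
 (TT.l (Ty.dfn)))
 (TT.n (TT.l (Ty.skip))
 (TT.l (Ty.srel [nat_lit 11, nat_lit 10, nat_lit 11]))))
noncomputable def ty11 : TT := (TT.n (TT.n (TT.l (Ty.srel [nat_lit 11]))
 (TT.l (Ty.dfn)))
 (TT.l (Ty.skip)))
noncomputable def ty12 : TT := (TT.n (TT.n (TT.n (TT.n (TT.l (Ty.skip))
 (TT.l (Ty.srel [nat_lit 8, nat_lit 7, nat_lit 8, nat_lit 7, nat_lit 8, nat_lit 7])))
 (TT.l (Ty.srel [nat_lit 4, nat_lit 3, nat_lit 4, nat_lit 3, nat_lit 4, nat_lit 3])))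
 (TT.n (TT.n (TT.l (Ty.srel [nat_lit 2, nat_lit 1, nat_lit 2, nat_lit 1, nat_lit 2, nat_lit 1]))
 (TT.l (Ty.srel [nat_lit 10, nat_lit 5, nat_lit 10, nat_lit 5, nat_lit 10, nat_lit 5])))
 (TT.l (Ty.srel [nat_lit 6, nat_lit 5, nat_lit 6, nat_lit 5, nat_lit 6, nat_lit 5]))))
 (TT.n (TT.n (TT.n (TT.l (Ty.relL (nat_lit 1) [nat_lit 0, nat_lit 1, nat_lit 0, nat_lit 1, nat_lit 0]))
 (TT.l (Ty.srel [nat_lit 9, nat_lit 8, nat_lit 9, nat_lit 8, nat_lit 9, nat_lit 8])))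
 (TT.l (Ty.srel [nat_lit 5, nat_lit 4, nat_lit 5, nat_lit 4, nat_lit 5, nat_lit 4])))
 (TT.n (TT.n (TT.l (Ty.srel [nat_lit 3, nat_lit 2, nat_lit 3, nat_lit 2, nat_lit 3, nat_lit 2]))
 (TT.l (Ty.srel [nat_lit 11, nat_lit 10, nat_lit 11, nat_lit 10, nat_lit 11, nat_lit 10])))
 (TT.l (Ty.srel [nat_lit 7, nat_lit 6, nat_lit 7, nat_lit 6, nat_lit 7, nat_lit 6])))))
noncomputable def C : Cert where
  tabs := [tab0, tab1, tab2, tab3, tab4, tab5, tab6, tab7, tab8, tab9, tab10, tab11, tab12, tab13, tab14, tab15, tab16, tab17, tab18, tab19, tab20, tab21, tab22, tab23, tab24, tab25, tab26]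
  tts := [ty0, ty1, ty2, ty3, ty4, ty5, ty6, ty7, ty8, ty9, ty10, ty11, ty12]
  k := nat_lit 6
  base := nat_lit 13
  mJ := nat_lit 64
  mR := nat_lit 63
  W := nat_lit 17
  mA := nat_lit 4095
  mI := nat_lit 127
  S := nat_lit 12
  mC := nat_lit 31
  nc := nat_lit 12
  lo := nat_lit 64
  live := nat_lit 66
  hi1 := nat_lit 87
  AW := nat_lit 13
  mAW := nat_lit 8191
def il : List ℕ := [0, 1, 2, 3, 4, 5, 6, 7, 8, 9, 10, 11]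
def rels : List (List ℕ) := [[0, 1, 0, 1, 0, 1],
  [0, 2, 0, 2],
  [0, 3, 0, 3],
  [0, 4, 0, 4],
  [0, 5, 0, 5],
  [0, 6, 0, 6],
  [0, 7, 0, 7],
  [0, 8, 0, 8],
  [0, 9, 0, 9],
  [0, 10, 0, 10],
  [0, 11, 0, 11],
  [1, 2, 1, 2, 1, 2],
  [1, 3, 1, 3],
  [1, 4, 1, 4],
  [1, 5, 1, 5],
  [1, 6, 1, 6],
  [1, 7, 1, 7],
  [1, 8, 1, 8],
  [1, 9, 1, 9],
  [1, 10, 1, 10],
  [1, 11, 1, 11],
  [2, 3, 2, 3, 2, 3],
  [2, 4, 2, 4],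
  [2, 5, 2, 5],
  [2, 6, 2, 6],
  [2, 7, 2, 7],
  [2, 8, 2, 8],
  [2, 9, 2, 9],
  [2, 10, 2, 10],
  [2, 11, 2, 11],
  [3, 4, 3, 4, 3, 4],
  [3, 5, 3, 5],
  [3, 6, 3, 6],
  [3, 7, 3, 7],
  [3, 8, 3, 8],
  [3, 9, 3, 9],
  [3, 10, 3, 10],
  [3, 11, 3, 11],
  [4, 5, 4, 5, 4, 5],
  [4, 6, 4, 6],
  [4, 7, 4, 7],
  [4, 8, 4, 8],
  [4, 9, 4, 9],
  [4, 10, 4, 10],
  [4, 11, 4, 11],
  [5, 6, 5, 6, 5, 6],
  [5, 7, 5, 7],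
  [5, 8, 5, 8],
  [5, 9, 5, 9],
  [5, 10, 5, 10, 5, 10],
  [5, 11, 5, 11],
  [6, 7, 6, 7, 6, 7],
  [6, 8, 6, 8],
  [6, 9, 6, 9],
  [6, 10, 6, 10],
  [6, 11, 6, 11],
  [7, 8, 7, 8, 7, 8],
  [7, 9, 7, 9],
  [7, 10, 7, 10],
  [7, 11, 7, 11],
  [8, 9, 8, 9, 8, 9],
  [8, 10, 8, 10],
  [8, 11, 8, 11],
  [9, 10, 9, 10],
  [9, 11, 9, 11],
  [10, 11, 10, 11, 10, 11],
  [0, 10, 7, 6, 5, 4, 3, 2, 10, 7, 6, 5, 4, 3, 2, 10, 7, 6, 5, 4, 3, 2, 10, 7, 6, 5, 4, 3, 2, 10, 7, 6, 5, 4, 3, 2, 10, 7, 6, 5, 4, 3, 2, 10, 7, 6, 5, 4, 3, 2, 10, 7, 6, 5, 4, 3, 2, 10, 7, 6, 5, 4, 3, 2],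
  [5, 4, 3, 2, 1, 0, 5, 6, 7, 8, 9, 5, 10, 11, 5, 4, 3, 2, 1, 0, 5, 6, 7, 8, 9, 5, 10, 11, 5, 4, 3, 2, 1, 0, 5, 6, 7, 8, 9, 5, 10, 11, 5, 4, 3, 2, 1, 0, 5, 6, 7, 8, 9, 5, 10, 11, 5, 4, 3, 2, 1, 0, 5, 6, 7, 8, 9, 5, 10, 11, 5, 4, 3, 2, 1, 0, 5, 6, 7, 8, 9, 5, 10, 11, 5, 4, 3, 2, 1, 0, 5, 6, 7, 8, 9, 5, 10, 11, 5, 4, 3, 2, 1, 0, 5, 6, 7, 8, 9, 5, 10, 11, 5, 4, 3, 2, 1, 0, 5, 6, 7, 8, 9, 5, 10, 11, 5, 4, 3, 2, 1, 0, 5, 6, 7, 8, 9, 5, 10, 11, 5, 4, 3, 2, 1, 0, 5, 6, 7, 8, 9, 5, 10, 11, 5, 4, 3, 2, 1, 0, 5, 6, 7, 8, 9, 5, 10, 11, 5, 4, 3, 2, 1, 0, 5, 6, 7, 8, 9, 5, 10, 11, 5, 4, 3, 2, 1, 0, 5, 6, 7, 8, 9, 5, 10, 11, 5, 4, 3, 2, 1, 0, 5, 6, 7, 8, 9, 5, 10, 11, 5, 4, 3, 2, 1, 0, 5, 6, 7, 8, 9, 5, 10, 11, 5, 4, 3, 2, 1, 0, 5, 6, 7, 8, 9, 5, 10, 11],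
  [0, 1, 0, 1],
  [1, 2, 1, 2],
  [2, 3, 2, 3],
  [3, 4, 3, 4],
  [4, 5, 4, 5],
  [5, 6, 5, 6],
  [5, 10, 5, 10],
  [6, 7, 6, 7],
  [7, 8, 7, 8],
  [8, 9, 8, 9],
  [10, 11, 10, 11]]
def subs : List (List ℕ) := []
theorem valid : C.valid il rels subs = true := by decide +kernel
theorem p0 : C.OkL 64 66 := C.okL_of 64 0 2 66 (by decide) (by decide +kernel)
theorem p1 : C.OkR 66 88 := C.okR_of 66 0 22 88 (by decide) (by decide +kernel)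
theorem covers {G : Type*} [Group G] (ev : ℕ → G) (H : Subgroup G)
    (hinv : ∀ x < 12, ev (il.getD x 0) = (ev x)⁻¹) (hr : ∀ r ∈ rels, evw ev r = 1)
    (hs : ∀ s ∈ subs, evw ev s ∈ H) : Covers H (gensub ev 12) 2 :=
  C.sound il rels subs 12 2 valid (p0) (p1) (by decide) (by decide) ev H hinv hr hs
end CfH6.F24K2
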