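import Cfsg.Agent.OD.Pre
import Cfsg.Agent.H6.TCTop
/-! coset enumeration certificate; generators l b c d e f g h i ; index 2 -/
set_option autoImplicit false
set_option maxRecDepth 100000
set_option Elab.async false
set_option linter.all false
namespace CfH6.F24T4
open CfH6
noncomputable def tab0 : Tr := (Tr.l (nat_lit 0x8c0541))
noncomputable def tab1 : Tr := (Tr.l (nat_lit 0x9c14c0))
noncomputable def tab2 : Tr := (Tr.l (nat_lit 0x9c14c0))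
noncomputable def tab3 : Tr := (Tr.l (nat_lit 0x9c14c0))
noncomputable def tab4 : Tr := (Tr.l (nat_lit 0x9c14c0))
noncomputable def tab5 : Tr := (Tr.l (nat_lit 0x9c14c0))
noncomputable def tab6 : Tr := (Tr.l (nat_lit 0x9c14c0))
noncomputable def tab7 : Tr := (Tr.l (nat_lit 0x9c14c0))
noncomputable def tab8 : Tr := (Tr.l (nat_lit 0x9c14c0))
noncomputable def tab9 : Tr := (Tr.l (nat_lit 0))
noncomputable def tab10 : Tr := (Tr.l (nat_lit 0))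
noncomputable def tab11 : Tr := (Tr.l (nat_lit 0))
noncomputable def tab12 : Tr := (Tr.l (nat_lit 0))
noncomputable def tab13 : Tr := (Tr.l (nat_lit 0))
noncomputable def tab14 : Tr := (Tr.l (nat_lit 0))
noncomputable def tab15 : Tr := (Tr.l (nat_lit 0))
noncomputable def tab16 : Tr := (Tr.l (nat_lit 0))
noncomputable def tab17 : Tr := (Tr.l (nat_lit 0))
noncomputable def tab18 : Tr := (Tr.l (nat_lit 0))
noncomputable def tab19 : Tr := (Tr.l (nat_lit 0))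
noncomputable def tab20 : Tr := (Tr.l (nat_lit 0))
noncomputable def ty0 : TT := (TT.n (TT.l (Ty.rel1 (nat_lit 0)))
 (TT.l (Ty.dfn)))
noncomputable def ty1 : TT := (TT.n (TT.l (Ty.ssub [] []))
 (TT.l (Ty.rel3 (nat_lit 0) (nat_lit 1) (nat_lit 0))))
noncomputable def ty2 : TT := (TT.n (TT.l (Ty.ssub [] []))
 (TT.l (Ty.rel3 (nat_lit 0) (nat_lit 2) (nat_lit 0))))
noncomputable def ty3 : TT := (TT.n (TT.l (Ty.ssub [] []))
 (TT.l (Ty.rel3 (nat_lit 0) (nat_lit 3) (nat_lit 0))))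
noncomputable def ty4 : TT := (TT.n (TT.l (Ty.ssub [] []))
 (TT.l (Ty.rel3 (nat_lit 0) (nat_lit 4) (nat_lit 0))))
noncomputable def ty5 : TT := (TT.n (TT.l (Ty.ssub [] []))
 (TT.l (Ty.rel3 (nat_lit 0) (nat_lit 5) (nat_lit 0))))
noncomputable def ty6 : TT := (TT.n (TT.l (Ty.ssub [] []))
 (TT.l (Ty.rel3 (nat_lit 0) (nat_lit 6) (nat_lit 0))))
noncomputable def ty7 : TT := (TT.n (TT.l (Ty.ssub [] []))
 (TT.l (Ty.rel3 (nat_lit 0) (nat_lit 7) (nat_lit 0))))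
noncomputable def ty8 : TT := (TT.n (TT.l (Ty.ssub [] []))
 (TT.l (Ty.rel3 (nat_lit 0) (nat_lit 8) (nat_lit 0))))
noncomputable def ty9 : TT := (TT.l (Ty.skip))
noncomputable def C : Cert where
  tabs := [tab0, tab1, tab2, tab3, tab4, tab5, tab6, tab7, tab8, tab9, tab10, tab11, tab12, tab13, tab14, tab15, tab16, tab17, tab18, tab19, tab20]
  tts := [ty0, ty1, ty2, ty3, ty4, ty5, ty6, ty7, ty8, ty9]
  k := nat_lit 6
  base := nat_lit 2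
  mJ := nat_lit 64
  mR := nat_lit 63
  W := nat_lit 12
  mA := nat_lit 1023
  mI := nat_lit 127
  S := nat_lit 10
  mC := nat_lit 3
  nc := nat_lit 9
  lo := nat_lit 64
  live := nat_lit 66
  hi1 := nat_lit 65
  AW := nat_lit 13
  mAW := nat_lit 8191
def il : List ℕ := [0, 1, 2, 3, 4, 5, 6, 7, 8]
def rels : List (List ℕ) := [[0, 1, 0, 1],
  [0, 2, 0, 2],
  [0, 3, 0, 3],
  [0, 4, 0, 4],
  [0, 5, 0, 5],
  [0, 6, 0, 6],
  [0, 7, 0, 7],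
  [0, 8, 0, 8],
  [1, 2, 1, 2, 1, 2],
  [1, 3, 1, 3],
  [1, 4, 1, 4],
  [1, 5, 1, 5],
  [1, 6, 1, 6],
  [1, 7, 1, 7],
  [1, 8, 1, 8],
  [2, 3, 2, 3, 2, 3],
  [2, 4, 2, 4],
  [2, 5, 2, 5],
  [2, 6, 2, 6],
  [2, 7, 2, 7],
  [2, 8, 2, 8],
  [3, 4, 3, 4, 3, 4],
  [3, 5, 3, 5],
  [3, 6, 3, 6],
  [3, 7, 3, 7, 3, 7],
  [3, 8, 3, 8],
  [4, 5, 4, 5, 4, 5],
  [4, 6, 4, 6],
  [4, 7, 4, 7],
  [4, 8, 4, 8],
  [5, 6, 5, 6, 5, 6],
  [5, 7, 5, 7],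
  [5, 8, 5, 8],
  [6, 7, 6, 7],
  [6, 8, 6, 8],
  [7, 8, 7, 8, 7, 8],
  [3, 2, 1, 3, 4, 5, 3, 7, 8, 3, 2, 1, 3, 4, 5, 3, 7, 8, 3, 2, 1, 3, 4, 5, 3, 7, 8, 3, 2, 1, 3, 4, 5, 3, 7, 8, 3, 2, 1, 3, 4, 5, 3, 7, 8, 3, 2, 1, 3, 4, 5, 3, 7, 8, 3, 2, 1, 3, 4, 5, 3, 7, 8, 3, 2, 1, 3, 4, 5, 3, 7, 8, 3, 2, 1, 3, 4, 5, 3, 7, 8, 3, 2, 1, 3, 4, 5, 3, 7, 8]]
def subs : List (List ℕ) := [[1],
  [2],
  [3],
  [4],
  [5],
  [6],
  [7],
  [8]]
theorem valid : C.valid il rels subs = true := by decide +kernel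
theorem p0 : C.OkL 64 66 := C.okL_of 64 0 2 66 (by decide) (by decide +kernel)
theorem covers {G : Type*} [Group G] (ev : ℕ → G) (H : Subgroup G)
    (hinv : ∀ x < 9, ev (il.getD x 0) = (ev x)⁻¹) (hr : ∀ r ∈ rels, evw ev r = 1)
    (hs : ∀ s ∈ subs, evw ev s ∈ H) : Covers H (gensub ev 9) 2 :=
  C.sound il rels subs 9 2 valid (p0) (Cert.OkR.nil C _) (by decide) (by decide) ev H hinv hr hs
end CfH6.F24T4
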