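import Cfsg.Agent.OD.Pre
import Cfsg.Agent.H6.F24X
import Cfsg.Agent.H6.F24T1
import Cfsg.Agent.H6.F24T2
import Cfsg.Agent.H6.F24T3
import Cfsg.Agent.H6.F24T4
import Cfsg.Agent.H6.F23T3
import Cfsg.Agent.H6.F22T3
import Cfsg.Agent.H6.F22T4
import Cfsg.Agent.H6.F22T5
import Cfsg.Agent.H6.F22T6
set_option autoImplicit false
set_option maxRecDepth 100000
set_option linter.all false
namespace CfH6.F24O
open CfH6
def s0 : List (List ℕ) := [[0], [1], [2], [3], [4], [5], [6], [7], [8], [9], [10], [11]]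
def t0 : List (List ℕ) := [[2], [3], [4], [5], [6], [7], [8], [10], [11], [9], [0]]
theorem cov0 : Covers (gensub (byW F24X.el t0) 11) (gensub (byW F24X.el s0) 12) 306936 :=
  cov_step F24X.el F24X.hinv F24X.hrel s0 t0 11 4 (fun ev H => F24T1.covers ev H) (by decide +kernel)
theorem top0 : gensub (byW F24X.el s0) 12 = ⊤ := (gensub_id F24X.el (by decide)).trans F24X.htop
theorem covT0 : Covers (gensub (byW F24X.el t0) 11) ⊤ 306936 := cov0.top top0
def s1 : List (List ℕ) := [[0], [2], [3], [4], [5], [6], [7], [8], [9], [10], [11]]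
def t1 : List (List ℕ) := [[0], [2], [3], [4], [5], [6], [7], [8], [10], [11]]
theorem cov1 : Covers (gensub (byW F24X.el t1) 10) (gensub (byW F24X.el s1) 11) 31671 :=
  cov_step F24X.el F24X.hinv F24X.hrel s1 t1 10 4 (fun ev H => F24T2.covers ev H) (by decide +kernel)
def s2 : List (List ℕ) := [[0], [2], [3], [4], [5], [6], [7], [8], [10], [11]]
def t2 : List (List ℕ) := [[0], [3], [4], [5], [6], [7], [8], [10], [11]]
theorem cov2 : Covers (gensub (byW F24X.el t2) 9) (gensub (byW F24X.el s2) 10) 14080 :=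
  cov_step F24X.el F24X.hinv F24X.hrel s2 t2 9 4 (fun ev H => F24T3.covers ev H) (by decide +kernel)
def s3 : List (List ℕ) := [[0], [3], [4], [5], [6], [7], [8], [10], [11]]
def t3 : List (List ℕ) := [[3], [4], [5], [6], [7], [8], [10], [11]]
theorem cov3 : Covers (gensub (byW F24X.el t3) 8) (gensub (byW F24X.el s3) 9) 2 :=
  cov_step F24X.el F24X.hinv F24X.hrel s3 t3 8 4 (fun ev H => F24T4.covers ev H) (by decide +kernel)
def s4 : List (List ℕ) := [[3], [4], [5], [6], [7], [8], [10], [11]]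
def t4 : List (List ℕ) := [[3], [4], [5], [6], [7], [10], [11]]
theorem cov4 : Covers (gensub (byW F24X.el t4) 7) (gensub (byW F24X.el s4) 8) 728 :=
  cov_step F24X.el F24X.hinv F24X.hrel s4 t4 7 4 (fun ev H => F23T3.covers ev H) (by decide +kernel)
def s5 : List (List ℕ) := [[3], [4], [5], [6], [7], [10], [11]]
def t5 : List (List ℕ) := [[4], [5], [6], [7], [10], [11]]
theorem cov5 : Covers (gensub (byW F24X.el t5) 6) (gensub (byW F24X.el s5) 7) 243 :=
  cov_step F24X.el F24X.hinv F24X.hrel s5 t5 6 4 (fun ev H => F22T3.covers ev H) (by decide +kernel)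
def s6 : List (List ℕ) := [[4], [5], [6], [7], [10], [11]]
def t6 : List (List ℕ) := [[4], [5], [6], [7], [10]]
theorem cov6 : Covers (gensub (byW F24X.el t6) 5) (gensub (byW F24X.el s6) 6) 27 :=
  cov_step F24X.el F24X.hinv F24X.hrel s6 t6 5 4 (fun ev H => F22T4.covers ev H) (by decide +kernel)
def s7 : List (List ℕ) := [[4], [5], [6], [7], [10]]
def t7 : List (List ℕ) := [[4], [5], [6], [7]]
theorem cov7 : Covers (gensub (byW F24X.el t7) 4) (gensub (byW F24X.el s7) 5) 16 :=
  cov_step F24X.el F24X.hinv F24X.hrel s7 t7 4 4 (fun ev H => F22T5.covers ev H) (by decide +kernel)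
def s8 : List (List ℕ) := [[4], [5], [6], [7]]
def t8 : List (List ℕ) := []
theorem cov8 : Covers (gensub (byW F24X.el t8) 0) (gensub (byW F24X.el s8) 4) 120 :=
  cov_step F24X.el F24X.hinv F24X.hrel s8 t8 0 4 (fun ev H => F22T6.covers ev H) (by decide +kernel)
theorem finT8 : Finite (gensub (byW F24X.el t8) 0) ∧ Nat.card (gensub (byW F24X.el t8) 0) ≤ 1 := (gensub_zero _)
theorem fin8 : Finite (gensub (byW F24X.el s8) 4) ∧ Nat.card (gensub (byW F24X.el s8) 4) ≤ 120 :=
  fin_cast (cov8.card_le finT8) (by decide)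
theorem finT7 : Finite (gensub (byW F24X.el t7) 4) ∧ Nat.card (gensub (byW F24X.el t7) 4) ≤ 120 := (fin_le (gensub_le_of_subsIn F24X.el (by decide)) fin8)
theorem fin7 : Finite (gensub (byW F24X.el s7) 5) ∧ Nat.card (gensub (byW F24X.el s7) 5) ≤ 1920 :=
  fin_cast (cov7.card_le finT7) (by decide)
theorem finT6 : Finite (gensub (byW F24X.el t6) 5) ∧ Nat.card (gensub (byW F24X.el t6) 5) ≤ 1920 := (fin_le (gensub_le_of_subsIn F24X.el (by decide)) fin7)
theorem fin6 : Finite (gensub (byW F24X.el s6) 6) ∧ Nat.card (gensub (byW F24X.el s6) 6) ≤ 51840 :=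
  fin_cast (cov6.card_le finT6) (by decide)
theorem finT5 : Finite (gensub (byW F24X.el t5) 6) ∧ Nat.card (gensub (byW F24X.el t5) 6) ≤ 51840 := (fin_le (gensub_le_of_subsIn F24X.el (by decide)) fin6)
theorem fin5 : Finite (gensub (byW F24X.el s5) 7) ∧ Nat.card (gensub (byW F24X.el s5) 7) ≤ 12597120 :=
  fin_cast (cov5.card_le finT5) (by decide)
theorem finT4 : Finite (gensub (byW F24X.el t4) 7) ∧ Nat.card (gensub (byW F24X.el t4) 7) ≤ 12597120 := (fin_le (gensub_le_of_subsIn F24X.el (by decide)) fin5)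
theorem fin4 : Finite (gensub (byW F24X.el s4) 8) ∧ Nat.card (gensub (byW F24X.el s4) 8) ≤ 9170703360 :=
  fin_cast (cov4.card_le finT4) (by decide)
theorem finT3 : Finite (gensub (byW F24X.el t3) 8) ∧ Nat.card (gensub (byW F24X.el t3) 8) ≤ 9170703360 := (fin_le (gensub_le_of_subsIn F24X.el (by decide)) fin4)
theorem fin3 : Finite (gensub (byW F24X.el s3) 9) ∧ Nat.card (gensub (byW F24X.el s3) 9) ≤ 18341406720 :=
  fin_cast (cov3.card_le finT3) (by decide)
theorem finT2 : Finite (gensub (byW F24X.el t2) 9) ∧ Nat.card (gensub (byW F24X.el t2) 9) ≤ 18341406720 := (fin_le (gensub_le_of_subsIn F24X.el (by decide)) fin3)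
theorem fin2 : Finite (gensub (byW F24X.el s2) 10) ∧ Nat.card (gensub (byW F24X.el s2) 10) ≤ 258247006617600 :=
  fin_cast (cov2.card_le finT2) (by decide)
theorem finT1 : Finite (gensub (byW F24X.el t1) 10) ∧ Nat.card (gensub (byW F24X.el t1) 10) ≤ 258247006617600 := (fin_le (gensub_le_of_subsIn F24X.el (by decide)) fin2)
theorem fin1 : Finite (gensub (byW F24X.el s1) 11) ∧ Nat.card (gensub (byW F24X.el s1) 11) ≤ 8178940946586009600 :=
  fin_cast (cov1.card_le finT1) (by decide)
theorem finT0 : Finite (gensub (byW F24X.el t0) 11) ∧ Nat.card (gensub (byW F24X.el t0) 11) ≤ 8178940946586009600 := (fin_le (gensub_le_of_subsIn F24X.el (by decide)) fin1)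
theorem fin0 : Finite (gensub (byW F24X.el s0) 12) ∧ Nat.card (gensub (byW F24X.el s0) 12) ≤ 2510411418381323442585600 :=
  fin_cast (cov0.card_le finT0) (by decide)
theorem finG : Finite F24X.G ∧ Nat.card F24X.G ≤ 2510411418381323442585600 := fin_top (top0 ▸ fin0)
end CfH6.F24O
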