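import Cfsg.Agent.OD.Pre
import Cfsg.Agent.H6.TCTop
/-! coset enumeration certificate; generators x y u v t g ; index 1 -/
set_option autoImplicit false
set_option maxRecDepth 100000
set_option Elab.async false
set_option linter.all false
namespace CfH6.G23K
open CfH6
noncomputable def tab0 : Tr := (Tr.l (nat_lit 0x5fff71c55fff5fff5fff624a5fff5fff45cb30c022421141))
noncomputable def tab1 : Tr := (Tr.l (nat_lit 0x56434fff4fff4fff4fff4fff4fff4fff4fff31c120c01142))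
noncomputable def tab2 : Tr := (Tr.l (nat_lit 0x3fff3fff3fff3fff3fff3fff3fff40c03fff3fff21cb1143))
noncomputable def tab3 : Tr := (Tr.l (nat_lit 0x31412fff2fff2fff2fff2fff2fff41c330c097c32fff1144))
noncomputable def tab4 : Tr := (Tr.l (nat_lit 0x3fff51c13fff3fff3fff40c022463fff24cba34094421145))
noncomputable def tab5 : Tr := (Tr.l (nat_lit 0x64433fff3fff3fff3fff51c540c03fff3fff3fff224a1146))
noncomputable def tab6 : Tr := (Tr.l (nat_lit 0x3fff3fff3fff40c022483fff3fffb6c0a5c897c025cb1147))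
noncomputable def tab7 : Tr := (Tr.l (nat_lit 0x55412fff2fff41c730c02fff2fffb6c3a5c097c32fff1148))
noncomputable def tab8 : Tr := (Tr.l (nat_lit 0x3fff3fff40c03fff3fff3fff3fff3fff3fff994028411149))
noncomputable def tab9 : Tr := (Tr.l (nat_lit 0x4fff60c04fff4fff4fff51c24fff4fff4fff324624c1114a))
noncomputable def tab10 : Tr := (Tr.l (nat_lit 0x88c2c34078c26644554342c2b3c13742a94129c19a400000))
noncomputable def tab11 : Tr := (Tr.l (nat_lit 0x398674523010))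
noncomputable def tab12 : Tr := (Tr.l (nat_lit 0))
noncomputable def tab13 : Tr := (Tr.l (nat_lit 0))
noncomputable def tab14 : Tr := (Tr.l (nat_lit 0))
noncomputable def tab15 : Tr := (Tr.l (nat_lit 0x1100))
noncomputable def tab16 : Tr := (Tr.l (nat_lit 0x2301140))
noncomputable def tab17 : Tr := (Tr.l (nat_lit 0))
noncomputable def tab18 : Tr := (Tr.l (nat_lit 0x4802381100))
noncomputable def tab19 : Tr := (Tr.l (nat_lit 0x4802381100))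
noncomputable def tab20 : Tr := (Tr.l (nat_lit 0x1240))
noncomputable def tab21 : Tr := (Tr.l (nat_lit 0))
noncomputable def tab22 : Tr := (Tr.l (nat_lit 0x8c04a025830a0))
noncomputable def ty0 : TT := (TT.n (TT.n (TT.n (TT.l (Ty.srel [nat_lit 1]))
 (TT.l (Ty.skip)))
 (TT.n (TT.l (Ty.dfn))
 (TT.l (Ty.relL (nat_lit 5) [nat_lit 9]))))
 (TT.n (TT.n (TT.l (Ty.rel1 (nat_lit 1)))
 (TT.l (Ty.rel3 (nat_lit 4) (nat_lit 1) (nat_lit 5))))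
 (TT.l (Ty.srel [nat_lit 7, nat_lit 1, nat_lit 6]))))
noncomputable def ty1 : TT := (TT.n (TT.n (TT.n (TT.l (Ty.srel [nat_lit 0]))
 (TT.l (Ty.rel1 (nat_lit 0))))
 (TT.l (Ty.relL (nat_lit 1) [nat_lit 1])))
 (TT.n (TT.l (Ty.dfn))
 (TT.l (Ty.skip))))
noncomputable def ty2 : TT := (TT.n (TT.n (TT.l (Ty.srel [nat_lit 3]))
 (TT.l (Ty.skip)))
 (TT.n (TT.l (Ty.rel1 (nat_lit 3)))
 (TT.l (Ty.dfn))))
noncomputable def ty3 : TT := (TT.n (TT.n (TT.l (Ty.srel [nat_lit 2]))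
 (TT.l (Ty.dfn)))
 (TT.n (TT.l (Ty.skip))
 (TT.l (Ty.relL (nat_lit 3) [nat_lit 3]))))
noncomputable def ty4 : TT := (TT.n (TT.n (TT.n (TT.l (Ty.srel [nat_lit 5]))
 (TT.l (Ty.relL (nat_lit 1) [nat_lit 9])))
 (TT.l (Ty.skip)))
 (TT.n (TT.l (Ty.rel1 (nat_lit 5)))
 (TT.l (Ty.dfn))))
noncomputable def ty5 : TT := (TT.n (TT.n (TT.n (TT.l (Ty.srel [nat_lit 4]))
 (TT.l (Ty.relL (nat_lit 5) [nat_lit 5])))
 (TT.l (Ty.skip)))
 (TT.n (TT.n (TT.l (Ty.rel1 (nat_lit 4)))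
 (TT.l (Ty.srel [nat_lit 3, nat_lit 4, nat_lit 2])))
 (TT.l (Ty.dfn))))
noncomputable def ty6 : TT := (TT.n (TT.n (TT.l (Ty.srel [nat_lit 7]))
 (TT.l (Ty.skip)))
 (TT.n (TT.l (Ty.rel1 (nat_lit 7)))
 (TT.l (Ty.dfn))))
noncomputable def ty7 : TT := (TT.n (TT.n (TT.n (TT.l (Ty.srel [nat_lit 6]))
 (TT.l (Ty.srel [nat_lit 1, nat_lit 9, nat_lit 5, nat_lit 1, nat_lit 9, nat_lit 5, nat_lit 1, nat_lit 9, nat_lit 1, nat_lit 2])))
 (TT.l (Ty.dfn)))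
 (TT.n (TT.l (Ty.skip))
 (TT.l (Ty.relL (nat_lit 7) [nat_lit 7]))))
noncomputable def ty8 : TT := (TT.n (TT.n (TT.l (Ty.srel [nat_lit 8]))
 (TT.l (Ty.skip)))
 (TT.n (TT.l (Ty.srel [nat_lit 9, nat_lit 1, nat_lit 3, nat_lit 1, nat_lit 9, nat_lit 4, nat_lit 6, nat_lit 4, nat_lit 0, nat_lit 3, nat_lit 4, nat_lit 7]))
 (TT.l (Ty.dfn))))
noncomputable def ty9 : TT := (TT.n (TT.n (TT.n (TT.l (Ty.srel [nat_lit 9]))
 (TT.l (Ty.relL (nat_lit 0) [nat_lit 5])))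
 (TT.l (Ty.rel1 (nat_lit 9))))
 (TT.n (TT.n (TT.l (Ty.relL (nat_lit 4) [nat_lit 1]))
 (TT.l (Ty.dfn)))
 (TT.l (Ty.skip))))
noncomputable def ty10 : TT := (TT.n (TT.n (TT.n (TT.l (Ty.skip))
 (TT.l (Ty.relL (nat_lit 3) [nat_lit 0, nat_lit 9, nat_lit 0, nat_lit 4, nat_lit 9, nat_lit 0, nat_lit 4, nat_lit 9, nat_lit 0, nat_lit 6])))
 (TT.n (TT.l (Ty.srel [nat_lit 4, nat_lit 6, nat_lit 4, nat_lit 7, nat_lit 5, nat_lit 7]))
 (TT.l (Ty.relL (nat_lit 1) [nat_lit 8, nat_lit 1, nat_lit 8]))))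
 (TT.n (TT.n (TT.l (Ty.srel [nat_lit 4, nat_lit 9, nat_lit 6, nat_lit 5, nat_lit 8, nat_lit 2, nat_lit 1, nat_lit 9, nat_lit 4, nat_lit 6]))
 (TT.l (Ty.relL (nat_lit 3) [nat_lit 7, nat_lit 2, nat_lit 6])))
 (TT.n (TT.l (Ty.relL (nat_lit 1) [nat_lit 5, nat_lit 0, nat_lit 4]))
 (TT.l (Ty.relL (nat_lit 6) [nat_lit 1, nat_lit 7, nat_lit 0])))))
noncomputable def C : Cert where
  tabs := [tab0, tab1, tab2, tab3, tab4, tab5, tab6, tab7, tab8, tab9, tab10, tab11, tab12, tab13, tab14, tab15, tab16, tab17, tab18, tab19, tab20, tab21, tab22]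
  tts := [ty0, ty1, ty2, ty3, ty4, ty5, ty6, ty7, ty8, ty9, ty10]
  k := nat_lit 6
  base := nat_lit 8
  mJ := nat_lit 64
  mR := nat_lit 63
  W := nat_lit 16
  mA := nat_lit 4095
  mI := nat_lit 127
  S := nat_lit 12
  mC := nat_lit 15
  nc := nat_lit 10
  lo := nat_lit 64
  live := nat_lit 65
  hi1 := nat_lit 75
  AW := nat_lit 13
  mAW := nat_lit 8191
def il : List ℕ := [1, 0, 3, 2, 5, 4, 7, 6, 8, 9]
def rels : List (List ℕ) := [[0, 0, 0],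
  [2, 2, 2],
  [4, 4, 4],
  [6, 6, 6],
  [0, 2, 0, 3, 1, 3],
  [4, 6, 4, 7, 5, 7],
  [1, 5, 0, 4],
  [1, 7, 0, 6],
  [3, 5, 2, 4],
  [3, 7, 2, 6],
  [0, 2, 0, 0, 2, 0, 4, 6, 4, 4, 6, 4],
  [8, 0, 8, 0],
  [8, 2, 8, 2],
  [8, 4, 8, 4],
  [8, 6, 8, 6],
  [9, 8, 9, 8],
  [9, 6, 5, 2, 1, 9, 0, 3, 4, 7],
  [9, 0, 2, 0, 9, 8, 6, 5, 2, 1, 5, 7, 5],
  [9, 4, 6, 4, 9, 6, 5, 8, 2, 1],
  [9, 0, 3, 9, 0, 3, 9, 0, 3],
  [9, 0, 4, 9, 0, 4, 9, 0, 6, 3, 0],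
  [1, 3, 0, 9, 7, 0, 9, 7, 9, 1, 6, 9, 1, 2, 0, 3, 0, 9, 7, 0, 9, 6, 9, 1, 6, 9, 1, 2],
  [5, 3, 0, 9, 7, 0, 9, 7, 9, 1, 6, 9, 1, 2, 4, 3, 0, 9, 7, 0, 9, 6, 9, 1, 6, 9, 1, 2],
  [9, 0, 5]]
def subs : List (List ℕ) := []
theorem valid : C.valid il rels subs = true := by decide +kernel
theorem p0 : C.OkL 64 65 := C.okL_of 64 0 1 65 (by decide) (by decide +kernel)
theorem p1 : C.OkR 65 76 := C.okR_of 65 0 11 76 (by decide) (by decide +kernel)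
theorem covers {G : Type*} [Group G] (ev : ℕ → G) (H : Subgroup G)
    (hinv : ∀ x < 10, ev (il.getD x 0) = (ev x)⁻¹) (hr : ∀ r ∈ rels, evw ev r = 1)
    (hs : ∀ s ∈ subs, evw ev s ∈ H) : Covers H (gensub ev 10) 1 :=
  C.sound il rels subs 10 1 valid (p0) (p1) (by decide) (by decide) ev H hinv hr hs
end CfH6.G23K
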