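import Cfsg.Agent.OD.Pre
import Cfsg.Agent.H6.TCTop
/-! coset enumeration certificate; generators a b c d e ; index 1 -/
set_option autoImplicit false
set_option maxRecDepth 100000
set_option Elab.async false
set_option linter.all false
namespace CfH6.G25K
open CfH6
noncomputable def tab0 : Tr := (Tr.l (nat_lit 0x1fff8fffc7ffe3fff116d8fffca5903fff1fff8fffc44b23fff1fff8fffc7ffe3fff12230fffc44ac2255112990f2c7ffe21d01fff8fffc45801141))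
noncomputable def tab1 : Tr := (Tr.l (nat_lit 0x112b8fffc43a23fff1fff8872443903fff10e38fffc86b221441fff8fffc7ffe3fff1fff8fffc86ac3fff1fff94f2c7ffe42d01fff8fffc41801241))
noncomputable def tab2 : Tr := (Tr.l (nat_lit 0x27ff93ffc9ffe4fff27ff93ffc9ffe4fff116d13ffc9ffe4fff29230c50c9ffe22ce11aa13ffc9ffe314127ff88b349ffe4fff186008730438e1142))
noncomputable def tab3 : Tr := (Tr.l (nat_lit 0x27ff8c94c9ffe4fff27ff93ffc9ffe52cb27ff93ffc9ffe4fff27ff98930a48c314227ff93ffc9ffe4fff18a088b3c9ffe4fff10e70c30043901143))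
noncomputable def tab4 : Tr := (Tr.l (nat_lit 0x1fff8fffc7ffe41cb1fff897307ffe3fff1fff905184aa43fff1fff8fffc7ffe3fff112b9050448943fff1fff88744818023c51fff8fffc43921144))
noncomputable def tab5 : Tr := (Tr.l (nat_lit 0x1fff8fffc7ffe3fff20e58fffc7ffe3fff1fff95344828c3fff1fff8fffc7ffe6556112c14f2482823fff1fff88748a68840c01fff8fffc43941145))
noncomputable def tab6 : Tr := (Tr.l (nat_lit 0x1fff8fffc7ffe3fff1fff8fffc7ffe3fff1fff8fffc7ffe3fff1fff8fffc7ffe3fff21608fffc7ffe3fff112a10b007ffe3fff10e78873443961146))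
noncomputable def tab7 : Tr := (Tr.l (nat_lit 0x1fff8fffc7ffe3fff1fff8fffc7ffe41c71fff8fffc7ffe3fff20a18fffc82843fff20a08fffc7ffe3fff1fff903007ffe3fff1fff8fffc46961346))
noncomputable def tab8 : Tr := (Tr.l (nat_lit 0x1fff8fffc45a23fff1fff88b247ffe3fff11638fffc7ffe22441fff8fffc7ffe3fff2a230fffc7ffe3fff21a99132c7ffe3fff1fff8fffc43801241))
noncomputable def tab9 : Tr := (Tr.l (nat_lit 0x3d631a1543fff5bcba5a5cd900b1812a4b0fff8d7183ffe1fff8c2341d09f08ce6c00fff8d305ab82c9415ce0931006880a4c04ba121f0059800000))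
noncomputable def tab10 : Tr := (Tr.l (nat_lit 0x1314511714517273745237452310))
noncomputable def tab11 : Tr := (Tr.l (nat_lit 0))
noncomputable def tab12 : Tr := (Tr.l (nat_lit 0))
noncomputable def tab13 : Tr := (Tr.l (nat_lit 0))
noncomputable def tab14 : Tr := (Tr.l (nat_lit 0))
noncomputable def tab15 : Tr := (Tr.l (nat_lit 0))
noncomputable def tab16 : Tr := (Tr.l (nat_lit 0))
noncomputable def tab17 : Tr := (Tr.l (nat_lit 0))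
noncomputable def tab18 : Tr := (Tr.l (nat_lit 0))
noncomputable def tab19 : Tr := (Tr.l (nat_lit 0))
noncomputable def tab20 : Tr := (Tr.l (nat_lit 0x2bcb6c1920471a18d30284356125495409114592647382))
noncomputable def ty0 : TT := (TT.n (TT.n (TT.n (TT.l (Ty.srel [nat_lit 1]))
 (TT.l (Ty.rel5 (nat_lit 2) (nat_lit 1) (nat_lit 1) (nat_lit 3) (nat_lit 0))))
 (TT.l (Ty.skip)))
 (TT.n (TT.l (Ty.rel1 (nat_lit 1)))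
 (TT.l (Ty.rel5 (nat_lit 6) (nat_lit 1) (nat_lit 1) (nat_lit 1) (nat_lit 7)))))
noncomputable def ty1 : TT := (TT.n (TT.n (TT.n (TT.l (Ty.srel [nat_lit 8]))
 (TT.l (Ty.rel5 (nat_lit 6) (nat_lit 0) (nat_lit 0) (nat_lit 0) (nat_lit 7))))
 (TT.l (Ty.skip)))
 (TT.n (TT.l (Ty.dfn))
 (TT.l (Ty.rel1 (nat_lit 8)))))
noncomputable def ty2 : TT := (TT.n (TT.n (TT.n (TT.l (Ty.srel [nat_lit 3]))
 (TT.l (Ty.rel3 (nat_lit 7) (nat_lit 3) (nat_lit 6))))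
 (TT.l (Ty.dfn)))
 (TT.n (TT.l (Ty.rel1 (nat_lit 3)))
 (TT.l (Ty.skip))))
noncomputable def ty3 : TT := (TT.n (TT.n (TT.n (TT.l (Ty.srel [nat_lit 2]))
 (TT.l (Ty.rel3 (nat_lit 7) (nat_lit 2) (nat_lit 6))))
 (TT.l (Ty.dfn)))
 (TT.n (TT.n (TT.l (Ty.rel1 (nat_lit 2)))
 (TT.l (Ty.relL (nat_lit 3) [nat_lit 3, nat_lit 3, nat_lit 3])))
 (TT.l (Ty.skip))))
noncomputable def ty4 : TT := (TT.n (TT.n (TT.l (Ty.srel [nat_lit 5]))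
 (TT.l (Ty.skip)))
 (TT.n (TT.l (Ty.rel1 (nat_lit 5)))
 (TT.l (Ty.dfn))))
noncomputable def ty5 : TT := (TT.n (TT.n (TT.n (TT.l (Ty.srel [nat_lit 4]))
 (TT.l (Ty.relL (nat_lit 1) [nat_lit 1, nat_lit 5, nat_lit 0, nat_lit 0, nat_lit 5])))
 (TT.l (Ty.skip)))
 (TT.n (TT.n (TT.l (Ty.rel1 (nat_lit 4)))
 (TT.l (Ty.srel [nat_lit 8, nat_lit 5, nat_lit 8, nat_lit 4, nat_lit 2, nat_lit 2])))
 (TT.l (Ty.dfn))))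
noncomputable def ty6 : TT := (TT.n (TT.n (TT.l (Ty.srel [nat_lit 7]))
 (TT.l (Ty.skip)))
 (TT.n (TT.l (Ty.rel1 (nat_lit 7)))
 (TT.l (Ty.rel5 (nat_lit 1) (nat_lit 1) (nat_lit 1) (nat_lit 1) (nat_lit 6)))))
noncomputable def ty7 : TT := (TT.n (TT.n (TT.l (Ty.srel [nat_lit 6]))
 (TT.l (Ty.skip)))
 (TT.n (TT.l (Ty.rel1 (nat_lit 6)))
 (TT.l (Ty.dfn))))
noncomputable def ty8 : TT := (TT.n (TT.n (TT.n (TT.l (Ty.srel [nat_lit 8]))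
 (TT.l (Ty.rel1 (nat_lit 1))))
 (TT.l (Ty.skip)))
 (TT.n (TT.l (Ty.rel1 (nat_lit 0)))
 (TT.l (Ty.rel1 (nat_lit 8)))))
noncomputable def ty9 : TT := (TT.n (TT.n (TT.n (TT.l (Ty.skip))
 (TT.l (Ty.srel [nat_lit 4, nat_lit 4, nat_lit 3, nat_lit 3, nat_lit 4, nat_lit 2, nat_lit 5, nat_lit 8, nat_lit 2, nat_lit 8, nat_lit 2])))
 (TT.n (TT.l (Ty.rel5 (nat_lit 4) (nat_lit 4) (nat_lit 4) (nat_lit 4) (nat_lit 4)))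
 (TT.l (Ty.srel [nat_lit 5, nat_lit 2, nat_lit 5, nat_lit 3, nat_lit 1, nat_lit 8, nat_lit 3, nat_lit 5, nat_lit 2, nat_lit 8, nat_lit 2, nat_lit 2, nat_lit 4, nat_lit 0]))))
 (TT.n (TT.n (TT.l (Ty.srel [nat_lit 8, nat_lit 0, nat_lit 0, nat_lit 8, nat_lit 2, nat_lit 4, nat_lit 3, nat_lit 1, nat_lit 5, nat_lit 0, nat_lit 5, nat_lit 1, nat_lit 4, nat_lit 2, nat_lit 1, nat_lit 3, nat_lit 3, nat_lit 1]))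
 (TT.l (Ty.srel [nat_lit 0, nat_lit 2, nat_lit 0, nat_lit 2, nat_lit 0, nat_lit 2, nat_lit 0, nat_lit 2])))
 (TT.l (Ty.srel [nat_lit 8, nat_lit 7, nat_lit 5, nat_lit 7, nat_lit 2, nat_lit 1, nat_lit 3, nat_lit 5, nat_lit 7, nat_lit 1, nat_lit 5, nat_lit 0, nat_lit 5, nat_lit 1, nat_lit 4, nat_lit 0, nat_lit 2, nat_lit 2]))))
noncomputable def C : Cert where
  tabs := [tab0, tab1, tab2, tab3, tab4, tab5, tab6, tab7, tab8, tab9, tab10, tab11, tab12, tab13, tab14, tab15, tab16, tab17, tab18, tab19, tab20]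
  tts := [ty0, ty1, ty2, ty3, ty4, ty5, ty6, ty7, ty8, ty9]
  k := nat_lit 6
  base := nat_lit 7
  mJ := nat_lit 64
  mR := nat_lit 63
  W := nat_lit 17
  mA := nat_lit 4095
  mI := nat_lit 127
  S := nat_lit 12
  mC := nat_lit 31
  nc := nat_lit 9
  lo := nat_lit 64
  live := nat_lit 65
  hi1 := nat_lit 91
  AW := nat_lit 13
  mAW := nat_lit 8191
def il : List ℕ := [1, 0, 3, 2, 5, 4, 7, 6, 8]
def rels : List (List ℕ) := [[0, 0, 0, 0, 0, 0, 0, 0],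
  [2, 2, 2, 2, 2],
  [0, 2, 0, 2, 0, 2, 0, 2],
  [1, 1, 3, 0, 0, 2],
  [1, 3, 0, 2, 1, 3, 0, 2, 1, 3, 0, 2],
  [4, 4, 4, 4, 4],
  [5, 1, 5, 0, 4, 1, 4, 0, 5, 1, 5, 0, 4, 1, 4, 0, 5, 1, 5, 0, 4, 1, 4, 0, 5, 1, 5, 0, 4, 1, 4, 0, 5, 1, 5, 0, 4, 1, 4, 0],
  [5, 1, 5, 0, 5, 1, 4, 0, 4, 1, 5, 0, 4, 1, 4, 0],
  [5, 0, 5, 1, 4, 0, 4, 1, 4, 0, 5, 1, 5, 0, 4, 1],
  [3, 5, 2, 1, 5, 0, 5, 1, 4, 0, 4, 3, 4, 2, 5, 1, 5, 0, 4, 1, 4, 0],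
  [2, 5, 3, 1, 5, 0, 5, 1, 4, 0, 4, 2, 4, 3, 5, 1, 5, 0, 4, 1, 4, 0],
  [5, 3, 5, 2, 4, 3, 4, 2, 5, 1, 5, 0, 4, 1, 4, 0, 5, 1, 5, 0, 4, 1, 4, 0],
  [2, 5, 3, 4, 2, 4, 3, 1, 5, 0, 5, 1, 4, 0, 4, 1, 5, 0, 5, 1, 4, 0],
  [3, 5, 2, 1, 4, 0, 3, 4, 2, 5, 1, 5, 0, 4],
  [1, 5, 0, 2, 5, 3, 1, 4, 0, 2, 4, 3],
  [3, 5, 2, 2, 5, 3, 3, 4, 2, 2, 4, 3, 5, 1, 5, 0, 4, 1, 4, 0],
  [1, 1, 4, 0, 0, 4, 4],
  [1, 3, 4, 2, 0, 2, 5, 3, 5, 3, 4, 4, 2],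
  [1, 2, 4, 3, 0, 2, 5, 3, 5, 2, 5, 3, 3, 4, 2, 1, 4, 0, 5],
  [1, 5, 1, 5, 0, 4, 1, 4, 0, 5, 0, 5, 1, 4, 0, 4, 1, 5, 0, 5, 1, 4, 0, 4],
  [3, 1, 4, 0, 2, 2, 4, 3, 4, 2, 4, 3, 3, 5, 2, 1, 5, 0],
  [3, 3, 4, 2, 4, 4, 2, 2, 5, 3, 5, 5],
  [3, 5, 1, 5, 0, 4, 1, 4, 0, 2, 1, 5, 0, 5, 1, 4, 0, 4],
  [8, 7, 5, 7, 2, 1, 3, 5, 7, 1, 5, 0, 5, 1, 4, 0, 2, 2],
  [8, 4, 8, 4, 3, 3, 5],
  [8, 3, 4, 2, 8, 0, 2, 4, 3, 4, 1, 5, 3, 3],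
  [8, 2, 4, 3, 8, 2, 5, 3, 3, 4, 3],
  [8, 5, 1, 5, 0, 4, 1, 4, 0, 8, 2, 4, 3, 5, 3, 4, 2, 5],
  [8, 0, 0, 8, 2, 4, 3, 1, 5, 0, 5, 1, 4, 2, 1, 3, 3, 1],
  [8, 2, 8, 2, 4, 4, 3, 3, 4, 2, 5],
  [8, 0, 2, 2, 0, 3, 0, 8, 2, 4, 3, 1, 5, 0, 5, 1, 4, 1],
  [8, 1, 4, 0, 8, 1, 5, 0, 8, 1, 4, 0, 2, 5, 3, 0, 3, 4, 2, 0, 0, 0],
  [6, 8, 3, 1, 4, 8, 1, 8, 1, 5, 1, 5, 0, 4, 1, 4, 0, 2, 4, 3, 4, 2, 0, 3, 3, 1],
  [6, 6, 1, 1, 1, 1],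
  [3, 7, 2, 6],
  [7, 0, 6, 1, 1, 1],
  [6, 5, 1, 5, 0, 4, 1, 4, 0, 6, 5, 1, 5, 0, 4, 1, 4, 0, 6, 5, 1, 5, 0, 4, 1, 4, 0, 6, 5, 1, 5, 0, 4, 1, 4, 0, 6, 5, 1, 5, 0, 4, 1, 4, 0],
  [6, 5, 1, 5, 0, 4, 1, 4, 0, 6, 1, 5, 0, 5, 1, 4, 0, 4, 6, 5, 1, 5, 0, 4, 1, 4, 1],
  [1, 8]]
def subs : List (List ℕ) := []
theorem valid : C.valid il rels subs = true := by decide +kernel
theorem p0 : C.OkL 64 65 := C.okL_of 64 0 1 65 (by decide) (by decide +kernel)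
theorem p1 : C.OkR 65 92 := C.okR_of 65 0 27 92 (by decide) (by decide +kernel)
theorem covers {G : Type*} [Group G] (ev : ℕ → G) (H : Subgroup G)
    (hinv : ∀ x < 9, ev (il.getD x 0) = (ev x)⁻¹) (hr : ∀ r ∈ rels, evw ev r = 1)
    (hs : ∀ s ∈ subs, evw ev s ∈ H) : Covers H (gensub ev 9) 1 :=
  C.sound il rels subs 9 1 valid (p0) (p1) (by decide) (by decide) ev H hinv hr hs
end CfH6.G25K
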