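import Cfsg.Agent.OD.Pre
import Cfsg.Agent.H6.TCTop
/-! coset enumeration certificate; generators a b ; index 60 -/
set_option autoImplicit false
set_option maxRecDepth 100000
set_option Elab.async false
set_option linter.all false
namespace CfH6.G25T3
open CfH6
noncomputable def tab0 : Tr := (Tr.l (nat_lit 0xbfff3563bfff455d78fb8877a8f4466d26fa3569456824f9456485662665956c74ee556f24782570355b26672476247525ea257225f123f363fe345544543453845f73d663fc445123eb444f25502458344d545e236223612360334a235c24d9235a434823574346244722d2334422ce23cb224c42422249324121c521c310c0))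
noncomputable def tab1 : Tr := (Tr.l (nat_lit 0x8fff23638fff235d197b4677247423ed18fa23e923e81979236474e6456554ec15ee156f16f815f0235b456715f615f535ea15f235f115f365fe22d522d422d314df14d665fc22d115eb22cf445053d822cd145e14e214e114e0224a14dc34d914da224814d721c6434713d221c413ce33cb13cc214213c9214112c512c31140))
noncomputable def tab2 : Tr := (Tr.l (nat_lit 0x23e66fff23606fff46fa2475157b167947f135f21678557fd86623622361176b486a235f14ee46761477235ac7e0235914e82357147422d6146434dc13f013ef22d213ed22d113ec145d13e922ce13e713e5224c1363224b13d4135e2249135b2248135813cf12d521c512d312d021c312cd2142124a12c6124720c011c41141))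
noncomputable def tab3 : Tr := (Tr.l (nat_lit 0x34f47fff7fff7fff24f9177b65f865f523eb16ec14fa23e5c8741676187723612360346d235e235c56f018ef235a34672358447f235733e322d513f213f143fd13ee22d233db156222d013ea13e822ce13e61364224c3353224a135f135d2249334d1359224712d612d421c512d112cf21c33244124b2141124811c620c01142))
noncomputable def tab4 : Tr := (Tr.l (nat_lit 0x57f348e33769275d000000000000000000000000000000000000000000000000000000000000000000000000000000000000000000000000000000000000000000000000000000000000000000000000000000000000000000000000000000000000000000000000000000000000000000000000000000000000000000000000))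
noncomputable def tab5 : Tr := (Tr.l (nat_lit 0x2121321131131223323312323232311123213123123231232131231232131230))
noncomputable def tab6 : Tr := (Tr.l (nat_lit 0))
noncomputable def tab7 : Tr := (Tr.l (nat_lit 0))
noncomputable def tab8 : Tr := (Tr.l (nat_lit 0x3f81f40))
noncomputable def tab9 : Tr := (Tr.l (nat_lit 0x1fc0))
noncomputable def tab10 : Tr := (Tr.l (nat_lit 0))
noncomputable def ty0 : TT := (TT.n (TT.n (TT.n (TT.n (TT.l (Ty.ssub [] []))
 (TT.l (Ty.relL (nat_lit 3) [nat_lit 1, nat_lit 2, nat_lit 0, nat_lit 3, nat_lit 1, nat_lit 2, nat_lit 0, nat_lit 3, nat_lit 1, nat_lit 2])))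
 (TT.l (Ty.rel5 (nat_lit 0) (nat_lit 2) (nat_lit 1) (nat_lit 1) (nat_lit 3))))
 (TT.n (TT.n (TT.l (Ty.rel5 (nat_lit 3) (nat_lit 1) (nat_lit 1) (nat_lit 2) (nat_lit 0)))
 (TT.l (Ty.skip)))
 (TT.l (Ty.relL (nat_lit 2) [nat_lit 0, nat_lit 2, nat_lit 0, nat_lit 2, nat_lit 0, nat_lit 2]))))
 (TT.n (TT.n (TT.n (TT.l (Ty.rel1 (nat_lit 1)))
 (TT.l (Ty.srel [nat_lit 2, nat_lit 1, nat_lit 1, nat_lit 3, nat_lit 0])))
 (TT.l (Ty.srel [nat_lit 1])))
 (TT.n (TT.l (Ty.rel5 (nat_lit 2) (nat_lit 1) (nat_lit 1) (nat_lit 3) (nat_lit 0)))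
 (TT.l (Ty.relL (nat_lit 2) [nat_lit 1, nat_lit 3, nat_lit 0, nat_lit 2, nat_lit 1, nat_lit 3, nat_lit 0, nat_lit 2, nat_lit 1, nat_lit 3])))))
noncomputable def ty1 : TT := (TT.n (TT.n (TT.n (TT.l (Ty.rel1 (nat_lit 0)))
 (TT.l (Ty.relL (nat_lit 3) [nat_lit 0, nat_lit 2, nat_lit 1, nat_lit 3, nat_lit 0, nat_lit 2, nat_lit 1, nat_lit 3, nat_lit 0, nat_lit 2])))
 (TT.n (TT.l (Ty.rel5 (nat_lit 1) (nat_lit 3) (nat_lit 0) (nat_lit 0) (nat_lit 2)))
 (TT.l (Ty.relL (nat_lit 2) [nat_lit 0, nat_lit 3, nat_lit 1, nat_lit 2, nat_lit 0, nat_lit 3, nat_lit 1, nat_lit 2, nat_lit 0, nat_lit 3]))))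
 (TT.n (TT.n (TT.l (Ty.dfn))
 (TT.l (Ty.srel [nat_lit 0])))
 (TT.n (TT.l (Ty.relL (nat_lit 3) [nat_lit 1, nat_lit 3, nat_lit 1, nat_lit 3, nat_lit 1, nat_lit 3]))
 (TT.l (Ty.skip)))))
noncomputable def ty2 : TT := (TT.n (TT.n (TT.n (TT.l (Ty.rel1 (nat_lit 3)))
 (TT.l (Ty.srel [nat_lit 3])))
 (TT.l (Ty.relL (nat_lit 0) [nat_lit 2, nat_lit 0, nat_lit 2, nat_lit 0, nat_lit 2, nat_lit 0])))
 (TT.n (TT.n (TT.l (Ty.dfn))
 (TT.l (Ty.skip)))
 (TT.l (Ty.relL (nat_lit 2) [nat_lit 2, nat_lit 2, nat_lit 2]))))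
noncomputable def ty3 : TT := (TT.n (TT.n (TT.n (TT.l (Ty.rel1 (nat_lit 2)))
 (TT.l (Ty.relL (nat_lit 0) [nat_lit 2, nat_lit 1, nat_lit 3, nat_lit 0, nat_lit 2, nat_lit 1, nat_lit 3, nat_lit 0, nat_lit 2, nat_lit 1])))
 (TT.n (TT.l (Ty.relL (nat_lit 3) [nat_lit 3, nat_lit 3, nat_lit 3]))
 (TT.l (Ty.skip))))
 (TT.n (TT.n (TT.l (Ty.dfn))
 (TT.l (Ty.relL (nat_lit 1) [nat_lit 2, nat_lit 0, nat_lit 3, nat_lit 1, nat_lit 2, nat_lit 0, nat_lit 3, nat_lit 1, nat_lit 2, nat_lit 0])))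
 (TT.l (Ty.srel [nat_lit 2]))))
noncomputable def ty4 : TT := (TT.n (TT.n (TT.n (TT.l (Ty.skip))
 (TT.l (Ty.srel [nat_lit 1, nat_lit 2, nat_lit 0, nat_lit 3, nat_lit 1, nat_lit 2, nat_lit 0, nat_lit 3, nat_lit 1, nat_lit 2, nat_lit 0, nat_lit 3])))
 (TT.l (Ty.relL (nat_lit 1) [nat_lit 3, nat_lit 1, nat_lit 3, nat_lit 1, nat_lit 3, nat_lit 1, nat_lit 3])))
 (TT.n (TT.l (Ty.relL (nat_lit 3) [nat_lit 1, nat_lit 3, nat_lit 1, nat_lit 3, nat_lit 1, nat_lit 3, nat_lit 1]))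
 (TT.l (Ty.relL (nat_lit 2) [nat_lit 0, nat_lit 2, nat_lit 0, nat_lit 2, nat_lit 0, nat_lit 2, nat_lit 0]))))
noncomputable def C : Cert where
  tabs := [tab0, tab1, tab2, tab3, tab4, tab5, tab6, tab7, tab8, tab9, tab10]
  tts := [ty0, ty1, ty2, ty3, ty4]
  k := nat_lit 6
  base := nat_lit 11
  mJ := nat_lit 64
  mR := nat_lit 63
  W := nat_lit 16
  mA := nat_lit 4095
  mI := nat_lit 127
  S := nat_lit 12
  mC := nat_lit 15
  nc := nat_lit 4
  lo := nat_lit 64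
  live := nat_lit 124
  hi1 := nat_lit 127
  AW := nat_lit 13
  mAW := nat_lit 8191
def il : List ℕ := [1, 0, 3, 2]
def rels : List (List ℕ) := [[0, 0, 0, 0, 0, 0, 0, 0],
  [2, 2, 2, 2, 2],
  [0, 2, 0, 2, 0, 2, 0, 2],
  [1, 1, 3, 0, 0, 2],
  [1, 3, 0, 2, 1, 3, 0, 2, 1, 3, 0, 2]]
def subs : List (List ℕ) := [[0]]
theorem valid : C.valid il rels subs = true := by decide +kernel
theorem p0 : C.OkL 64 124 := C.okL_of 64 0 60 124 (by decide) (by decide +kernel)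
theorem p1 : C.OkR 124 128 := C.okR_of 124 0 4 128 (by decide) (by decide +kernel)
theorem covers {G : Type*} [Group G] (ev : ℕ → G) (H : Subgroup G)
    (hinv : ∀ x < 4, ev (il.getD x 0) = (ev x)⁻¹) (hr : ∀ r ∈ rels, evw ev r = 1)
    (hs : ∀ s ∈ subs, evw ev s ∈ H) : Covers H (gensub ev 4) 60 :=
  C.sound il rels subs 4 60 valid (p0) (p1) (by decide) (by decide) ev H hinv hr hs
end CfH6.G25T3
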