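import Cfsg.Agent.OD.Pre
import Cfsg.Agent.H6.TCTop
/-! coset enumeration certificate; generators a b c d e f ; index 1 -/
set_option autoImplicit false
set_option maxRecDepth 100000
set_option Elab.async false
set_option linter.all false
namespace CfH6.G2K
open CfH6
noncomputable def tab0 : Tr := (Tr.l (nat_lit 0x4fff13ffc82cf18b3852cd13ffc835618d544fff1cd4c835113ffc4fff13ffc4fff13ffc4fff13ffc4fff0cf744fff0cf704fff0cd9033630cd88214213ffc724518910524313ffc4fff0cb2832c90cb2031cc083001141))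
noncomputable def tab1 : Tr := (Tr.l (nat_lit 0x53e00c7344fff13ffc4fff0c72c4fff13ffc4fff13ffc4fff13ffc31c813ffc52c90c5184fff13ffc4fff13ffc4fff13ffc314313ffc5244089944fff089844fff08d60225a0c50421d713ffc22ce13ffc30c00871c1142))
noncomputable def tab2 : Tr := (Tr.l (nat_lit 0x23e01cb404fff13ffc31cc13ffc636613ffc4fff13ffc62cb14b284fff13ffc4fff13ffc4fff13ffca6ca13ffc314413ffc4fff13ffc96c40c508226213ffc4fff13ffc314113ffc4fff13ffc21d20c30021cd087201143))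
noncomputable def tab3 : Tr := (Tr.l (nat_lit 0x41cd0fffc3fff107303fff0fffc63651072852cb0fffc3fff0fffc3fff0fffc41c70fffc3fff1051452462a3143fff0fffc3fff25f28414208998226308d78225f105043fff0896022d40875440c00fffc21ce087241144))
noncomputable def tab4 : Tr := (Tr.l (nat_lit 0x3fff0fffc3fff0fffc3fff0fffc52cb0fffc3fff107245366107203fff0fffc3fff0fffc3fff0fffc3fff105103fff0fffc3fff0fffc3fff0fffc3fff0fffc414108974225b0fffc3fff1030021d30fffc3fff087281145))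
noncomputable def tab5 : Tr := (Tr.l (nat_lit 0x62db14f7c31cc13ffc4fff13ffc31ca13ffc31c913ffc31c813ffc4fff0c71c4fff13ffc314513ffc3144297204fff0c50c4fff0c50896ca13ffc22640c504226008978225c0896430c00875821d40874421cf0872c1146))
noncomputable def tab6 : Tr := (Tr.l (nat_lit 0x245c48db0a27d585b5a06c121171f64e79d3c1fff1d345d5537195064d96e95c5ad46af059a546214d7d4e1250166ce55d3c1fff527043dc44d901274807ffd1a4943310f9c63ad18dcc2327102ec02db08ae40271000000))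
noncomputable def tab7 : Tr := (Tr.l (nat_lit 0x315321535454153153542515320543215432100))
noncomputable def tab8 : Tr := (Tr.l (nat_lit 0))
noncomputable def tab9 : Tr := (Tr.l (nat_lit 0))
noncomputable def tab10 : Tr := (Tr.l (nat_lit 0x2d81800))
noncomputable def tab11 : Tr := (Tr.l (nat_lit 0x2a817c0))
noncomputable def tab12 : Tr := (Tr.l (nat_lit 0))
noncomputable def tab13 : Tr := (Tr.l (nat_lit 0x2e01800))
noncomputable def tab14 : Tr := (Tr.l (nat_lit 0xb82600efc18209a0660728b760cc2c8063c3145982c60f3450c5a60660f1053c3821d316c075c1a61cd8a7071c5))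
noncomputable def ty0 : TT := (TT.n (TT.n (TT.n (TT.l (Ty.srel [nat_lit 0]))
 (TT.l (Ty.rel3 (nat_lit 2) (nat_lit 0) (nat_lit 2))))
 (TT.n (TT.l (Ty.rel1 (nat_lit 0)))
 (TT.l (Ty.rel3 (nat_lit 4) (nat_lit 0) (nat_lit 4)))))
 (TT.n (TT.n (TT.l (Ty.dfn))
 (TT.l (Ty.rel3 (nat_lit 3) (nat_lit 0) (nat_lit 3))))
 (TT.n (TT.l (Ty.skip))
 (TT.l (Ty.rel3 (nat_lit 5) (nat_lit 0) (nat_lit 5))))))
noncomputable def ty1 : TT := (TT.n (TT.n (TT.n (TT.l (Ty.srel [nat_lit 1]))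
 (TT.l (Ty.rel3 (nat_lit 3) (nat_lit 1) (nat_lit 3))))
 (TT.l (Ty.dfn)))
 (TT.n (TT.l (Ty.rel1 (nat_lit 1)))
 (TT.l (Ty.skip))))
noncomputable def ty2 : TT := (TT.n (TT.n (TT.n (TT.l (Ty.srel [nat_lit 2]))
 (TT.l (Ty.rel3 (nat_lit 4) (nat_lit 2) (nat_lit 4))))
 (TT.n (TT.l (Ty.dfn))
 (TT.l (Ty.rel5 (nat_lit 1) (nat_lit 2) (nat_lit 1) (nat_lit 2) (nat_lit 1)))))
 (TT.n (TT.n (TT.l (Ty.rel1 (nat_lit 2)))
 (TT.l (Ty.rel3 (nat_lit 5) (nat_lit 2) (nat_lit 5))))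
 (TT.l (Ty.skip))))
noncomputable def ty3 : TT := (TT.n (TT.n (TT.n (TT.l (Ty.srel [nat_lit 3]))
 (TT.l (Ty.rel3 (nat_lit 5) (nat_lit 3) (nat_lit 5))))
 (TT.l (Ty.skip)))
 (TT.n (TT.n (TT.l (Ty.rel1 (nat_lit 3)))
 (TT.l (Ty.relL (nat_lit 2) [nat_lit 1, nat_lit 2, nat_lit 0, nat_lit 4, nat_lit 5])))
 (TT.l (Ty.dfn))))
noncomputable def ty4 : TT := (TT.n (TT.n (TT.n (TT.l (Ty.srel [nat_lit 4]))
 (TT.l (Ty.rel3 (nat_lit 5) (nat_lit 4) (nat_lit 5))))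
 (TT.l (Ty.skip)))
 (TT.n (TT.l (Ty.rel1 (nat_lit 4)))
 (TT.l (Ty.dfn))))
noncomputable def ty5 : TT := (TT.n (TT.n (TT.n (TT.l (Ty.srel [nat_lit 5]))
 (TT.l (Ty.rel3 (nat_lit 3) (nat_lit 5) (nat_lit 3))))
 (TT.l (Ty.dfn)))
 (TT.n (TT.n (TT.l (Ty.rel1 (nat_lit 5)))
 (TT.l (Ty.relL (nat_lit 4) [nat_lit 0, nat_lit 2, nat_lit 1, nat_lit 2, nat_lit 3])))
 (TT.l (Ty.skip))))
noncomputable def ty6 : TT := (TT.n (TT.n (TT.n (TT.l (Ty.skip))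
 (TT.l (Ty.srel [nat_lit 2, nat_lit 0, nat_lit 4, nat_lit 5, nat_lit 3, nat_lit 2, nat_lit 1])))
 (TT.n (TT.l (Ty.srel [nat_lit 2, nat_lit 1, nat_lit 0, nat_lit 5, nat_lit 2, nat_lit 1, nat_lit 0, nat_lit 5, nat_lit 2, nat_lit 1, nat_lit 0, nat_lit 5, nat_lit 2, nat_lit 1, nat_lit 0, nat_lit 5, nat_lit 2, nat_lit 1, nat_lit 0, nat_lit 5]))
 (TT.l (Ty.srel [nat_lit 0, nat_lit 2, nat_lit 1, nat_lit 2, nat_lit 3, nat_lit 5, nat_lit 4]))))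
 (TT.n (TT.n (TT.l (Ty.srel [nat_lit 1, nat_lit 2, nat_lit 3, nat_lit 2, nat_lit 3, nat_lit 1, nat_lit 2, nat_lit 3, nat_lit 2, nat_lit 3, nat_lit 1, nat_lit 2, nat_lit 3, nat_lit 2, nat_lit 3, nat_lit 1, nat_lit 2, nat_lit 3, nat_lit 2, nat_lit 3, nat_lit 1, nat_lit 2, nat_lit 3, nat_lit 2, nat_lit 3, nat_lit 4, nat_lit 1, nat_lit 2, nat_lit 3, nat_lit 2, nat_lit 3, nat_lit 1, nat_lit 2, nat_lit 3, nat_lit 2, nat_lit 3, nat_lit 1, nat_lit 2, nat_lit 3, nat_lit 2, nat_lit 3, nat_lit 1, nat_lit 2, nat_lit 3, nat_lit 2, nat_lit 3, nat_lit 1, nat_lit 2, nat_lit 3, nat_lit 2, nat_lit 3, nat_lit 4, nat_lit 1, nat_lit 2, nat_lit 3, nat_lit 2, nat_lit 3, nat_lit 1, nat_lit 2, nat_lit 3, nat_lit 2, nat_lit 3, nat_lit 1, nat_lit 2, nat_lit 3, nat_lit 2, nat_lit 3, nat_lit 1, nat_lit 2, nat_lit 3, nat_lit 2, nat_lit 3, nat_lit 1, nat_lit 2, nat_lit 3,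 nat_lit 2, nat_lit 3, nat_lit 4]))
 (TT.l (Ty.srel [nat_lit 5, nat_lit 1, nat_lit 5, nat_lit 1, nat_lit 5, nat_lit 1])))
 (TT.n (TT.l (Ty.srel [nat_lit 4, nat_lit 3, nat_lit 4, nat_lit 3, nat_lit 4, nat_lit 3]))
 (TT.l (Ty.relL (nat_lit 4) [nat_lit 1, nat_lit 4, nat_lit 1])))))
noncomputable def C : Cert where
  tabs := [tab0, tab1, tab2, tab3, tab4, tab5, tab6, tab7, tab8, tab9, tab10, tab11, tab12, tab13, tab14]
  tts := [ty0, ty1, ty2, ty3, ty4, ty5, ty6]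
  k := nat_lit 6
  base := nat_lit 8
  mJ := nat_lit 64
  mR := nat_lit 63
  W := nat_lit 18
  mA := nat_lit 4095
  mI := nat_lit 127
  S := nat_lit 12
  mC := nat_lit 63
  nc := nat_lit 6
  lo := nat_lit 64
  live := nat_lit 65
  hi1 := nat_lit 102
  AW := nat_lit 13
  mAW := nat_lit 8191
def il : List ℕ := [0, 1, 2, 3, 4, 5]
def rels : List (List ℕ) := [[0, 1, 0, 1, 0, 1, 0, 1, 0, 1],
  [0, 2, 0, 2],
  [0, 3, 0, 3],
  [0, 4, 0, 4],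
  [0, 5, 0, 5],
  [1, 2, 1, 2, 1, 2],
  [1, 3, 1, 3],
  [1, 4, 1, 4],
  [1, 5, 1, 5, 1, 5],
  [2, 3, 2, 3, 2, 3, 2, 3, 2, 3, 2, 3, 2, 3, 2, 3],
  [2, 4, 2, 4],
  [2, 5, 2, 5],
  [3, 4, 3, 4, 3, 4],
  [3, 5, 3, 5],
  [4, 5, 4, 5],
  [0, 3, 2, 3, 2, 3, 2, 3, 2],
  [0, 1, 2, 5, 0, 1, 2, 5, 0, 1, 2, 5, 0, 1, 2, 5, 0, 1, 2, 5],
  [1, 2, 3, 2, 3, 1, 2, 3, 2, 3, 1, 2, 3, 2, 3, 1, 2, 3, 2, 3, 1, 2, 3, 2, 3, 4, 1, 2, 3, 2, 3, 1, 2, 3, 2, 3, 1, 2, 3, 2, 3, 1, 2, 3, 2, 3, 1, 2, 3, 2, 3, 4, 1, 2, 3, 2, 3, 1, 2, 3, 2, 3, 1, 2, 3, 2, 3, 1, 2, 3, 2, 3, 1, 2, 3, 2, 3, 4],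
  [4, 5, 3, 2, 1, 2, 0]]
def subs : List (List ℕ) := []
theorem valid : C.valid il rels subs = true := by decide +kernel
theorem p0 : C.OkL 64 65 := C.okL_of 64 0 1 65 (by decide) (by decide +kernel)
theorem p1 : C.OkR 65 103 := C.okR_of 65 0 38 103 (by decide) (by decide +kernel)
theorem covers {G : Type*} [Group G] (ev : ℕ → G) (H : Subgroup G)
    (hinv : ∀ x < 6, ev (il.getD x 0) = (ev x)⁻¹) (hr : ∀ r ∈ rels, evw ev r = 1)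
    (hs : ∀ s ∈ subs, evw ev s ∈ H) : Covers H (gensub ev 6) 1 :=
  C.sound il rels subs 6 1 valid (p0) (p1) (by decide) (by decide) ev H hinv hr hs
end CfH6.G2K
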