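import Cfsg.Agent.OD.Pre
import Cfsg.Agent.H6.TCTop
/-! coset enumeration certificate; generators x y z t ; index 1 -/
set_option autoImplicit false
set_option maxRecDepth 100000
set_option Elab.async false
set_option linter.all false
namespace CfH6.HNK
open CfH6
noncomputable def tab0 : Tr := (Tr.l (nat_lit 0x4fff89fff13ffe27ffc30e709fff13ffe27ffc30e5182d013ffe30f6c4fff861c92c59e27ffc4fff942d8245a840f344fff89fff0c28c39398666c89fff13ffe7153c4fff8614413ffe27ffc4fff86143086e427ffc21ba1af5d095e61850821380426f1448a109b0213389fff083c210778216889fff083a61830020e402141))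
noncomputable def tab1 : Tr := (Tr.l (nat_lit 0x4fff8a2d12149e38b4c4fff841cd0839827ffc4fff841ca13ffe27ffc4fff89fff0839227ffc623089fff13ffe3094820a389fff13ffe10518e6e989fff0c8d427ffc36ae89fff13ffe27ffcd728863630828627ffc51228636c0c6ce189c4323109fff13ffe189b431340414113ffe1877c4fff861d80c3a818738206002142))
noncomputable def tab2 : Tr := (Tr.l (nat_lit 0x4fff89fff0c39c27ffc4fff89fff13ffe27ffc4fff89fff13ffe27ffc4fff89fff13ffe27ffc4fff861c813ffe27ffc4fff89fff13ffe41b6030a2926502048e3891830a20c75613ffe27ffc4fff89fff13ffe27ffcd8280614214bba109c84fff89fff084dc18504213484263085ae27ffc20ee060c0083aa1073c20e482143))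
noncomputable def tab3 : Tr := (Tr.l (nat_lit 0x4fff89fff13ffe187384fff89fff13ffe1872c4fff89fff1459a27ffc30e489fff13ffe315a04fff89fff0c39027ffc4fff89fff13ffe27ffc23278614513ffe27ffce9258475e1448e11f6030a189fff13ffe27ffcd822846dc0c284109cc4fff89fff13ffe27ffc30a08426413ffe27ffc20ee841d90c1801074020e502144))
noncomputable def tab4 : Tr := (Tr.l (nat_lit 0x3fff881ce0fffe12f743fff87fff0fffe1fffc3fff87fff0fffe1fffc616b87fff0fffe1fffc3fff87fff0fffe1fffc3fff87fff0fffe1fffc55b907fff0fffe1fffc3fff87fff086d22050c3fff87fff0fffe1fffc40a107fff0fffe109d03fff87fff102821fffc3fff87fff0fffe1fffc406007fff083ac1074420e582145))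
noncomputable def tab5 : Tr := (Tr.l (nat_lit 0x3fff87fff0fffe3afc83fff87fff185cc1fffc3fff87fff103921fffc3fff905e40fffe207203fff87fff0fffe2051c21ef042e20fffe30934762e87fff102881fffc3fff8c66b102861fffc3fff87fff158a628d7c3fff9af500fffe109d440a087fff0fffe1fffc21350426510180107803fff841da0fffe1074820e602146))
noncomputable def tab6 : Tr := (Tr.l (nat_lit 0x40e707fff0fffe131c83fff8e2e5187e01fffc3fff87fff0fffe207243fff87fff0fffe10dbc40e407fff0fffe30980712608146087a430d84266e87fff0fffe205103fff87fff0fffe1fffc3fff87fff0fffe205083fff87fff1579e6ad38216f081410fffe1fffc213584266083c4203003fff841db083ae1fffc20e682147))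
noncomputable def tab7 : Tr := (Tr.l (nat_lit 0xc56716dd5a5c8453576872203fff07ffe4c7667831ccf43210b00fffc1fff83fff1c9b40fffc1fff83fff1a1ad2a5181fffc89c78d3a512334596808fd107fff0a71209a83e94907ffef510dda22b8fca0dda0da9081fffb53c365b9cc510174e0aca41568800fffd48a4274c0494808ab010a621f5423ad806d7042b2000000))
noncomputable def tab8 : Tr := (Tr.l (nat_lit 0x642301130156301562351601235620543016423056423156423010))
noncomputable def tab9 : Tr := (Tr.l (nat_lit 0x33814c0))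
noncomputable def tab10 : Tr := (Tr.l (nat_lit 0x3901d00))
noncomputable def tab11 : Tr := (Tr.l (nat_lit 0x1700))
noncomputable def tab12 : Tr := (Tr.l (nat_lit 0x3701700))
noncomputable def tab13 : Tr := (Tr.l (nat_lit 0))
noncomputable def tab14 : Tr := (Tr.l (nat_lit 0x14c0))
noncomputable def tab15 : Tr := (Tr.l (nat_lit 0x1d40))
noncomputable def tab16 : Tr := (Tr.l (nat_lit 0x13c09f0d4869c37a1c52e2875c7620ba06b96ec9762d90df1ae83ca3ba1de166cb643c71d60f10d341b31508a0c5380))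
noncomputable def ty0 : TT := (TT.n (TT.n (TT.n (TT.n (TT.l (Ty.srel [nat_lit 1]))
 (TT.l (Ty.rel5 (nat_lit 0) (nat_lit 3) (nat_lit 0) (nat_lit 0) (nat_lit 2))))
 (TT.l (Ty.rel3 (nat_lit 4) (nat_lit 0) (nat_lit 4))))
 (TT.n (TT.n (TT.l (Ty.dfn))
 (TT.l (Ty.rel5 (nat_lit 3) (nat_lit 0) (nat_lit 0) (nat_lit 2) (nat_lit 0))))
 (TT.l (Ty.relL (nat_lit 5) [nat_lit 5, nat_lit 1, nat_lit 5]))))
 (TT.n (TT.n (TT.n (TT.l (Ty.rel1 (nat_lit 1)))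
 (TT.l (Ty.rel5 (nat_lit 0) (nat_lit 2) (nat_lit 0) (nat_lit 0) (nat_lit 3))))
 (TT.l (Ty.rel5 (nat_lit 2) (nat_lit 2) (nat_lit 4) (nat_lit 3) (nat_lit 5))))
 (TT.n (TT.n (TT.l (Ty.skip))
 (TT.l (Ty.rel5 (nat_lit 2) (nat_lit 0) (nat_lit 0) (nat_lit 3) (nat_lit 0))))
 (TT.l (Ty.relL (nat_lit 6) [nat_lit 6, nat_lit 1, nat_lit 6])))))
noncomputable def ty1 : TT := (TT.n (TT.n (TT.n (TT.l (Ty.srel [nat_lit 0]))
 (TT.l (Ty.rel3 (nat_lit 4) (nat_lit 1) (nat_lit 4))))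
 (TT.n (TT.l (Ty.rel1 (nat_lit 0)))
 (TT.l (Ty.rel5 (nat_lit 1) (nat_lit 3) (nat_lit 1) (nat_lit 1) (nat_lit 2)))))
 (TT.n (TT.n (TT.l (Ty.dfn))
 (TT.l (Ty.relL (nat_lit 6) [nat_lit 0, nat_lit 6, nat_lit 6])))
 (TT.n (TT.l (Ty.skip))
 (TT.l (Ty.srel [nat_lit 1, nat_lit 2, nat_lit 1, nat_lit 1, nat_lit 3])))))
noncomputable def ty2 : TT := (TT.n (TT.n (TT.n (TT.n (TT.l (Ty.srel [nat_lit 3]))
 (TT.l (Ty.rel5 (nat_lit 2) (nat_lit 2) (nat_lit 2) (nat_lit 2) (nat_lit 2))))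
 (TT.l (Ty.rel5 (nat_lit 2) (nat_lit 4) (nat_lit 3) (nat_lit 5) (nat_lit 0))))
 (TT.n (TT.l (Ty.dfn))
 (TT.l (Ty.rel3 (nat_lit 6) (nat_lit 3) (nat_lit 5)))))
 (TT.n (TT.n (TT.l (Ty.rel1 (nat_lit 3)))
 (TT.l (Ty.rel5 (nat_lit 4) (nat_lit 3) (nat_lit 5) (nat_lit 0) (nat_lit 2))))
 (TT.n (TT.l (Ty.skip))
 (TT.l (Ty.rel3 (nat_lit 5) (nat_lit 3) (nat_lit 6))))))
noncomputable def ty3 : TT := (TT.n (TT.n (TT.n (TT.l (Ty.srel [nat_lit 2]))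
 (TT.l (Ty.rel3 (nat_lit 5) (nat_lit 2) (nat_lit 6))))
 (TT.l (Ty.dfn)))
 (TT.n (TT.n (TT.l (Ty.rel1 (nat_lit 2)))
 (TT.l (Ty.srel [nat_lit 0, nat_lit 0, nat_lit 2, nat_lit 0, nat_lit 0])))
 (TT.l (Ty.skip))))
noncomputable def ty4 : TT := (TT.n (TT.n (TT.n (TT.l (Ty.srel [nat_lit 4]))
 (TT.l (Ty.srel [nat_lit 3, nat_lit 5, nat_lit 0, nat_lit 2, nat_lit 2])))
 (TT.l (Ty.skip)))
 (TT.n (TT.n (TT.l (Ty.rel1 (nat_lit 4)))
 (TT.l (Ty.rel5 (nat_lit 3) (nat_lit 5) (nat_lit 0) (nat_lit 2) (nat_lit 2))))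
 (TT.l (Ty.dfn))))
noncomputable def ty5 : TT := (TT.n (TT.n (TT.n (TT.l (Ty.srel [nat_lit 6]))
 (TT.l (Ty.relL (nat_lit 0) [nat_lit 5, nat_lit 5, nat_lit 1])))
 (TT.n (TT.l (Ty.skip))
 (TT.l (Ty.rel3 (nat_lit 3) (nat_lit 6) (nat_lit 2)))))
 (TT.n (TT.n (TT.l (Ty.rel1 (nat_lit 6)))
 (TT.l (Ty.relL (nat_lit 5) [nat_lit 1, nat_lit 5, nat_lit 0])))
 (TT.n (TT.l (Ty.dfn))
 (TT.l (Ty.rel3 (nat_lit 2) (nat_lit 6) (nat_lit 3))))))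
noncomputable def ty6 : TT := (TT.n (TT.n (TT.n (TT.l (Ty.srel [nat_lit 5]))
 (TT.l (Ty.rel5 (nat_lit 2) (nat_lit 4) (nat_lit 3) (nat_lit 3) (nat_lit 1))))
 (TT.n (TT.l (Ty.skip))
 (TT.l (Ty.relL (nat_lit 6) [nat_lit 1, nat_lit 6, nat_lit 0]))))
 (TT.n (TT.n (TT.l (Ty.rel1 (nat_lit 5)))
 (TT.l (Ty.relL (nat_lit 6) [nat_lit 6, nat_lit 6, nat_lit 6])))
 (TT.l (Ty.dfn))))
noncomputable def ty7 : TT := (TT.n (TT.n (TT.n (TT.n (TT.l (Ty.skip))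
 (TT.l (Ty.srel [nat_lit 1, nat_lit 3, nat_lit 3, nat_lit 1, nat_lit 3, nat_lit 1, nat_lit 3, nat_lit 4, nat_lit 2, nat_lit 0, nat_lit 2, nat_lit 0, nat_lit 2, nat_lit 2, nat_lit 0, nat_lit 3, nat_lit 1, nat_lit 1, nat_lit 4, nat_lit 2])))
 (TT.l (Ty.srel [nat_lit 3, nat_lit 3, nat_lit 3, nat_lit 1, nat_lit 3, nat_lit 3, nat_lit 0, nat_lit 3, nat_lit 3, nat_lit 3, nat_lit 1, nat_lit 3, nat_lit 3, nat_lit 0, nat_lit 3, nat_lit 3, nat_lit 3, nat_lit 1, nat_lit 3, nat_lit 3, nat_lit 0])))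
 (TT.n (TT.n (TT.l (Ty.srel [nat_lit 2, nat_lit 1, nat_lit 1, nat_lit 3, nat_lit 1, nat_lit 1]))
 (TT.l (Ty.srel [nat_lit 3, nat_lit 0, nat_lit 0, nat_lit 2, nat_lit 0, nat_lit 0])))
 (TT.l (Ty.rel5 (nat_lit 6) (nat_lit 6) (nat_lit 1) (nat_lit 6) (nat_lit 0)))))
 (TT.n (TT.n (TT.n (TT.l (Ty.srel [nat_lit 4, nat_lit 5, nat_lit 4, nat_lit 5, nat_lit 4, nat_lit 5]))
 (TT.l (Ty.relL (nat_lit 4) [nat_lit 6, nat_lit 4, nat_lit 6, nat_lit 4, nat_lit 6])))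
 (TT.l (Ty.srel [nat_lit 4, nat_lit 2, nat_lit 1, nat_lit 3, nat_lit 3, nat_lit 1, nat_lit 3, nat_lit 1, nat_lit 3, nat_lit 4, nat_lit 2, nat_lit 0, nat_lit 2, nat_lit 0, nat_lit 2, nat_lit 2, nat_lit 0, nat_lit 3, nat_lit 1, nat_lit 1])))
 (TT.n (TT.n (TT.l (Ty.relL (nat_lit 4) [nat_lit 3, nat_lit 5, nat_lit 0, nat_lit 2, nat_lit 2]))
 (TT.l (Ty.srel [nat_lit 0, nat_lit 5, nat_lit 5, nat_lit 1, nat_lit 5])))
 (TT.l (Ty.relL (nat_lit 0) [nat_lit 2, nat_lit 2, nat_lit 4, nat_lit 3, nat_lit 5])))))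
noncomputable def C : Cert where
  tabs := [tab0, tab1, tab2, tab3, tab4, tab5, tab6, tab7, tab8, tab9, tab10, tab11, tab12, tab13, tab14, tab15, tab16]
  tts := [ty0, ty1, ty2, ty3, ty4, ty5, ty6, ty7]
  k := nat_lit 6
  base := nat_lit 12
  mJ := nat_lit 64
  mR := nat_lit 63
  W := nat_lit 19
  mA := nat_lit 8191
  mI := nat_lit 127
  S := nat_lit 13
  mC := nat_lit 63
  nc := nat_lit 7
  lo := nat_lit 64
  live := nat_lit 65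
  hi1 := nat_lit 117
  AW := nat_lit 13
  mAW := nat_lit 8191
def il : List ℕ := [1, 0, 3, 2, 4, 6, 5]
def rels : List (List ℕ) := [[2, 2, 2, 2, 2, 2],
  [0, 0, 2, 0, 0, 3],
  [1, 3, 0, 2, 1, 3, 0, 2, 1, 3, 0, 2],
  [1, 2, 2, 0, 2, 2, 2, 1, 2, 2, 0, 2, 2, 2, 1, 2, 2, 0, 2, 2, 2],
  [0, 2, 0, 2, 0, 2, 0, 2, 0, 2, 0, 2, 0, 2, 0, 2],
  [0, 2, 0, 2, 2, 2, 0, 2, 0, 2, 2, 2, 0, 2, 0, 2, 2, 2, 0, 2, 0, 2, 2, 2],
  [4, 0, 4, 0],
  [4, 2, 1, 3, 3, 1, 3, 1, 3, 4, 2, 0, 2, 0, 2, 2, 0, 3, 1, 1],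
  [4, 3, 1, 3, 1, 3, 3, 3, 4, 2, 2, 2, 0, 2, 0, 2, 0, 3, 1, 3, 1, 3, 3, 3, 4, 2, 2, 2, 0, 2, 0, 2, 0, 3, 1, 3, 1, 3, 3, 3, 4, 2, 2, 2, 0, 2, 0, 2, 0],
  [5, 5, 5, 5, 5],
  [1, 5, 0, 5, 5],
  [6, 3, 5, 2],
  [4, 5, 4, 5, 4, 5],
  [0, 2, 2, 4, 3, 5]]
def subs : List (List ℕ) := []
theorem valid : C.valid il rels subs = true := by decide +kernel
theorem p0 : C.OkL 64 65 := C.okL_of 64 0 1 65 (by decide) (by decide +kernel)
theorem p1 : C.OkR 65 118 := C.okR_of 65 0 53 118 (by decide) (by decide +kernel)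
theorem covers {G : Type*} [Group G] (ev : ℕ → G) (H : Subgroup G)
    (hinv : ∀ x < 7, ev (il.getD x 0) = (ev x)⁻¹) (hr : ∀ r ∈ rels, evw ev r = 1)
    (hs : ∀ s ∈ subs, evw ev s ∈ H) : Covers H (gensub ev 7) 1 :=
  C.sound il rels subs 7 1 valid (p0) (p1) (by decide) (by decide) ev H hinv hr hs
end CfH6.HNK
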