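import Cfsg.Agent.OD.Pre
import Cfsg.Agent.H6.TCTop
import Cfsg.Agent.H6.TCPart
/-! coset enumeration certificate; generators x y z t ; index 1 -/
set_option autoImplicit false
set_option maxRecDepth 100000
set_option Elab.async false
set_option linter.all false
namespace CfH6.HNR
open CfH6
noncomputable def tab0 : Tr := (Tr.l (nat_lit 0x2fff2fff2fff2fff2fff13dc13db2fff2fff2fff2fff2fff2fff2fff32432fff13cf2fff2fff2fff135531c61254125211c52fff2fff11c21141))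
noncomputable def tab1 : Tr := (Tr.l (nat_lit 0x235723561fff1fff1fff1fff1fff22c821c61fff21c51fff1fff434c1fff445343511fff21491fff1fff1fff324721441fff32ce214120c01fff))
noncomputable def tab2 : Tr := (Tr.l (nat_lit 0x1fff1fff1fff1fff1fff1fff1fff1fff1fff1fff1fff1fff1fff1fff1fff1fff1fff1fff1fff1fff1fff22c81fff1fff21d01fff1fff1fff1fff))
noncomputable def tab3 : Tr := (Tr.l (nat_lit 0x1fff1fff1fff1fff1fff1fff34511fff1fff1fff1fff1fff21441fff1fff1fff1fff1fff1fff20c022471fff1fff1fff1fff1fff1fff1fff1fff))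
noncomputable def tab4 : Tr := (Tr.l (nat_lit 0x1fff1fff1fff1fff1fff1fff1fff1fff1fff1fff1fff1fff1fff1fff1fff1fff1fff1fff1fff1fff1fff1fff1fff1fff1fff1fff1fff1fff1fff))
noncomputable def tab5 : Tr := (Tr.l (nat_lit 0x7658745a33551fff31ca32c81fff1fff72cd52cc1fff3144624953541fff31c231411fff224b25d723561fff4245225330c022cf224321c61fff))
noncomputable def tab6 : Tr := (Tr.l (nat_lit 0x74593fff14db235516dc654922c813da3fff21c53fff53c744d622433fff3fff3fff21ca3fff12d013573fff21413fff3fff21c2124d11cc1144))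
noncomputable def tab7 : Tr := (Tr.l (nat_lit 0x1fff3758a7ca1fff1fff1fff1fff984b1fff1fff24c31fff1fff1fff85451fff1fff1fff1fff1fff1fff1fff1fff1fff1fff1fff1fff1fff1fff))
noncomputable def tab8 : Tr := (Tr.l (nat_lit 0x11565561161536055613306156110))
noncomputable def tab9 : Tr := (Tr.l (nat_lit 0))
noncomputable def tab10 : Tr := (Tr.l (nat_lit 0))
noncomputable def tab11 : Tr := (Tr.l (nat_lit 0))
noncomputable def tab12 : Tr := (Tr.l (nat_lit 0))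
noncomputable def tab13 : Tr := (Tr.l (nat_lit 0))
noncomputable def tab14 : Tr := (Tr.l (nat_lit 0))
noncomputable def tab15 : Tr := (Tr.l (nat_lit 0))
noncomputable def tab16 : Tr := (Tr.l (nat_lit 0x5b16d0b4a1))
noncomputable def ty0 : TT := (TT.n (TT.n (TT.l (Ty.rel1 (nat_lit 1)))
 (TT.l (Ty.dfn)))
 (TT.l (Ty.skip)))
noncomputable def ty1 : TT := (TT.n (TT.n (TT.l (Ty.skip))
 (TT.l (Ty.rel1 (nat_lit 0))))
 (TT.n (TT.l (Ty.dfn))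
 (TT.l (Ty.relL (nat_lit 5) [nat_lit 0, nat_lit 5, nat_lit 5]))))
noncomputable def ty2 : TT := (TT.n (TT.l (Ty.skip))
 (TT.l (Ty.rel1 (nat_lit 3))))
noncomputable def ty3 : TT := (TT.n (TT.n (TT.l (Ty.skip))
 (TT.l (Ty.rel3 (nat_lit 6) (nat_lit 2) (nat_lit 5))))
 (TT.l (Ty.dfn)))
noncomputable def ty4 : TT := (TT.l (Ty.skip))
noncomputable def ty5 : TT := (TT.n (TT.n (TT.n (TT.l (Ty.skip))
 (TT.l (Ty.relL (nat_lit 5) [nat_lit 5, nat_lit 5, nat_lit 5])))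
 (TT.n (TT.l (Ty.dfn))
 (TT.l (Ty.relL (nat_lit 5) [nat_lit 1, nat_lit 5, nat_lit 0]))))
 (TT.n (TT.n (TT.l (Ty.rel1 (nat_lit 6)))
 (TT.l (Ty.rel3 (nat_lit 3) (nat_lit 6) (nat_lit 2))))
 (TT.l (Ty.relL (nat_lit 1) [nat_lit 5, nat_lit 0, nat_lit 5]))))
noncomputable def ty6 : TT := (TT.n (TT.n (TT.n (TT.l (Ty.rel1 (nat_lit 5)))
 (TT.l (Ty.relL (nat_lit 0) [nat_lit 6, nat_lit 6, nat_lit 1])))
 (TT.n (TT.l (Ty.skip))
 (TT.l (Ty.relL (nat_lit 6) [nat_lit 1, nat_lit 6, nat_lit 0]))))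
 (TT.n (TT.n (TT.l (Ty.dfn))
 (TT.l (Ty.relL (nat_lit 6) [nat_lit 6, nat_lit 6, nat_lit 6])))
 (TT.l (Ty.rel3 (nat_lit 3) (nat_lit 5) (nat_lit 2)))))
noncomputable def ty7 : TT := (TT.n (TT.n (TT.l (Ty.skip))
 (TT.l (Ty.rel5 (nat_lit 6) (nat_lit 6) (nat_lit 6) (nat_lit 6) (nat_lit 6))))
 (TT.l (Ty.rel5 (nat_lit 6) (nat_lit 6) (nat_lit 1) (nat_lit 6) (nat_lit 0))))
noncomputable def C : Cert where
  tabs := [tab0, tab1, tab2, tab3, tab4, tab5, tab6, tab7, tab8, tab9, tab10, tab11, tab12, tab13, tab14, tab15, tab16]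
  tts := [ty0, ty1, ty2, ty3, ty4, ty5, ty6, ty7]
  k := nat_lit 6
  base := nat_lit 7
  mJ := nat_lit 64
  mR := nat_lit 63
  W := nat_lit 16
  mA := nat_lit 4095
  mI := nat_lit 127
  S := nat_lit 12
  mC := nat_lit 15
  nc := nat_lit 7
  lo := nat_lit 64
  live := nat_lit 65
  hi1 := nat_lit 92
  AW := nat_lit 13
  mAW := nat_lit 8191
def il : List ℕ := [1, 0, 3, 2, 4, 6, 5]
def rels : List (List ℕ) := [[2, 2, 2, 2, 2, 2],
  [0, 0, 2, 0, 0, 3],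
  [1, 3, 0, 2, 1, 3, 0, 2, 1, 3, 0, 2],
  [1, 2, 2, 0, 2, 2, 2, 1, 2, 2, 0, 2, 2, 2, 1, 2, 2, 0, 2, 2, 2],
  [0, 2, 0, 2, 0, 2, 0, 2, 0, 2, 0, 2, 0, 2, 0, 2],
  [0, 2, 0, 2, 2, 2, 0, 2, 0, 2, 2, 2, 0, 2, 0, 2, 2, 2, 0, 2, 0, 2, 2, 2],
  [4, 0, 4, 0],
  [4, 2, 1, 3, 3, 1, 3, 1, 3, 4, 2, 0, 2, 0, 2, 2, 0, 3, 1, 1],
  [4, 3, 1, 3, 1, 3, 3, 3, 4, 2, 2, 2, 0, 2, 0, 2, 0, 3, 1, 3, 1, 3, 3, 3, 4, 2, 2, 2, 0, 2, 0, 2, 0, 3, 1, 3, 1, 3, 3, 3, 4, 2, 2, 2, 0, 2, 0, 2, 0],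
  [5, 5, 5, 5, 5],
  [1, 5, 0, 5, 5],
  [6, 3, 5, 2],
  [4, 5, 4, 5, 4, 5]]
def subs : List (List ℕ) := []
theorem valid : C.valid il rels subs = true := by decide +kernel
theorem p0 : C.OkR 64 93 := C.okR_of 64 0 29 93 (by decide) (by decide +kernel)
def ws : List (List ℕ) := [[0, 0, 5, 1, 1, 5],
  [0, 5, 1, 2, 0, 6, 1, 3]]
theorem words {G : Type*} [Group G] (ev : ℕ → G) (H : Subgroup G)
    (hinv : ∀ x < 7, ev (il.getD x 0) = (ev x)⁻¹) (hr : ∀ r ∈ rels, evw ev r = 1)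
    (hs : ∀ s ∈ subs, evw ev s ∈ H) : ∀ w ∈ ws, evw ev w ∈ H :=
  C.words' il rels subs 7 ws valid (p0) (by decide) (by decide +kernel) ev H hinv hr hs
end CfH6.HNR
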