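import Cfsg.Agent.OD.Pre
import Cfsg.Agent.H6.TCTop
/-! coset enumeration certificate; generators x y z ; index 2 -/
set_option autoImplicit false
set_option maxRecDepth 100000
set_option Elab.async false
set_option linter.all false
namespace CfH6.HSK
open CfH6
noncomputable def tab0 : Tr := (Tr.l (nat_lit 0xc7ae4fff27ff93ffc9ffe4fff12b09cd3cc69c735131a813ffc9ffe52c949e620f2c47b823db11eb08f5448a8724531220c50ca4824fff11a928f0c459022c7186008718259a1142))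
noncomputable def tab1 : Tr := (Tr.l (nat_lit 0x89b66fff37ff9bffcdffe535121a81bffcdffe6fff1a3094d3c869c83cd296410b1cdffe33d719ed0cf64e482345337ff9bffc66a85245212208508659832cb18e50830025921143))
noncomputable def tab2 : Tr := (Tr.l (nat_lit 0xf3a84fff18e893ffcc59e31cd27ff8c7309ffe31c92c6c0c7209ffe22e118e308b806282225e18a28897444b63143112c93ffc44ae3142112a88948618021ce10e58871c23a01144))
noncomputable def tab3 : Tr := (Tr.l (nat_lit 0x64a8325227ff8c740639c4fff18e693ffc63964fff18e493ffc638e2a6153290c71844be314127ff8c51044b8225a18a193ffc44b0225618a10894c439e30c010e60872023a21145))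
noncomputable def tab4 : Tr := (Tr.l (nat_lit 0x7ffe3fff1fff8fffc7ffe3fff1fff8fffc7ffe3fff1fff8fffc7ffe21c61fff8fffc7ffe3fff1fff8fffc42863fff1fff8fffc42843fff1fff849507ffe3fff08e68472441801141))
noncomputable def tab5 : Tr := (Tr.l (nat_lit 0x114a875d334687a544a8801fffed6687fff8a99bb49d564e551f0a901fffbba311b1ad7835b41a2624d3165a8317c383a18cd19f982e7c26ba107ffd9080b7c056600b10000000000))
noncomputable def tab6 : Tr := (Tr.l (nat_lit 0x3323323232323423232342304231230140))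
noncomputable def tab7 : Tr := (Tr.l (nat_lit 0x1280))
noncomputable def tab8 : Tr := (Tr.l (nat_lit 0))
noncomputable def tab9 : Tr := (Tr.l (nat_lit 0))
noncomputable def tab10 : Tr := (Tr.l (nat_lit 0x1800))
noncomputable def tab11 : Tr := (Tr.l (nat_lit 0))
noncomputable def tab12 : Tr := (Tr.l (nat_lit 0x17e2c20ce06b858409e04e02905402ae05d0ae870c496152021091c2a40c40a5810a1))
noncomputable def ty0 : TT := (TT.n (TT.n (TT.n (TT.n (TT.l (Ty.srel [nat_lit 1]))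
 (TT.l (Ty.srel [nat_lit 2, nat_lit 1, nat_lit 3])))
 (TT.l (Ty.rel3 (nat_lit 4) (nat_lit 0) (nat_lit 4))))
 (TT.n (TT.l (Ty.dfn))
 (TT.l (Ty.rel3 (nat_lit 2) (nat_lit 1) (nat_lit 3)))))
 (TT.n (TT.n (TT.l (Ty.rel1 (nat_lit 1)))
 (TT.l (Ty.rel3 (nat_lit 3) (nat_lit 1) (nat_lit 2))))
 (TT.n (TT.l (Ty.skip))
 (TT.l (Ty.srel [nat_lit 3, nat_lit 1, nat_lit 2])))))
noncomputable def ty1 : TT := (TT.n (TT.n (TT.n (TT.l (Ty.srel [nat_lit 0]))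
 (TT.l (Ty.rel3 (nat_lit 2) (nat_lit 0) (nat_lit 3))))
 (TT.n (TT.l (Ty.rel1 (nat_lit 0)))
 (TT.l (Ty.rel3 (nat_lit 4) (nat_lit 1) (nat_lit 4)))))
 (TT.n (TT.n (TT.l (Ty.dfn))
 (TT.l (Ty.skip)))
 (TT.n (TT.l (Ty.rel3 (nat_lit 3) (nat_lit 0) (nat_lit 2)))
 (TT.l (Ty.srel [nat_lit 4, nat_lit 1, nat_lit 4])))))
noncomputable def ty2 : TT := (TT.n (TT.n (TT.n (TT.l (Ty.srel [nat_lit 3]))
 (TT.l (Ty.srel [nat_lit 0, nat_lit 2, nat_lit 2, nat_lit 0, nat_lit 3, nat_lit 1, nat_lit 1, nat_lit 4, nat_lit 2, nat_lit 1, nat_lit 3, nat_lit 3, nat_lit 1, nat_lit 3, nat_lit 1, nat_lit 3, nat_lit 4, nat_lit 2, nat_lit 0])))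
 (TT.n (TT.l (Ty.dfn))
 (TT.l (Ty.srel [nat_lit 0, nat_lit 2, nat_lit 0, nat_lit 2, nat_lit 0, nat_lit 2, nat_lit 0, nat_lit 2, nat_lit 0, nat_lit 2, nat_lit 0, nat_lit 2, nat_lit 0, nat_lit 2, nat_lit 0]))))
 (TT.n (TT.n (TT.l (Ty.rel1 (nat_lit 3)))
 (TT.l (Ty.rel5 (nat_lit 2) (nat_lit 2) (nat_lit 2) (nat_lit 2) (nat_lit 2))))
 (TT.l (Ty.skip))))
noncomputable def ty3 : TT := (TT.n (TT.n (TT.l (Ty.srel [nat_lit 2]))
 (TT.l (Ty.dfn)))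
 (TT.n (TT.l (Ty.rel1 (nat_lit 2)))
 (TT.l (Ty.skip))))
noncomputable def ty4 : TT := (TT.n (TT.n (TT.l (Ty.rel1 (nat_lit 4)))
 (TT.l (Ty.skip)))
 (TT.l (Ty.dfn)))
noncomputable def ty5 : TT := (TT.n (TT.n (TT.n (TT.l (Ty.skip))
 (TT.l (Ty.relL (nat_lit 1) [nat_lit 2, nat_lit 2, nat_lit 0, nat_lit 2, nat_lit 2, nat_lit 2, nat_lit 1, nat_lit 2, nat_lit 2, nat_lit 0, nat_lit 2, nat_lit 2, nat_lit 2, nat_lit 1, nat_lit 2, nat_lit 2, nat_lit 0, nat_lit 2, nat_lit 2, nat_lit 2])))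
 (TT.n (TT.l (Ty.relL (nat_lit 1) [nat_lit 2, nat_lit 1, nat_lit 1, nat_lit 3, nat_lit 1]))
 (TT.l (Ty.srel [nat_lit 1, nat_lit 3, nat_lit 0, nat_lit 2]))))
 (TT.n (TT.n (TT.l (Ty.srel [nat_lit 4, nat_lit 3, nat_lit 1, nat_lit 3, nat_lit 1, nat_lit 3, nat_lit 3, nat_lit 3, nat_lit 4, nat_lit 2, nat_lit 2, nat_lit 2, nat_lit 0, nat_lit 2, nat_lit 0, nat_lit 2, nat_lit 0, nat_lit 3, nat_lit 1, nat_lit 3, nat_lit 1, nat_lit 3, nat_lit 3, nat_lit 3, nat_lit 4, nat_lit 2, nat_lit 2, nat_lit 2, nat_lit 0, nat_lit 2, nat_lit 0, nat_lit 2, nat_lit 0, nat_lit 3, nat_lit 1, nat_lit 3, nat_lit 1, nat_lit 3, nat_lit 3, nat_lit 3, nat_lit 4, nat_lit 2, nat_lit 2, nat_lit 2, nat_lit 0, nat_lit 2, nat_lit 0, nat_lit 2, nat_lit 0]))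
 (TT.l (Ty.srel [nat_lit 1, nat_lit 3, nat_lit 4, nat_lit 2, nat_lit 0, nat_lit 2, nat_lit 0, nat_lit 2, nat_lit 2, nat_lit 0, nat_lit 3, nat_lit 1, nat_lit 1, nat_lit 4, nat_lit 2, nat_lit 1, nat_lit 3, nat_lit 3, nat_lit 1, nat_lit 3])))
 (TT.n (TT.l (Ty.srel [nat_lit 1, nat_lit 3, nat_lit 1, nat_lit 3, nat_lit 1, nat_lit 3, nat_lit 1, nat_lit 3, nat_lit 1, nat_lit 3, nat_lit 1, nat_lit 3, nat_lit 1, nat_lit 3, nat_lit 1, nat_lit 3]))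
 (TT.l (Ty.srel [nat_lit 4, nat_lit 2, nat_lit 1, nat_lit 3, nat_lit 3, nat_lit 1, nat_lit 3, nat_lit 1, nat_lit 3, nat_lit 4, nat_lit 2, nat_lit 0, nat_lit 2, nat_lit 0, nat_lit 2, nat_lit 2, nat_lit 0, nat_lit 3, nat_lit 1, nat_lit 1])))))
noncomputable def C : Cert where
  tabs := [tab0, tab1, tab2, tab3, tab4, tab5, tab6, tab7, tab8, tab9, tab10, tab11, tab12]
  tts := [ty0, ty1, ty2, ty3, ty4, ty5]
  k := nat_lit 6
  base := nat_lit 9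
  mJ := nat_lit 64
  mR := nat_lit 63
  W := nat_lit 17
  mA := nat_lit 4095
  mI := nat_lit 127
  S := nat_lit 12
  mC := nat_lit 31
  nc := nat_lit 5
  lo := nat_lit 64
  live := nat_lit 66
  hi1 := nat_lit 97
  AW := nat_lit 13
  mAW := nat_lit 8191
def il : List ℕ := [1, 0, 3, 2, 4]
def rels : List (List ℕ) := [[2, 2, 2, 2, 2, 2],
  [0, 0, 2, 0, 0, 3],
  [1, 3, 0, 2, 1, 3, 0, 2, 1, 3, 0, 2],
  [1, 2, 2, 0, 2, 2, 2, 1, 2, 2, 0, 2, 2, 2, 1, 2, 2, 0, 2, 2, 2],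
  [0, 2, 0, 2, 0, 2, 0, 2, 0, 2, 0, 2, 0, 2, 0, 2],
  [0, 2, 0, 2, 2, 2, 0, 2, 0, 2, 2, 2, 0, 2, 0, 2, 2, 2, 0, 2, 0, 2, 2, 2],
  [4, 0, 4, 0],
  [4, 2, 1, 3, 3, 1, 3, 1, 3, 4, 2, 0, 2, 0, 2, 2, 0, 3, 1, 1],
  [4, 3, 1, 3, 1, 3, 3, 3, 4, 2, 2, 2, 0, 2, 0, 2, 0, 3, 1, 3, 1, 3, 3, 3, 4, 2, 2, 2, 0, 2, 0, 2, 0, 3, 1, 3, 1, 3, 3, 3, 4, 2, 2, 2, 0, 2, 0, 2, 0],
  [0, 2, 1, 3]]
def subs : List (List ℕ) := []
theorem valid : C.valid il rels subs = true := by decide +kernel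
theorem p0 : C.OkL 64 66 := C.okL_of 64 0 2 66 (by decide) (by decide +kernel)
theorem p1 : C.OkR 66 98 := C.okR_of 66 0 32 98 (by decide) (by decide +kernel)
theorem covers {G : Type*} [Group G] (ev : ℕ → G) (H : Subgroup G)
    (hinv : ∀ x < 5, ev (il.getD x 0) = (ev x)⁻¹) (hr : ∀ r ∈ rels, evw ev r = 1)
    (hs : ∀ s ∈ subs, evw ev s ∈ H) : Covers H (gensub ev 5) 2 :=
  C.sound il rels subs 5 2 valid (p0) (p1) (by decide) (by decide) ev H hinv hr hs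
end CfH6.HSK
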