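import Cfsg.Agent.OD.Pre
import Cfsg.Agent.H6.HeB
import Cfsg.Agent.H6.HeA.P0
set_option autoImplicit false
set_option maxRecDepth 100000
set_option Elab.async false
set_option linter.all false
namespace CfH6.HeA
open CfH6 MulAction
theorem eq0 : ∀ e ∈ eqs0, evw (lp nets0) e.1 = evw (lp nets0) e.2 :=
  EqsOk.sound (e0_0) ok0 (by decide)
theorem eqAll : ∀ e ∈ eqs, evw (lp nets0) e.1 = evw (lp nets0) e.2 := eq0
theorem hsd : (∀ x < 7, lp nets0 (HeB.il.getD x 0) = (lp nets0 x)⁻¹) ∧ ∀ r ∈ eqRels HeB.il sig eqs, evw (lp nets0) r = 1 :=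
  eqRels_sound (lp nets0) (k := 7) (by decide +kernel) eqAll
theorem exRho : ∃ ρ : HeB.G →* Equiv.Perm ℕ, ∀ x < 7, ρ (HeB.el x) = lp nets0 x :=
  HeB.hhom _ hsd.1 (follows_sound (n := 4) _ hsd.1 hsd.2 (by decide +kernel))
noncomputable def rho : HeB.G →* Equiv.Perm ℕ := Classical.choose exRho
@[reducible] noncomputable def act : MulAction HeB.G ℕ := MulAction.compHom ℕ rho
attribute [local instance] act
theorem L0 : Lvl 2560 nets0 7 HeB.el := lvl0 rho ok0 (Classical.choose_spec exRho)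
noncomputable abbrev el1 : ℕ → HeB.G := byW HeB.el ws1
theorem L1 : Lvl 2560 nets1 7 el1 := L0.next sx1 (x1_0)
noncomputable abbrev el2 : ℕ → HeB.G := byW el1 ws2
theorem L2 : Lvl 40 nets2 6 el2 := L1.next sx2 (x2_0)
noncomputable abbrev el3 : ℕ → HeB.G := byW el2 ws3
theorem L3 : Lvl 12 nets3 3 el3 := L2.next sx3 (x3_0)
noncomputable abbrev el4 : ℕ → HeB.G := byW el3 ws4
theorem L4 : Lvl 8 nets4 2 el4 := L3.next sx4 (x4_0)
noncomputable abbrev el5 : ℕ → HeB.G := byW el4 ws5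
theorem L5 : Lvl 8 nets5 1 el5 := L4.next sx5 (x5_0)
noncomputable abbrev H : Subgroup HeB.G := gensub el1 7
theorem fix0 : H ≤ stabilizer HeB.G 0 := L1.fix' 0 (by decide +kernel)
theorem cU : (bitSet U).ncard = 2058 := ncard_ivls lU _ (by decide +kernel)
theorem oi1 : OrbIn (gensub el1 7) 1 2560 S1 :=
  (L1.orbStep (OrbIn.one _ (by decide)) 49 S1 oi1_0)
theorem o1 : orbit H 1 = bitSet S1 := L1.orbEq oi1 ci1
theorem c1 : (bitSet S1).ncard = 1360 := ncard_ivls l1 _ (by decide +kernel)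
theorem oi2 : OrbIn (gensub el1 7) 1399 2560 S2 :=
  (L1.orbStep (OrbIn.one _ (by decide)) 28 S2 oi2_0)
theorem o2 : orbit H 1399 = bitSet S2 := L1.orbEq oi2 ci2
theorem c2 : (bitSet S2).ncard = 425 := ncard_ivls l2 _ (by decide +kernel)
theorem oi3 : OrbIn (gensub el1 7) 1794 2560 S3 :=
  (L1.orbStep (OrbIn.one _ (by decide)) 21 S3 oi3_0)
theorem o3 : orbit H 1794 = bitSet S3 := L1.orbEq oi3 ci3
theorem c3 : (bitSet S3).ncard = 136 := ncard_ivls l3 _ (by decide +kernel)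
theorem oi4 : OrbIn (gensub el1 7) 1930 2560 S4 :=
  (L1.orbStep (OrbIn.one _ (by decide)) 35 S4 oi4_0)
theorem o4 : orbit H 1930 = bitSet S4 := L1.orbEq oi4 ci4
theorem c4 : (bitSet S4).ncard = 136 := ncard_ivls l4 _ (by decide +kernel)
theorem hJ : ∀ j ∈ J, orbit H j.2.1 = bitSet j.2.2 := (forall_cons o1 (forall_cons o2 (forall_cons o3 (forall_cons o4 forall_nil))))
theorem subU : bitSet U ⊆ orbit (⊤ : Subgroup HeB.G) 0 := L0.sub_top J hJ U (by decide +kernel)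
theorem q1 (hH : H = stabilizer HeB.G 0) : (orbit H ((evw HeB.el w1 : HeB.G) : HeB.G ⧸ H)).ncard = 1360 :=
  L0.quot hH w1 o1 c1 (by decide +kernel)
theorem q2 (hH : H = stabilizer HeB.G 0) : (orbit H ((evw HeB.el w2 : HeB.G) : HeB.G ⧸ H)).ncard = 425 :=
  L0.quot hH w2 o2 c2 (by decide +kernel)
theorem q3 (hH : H = stabilizer HeB.G 0) : (orbit H ((evw HeB.el w3 : HeB.G) : HeB.G ⧸ H)).ncard = 136 :=
  L0.quot hH w3 o3 c3 (by decide +kernel)
theorem q4 (hH : H = stabilizer HeB.G 0) : (orbit H ((evw HeB.el w4 : HeB.G) : HeB.G ⧸ H)).ncard = 136 :=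
  L0.quot hH w4 o4 c4 (by decide +kernel)
theorem ne3_4 (hH : H = stabilizer HeB.G 0) : orbit H ((evw HeB.el w3 : HeB.G) : HeB.G ⧸ H) ≠ orbit H ((evw HeB.el w4 : HeB.G) : HeB.G ⧸ H) :=
  L0.quot_ne hH w3 w4 o3 o4 (by decide +kernel)
theorem orbTop : OrbGe (⊤ : Subgroup HeB.G) 0 2058 := orbGe_of_sub subU cU
theorem stab (hc : Covers H ⊤ 2058) : H = stabilizer HeB.G 0 ∧ H.index = 2058 := stab_eq hc fix0 orbTop
theorem mx4 (hH : H = stabilizer HeB.G 0) (hN : H.index = 2058) : Mx H S4 :=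
  L0.mx hH hN w4 o4 J4 (forall_cons o1 forall_nil) lBig cm4
theorem mx3 (hH : H = stabilizer HeB.G 0) (hN : H.index = 2058) : Mx H S3 :=
  L0.mx hH hN w3 o3 J3 (forall_cons o1 forall_nil) lBig cm3
theorem mx2 (hH : H = stabilizer HeB.G 0) (hN : H.index = 2058) : Mx H S2 :=
  L0.mx hH hN w2 o2 J2 (forall_cons o1 forall_nil) lBig cm2
theorem mx1 (hH : H = stabilizer HeB.G 0) (hN : H.index = 2058) : Mx H S1 :=
  L0.mx hH hN w1 o1 J1 (forall_cons o1 forall_nil) lBig cm1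
theorem hmax (hH : H = stabilizer HeB.G 0) (hN : H.index = 2058) : ∀ L : Subgroup HeB.G, H ≤ L → L = H ∨ L = ⊤ :=
  coatom_of hH (Mx.lorJ J (forall_cons (mx1 hH hN) (forall_cons (mx2 hH hN) (forall_cons (mx3 hH hN) (forall_cons (mx4 hH hN) forall_nil))))) (orbit_sub_of_card hH hN (by decide) subU cU) (by decide +kernel)
theorem low5 : Low (gensub el5 1) [5] 2 :=
  (Low.cons bot_le bot_le (L5.orbGe 5 1 3 2 (by decide) (by decide) og5) (Low.nil ⊥)).cast (by decide)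
theorem low4 : Low (gensub el4 2) [4, 5] 6 :=
  (Low.step' L5 (L4.orbGe 4 2 3 3 (by decide) (by decide) og4) (by decide +kernel) low5).cast (by decide)
theorem low3 : Low (gensub el3 3) [3, 4, 5] 48 :=
  (Low.step' L4 (L3.orbGe 3 6 4 8 (by decide) (by decide) og3) (by decide +kernel) low4).cast (by decide)
theorem low2 : Low (gensub el2 6) [2, 3, 4, 5] 1440 :=
  (Low.step' L3 (L2.orbGe 2 6 6 30 (by decide) (by decide) og2) (by decide +kernel) low3).cast (by decide)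
theorem low1 : Low (gensub el1 7) [1, 2, 3, 4, 5] 1958400 :=
  (Low.step' L2 (orbGe_of_eq o1 c1) (by decide +kernel) low2).cast (by decide)
theorem low0 : Low (gensub HeB.el 7) [0, 1, 2, 3, 4, 5] 4030387200 :=
  (Low.step' L1 (HeB.htop ▸ orbTop) (by decide +kernel) low1).cast (by decide)
def bs : List ℕ := [0, 1, 2, 3, 4, 5]
theorem hbs : ∀ b ∈ bs, b ∈ orbit HeB.G 0 := base_mem subU bs (by decide +kernel)
theorem top (hf : Finite HeB.G ∧ Nat.card HeB.G ≤ 4030387200) : Nat.card HeB.G = 4030387200 ∧ ∀ g : HeB.G, (∀ b ∈ bs, g • b = b) → g = 1 := low0.top hf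
theorem hex (hb : ∀ g : HeB.G, (∀ b ∈ bs, g • b = b) → g = 1) : ∀ w ∈ ex, evw HeB.el (wpow w (7 ^ 1)) = 1 := (forall_cons (L0.word_one hb _ pw0) forall_nil)
end CfH6.HeA
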