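import Cfsg.Agent.OD.Pre
import Cfsg.Agent.H6.TCTop
/-! coset enumeration certificate; generators a b c d e f g ; index 1 -/
set_option autoImplicit false
set_option maxRecDepth 100000
set_option Elab.async false
set_option linter.all false
namespace CfH6.HeK
open CfH6
noncomputable def tab0 : Tr := (Tr.l (nat_lit 0x27ff94b389ffe4fff27ff887209ffe4fff27ff93ffc42844fff27ff93ffca486325227ff93ffc9ffe4fff19648c73441801141))
noncomputable def tab1 : Tr := (Tr.l (nat_lit 0x27ff95b58639a4fff27ff93ffc9ffe314327ff93ffc44aa4fff27ff93ffc9ffe314127ff93ffc9ffe4fff10e80c30043901142))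
noncomputable def tab2 : Tr := (Tr.l (nat_lit 0x1fff907347ffe3fff20e43db207ffe3fff1fff9050844ac3fff1fff8fffc828222531fff8fffc7ffe3fff20600fffc43921143))
noncomputable def tab3 : Tr := (Tr.l (nat_lit 0x18e693ffc9ffe31c92ae993ffc62864fff18a113ffc44ae4fff27ff8c50444a8644828e30891c9ffe30c010e88873c43941144))
noncomputable def tab4 : Tr := (Tr.l (nat_lit 0x1fff8fffc7ffe3fff1fff9d1487ffe3fff1fff8fffc7ffe3fff28a08fffc7ffe63c81fff8fffca18042c41fff8fffc43961145))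
noncomputable def tab5 : Tr := (Tr.l (nat_lit 0x1fff8fffc7ffe3fff49e98fffc7ffe3fff1fff8fffc7ffe51411fff8fffd0692734830e2143007ffe3fff21e18fffc43981146))
noncomputable def tab6 : Tr := (Tr.l (nat_lit 0x17ff8bffc5ffe2fff3aa98bffcc8862fff17ff8bffc5ffe2fff17ff8bffc5ffe44c82860107105ffe32461a688bffc5ffe1147))
noncomputable def tab7 : Tr := (Tr.l (nat_lit 0x3226ba335b09a65c9632907ffd6a86a74349e107ffcb28482c139a098f04ac8137c1916210900658023408b60c2701f4800000))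
noncomputable def tab8 : Tr := (Tr.l (nat_lit 0x321320313205432165432100))
noncomputable def tab9 : Tr := (Tr.l (nat_lit 0))
noncomputable def tab10 : Tr := (Tr.l (nat_lit 0))
noncomputable def tab11 : Tr := (Tr.l (nat_lit 0x14c0))
noncomputable def tab12 : Tr := (Tr.l (nat_lit 0))
noncomputable def tab13 : Tr := (Tr.l (nat_lit 0))
noncomputable def tab14 : Tr := (Tr.l (nat_lit 0))
noncomputable def tab15 : Tr := (Tr.l (nat_lit 0))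
noncomputable def tab16 : Tr := (Tr.l (nat_lit 0x10e18c1c902683362))
noncomputable def ty0 : TT := (TT.n (TT.n (TT.n (TT.l (Ty.srel [nat_lit 0]))
 (TT.l (Ty.rel3 (nat_lit 2) (nat_lit 0) (nat_lit 2))))
 (TT.l (Ty.rel1 (nat_lit 0))))
 (TT.n (TT.l (Ty.dfn))
 (TT.l (Ty.skip))))
noncomputable def ty1 : TT := (TT.n (TT.n (TT.n (TT.l (Ty.srel [nat_lit 1]))
 (TT.l (Ty.srel [nat_lit 0, nat_lit 2, nat_lit 1, nat_lit 0, nat_lit 4, nat_lit 2, nat_lit 1, nat_lit 0, nat_lit 2])))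
 (TT.l (Ty.dfn)))
 (TT.n (TT.l (Ty.rel1 (nat_lit 1)))
 (TT.l (Ty.skip))))
noncomputable def ty2 : TT := (TT.n (TT.n (TT.l (Ty.srel [nat_lit 2]))
 (TT.l (Ty.skip)))
 (TT.n (TT.l (Ty.rel1 (nat_lit 2)))
 (TT.l (Ty.dfn))))
noncomputable def ty3 : TT := (TT.n (TT.n (TT.n (TT.l (Ty.srel [nat_lit 3]))
 (TT.l (Ty.relL (nat_lit 5) [nat_lit 6])))
 (TT.l (Ty.dfn)))
 (TT.n (TT.n (TT.l (Ty.rel1 (nat_lit 3)))
 (TT.l (Ty.srel [nat_lit 1, nat_lit 3, nat_lit 1])))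
 (TT.l (Ty.skip))))
noncomputable def ty4 : TT := (TT.n (TT.n (TT.n (TT.l (Ty.srel [nat_lit 4]))
 (TT.l (Ty.dfn)))
 (TT.n (TT.l (Ty.skip))
 (TT.l (Ty.rel3 (nat_lit 0) (nat_lit 4) (nat_lit 0)))))
 (TT.n (TT.n (TT.l (Ty.rel1 (nat_lit 4)))
 (TT.l (Ty.srel [nat_lit 1, nat_lit 4, nat_lit 1])))
 (TT.l (Ty.relL (nat_lit 6) [nat_lit 5, nat_lit 6, nat_lit 5]))))
noncomputable def ty5 : TT := (TT.n (TT.n (TT.n (TT.n (TT.l (Ty.srel [nat_lit 5]))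
 (TT.l (Ty.rel3 (nat_lit 2) (nat_lit 5) (nat_lit 2))))
 (TT.l (Ty.dfn)))
 (TT.n (TT.l (Ty.skip))
 (TT.l (Ty.srel [nat_lit 1, nat_lit 5, nat_lit 1]))))
 (TT.n (TT.n (TT.l (Ty.rel1 (nat_lit 5)))
 (TT.l (Ty.relL (nat_lit 3) [nat_lit 6])))
 (TT.n (TT.l (Ty.rel3 (nat_lit 0) (nat_lit 5) (nat_lit 0)))
 (TT.l (Ty.srel [nat_lit 2, nat_lit 5, nat_lit 2])))))
noncomputable def ty6 : TT := (TT.n (TT.n (TT.n (TT.l (Ty.srel [nat_lit 6]))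
 (TT.l (Ty.dfn)))
 (TT.n (TT.l (Ty.rel1 (nat_lit 6)))
 (TT.l (Ty.rel3 (nat_lit 2) (nat_lit 6) (nat_lit 2)))))
 (TT.n (TT.n (TT.l (Ty.skip))
 (TT.l (Ty.relL (nat_lit 5) [nat_lit 3])))
 (TT.l (Ty.relL (nat_lit 3) [nat_lit 5]))))
noncomputable def ty7 : TT := (TT.n (TT.n (TT.n (TT.n (TT.l (Ty.skip))
 (TT.l (Ty.srel [nat_lit 1, nat_lit 3, nat_lit 1, nat_lit 3])))
 (TT.n (TT.l (Ty.srel [nat_lit 0, nat_lit 2, nat_lit 3, nat_lit 2, nat_lit 3, nat_lit 2, nat_lit 3, nat_lit 2, nat_lit 3, nat_lit 2, nat_lit 3]))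
 (TT.l (Ty.srel [nat_lit 0, nat_lit 1, nat_lit 0, nat_lit 1, nat_lit 0, nat_lit 1, nat_lit 0, nat_lit 1]))))
 (TT.n (TT.n (TT.l (Ty.rel5 (nat_lit 6) (nat_lit 5) (nat_lit 6) (nat_lit 5) (nat_lit 4)))
 (TT.l (Ty.srel [nat_lit 2, nat_lit 6, nat_lit 2, nat_lit 6])))
 (TT.l (Ty.srel [nat_lit 0, nat_lit 4, nat_lit 0, nat_lit 4]))))
 (TT.n (TT.n (TT.n (TT.l (Ty.srel [nat_lit 3, nat_lit 4, nat_lit 3, nat_lit 4, nat_lit 3, nat_lit 4]))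
 (TT.l (Ty.relL (nat_lit 0) [nat_lit 2, nat_lit 1, nat_lit 0, nat_lit 4, nat_lit 2, nat_lit 1, nat_lit 0, nat_lit 2, nat_lit 1])))
 (TT.n (TT.l (Ty.srel [nat_lit 0, nat_lit 3, nat_lit 0, nat_lit 3]))
 (TT.l (Ty.srel [nat_lit 2, nat_lit 1, nat_lit 2, nat_lit 1, nat_lit 2, nat_lit 1]))))
 (TT.n (TT.n (TT.l (Ty.relL (nat_lit 6) [nat_lit 3, nat_lit 6, nat_lit 3, nat_lit 6, nat_lit 3]))
 (TT.l (Ty.relL (nat_lit 0) [nat_lit 2, nat_lit 3, nat_lit 2, nat_lit 3, nat_lit 2, nat_lit 3, nat_lit 2, nat_lit 3, nat_lit 2, nat_lit 3])))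
 (TT.l (Ty.srel [nat_lit 0, nat_lit 5, nat_lit 0, nat_lit 5])))))
noncomputable def C : Cert where
  tabs := [tab0, tab1, tab2, tab3, tab4, tab5, tab6, tab7, tab8, tab9, tab10, tab11, tab12, tab13, tab14, tab15, tab16]
  tts := [ty0, ty1, ty2, ty3, ty4, ty5, ty6, ty7]
  k := nat_lit 6
  base := nat_lit 14
  mJ := nat_lit 64
  mR := nat_lit 63
  W := nat_lit 17
  mA := nat_lit 4095
  mI := nat_lit 127
  S := nat_lit 12
  mC := nat_lit 31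
  nc := nat_lit 7
  lo := nat_lit 64
  live := nat_lit 65
  hi1 := nat_lit 87
  AW := nat_lit 13
  mAW := nat_lit 8191
def il : List ℕ := [0, 1, 2, 3, 4, 5, 6]
def rels : List (List ℕ) := [[0, 1, 0, 1, 0, 1, 0, 1],
  [0, 2, 0, 2],
  [0, 3, 0, 3],
  [0, 4, 0, 4],
  [0, 5, 0, 5],
  [0, 6, 0, 6],
  [1, 2, 1, 2, 1, 2],
  [1, 3, 1, 3],
  [1, 4, 1, 4],
  [1, 5, 1, 5],
  [1, 6, 1, 6],
  [2, 3, 2, 3, 2, 3, 2, 3, 2, 3, 2, 3, 2, 3, 2, 3, 2, 3, 2, 3],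
  [2, 4, 2, 4],
  [2, 5, 2, 5],
  [2, 6, 2, 6],
  [3, 4, 3, 4, 3, 4],
  [3, 5, 3, 5, 3, 5],
  [3, 6, 3, 6, 3, 6],
  [4, 5, 4, 5],
  [4, 6, 4, 6],
  [5, 6, 5, 6, 5, 6, 5, 6],
  [4, 6, 5, 6, 5],
  [4, 2, 1, 0, 2, 1, 0, 2, 1, 0],
  [0, 3, 2, 3, 2, 3, 2, 3, 2, 3, 2],
  [2, 3, 5, 6, 2, 3, 5, 6, 2, 3, 5, 6, 2, 3, 5, 6],
  [3, 5, 6]]
def subs : List (List ℕ) := []
theorem valid : C.valid il rels subs = true := by decide +kernel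
theorem p0 : C.OkL 64 65 := C.okL_of 64 0 1 65 (by decide) (by decide +kernel)
theorem p1 : C.OkR 65 88 := C.okR_of 65 0 23 88 (by decide) (by decide +kernel)
theorem covers {G : Type*} [Group G] (ev : ℕ → G) (H : Subgroup G)
    (hinv : ∀ x < 7, ev (il.getD x 0) = (ev x)⁻¹) (hr : ∀ r ∈ rels, evw ev r = 1)
    (hs : ∀ s ∈ subs, evw ev s ∈ H) : Covers H (gensub ev 7) 1 :=
  C.sound il rels subs 7 1 valid (p0) (p1) (by decide) (by decide) ev H hinv hr hs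
end CfH6.HeK
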