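import Cfsg.Agent.OD.Pre
import Cfsg.Agent.H6.HeB
import Cfsg.Agent.H6.HeT5
set_option autoImplicit false
set_option maxRecDepth 100000
set_option linter.all false
namespace CfH6.HeO2
open CfH6
def s0 : List (List ℕ) := [[0], [1], [2], [3], [4], [5], [6]]
def t0 : List (List ℕ) := [[0], [2], [3], [4], [5], [0, 1, 0, 1], [1, 2, 3, 4, 1, 2, 3, 4, 1, 2, 3, 4, 1, 2, 3, 4, 1, 2, 3, 4, 1, 2, 3, 4, 1, 2, 3, 4]]
theorem cov0 : Covers (gensub (byW HeB.el t0) 7) (gensub (byW HeB.el s0) 7) 2058 :=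
  cov_step HeB.el HeB.hinv HeB.hrel s0 t0 7 4 (fun ev H => HeT5.covers ev H) (by decide +kernel)
theorem top0 : gensub (byW HeB.el s0) 7 = ⊤ := (gensub_id HeB.el (by decide)).trans HeB.htop
theorem covT0 : Covers (gensub (byW HeB.el t0) 7) ⊤ 2058 := cov0.top top0
end CfH6.HeO2
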