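import Cfsg.Agent.OD.Pre
import Cfsg.Agent.H6.TCTop
/-! coset enumeration certificate; generators a b c d e h ; index 1 -/
set_option autoImplicit false
set_option maxRecDepth 100000
set_option Elab.async false
set_option linter.all false
namespace CfH6.HiK
open CfH6
noncomputable def tab0 : Tr := (Tr.l (nat_lit 0x3fff10e50fffc7ffe3fff44e8885187ffe3fff1fff9094ce48a62442921107387ffe42c84aa10fffc41801141))
noncomputable def tab1 : Tr := (Tr.l (nat_lit 0x31ca45e997ffcf49c5fff18a317ffcc48a5fff122188950bffe5fff18a08873c459a95cd21e58c300438e1142))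
noncomputable def tab2 : Tr := (Tr.l (nat_lit 0x3b4f17ff8bffc5ffe41462d6a0bffc5ffe2fff20a1267185ffe52cd17ff8c7405ffe2fff20600c72c5ffe1143))
noncomputable def tab3 : Tr := (Tr.l (nat_lit 0x4fff3da993ffc628c4fff15671a93c9ffe3142296493ffc9ffe314127ff887449ffe30c04be10873043901144))
noncomputable def tab4 : Tr := (Tr.l (nat_lit 0x77cf33e7105187ffe3fff1fff8a14c82843fff29a425f18828223cb1fff8874881803fff1fff8873443921145))
noncomputable def tab5 : Tr := (Tr.l (nat_lit 0x58d431670fffc7ffe3fff2ca788d4c7ffe3fff1fff905047ffe3fff1fff903007ffe3fff1fff8fffc43941146))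
noncomputable def tab6 : Tr := (Tr.l (nat_lit 0x8c4a9ee01dd283ffe694a966307ffe2d8657432220c3505e990e6c06a61b35016a8836411420aa3013c800000))
noncomputable def tab7 : Tr := (Tr.l (nat_lit 0x104321043254315432100))
noncomputable def tab8 : Tr := (Tr.l (nat_lit 0x11c0))
noncomputable def tab9 : Tr := (Tr.l (nat_lit 0x1140))
noncomputable def tab10 : Tr := (Tr.l (nat_lit 0x1400))
noncomputable def tab11 : Tr := (Tr.l (nat_lit 0x1300))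
noncomputable def tab12 : Tr := (Tr.l (nat_lit 0x1480))
noncomputable def tab13 : Tr := (Tr.l (nat_lit 0))
noncomputable def tab14 : Tr := (Tr.l (nat_lit 0x4a02a05101a82cb0e2012e19e2c9021814e3))
noncomputable def ty0 : TT := (TT.n (TT.n (TT.n (TT.l (Ty.srel [nat_lit 0]))
 (TT.l (Ty.rel3 (nat_lit 1) (nat_lit 0) (nat_lit 1))))
 (TT.n (TT.l (Ty.skip))
 (TT.l (Ty.rel3 (nat_lit 4) (nat_lit 0) (nat_lit 4)))))
 (TT.n (TT.n (TT.l (Ty.dfn))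
 (TT.l (Ty.rel3 (nat_lit 3) (nat_lit 0) (nat_lit 3))))
 (TT.n (TT.l (Ty.rel1 (nat_lit 0)))
 (TT.l (Ty.srel [nat_lit 3, nat_lit 2, nat_lit 1, nat_lit 4])))))
noncomputable def ty1 : TT := (TT.n (TT.n (TT.n (TT.l (Ty.srel [nat_lit 1]))
 (TT.l (Ty.skip)))
 (TT.n (TT.l (Ty.dfn))
 (TT.l (Ty.rel3 (nat_lit 0) (nat_lit 1) (nat_lit 0)))))
 (TT.n (TT.n (TT.l (Ty.rel1 (nat_lit 1)))
 (TT.l (Ty.rel3 (nat_lit 4) (nat_lit 1) (nat_lit 4))))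
 (TT.n (TT.l (Ty.relL (nat_lit 4) [nat_lit 0, nat_lit 3, nat_lit 2]))
 (TT.l (Ty.relL (nat_lit 3) [nat_lit 4, nat_lit 3, nat_lit 1, nat_lit 3, nat_lit 1, nat_lit 4, nat_lit 3])))))
noncomputable def ty2 : TT := (TT.n (TT.n (TT.n (TT.l (Ty.srel [nat_lit 2]))
 (TT.l (Ty.relL (nat_lit 1) [nat_lit 4, nat_lit 0, nat_lit 3])))
 (TT.l (Ty.rel1 (nat_lit 2))))
 (TT.n (TT.l (Ty.skip))
 (TT.l (Ty.dfn))))
noncomputable def ty3 : TT := (TT.n (TT.n (TT.n (TT.l (Ty.srel [nat_lit 3]))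
 (TT.l (Ty.relL (nat_lit 0) [nat_lit 4, nat_lit 1, nat_lit 2])))
 (TT.n (TT.l (Ty.dfn))
 (TT.l (Ty.rel5 (nat_lit 5) (nat_lit 3) (nat_lit 5) (nat_lit 3) (nat_lit 5)))))
 (TT.n (TT.n (TT.l (Ty.rel1 (nat_lit 3)))
 (TT.l (Ty.rel3 (nat_lit 0) (nat_lit 3) (nat_lit 0))))
 (TT.l (Ty.skip))))
noncomputable def ty4 : TT := (TT.n (TT.n (TT.n (TT.l (Ty.srel [nat_lit 4]))
 (TT.l (Ty.rel3 (nat_lit 2) (nat_lit 4) (nat_lit 2))))
 (TT.n (TT.l (Ty.skip))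
 (TT.l (Ty.srel [nat_lit 1, nat_lit 4, nat_lit 1]))))
 (TT.n (TT.n (TT.l (Ty.rel1 (nat_lit 4)))
 (TT.l (Ty.srel [nat_lit 0, nat_lit 4, nat_lit 0])))
 (TT.l (Ty.dfn))))
noncomputable def ty5 : TT := (TT.n (TT.n (TT.n (TT.l (Ty.srel [nat_lit 5]))
 (TT.l (Ty.srel [nat_lit 1, nat_lit 5, nat_lit 1, nat_lit 5, nat_lit 1])))
 (TT.l (Ty.skip)))
 (TT.n (TT.n (TT.l (Ty.rel1 (nat_lit 5)))
 (TT.l (Ty.rel5 (nat_lit 0) (nat_lit 5) (nat_lit 0) (nat_lit 5) (nat_lit 0))))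
 (TT.l (Ty.dfn))))
noncomputable def ty6 : TT := (TT.n (TT.n (TT.n (TT.l (Ty.skip))
 (TT.l (Ty.srel [nat_lit 2, nat_lit 1, nat_lit 4, nat_lit 0, nat_lit 3])))
 (TT.n (TT.l (Ty.srel [nat_lit 3, nat_lit 2, nat_lit 1, nat_lit 3, nat_lit 2, nat_lit 1, nat_lit 3, nat_lit 2, nat_lit 1, nat_lit 3, nat_lit 2, nat_lit 1, nat_lit 3, nat_lit 2, nat_lit 1]))
 (TT.l (Ty.srel [nat_lit 5, nat_lit 4, nat_lit 5, nat_lit 4]))))
 (TT.n (TT.n (TT.l (Ty.srel [nat_lit 3, nat_lit 1, nat_lit 3, nat_lit 1, nat_lit 4, nat_lit 3, nat_lit 1, nat_lit 3, nat_lit 4]))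
 (TT.l (Ty.srel [nat_lit 5, nat_lit 0, nat_lit 1, nat_lit 2, nat_lit 0, nat_lit 1, nat_lit 5, nat_lit 2])))
 (TT.n (TT.l (Ty.relL (nat_lit 3) [nat_lit 4, nat_lit 3, nat_lit 4, nat_lit 3, nat_lit 4]))
 (TT.l (Ty.relL (nat_lit 0) [nat_lit 1, nat_lit 0, nat_lit 1])))))
noncomputable def C : Cert where
  tabs := [tab0, tab1, tab2, tab3, tab4, tab5, tab6, tab7, tab8, tab9, tab10, tab11, tab12, tab13, tab14]
  tts := [ty0, ty1, ty2, ty3, ty4, ty5, ty6]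
  k := nat_lit 6
  base := nat_lit 8
  mJ := nat_lit 64
  mR := nat_lit 63
  W := nat_lit 17
  mA := nat_lit 4095
  mI := nat_lit 127
  S := nat_lit 12
  mC := nat_lit 31
  nc := nat_lit 6
  lo := nat_lit 64
  live := nat_lit 65
  hi1 := nat_lit 84
  AW := nat_lit 13
  mAW := nat_lit 8191
def il : List ℕ := [0, 1, 2, 3, 4, 5]
def rels : List (List ℕ) := [[0, 1, 0, 1],
  [0, 2, 0, 2, 0, 2],
  [0, 3, 0, 3],
  [0, 4, 0, 4],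
  [0, 5, 0, 5, 0, 5],
  [1, 2, 1, 2, 1, 2],
  [1, 3, 1, 3, 1, 3, 1, 3],
  [1, 4, 1, 4],
  [1, 5, 1, 5, 1, 5],
  [2, 3, 2, 3, 2, 3],
  [2, 4, 2, 4],
  [2, 5, 2, 5, 2, 5, 2, 5],
  [3, 4, 3, 4, 3, 4],
  [3, 5, 3, 5, 3, 5],
  [4, 5, 4, 5],
  [1, 2, 3, 1, 2, 3, 1, 2, 3, 1, 2, 3, 1, 2, 3],
  [0, 1, 2, 3, 2, 0, 1, 2, 3, 2, 0, 1, 2, 3, 2, 1, 0, 2, 3, 2, 1, 0, 2, 3, 2],
  [0, 1, 2, 0, 1, 3, 1, 2, 0, 1, 3, 1, 2, 1, 3, 1, 0, 2, 1, 3, 1, 0, 2, 1, 3],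
  [1, 3, 1, 3, 4, 3, 1, 3, 4],
  [0, 1, 2, 0, 1, 5, 2, 5],
  [1, 2, 1, 3, 1, 2, 1, 5, 2, 3, 2, 1, 3, 1, 2, 3, 5],
  [1, 2, 3, 0, 4]]
def subs : List (List ℕ) := []
theorem valid : C.valid il rels subs = true := by decide +kernel
theorem p0 : C.OkL 64 65 := C.okL_of 64 0 1 65 (by decide) (by decide +kernel)
theorem p1 : C.OkR 65 85 := C.okR_of 65 0 20 85 (by decide) (by decide +kernel)
theorem covers {G : Type*} [Group G] (ev : ℕ → G) (H : Subgroup G)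
    (hinv : ∀ x < 6, ev (il.getD x 0) = (ev x)⁻¹) (hr : ∀ r ∈ rels, evw ev r = 1)
    (hs : ∀ s ∈ subs, evw ev s ∈ H) : Covers H (gensub ev 6) 1 :=
  C.sound il rels subs 6 1 valid (p0) (p1) (by decide) (by decide) ev H hinv hr hs
end CfH6.HiK
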