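import Cfsg.Agent.OD.Pre
import Cfsg.Agent.H6.J1B
import Cfsg.Agent.H6.J1A.P0
set_option autoImplicit false
set_option maxRecDepth 100000
set_option Elab.async false
set_option linter.all false
namespace CfH6.J1A
open CfH6 MulAction
theorem eq0 : ∀ e ∈ eqs0, evw (lp nets0) e.1 = evw (lp nets0) e.2 :=
  EqsOk.sound (e0_0) ok0 (by decide)
theorem eqAll : ∀ e ∈ eqs, evw (lp nets0) e.1 = evw (lp nets0) e.2 := eq0
theorem hsd : (∀ x < 7, lp nets0 (J1B.il.getD x 0) = (lp nets0 x)⁻¹) ∧ ∀ r ∈ eqRels J1B.il sig eqs, evw (lp nets0) r = 1 :=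
  eqRels_sound (lp nets0) (k := 7) (by decide +kernel) eqAll
theorem exRho : ∃ ρ : J1B.G →* Equiv.Perm ℕ, ∀ x < 7, ρ (J1B.el x) = lp nets0 x :=
  J1B.hhom _ hsd.1 (follows_sound (n := 4) _ hsd.1 hsd.2 (by decide +kernel))
noncomputable def rho : J1B.G →* Equiv.Perm ℕ := Classical.choose exRho
@[reducible] noncomputable def act : MulAction J1B.G ℕ := MulAction.compHom ℕ rho
attribute [local instance] act
theorem L0 : Lvl 1280 nets0 7 J1B.el := lvl0 rho ok0 (Classical.choose_spec exRho)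
noncomputable abbrev el1 : ℕ → J1B.G := byW J1B.el ws1
theorem L1 : Lvl 1280 nets1 4 el1 := L0.next sx1 (x1_0)
noncomputable abbrev H : Subgroup J1B.G := gensub el1 4
theorem fix0 : H ≤ stabilizer J1B.G 0 := L1.fix' 0 (by decide +kernel)
theorem cU : (bitSet U).ncard = 1045 := ncard_ivls lU _ (by decide +kernel)
theorem oi1 : OrbIn (gensub el1 4) 1 1280 S1 :=
  (L1.orbStep (OrbIn.one _ (by decide)) 12 S1 oi1_0)
theorem o1 : orbit H 1 = bitSet S1 := L1.orbEq oi1 ci1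
theorem c1 : (bitSet S1).ncard = 28 := ncard_ivls l1 _ (by decide +kernel)
theorem oi2 : OrbIn (gensub el1 4) 30 1280 S2 :=
  (L1.orbStep (OrbIn.one _ (by decide)) 16 S2 oi2_0)
theorem o2 : orbit H 30 = bitSet S2 := L1.orbEq oi2 ci2
theorem c2 : (bitSet S2).ncard = 168 := ncard_ivls l2 _ (by decide +kernel)
theorem oi3 : OrbIn (gensub el1 4) 197 1280 S3 :=
  (L1.orbStep (OrbIn.one _ (by decide)) 16 S3 oi3_0)
theorem o3 : orbit H 197 = bitSet S3 := L1.orbEq oi3 ci3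
theorem c3 : (bitSet S3).ncard = 168 := ncard_ivls l3 _ (by decide +kernel)
theorem oi4 : OrbIn (gensub el1 4) 366 1280 S4 :=
  (L1.orbStep (OrbIn.one _ (by decide)) 12 S4 oi4_0)
theorem o4 : orbit H 366 = bitSet S4 := L1.orbEq oi4 ci4
theorem c4 : (bitSet S4).ncard = 56 := ncard_ivls l4 _ (by decide +kernel)
theorem oi5 : OrbIn (gensub el1 4) 421 1280 S5 :=
  (L1.orbStep (OrbIn.one _ (by decide)) 12 S5 oi5_0)
theorem o5 : orbit H 421 = bitSet S5 := L1.orbEq oi5 ci5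
theorem c5 : (bitSet S5).ncard = 56 := ncard_ivls l5 _ (by decide +kernel)
theorem oi6 : OrbIn (gensub el1 4) 477 1280 S6 :=
  (L1.orbStep (OrbIn.one _ (by decide)) 16 S6 oi6_0)
theorem o6 : orbit H 477 = bitSet S6 := L1.orbEq oi6 ci6
theorem c6 : (bitSet S6).ncard = 168 := ncard_ivls l6 _ (by decide +kernel)
theorem oi7 : OrbIn (gensub el1 4) 647 1280 S7 :=
  (L1.orbStep (OrbIn.one _ (by decide)) 16 S7 oi7_0)
theorem o7 : orbit H 647 = bitSet S7 := L1.orbEq oi7 ci7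
theorem c7 : (bitSet S7).ncard = 168 := ncard_ivls l7 _ (by decide +kernel)
theorem oi8 : OrbIn (gensub el1 4) 813 1280 S8 :=
  (L1.orbStep (OrbIn.one _ (by decide)) 16 S8 oi8_0)
theorem o8 : orbit H 813 = bitSet S8 := L1.orbEq oi8 ci8
theorem c8 : (bitSet S8).ncard = 168 := ncard_ivls l8 _ (by decide +kernel)
theorem oi9 : OrbIn (gensub el1 4) 981 1280 S9 :=
  (L1.orbStep (OrbIn.one _ (by decide)) 12 S9 oi9_0)
theorem o9 : orbit H 981 = bitSet S9 := L1.orbEq oi9 ci9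
theorem c9 : (bitSet S9).ncard = 56 := ncard_ivls l9 _ (by decide +kernel)
theorem oi10 : OrbIn (gensub el1 4) 1037 1280 S10 :=
  (L1.orbStep (OrbIn.one _ (by decide)) 4 S10 oi10_0)
theorem o10 : orbit H 1037 = bitSet S10 := L1.orbEq oi10 ci10
theorem c10 : (bitSet S10).ncard = 8 := ncard_ivls l10 _ (by decide +kernel)
theorem hJ : ∀ j ∈ J, orbit H j.2.1 = bitSet j.2.2 := (forall_cons o1 (forall_cons o2 (forall_cons o3 (forall_cons o4 (forall_cons o5 (forall_cons o6 (forall_cons o7 (forall_cons o8 (forall_cons o9 (forall_cons o10 forall_nil))))))))))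
theorem subU : bitSet U ⊆ orbit (⊤ : Subgroup J1B.G) 0 := L0.sub_top J hJ U (by decide +kernel)
theorem q1 (hH : H = stabilizer J1B.G 0) : (orbit H ((evw J1B.el w1 : J1B.G) : J1B.G ⧸ H)).ncard = 28 :=
  L0.quot hH w1 o1 c1 (by decide +kernel)
theorem q2 (hH : H = stabilizer J1B.G 0) : (orbit H ((evw J1B.el w2 : J1B.G) : J1B.G ⧸ H)).ncard = 168 :=
  L0.quot hH w2 o2 c2 (by decide +kernel)
theorem q3 (hH : H = stabilizer J1B.G 0) : (orbit H ((evw J1B.el w3 : J1B.G) : J1B.G ⧸ H)).ncard = 168 :=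
  L0.quot hH w3 o3 c3 (by decide +kernel)
theorem q4 (hH : H = stabilizer J1B.G 0) : (orbit H ((evw J1B.el w4 : J1B.G) : J1B.G ⧸ H)).ncard = 56 :=
  L0.quot hH w4 o4 c4 (by decide +kernel)
theorem q5 (hH : H = stabilizer J1B.G 0) : (orbit H ((evw J1B.el w5 : J1B.G) : J1B.G ⧸ H)).ncard = 56 :=
  L0.quot hH w5 o5 c5 (by decide +kernel)
theorem q6 (hH : H = stabilizer J1B.G 0) : (orbit H ((evw J1B.el w6 : J1B.G) : J1B.G ⧸ H)).ncard = 168 :=
  L0.quot hH w6 o6 c6 (by decide +kernel)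
theorem q7 (hH : H = stabilizer J1B.G 0) : (orbit H ((evw J1B.el w7 : J1B.G) : J1B.G ⧸ H)).ncard = 168 :=
  L0.quot hH w7 o7 c7 (by decide +kernel)
theorem q8 (hH : H = stabilizer J1B.G 0) : (orbit H ((evw J1B.el w8 : J1B.G) : J1B.G ⧸ H)).ncard = 168 :=
  L0.quot hH w8 o8 c8 (by decide +kernel)
theorem q9 (hH : H = stabilizer J1B.G 0) : (orbit H ((evw J1B.el w9 : J1B.G) : J1B.G ⧸ H)).ncard = 56 :=
  L0.quot hH w9 o9 c9 (by decide +kernel)
theorem q10 (hH : H = stabilizer J1B.G 0) : (orbit H ((evw J1B.el w10 : J1B.G) : J1B.G ⧸ H)).ncard = 8 :=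
  L0.quot hH w10 o10 c10 (by decide +kernel)
theorem ne2_3 (hH : H = stabilizer J1B.G 0) : orbit H ((evw J1B.el w2 : J1B.G) : J1B.G ⧸ H) ≠ orbit H ((evw J1B.el w3 : J1B.G) : J1B.G ⧸ H) :=
  L0.quot_ne hH w2 w3 o2 o3 (by decide +kernel)
theorem ne2_6 (hH : H = stabilizer J1B.G 0) : orbit H ((evw J1B.el w2 : J1B.G) : J1B.G ⧸ H) ≠ orbit H ((evw J1B.el w6 : J1B.G) : J1B.G ⧸ H) :=
  L0.quot_ne hH w2 w6 o2 o6 (by decide +kernel)
theorem ne2_7 (hH : H = stabilizer J1B.G 0) : orbit H ((evw J1B.el w2 : J1B.G) : J1B.G ⧸ H) ≠ orbit H ((evw J1B.el w7 : J1B.G) : J1B.G ⧸ H) :=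
  L0.quot_ne hH w2 w7 o2 o7 (by decide +kernel)
theorem ne2_8 (hH : H = stabilizer J1B.G 0) : orbit H ((evw J1B.el w2 : J1B.G) : J1B.G ⧸ H) ≠ orbit H ((evw J1B.el w8 : J1B.G) : J1B.G ⧸ H) :=
  L0.quot_ne hH w2 w8 o2 o8 (by decide +kernel)
theorem ne3_6 (hH : H = stabilizer J1B.G 0) : orbit H ((evw J1B.el w3 : J1B.G) : J1B.G ⧸ H) ≠ orbit H ((evw J1B.el w6 : J1B.G) : J1B.G ⧸ H) :=
  L0.quot_ne hH w3 w6 o3 o6 (by decide +kernel)
theorem ne3_7 (hH : H = stabilizer J1B.G 0) : orbit H ((evw J1B.el w3 : J1B.G) : J1B.G ⧸ H) ≠ orbit H ((evw J1B.el w7 : J1B.G) : J1B.G ⧸ H) :=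
  L0.quot_ne hH w3 w7 o3 o7 (by decide +kernel)
theorem ne3_8 (hH : H = stabilizer J1B.G 0) : orbit H ((evw J1B.el w3 : J1B.G) : J1B.G ⧸ H) ≠ orbit H ((evw J1B.el w8 : J1B.G) : J1B.G ⧸ H) :=
  L0.quot_ne hH w3 w8 o3 o8 (by decide +kernel)
theorem ne4_5 (hH : H = stabilizer J1B.G 0) : orbit H ((evw J1B.el w4 : J1B.G) : J1B.G ⧸ H) ≠ orbit H ((evw J1B.el w5 : J1B.G) : J1B.G ⧸ H) :=
  L0.quot_ne hH w4 w5 o4 o5 (by decide +kernel)
theorem ne4_9 (hH : H = stabilizer J1B.G 0) : orbit H ((evw J1B.el w4 : J1B.G) : J1B.G ⧸ H) ≠ orbit H ((evw J1B.el w9 : J1B.G) : J1B.G ⧸ H) :=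
  L0.quot_ne hH w4 w9 o4 o9 (by decide +kernel)
theorem ne5_9 (hH : H = stabilizer J1B.G 0) : orbit H ((evw J1B.el w5 : J1B.G) : J1B.G ⧸ H) ≠ orbit H ((evw J1B.el w9 : J1B.G) : J1B.G ⧸ H) :=
  L0.quot_ne hH w5 w9 o5 o9 (by decide +kernel)
theorem ne6_7 (hH : H = stabilizer J1B.G 0) : orbit H ((evw J1B.el w6 : J1B.G) : J1B.G ⧸ H) ≠ orbit H ((evw J1B.el w7 : J1B.G) : J1B.G ⧸ H) :=
  L0.quot_ne hH w6 w7 o6 o7 (by decide +kernel)
theorem ne6_8 (hH : H = stabilizer J1B.G 0) : orbit H ((evw J1B.el w6 : J1B.G) : J1B.G ⧸ H) ≠ orbit H ((evw J1B.el w8 : J1B.G) : J1B.G ⧸ H) :=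
  L0.quot_ne hH w6 w8 o6 o8 (by decide +kernel)
theorem ne7_8 (hH : H = stabilizer J1B.G 0) : orbit H ((evw J1B.el w7 : J1B.G) : J1B.G ⧸ H) ≠ orbit H ((evw J1B.el w8 : J1B.G) : J1B.G ⧸ H) :=
  L0.quot_ne hH w7 w8 o7 o8 (by decide +kernel)
theorem orbTop : OrbGe (⊤ : Subgroup J1B.G) 0 1045 := orbGe_of_sub subU cU
theorem stab (hc : Covers H ⊤ 1045) : H = stabilizer J1B.G 0 ∧ H.index = 1045 := stab_eq hc fix0 orbTop
theorem mx10 (hH : H = stabilizer J1B.G 0) (hN : H.index = 1045) : Mx H S10 :=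
  L0.mx hH hN w10 o10 J10 (forall_cons o2 (forall_cons o3 (forall_cons o6 (forall_cons o7 forall_nil)))) lBig cm10
theorem mx9 (hH : H = stabilizer J1B.G 0) (hN : H.index = 1045) : Mx H S9 :=
  L0.mx hH hN w9 o9 J9 (forall_cons o2 (forall_cons o3 (forall_cons o6 (forall_cons o7 forall_nil)))) lBig cm9
theorem mx8 (hH : H = stabilizer J1B.G 0) (hN : H.index = 1045) : Mx H S8 :=
  L0.mx hH hN w8 o8 J8 (forall_cons o2 (forall_cons o3 (forall_cons o6 (forall_cons o7 forall_nil)))) lBig cm8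
theorem mx7 (hH : H = stabilizer J1B.G 0) (hN : H.index = 1045) : Mx H S7 :=
  L0.mx hH hN w7 o7 J7 (forall_cons o2 (forall_cons o3 (forall_cons o6 (forall_cons o7 forall_nil)))) lBig cm7
theorem mx6 (hH : H = stabilizer J1B.G 0) (hN : H.index = 1045) : Mx H S6 :=
  L0.mx hH hN w6 o6 J6 (forall_cons o2 (forall_cons o3 (forall_cons o6 (forall_cons o7 forall_nil)))) lBig cm6
theorem mx5 (hH : H = stabilizer J1B.G 0) (hN : H.index = 1045) : Mx H S5 :=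
  L0.mx hH hN w5 o5 J5 (forall_cons o2 (forall_cons o3 (forall_cons o6 (forall_cons o7 forall_nil)))) lBig cm5
theorem mx4 (hH : H = stabilizer J1B.G 0) (hN : H.index = 1045) : Mx H S4 :=
  L0.mx hH hN w4 o4 J4 (forall_cons o2 (forall_cons o3 (forall_cons o6 (forall_cons o7 forall_nil)))) lBig cm4
theorem mx3 (hH : H = stabilizer J1B.G 0) (hN : H.index = 1045) : Mx H S3 :=
  L0.mx hH hN w3 o3 J3 (forall_cons o2 (forall_cons o3 (forall_cons o6 (forall_cons o7 forall_nil)))) lBig cm3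
theorem mx2 (hH : H = stabilizer J1B.G 0) (hN : H.index = 1045) : Mx H S2 :=
  L0.mx hH hN w2 o2 J2 (forall_cons o2 (forall_cons o3 (forall_cons o6 (forall_cons o7 forall_nil)))) lBig cm2
theorem mx1 (hH : H = stabilizer J1B.G 0) (hN : H.index = 1045) : Mx H S1 :=
  L0.mx hH hN w1 o1 J1 (forall_cons o2 (forall_cons o3 (forall_cons o6 (forall_cons o7 forall_nil)))) lBig cm1
theorem hmax (hH : H = stabilizer J1B.G 0) (hN : H.index = 1045) : ∀ L : Subgroup J1B.G, H ≤ L → L = H ∨ L = ⊤ :=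
  coatom_of hH (Mx.lorJ J (forall_cons (mx1 hH hN) (forall_cons (mx2 hH hN) (forall_cons (mx3 hH hN) (forall_cons (mx4 hH hN) (forall_cons (mx5 hH hN) (forall_cons (mx6 hH hN) (forall_cons (mx7 hH hN) (forall_cons (mx8 hH hN) (forall_cons (mx9 hH hN) (forall_cons (mx10 hH hN) forall_nil))))))))))) (orbit_sub_of_card hH hN (by decide) subU cU) (by decide +kernel)
theorem low1 : Low (gensub el1 4) [30] 168 :=
  (Low.cons bot_le bot_le (orbGe_of_eq o2 c2) (Low.nil ⊥)).cast (by decide)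
theorem low0 : Low (gensub J1B.el 7) [0, 30] 175560 :=
  (Low.step' L1 (J1B.htop ▸ orbTop) (by decide +kernel) low1).cast (by decide)
def bs : List ℕ := [0, 30]
theorem hbs : ∀ b ∈ bs, b ∈ orbit J1B.G 0 := base_mem subU bs (by decide +kernel)
theorem top (hf : Finite J1B.G ∧ Nat.card J1B.G ≤ 175560) : Nat.card J1B.G = 175560 ∧ ∀ g : J1B.G, (∀ b ∈ bs, g • b = b) → g = 1 := low0.top hf
theorem hex (hb : ∀ g : J1B.G, (∀ b ∈ bs, g • b = b) → g = 1) : ∀ w ∈ ex, evw J1B.el (wpow w (19 ^ 1)) = 1 := (forall_cons (L0.word_one hb _ pw0) forall_nil)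
end CfH6.J1A
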