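import Cfsg.Agent.OD.Pre
import Cfsg.Agent.H6.TCTop
/-! coset enumeration certificate; generators t u s y g ; index 1 -/
set_option autoImplicit false
set_option maxRecDepth 100000
set_option Elab.async false
set_option linter.all false
namespace CfH6.J1K
open CfH6
noncomputable def tab0 : Tr := (Tr.l (nat_lit 0x9ffe724627ff93ffc9ffe4fff3b2893ffcc486524227ff8cb409ffe4fff19648cb2041801141))
noncomputable def tab1 : Tr := (Tr.l (nat_lit 0xeda24fff27ff93ffc9ffe624727ff93ffc4b8831411166211309ffe554927ff8c30043901142))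
noncomputable def tab2 : Tr := (Tr.l (nat_lit 0xe5944fff336794930628422ce27ff93ffc62824fff27ff93ffd138a4fff18600873443921143))
noncomputable def tab3 : Tr := (Tr.l (nat_lit 0x47923fff20a108b3d0c9e52cd1fff8fffc7ffe3fff1fff8fffc818022451fff8873843941144))
noncomputable def tab4 : Tr := (Tr.l (nat_lit 0x5ffe2fff29271050866982fff17ff90504c6a22fff17ff8bffca38840c017ff8c73c5ffe1145))
noncomputable def tab5 : Tr := (Tr.l (nat_lit 0x82843fff1fff8fffc7ffe41411fff8fffc4c94265120600fffc7ffe3fff44a18874043961146))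
noncomputable def tab6 : Tr := (Tr.l (nat_lit 0xcb9041421fff8fffc7ffe3fff20a0957247ffe3fff1fff903007ffe3fff1fff8874443981147))
noncomputable def tab7 : Tr := (Tr.l (nat_lit 0x25081154184a2bd7343ffee5420fffb61119086574221e30d3005486b8c35560263010f800000))
noncomputable def tab8 : Tr := (Tr.l (nat_lit 0x563425642156342100))
noncomputable def tab9 : Tr := (Tr.l (nat_lit 0))
noncomputable def tab10 : Tr := (Tr.l (nat_lit 0x11c0))
noncomputable def tab11 : Tr := (Tr.l (nat_lit 0x13c0))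
noncomputable def tab12 : Tr := (Tr.l (nat_lit 0x1380))
noncomputable def tab13 : Tr := (Tr.l (nat_lit 0))
noncomputable def tab14 : Tr := (Tr.l (nat_lit 0x1240))
noncomputable def tab15 : Tr := (Tr.l (nat_lit 0))
noncomputable def tab16 : Tr := (Tr.l (nat_lit 0x48163010849814606087042a21450a08d201))
noncomputable def ty0 : TT := (TT.n (TT.n (TT.n (TT.l (Ty.srel [nat_lit 0]))
 (TT.l (Ty.rel3 (nat_lit 1) (nat_lit 0) (nat_lit 1))))
 (TT.n (TT.l (Ty.rel1 (nat_lit 0)))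
 (TT.l (Ty.rel3 (nat_lit 6) (nat_lit 1) (nat_lit 5)))))
 (TT.n (TT.n (TT.l (Ty.dfn))
 (TT.l (Ty.rel3 (nat_lit 2) (nat_lit 0) (nat_lit 2))))
 (TT.l (Ty.skip))))
noncomputable def ty1 : TT := (TT.n (TT.n (TT.n (TT.l (Ty.srel [nat_lit 1]))
 (TT.l (Ty.srel [nat_lit 4, nat_lit 5, nat_lit 1, nat_lit 6, nat_lit 3])))
 (TT.n (TT.l (Ty.dfn))
 (TT.l (Ty.relL (nat_lit 3) [nat_lit 2, nat_lit 5, nat_lit 0]))))
 (TT.n (TT.n (TT.l (Ty.rel1 (nat_lit 1)))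
 (TT.l (Ty.rel3 (nat_lit 5) (nat_lit 0) (nat_lit 6))))
 (TT.l (Ty.skip))))
noncomputable def ty2 : TT := (TT.n (TT.n (TT.n (TT.l (Ty.srel [nat_lit 2]))
 (TT.l (Ty.relL (nat_lit 5) [nat_lit 0, nat_lit 1, nat_lit 3])))
 (TT.n (TT.l (Ty.dfn))
 (TT.l (Ty.relL (nat_lit 4) [nat_lit 1, nat_lit 0, nat_lit 6]))))
 (TT.n (TT.n (TT.l (Ty.rel1 (nat_lit 2)))
 (TT.l (Ty.rel3 (nat_lit 3) (nat_lit 2) (nat_lit 3))))
 (TT.l (Ty.skip))))
noncomputable def ty3 : TT := (TT.n (TT.n (TT.n (TT.l (Ty.srel [nat_lit 4]))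
 (TT.l (Ty.rel3 (nat_lit 2) (nat_lit 3) (nat_lit 2))))
 (TT.l (Ty.skip)))
 (TT.n (TT.l (Ty.rel1 (nat_lit 4)))
 (TT.l (Ty.dfn))))
noncomputable def ty4 : TT := (TT.n (TT.n (TT.n (TT.l (Ty.srel [nat_lit 3]))
 (TT.l (Ty.relL (nat_lit 4) [nat_lit 4])))
 (TT.l (Ty.rel1 (nat_lit 3))))
 (TT.n (TT.n (TT.l (Ty.skip))
 (TT.l (Ty.rel3 (nat_lit 2) (nat_lit 4) (nat_lit 2))))
 (TT.l (Ty.dfn))))
noncomputable def ty5 : TT := (TT.n (TT.n (TT.l (Ty.srel [nat_lit 6]))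
 (TT.l (Ty.skip)))
 (TT.n (TT.l (Ty.rel1 (nat_lit 6)))
 (TT.l (Ty.dfn))))
noncomputable def ty6 : TT := (TT.n (TT.n (TT.n (TT.l (Ty.srel [nat_lit 5]))
 (TT.l (Ty.srel [nat_lit 4, nat_lit 5, nat_lit 5, nat_lit 3])))
 (TT.l (Ty.skip)))
 (TT.n (TT.n (TT.l (Ty.rel1 (nat_lit 5)))
 (TT.l (Ty.srel [nat_lit 0, nat_lit 1, nat_lit 5, nat_lit 3, nat_lit 1, nat_lit 4])))
 (TT.l (Ty.dfn))))
noncomputable def ty7 : TT := (TT.n (TT.n (TT.n (TT.l (Ty.skip))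
 (TT.l (Ty.relL (nat_lit 6) [nat_lit 1, nat_lit 5, nat_lit 0])))
 (TT.l (Ty.srel [nat_lit 6, nat_lit 6, nat_lit 6, nat_lit 6, nat_lit 6, nat_lit 6, nat_lit 6])))
 (TT.n (TT.l (Ty.rel5 (nat_lit 5) (nat_lit 0) (nat_lit 1) (nat_lit 3) (nat_lit 2)))
 (TT.l (Ty.rel5 (nat_lit 0) (nat_lit 6) (nat_lit 2) (nat_lit 4) (nat_lit 1)))))
noncomputable def C : Cert where
  tabs := [tab0, tab1, tab2, tab3, tab4, tab5, tab6, tab7, tab8, tab9, tab10, tab11, tab12, tab13, tab14, tab15, tab16]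
  tts := [ty0, ty1, ty2, ty3, ty4, ty5, ty6, ty7]
  k := nat_lit 6
  base := nat_lit 7
  mJ := nat_lit 64
  mR := nat_lit 63
  W := nat_lit 17
  mA := nat_lit 4095
  mI := nat_lit 127
  S := nat_lit 12
  mC := nat_lit 31
  nc := nat_lit 7
  lo := nat_lit 64
  live := nat_lit 65
  hi1 := nat_lit 81
  AW := nat_lit 13
  mAW := nat_lit 8191
def il : List ℕ := [0, 1, 2, 4, 3, 6, 5]
def rels : List (List ℕ) := [[3, 3, 3],
  [1, 3, 1, 3, 1, 3],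
  [2, 3, 2, 3],
  [2, 1, 2, 1, 2, 1],
  [0, 1, 0, 1],
  [0, 4, 0, 3],
  [0, 2, 0, 2],
  [5, 5, 5, 5, 5, 5, 5],
  [5, 0, 6, 1],
  [5, 1, 6, 3, 1, 4],
  [5, 3, 1, 4, 6, 0, 1],
  [3, 5, 4, 6, 6],
  [1, 2, 5, 3, 1, 2, 6, 2, 1, 5, 2, 1, 4, 6],
  [4, 1, 0, 6, 2]]
def subs : List (List ℕ) := []
theorem valid : C.valid il rels subs = true := by decide +kernel
theorem p0 : C.OkL 64 65 := C.okL_of 64 0 1 65 (by decide) (by decide +kernel)
theorem p1 : C.OkR 65 82 := C.okR_of 65 0 17 82 (by decide) (by decide +kernel)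
theorem covers {G : Type*} [Group G] (ev : ℕ → G) (H : Subgroup G)
    (hinv : ∀ x < 7, ev (il.getD x 0) = (ev x)⁻¹) (hr : ∀ r ∈ rels, evw ev r = 1)
    (hs : ∀ s ∈ subs, evw ev s ∈ H) : Covers H (gensub ev 7) 1 :=
  C.sound il rels subs 7 1 valid (p0) (p1) (by decide) (by decide) ev H hinv hr hs
end CfH6.J1K
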