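import Cfsg.Agent.OD.Pre
import Cfsg.Agent.H6.TCTop
/-! coset enumeration certificate; generators z x s t y d ; index 1 -/
set_option autoImplicit false
set_option maxRecDepth 100000
set_option Elab.async false
set_option linter.all false
namespace CfH6.J2K
open CfH6
noncomputable def tab0 : Tr := (Tr.l (nat_lit 0x4fff27ff93ffc9ffe4fff4c2b8850c9ffe4fff466788508e49062462922aa70c9ffe32cd27ff93ffc65964fff18e90c73841801141))
noncomputable def tab1 : Tr := (Tr.l (nat_lit 0x4fff27ff93ffce48c6245296793ffc9ffe4fff292213ffc9ffe4fff27ff8c5049ffe4fff27ff93ffc45a022d318600890c43921142))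
noncomputable def tab2 : Tr := (Tr.l (nat_lit 0x5fff2fff97ffcbffe5fff392217ffcbffe624511a997ffcbffe5fff2fff9092462825fff2fff88b5445a822cf20e10c30043941143))
noncomputable def tab3 : Tr := (Tr.l (nat_lit 0x524517ff8bffc5ffe2fff20a18bffc5ffe2fff20a10bffd498a2fff17ff8bffc5ffe2fff17ff8bffc65b040c018e98c73c5ffe1144))
noncomputable def tab4 : Tr := (Tr.l (nat_lit 0x314427ff93ffc9ffe31433d2993ffc9ffe3142356793ffc9ffe4fff18a0969289ffe4fff27ff93ffc618021d810ea0874043961145))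
noncomputable def tab5 : Tr := (Tr.l (nat_lit 0x3fff1fff9450c45ac3fff43e98fffc7ffe3fff3be78fffcc6b03fff1fff8fffc7ffe3fff28600891c8a8a3fff10ea8fffc43981146))
noncomputable def tab6 : Tr := (Tr.l (nat_lit 0x33cd17ff9495482862fff17ff8bffc5ffe2fff17ff8bffcc6b0414117ff8bffc5ffe2fff28e3103006b8aa74418eb0bffc5ffe1147))
noncomputable def tab7 : Tr := (Tr.l (nat_lit 0x82cc20a18fffc7ffe3fff3c250fffc82843fff14248fffc82823fff32e20a34caf9e40c01fff8fffc7ffe264b10eb88744439a1148))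
noncomputable def tab8 : Tr := (Tr.l (nat_lit 0x744d3569e990f2b8786c3bee01652ad89f56c216a11290a8d8934c19360c6d0e1784fc4472e0355006c80cdc317202fb0157800000))
noncomputable def tab9 : Tr := (Tr.l (nat_lit 0x4756430743076412756431200))
noncomputable def tab10 : Tr := (Tr.l (nat_lit 0x1480))
noncomputable def tab11 : Tr := (Tr.l (nat_lit 0))
noncomputable def tab12 : Tr := (Tr.l (nat_lit 0))
noncomputable def tab13 : Tr := (Tr.l (nat_lit 0x1600))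
noncomputable def tab14 : Tr := (Tr.l (nat_lit 0))
noncomputable def tab15 : Tr := (Tr.l (nat_lit 0))
noncomputable def tab16 : Tr := (Tr.l (nat_lit 0x1340))
noncomputable def tab17 : Tr := (Tr.l (nat_lit 0))
noncomputable def tab18 : Tr := (Tr.l (nat_lit 0x15458c1450a7852678a0c50ec0f140af3ca0a0cf1859804f061c3281))
noncomputable def ty0 : TT := (TT.n (TT.n (TT.n (TT.n (TT.l (Ty.srel [nat_lit 0]))
 (TT.l (Ty.srel [nat_lit 7, nat_lit 4, nat_lit 3, nat_lit 5])))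
 (TT.l (Ty.rel3 (nat_lit 4) (nat_lit 0) (nat_lit 4))))
 (TT.n (TT.l (Ty.rel1 (nat_lit 0)))
 (TT.l (Ty.rel3 (nat_lit 7) (nat_lit 0) (nat_lit 7)))))
 (TT.n (TT.n (TT.l (Ty.dfn))
 (TT.l (Ty.rel3 (nat_lit 6) (nat_lit 0) (nat_lit 5))))
 (TT.n (TT.l (Ty.skip))
 (TT.l (Ty.srel [nat_lit 4, nat_lit 7, nat_lit 4, nat_lit 7, nat_lit 4, nat_lit 7, nat_lit 4, nat_lit 7])))))
noncomputable def ty1 : TT := (TT.n (TT.n (TT.n (TT.l (Ty.srel [nat_lit 2]))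
 (TT.l (Ty.rel3 (nat_lit 3) (nat_lit 1) (nat_lit 3))))
 (TT.n (TT.l (Ty.dfn))
 (TT.l (Ty.rel3 (nat_lit 6) (nat_lit 2) (nat_lit 5)))))
 (TT.n (TT.n (TT.l (Ty.rel1 (nat_lit 2)))
 (TT.l (Ty.rel3 (nat_lit 4) (nat_lit 2) (nat_lit 4))))
 (TT.l (Ty.skip))))
noncomputable def ty2 : TT := (TT.n (TT.n (TT.n (TT.l (Ty.srel [nat_lit 1]))
 (TT.l (Ty.skip)))
 (TT.n (TT.l (Ty.dfn))
 (TT.l (Ty.rel3 (nat_lit 3) (nat_lit 2) (nat_lit 3)))))
 (TT.n (TT.n (TT.l (Ty.rel1 (nat_lit 1)))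
 (TT.l (Ty.rel3 (nat_lit 4) (nat_lit 1) (nat_lit 4))))
 (TT.l (Ty.relL (nat_lit 2) [nat_lit 2]))))
noncomputable def ty3 : TT := (TT.n (TT.n (TT.n (TT.l (Ty.srel [nat_lit 3]))
 (TT.l (Ty.rel3 (nat_lit 4) (nat_lit 3) (nat_lit 4))))
 (TT.l (Ty.rel1 (nat_lit 3))))
 (TT.n (TT.l (Ty.skip))
 (TT.l (Ty.dfn))))
noncomputable def ty4 : TT := (TT.n (TT.n (TT.n (TT.l (Ty.srel [nat_lit 4]))
 (TT.l (Ty.srel [nat_lit 0, nat_lit 4, nat_lit 0])))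
 (TT.n (TT.l (Ty.dfn))
 (TT.l (Ty.srel [nat_lit 7, nat_lit 0, nat_lit 6, nat_lit 3]))))
 (TT.n (TT.n (TT.l (Ty.rel1 (nat_lit 4)))
 (TT.l (Ty.rel3 (nat_lit 2) (nat_lit 4) (nat_lit 1))))
 (TT.l (Ty.skip))))
noncomputable def ty5 : TT := (TT.n (TT.n (TT.n (TT.l (Ty.srel [nat_lit 6]))
 (TT.l (Ty.dfn)))
 (TT.n (TT.l (Ty.skip))
 (TT.l (Ty.rel3 (nat_lit 1) (nat_lit 6) (nat_lit 2)))))
 (TT.n (TT.n (TT.l (Ty.rel1 (nat_lit 6)))
 (TT.l (Ty.rel3 (nat_lit 7) (nat_lit 6) (nat_lit 7))))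
 (TT.n (TT.l (Ty.rel3 (nat_lit 3) (nat_lit 6) (nat_lit 3)))
 (TT.l (Ty.rel3 (nat_lit 2) (nat_lit 6) (nat_lit 1))))))
noncomputable def ty6 : TT := (TT.n (TT.n (TT.n (TT.l (Ty.srel [nat_lit 5]))
 (TT.l (Ty.relL (nat_lit 6) [nat_lit 6])))
 (TT.l (Ty.rel1 (nat_lit 5))))
 (TT.n (TT.n (TT.l (Ty.skip))
 (TT.l (Ty.relL (nat_lit 3) [nat_lit 4, nat_lit 7, nat_lit 0])))
 (TT.l (Ty.dfn))))
noncomputable def ty7 : TT := (TT.n (TT.n (TT.n (TT.l (Ty.srel [nat_lit 7]))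
 (TT.l (Ty.srel [nat_lit 1, nat_lit 6, nat_lit 7, nat_lit 1])))
 (TT.n (TT.l (Ty.skip))
 (TT.l (Ty.relL (nat_lit 2) [nat_lit 7, nat_lit 5, nat_lit 2]))))
 (TT.n (TT.n (TT.l (Ty.rel1 (nat_lit 7)))
 (TT.l (Ty.relL (nat_lit 4) [nat_lit 3, nat_lit 5, nat_lit 0])))
 (TT.n (TT.l (Ty.dfn))
 (TT.l (Ty.relL (nat_lit 0) [nat_lit 6, nat_lit 3, nat_lit 4])))))
noncomputable def ty8 : TT := (TT.n (TT.n (TT.n (TT.l (Ty.skip))
 (TT.l (Ty.relL (nat_lit 7) [nat_lit 0, nat_lit 7, nat_lit 0])))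
 (TT.n (TT.l (Ty.srel [nat_lit 4, nat_lit 6, nat_lit 4, nat_lit 6, nat_lit 4, nat_lit 6]))
 (TT.l (Ty.rel3 (nat_lit 6) (nat_lit 6) (nat_lit 6)))))
 (TT.n (TT.n (TT.l (Ty.srel [nat_lit 3, nat_lit 0, nat_lit 3, nat_lit 0, nat_lit 3, nat_lit 0]))
 (TT.l (Ty.srel [nat_lit 4, nat_lit 7, nat_lit 4, nat_lit 7, nat_lit 4, nat_lit 7, nat_lit 0, nat_lit 4, nat_lit 7])))
 (TT.l (Ty.relL (nat_lit 2) [nat_lit 0, nat_lit 2, nat_lit 0, nat_lit 2, nat_lit 0]))))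
noncomputable def C : Cert where
  tabs := [tab0, tab1, tab2, tab3, tab4, tab5, tab6, tab7, tab8, tab9, tab10, tab11, tab12, tab13, tab14, tab15, tab16, tab17, tab18]
  tts := [ty0, ty1, ty2, ty3, ty4, ty5, ty6, ty7, ty8]
  k := nat_lit 6
  base := nat_lit 9
  mJ := nat_lit 64
  mR := nat_lit 63
  W := nat_lit 17
  mA := nat_lit 4095
  mI := nat_lit 127
  S := nat_lit 12
  mC := nat_lit 31
  nc := nat_lit 8
  lo := nat_lit 64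
  live := nat_lit 65
  hi1 := nat_lit 88
  AW := nat_lit 13
  mAW := nat_lit 8191
def il : List ℕ := [0, 2, 1, 3, 4, 6, 5, 7]
def rels : List (List ℕ) := [[1, 1, 1],
  [0, 1, 0, 1, 0, 1],
  [3, 1, 3, 1],
  [3, 0, 3, 0, 3, 0],
  [5, 5, 5],
  [4, 5, 4, 5, 4, 5],
  [4, 0, 4, 0],
  [4, 2, 4, 1],
  [4, 3, 4, 3],
  [6, 0, 5, 0],
  [6, 2, 5, 1],
  [6, 3, 5, 3],
  [7, 6, 7, 5],
  [7, 0, 7, 0],
  [7, 1, 7, 1, 6],
  [4, 7, 4, 7, 4, 7, 4, 7, 0],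
  [7, 3, 7, 3, 7, 3],
  [5, 0, 7, 4, 3]]
def subs : List (List ℕ) := []
theorem valid : C.valid il rels subs = true := by decide +kernel
theorem p0 : C.OkL 64 65 := C.okL_of 64 0 1 65 (by decide) (by decide +kernel)
theorem p1 : C.OkR 65 89 := C.okR_of 65 0 24 89 (by decide) (by decide +kernel)
theorem covers {G : Type*} [Group G] (ev : ℕ → G) (H : Subgroup G)
    (hinv : ∀ x < 8, ev (il.getD x 0) = (ev x)⁻¹) (hr : ∀ r ∈ rels, evw ev r = 1)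
    (hs : ∀ s ∈ subs, evw ev s ∈ H) : Covers H (gensub ev 8) 1 :=
  C.sound il rels subs 8 1 valid (p0) (p1) (by decide) (by decide) ev H hinv hr hs
end CfH6.J2K
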