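import Cfsg.Agent.OD.Pre
import Cfsg.Agent.H6.TCTop
/-! coset enumeration certificate; generators z x s ; index 20 -/
set_option autoImplicit false
set_option maxRecDepth 100000
set_option Elab.async false
set_option linter.all false
namespace CfH6.J2T3
open CfH6
noncomputable def tab0 : Tr := (Tr.l (nat_lit 0x71423cf6f38cd33148c5149212476b28b4b4714acd2b311422925a432b109c64300941))
noncomputable def tab1 : Tr := (Tr.l (nat_lit 0x8b354538b3145189253cf4d49350871934b4b39b476b1524a4d221414b119c2470c8c0))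
noncomputable def tab2 : Tr := (Tr.l (nat_lit 0x6f492cd6f412cc6d392492d4cb516b291c62b3e2c52f20a4b2d1da434504a422710940))
noncomputable def tab3 : Tr := (Tr.l (nat_lit 0xb1424513348cd3af2a3cb6d30bcd3138c4f6b191c4470cb494504a48291d0c02714942))
noncomputable def tab4 : Tr := (Tr.l (nat_lit 0))
noncomputable def tab5 : Tr := (Tr.l (nat_lit 0x12121200120330312300))
noncomputable def tab6 : Tr := (Tr.l (nat_lit 0))
noncomputable def tab7 : Tr := (Tr.l (nat_lit 0))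
noncomputable def tab8 : Tr := (Tr.l (nat_lit 0))
noncomputable def tab9 : Tr := (Tr.l (nat_lit 0))
noncomputable def tab10 : Tr := (Tr.l (nat_lit 0))
noncomputable def ty0 : TT := (TT.n (TT.n (TT.l (Ty.rel1 (nat_lit 0)))
 (TT.l (Ty.rel5 (nat_lit 2) (nat_lit 0) (nat_lit 2) (nat_lit 0) (nat_lit 2))))
 (TT.n (TT.l (Ty.dfn))
 (TT.l (Ty.rel5 (nat_lit 1) (nat_lit 0) (nat_lit 1) (nat_lit 0) (nat_lit 1)))))
noncomputable def ty1 : TT := (TT.n (TT.n (TT.l (Ty.ssub [] []))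
 (TT.l (Ty.rel3 (nat_lit 3) (nat_lit 1) (nat_lit 3))))
 (TT.n (TT.l (Ty.rel1 (nat_lit 2)))
 (TT.l (Ty.dfn))))
noncomputable def ty2 : TT := (TT.n (TT.n (TT.l (Ty.rel1 (nat_lit 1)))
 (TT.l (Ty.relL (nat_lit 2) [nat_lit 2])))
 (TT.n (TT.l (Ty.dfn))
 (TT.l (Ty.rel3 (nat_lit 3) (nat_lit 2) (nat_lit 3)))))
noncomputable def ty3 : TT := (TT.n (TT.n (TT.n (TT.l (Ty.rel1 (nat_lit 3)))
 (TT.l (Ty.rel3 (nat_lit 2) (nat_lit 3) (nat_lit 2))))
 (TT.l (Ty.rel5 (nat_lit 0) (nat_lit 3) (nat_lit 0) (nat_lit 3) (nat_lit 0))))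
 (TT.n (TT.l (Ty.dfn))
 (TT.l (Ty.rel3 (nat_lit 1) (nat_lit 3) (nat_lit 1)))))
noncomputable def ty4 : TT := (TT.l (Ty.skip))
noncomputable def C : Cert where
  tabs := [tab0, tab1, tab2, tab3, tab4, tab5, tab6, tab7, tab8, tab9, tab10]
  tts := [ty0, ty1, ty2, ty3, ty4]
  k := nat_lit 6
  base := nat_lit 5
  mJ := nat_lit 64
  mR := nat_lit 63
  W := nat_lit 14
  mA := nat_lit 2047
  mI := nat_lit 127
  S := nat_lit 11
  mC := nat_lit 7
  nc := nat_lit 4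
  lo := nat_lit 64
  live := nat_lit 84
  hi1 := nat_lit 83
  AW := nat_lit 13
  mAW := nat_lit 8191
def il : List ℕ := [0, 2, 1, 3]
def rels : List (List ℕ) := [[1, 1, 1],
  [0, 1, 0, 1, 0, 1],
  [3, 1, 3, 1],
  [3, 0, 3, 0, 3, 0]]
def subs : List (List ℕ) := [[1]]
theorem valid : C.valid il rels subs = true := by decide +kernel
theorem p0 : C.OkL 64 84 := C.okL_of 64 0 20 84 (by decide) (by decide +kernel)
theorem covers {G : Type*} [Group G] (ev : ℕ → G) (H : Subgroup G)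
    (hinv : ∀ x < 4, ev (il.getD x 0) = (ev x)⁻¹) (hr : ∀ r ∈ rels, evw ev r = 1)
    (hs : ∀ s ∈ subs, evw ev s ∈ H) : Covers H (gensub ev 4) 20 :=
  C.sound il rels subs 4 20 valid (p0) (Cert.OkR.nil C _) (by decide) (by decide) ev H hinv hr hs
end CfH6.J2T3
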