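import Cfsg.Agent.OD.Pre
import Cfsg.Agent.H6.J3B
import Cfsg.Agent.H6.J3A.P0
set_option autoImplicit false
set_option maxRecDepth 100000
set_option Elab.async false
set_option linter.all false
namespace CfH6.J3A
open CfH6 MulAction
theorem eq0 : ∀ e ∈ eqs0, evw (lp nets0) e.1 = evw (lp nets0) e.2 :=
  EqsOk.sound (e0_0) ok0 (by decide)
theorem eqAll : ∀ e ∈ eqs, evw (lp nets0) e.1 = evw (lp nets0) e.2 := eq0
theorem hsd : (∀ x < 13, lp nets0 (J3B.il.getD x 0) = (lp nets0 x)⁻¹) ∧ ∀ r ∈ eqRels J3B.il sig eqs, evw (lp nets0) r = 1 :=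
  eqRels_sound (lp nets0) (k := 13) (by decide +kernel) eqAll
theorem exRho : ∃ ρ : J3B.G →* Equiv.Perm ℕ, ∀ x < 13, ρ (J3B.el x) = lp nets0 x :=
  J3B.hhom _ hsd.1 (follows_sound (n := 4) _ hsd.1 hsd.2 (by decide +kernel))
noncomputable def rho : J3B.G →* Equiv.Perm ℕ := Classical.choose exRho
@[reducible] noncomputable def act : MulAction J3B.G ℕ := MulAction.compHom ℕ rho
attribute [local instance] act
theorem L0 : Lvl 8192 nets0 13 J3B.el := lvl0 rho ok0 (Classical.choose_spec exRho)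
noncomputable abbrev el1 : ℕ → J3B.G := byW J3B.el ws1
theorem L1 : Lvl 8192 nets1 5 el1 := L0.next sx1 (x1_0)
noncomputable abbrev el2 : ℕ → J3B.G := byW el1 ws2
theorem L2 : Lvl 96 nets2 1 el2 := L1.next sx2 (x2_0)
noncomputable abbrev H : Subgroup J3B.G := gensub el1 5
theorem fix0 : H ≤ stabilizer J3B.G 0 := L1.fix' 0 (by decide +kernel)
theorem cU : (bitSet U).ncard = 6156 := ncard_ivls lU _ (by decide +kernel)
theorem oi1 : OrbIn (gensub el1 5) 96 8192 S1 :=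
  (L1.orbStep (OrbIn.one _ (by decide)) 30 S1 oi1_0)
theorem o1 : orbit H 96 = bitSet S1 := L1.orbEq oi1 ci1
theorem c1 : (bitSet S1).ncard = 510 := ncard_ivls l1 _ (by decide +kernel)
theorem oi2 : OrbIn (gensub el1 5) 17 8192 S2 :=
  (L1.orbStep (OrbIn.one _ (by decide)) 30 S2 oi2_0)
theorem o2 : orbit H 17 = bitSet S2 := L1.orbEq oi2 ci2
theorem c2 : (bitSet S2).ncard = 2040 := ncard_ivls l2 _ (by decide +kernel)
theorem oi3 : OrbIn (gensub el1 5) 26 8192 S3 :=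
  (L1.orbStep (OrbIn.one _ (by decide)) 20 S3 oi3_0)
theorem o3 : orbit H 26 = bitSet S3 := L1.orbEq oi3 ci3
theorem c3 : (bitSet S3).ncard = 85 := ncard_ivls l3 _ (by decide +kernel)
theorem oi4 : OrbIn (gensub el1 5) 34 8192 S4 :=
  (L1.orbStep (OrbIn.one _ (by decide)) 25 S4 oi4_0)
theorem o4 : orbit H 34 = bitSet S4 := L1.orbEq oi4 ci4
theorem c4 : (bitSet S4).ncard = 680 := ncard_ivls l4 _ (by decide +kernel)
theorem oi5 : OrbIn (gensub el1 5) 3370 8192 S5 :=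
  (L1.orbStep (OrbIn.one _ (by decide)) 15 S5 oi5_0)
theorem o5 : orbit H 3370 = bitSet S5 := L1.orbEq oi5 ci5
theorem c5 : (bitSet S5).ncard = 120 := ncard_ivls l5 _ (by decide +kernel)
theorem oi6 : OrbIn (gensub el1 5) 56 8192 S6 :=
  (L1.orbStep (OrbIn.one _ (by decide)) 25 S6 oi6_0)
theorem o6 : orbit H 56 = bitSet S6 := L1.orbEq oi6 ci6
theorem c6 : (bitSet S6).ncard = 1360 := ncard_ivls l6 _ (by decide +kernel)
theorem oi7 : OrbIn (gensub el1 5) 76 8192 S7 :=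
  (L1.orbStep (OrbIn.one _ (by decide)) 25 S7 oi7_0)
theorem o7 : orbit H 76 = bitSet S7 := L1.orbEq oi7 ci7
theorem c7 : (bitSet S7).ncard = 1360 := ncard_ivls l7 _ (by decide +kernel)
theorem hJ : ∀ j ∈ J, orbit H j.2.1 = bitSet j.2.2 := (forall_cons o1 (forall_cons o2 (forall_cons o3 (forall_cons o4 (forall_cons o5 (forall_cons o6 (forall_cons o7 forall_nil)))))))
theorem subU : bitSet U ⊆ orbit (⊤ : Subgroup J3B.G) 0 := L0.sub_top J hJ U (by decide +kernel)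
theorem q1 (hH : H = stabilizer J3B.G 0) : (orbit H ((evw J3B.el w1 : J3B.G) : J3B.G ⧸ H)).ncard = 510 :=
  L0.quot hH w1 o1 c1 (by decide +kernel)
theorem q2 (hH : H = stabilizer J3B.G 0) : (orbit H ((evw J3B.el w2 : J3B.G) : J3B.G ⧸ H)).ncard = 2040 :=
  L0.quot hH w2 o2 c2 (by decide +kernel)
theorem q3 (hH : H = stabilizer J3B.G 0) : (orbit H ((evw J3B.el w3 : J3B.G) : J3B.G ⧸ H)).ncard = 85 :=
  L0.quot hH w3 o3 c3 (by decide +kernel)
theorem q4 (hH : H = stabilizer J3B.G 0) : (orbit H ((evw J3B.el w4 : J3B.G) : J3B.G ⧸ H)).ncard = 680 :=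
  L0.quot hH w4 o4 c4 (by decide +kernel)
theorem q5 (hH : H = stabilizer J3B.G 0) : (orbit H ((evw J3B.el w5 : J3B.G) : J3B.G ⧸ H)).ncard = 120 :=
  L0.quot hH w5 o5 c5 (by decide +kernel)
theorem q6 (hH : H = stabilizer J3B.G 0) : (orbit H ((evw J3B.el w6 : J3B.G) : J3B.G ⧸ H)).ncard = 1360 :=
  L0.quot hH w6 o6 c6 (by decide +kernel)
theorem q7 (hH : H = stabilizer J3B.G 0) : (orbit H ((evw J3B.el w7 : J3B.G) : J3B.G ⧸ H)).ncard = 1360 :=
  L0.quot hH w7 o7 c7 (by decide +kernel)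
theorem ne6_7 (hH : H = stabilizer J3B.G 0) : orbit H ((evw J3B.el w6 : J3B.G) : J3B.G ⧸ H) ≠ orbit H ((evw J3B.el w7 : J3B.G) : J3B.G ⧸ H) :=
  L0.quot_ne hH w6 w7 o6 o7 (by decide +kernel)
theorem orbTop : OrbGe (⊤ : Subgroup J3B.G) 0 6156 := orbGe_of_sub subU cU
theorem stab (hc : Covers H ⊤ 6156) : H = stabilizer J3B.G 0 ∧ H.index = 6156 := stab_eq hc fix0 orbTop
theorem mx7 (hH : H = stabilizer J3B.G 0) (hN : H.index = 6156) : Mx H S7 :=
  L0.mx hH hN w7 o7 J7 (forall_cons o2 (forall_cons o6 forall_nil)) lBig cm7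
theorem mx6 (hH : H = stabilizer J3B.G 0) (hN : H.index = 6156) : Mx H S6 :=
  L0.mx hH hN w6 o6 J6 (forall_cons o2 (forall_cons o6 forall_nil)) lBig cm6
theorem mx5 (hH : H = stabilizer J3B.G 0) (hN : H.index = 6156) : Mx H S5 :=
  L0.mx hH hN w5 o5 J5 (forall_cons o2 (forall_cons o6 forall_nil)) lBig cm5
theorem mx4 (hH : H = stabilizer J3B.G 0) (hN : H.index = 6156) : Mx H S4 :=
  L0.mx hH hN w4 o4 J4 (forall_cons o2 (forall_cons o6 forall_nil)) lBig cm4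
theorem mx3 (hH : H = stabilizer J3B.G 0) (hN : H.index = 6156) : Mx H S3 :=
  L0.mx hH hN w3 o3 J3 (forall_cons o2 (forall_cons o6 forall_nil)) lBig cm3
theorem mx2 (hH : H = stabilizer J3B.G 0) (hN : H.index = 6156) : Mx H S2 :=
  L0.mx hH hN w2 o2 J2 (forall_cons o2 (forall_cons o6 forall_nil)) lBig cm2
theorem mx1 (hH : H = stabilizer J3B.G 0) (hN : H.index = 6156) : Mx H S1 :=
  L0.mx hH hN w1 o1 J1 (forall_cons o2 (forall_cons o6 forall_nil)) lBig cm1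
theorem hmax (hH : H = stabilizer J3B.G 0) (hN : H.index = 6156) : ∀ L : Subgroup J3B.G, H ≤ L → L = H ∨ L = ⊤ :=
  coatom_of hH (Mx.lorJ J (forall_cons (mx1 hH hN) (forall_cons (mx2 hH hN) (forall_cons (mx3 hH hN) (forall_cons (mx4 hH hN) (forall_cons (mx5 hH hN) (forall_cons (mx6 hH hN) (forall_cons (mx7 hH hN) forall_nil)))))))) (orbit_sub_of_card hH hN (by decide) subU cU) (by decide +kernel)
theorem low2 : Low (gensub el2 1) [22] 4 :=
  (Low.cons bot_le bot_le (L2.orbGe 22 3 7 4 (by decide) (by decide) og2) (Low.nil ⊥)).cast (by decide)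
theorem low1 : Low (gensub el1 5) [17, 22] 8160 :=
  (Low.step' L2 (orbGe_of_eq o2 c2) (by decide +kernel) low2).cast (by decide)
theorem low0 : Low (gensub J3B.el 13) [0, 17, 22] 50232960 :=
  (Low.step' L1 (J3B.htop ▸ orbTop) (by decide +kernel) low1).cast (by decide)
def bs : List ℕ := [0, 17, 22]
theorem hbs : ∀ b ∈ bs, b ∈ orbit J3B.G 0 := base_mem subU bs (by decide +kernel)
theorem top (hf : Finite J3B.G ∧ Nat.card J3B.G ≤ 50232960) : Nat.card J3B.G = 50232960 ∧ ∀ g : J3B.G, (∀ b ∈ bs, g • b = b) → g = 1 := low0.top hf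
theorem hex (hb : ∀ g : J3B.G, (∀ b ∈ bs, g • b = b) → g = 1) : ∀ w ∈ ex, evw J3B.el (wpow w (19 ^ 1)) = 1 := (forall_cons (L0.word_one hb _ pw0) forall_nil)
end CfH6.J3A
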