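import Cfsg.Agent.OD.Pre
import Cfsg.Agent.H6.TCTop
/-! coset enumeration certificate; generators z p q r s u a c b x w ; index 1 -/
set_option autoImplicit false
set_option maxRecDepth 100000
set_option Elab.async false
set_option linter.all false
namespace CfH6.J3K
open CfH6
noncomputable def tab0 : Tr := (Tr.l (nat_lit 0x7ffe3fff1fff885187ffe3fff1fff8fffc7ffe3fff1fff907387ffe3fff1fff8fffc41801141))
noncomputable def tab1 : Tr := (Tr.l (nat_lit 0x7ffe3fff1fff8fffc7ffe3fff1fff90d0c7ffe3fff1fff8fffc7ffe3fff1fff88301aa861142))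
noncomputable def tab2 : Tr := (Tr.l (nat_lit 0x5ffe2fff17ff8bffca5922fff17ff90f10849a2fff17ff8bffc5ffe2fff18600bffdaa881143))
noncomputable def tab3 : Tr := (Tr.l (nat_lit 0x5ffe2fff20a40bffc63942fff17ff8bffca78651cf17ff8bffc5ffe40c019a4b5d005ffe1144))
noncomputable def tab4 : Tr := (Tr.l (nat_lit 0x5ffe4ad017ff8bffc5ffe2fff17ff8bffc5ffe2fff17ff8bffc61802fff17ffb65005ffe1145))
noncomputable def tab5 : Tr := (Tr.l (nat_lit 0x5ffe2fff17ff8bffc5ffe2fff17ff8bffc5ffe2fff17ff8c3005ffe2fff17ff8bffc5ffe1146))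
noncomputable def tab6 : Tr := (Tr.l (nat_lit 0x5ffe414817ff8bffc5ffe2fff17ff8bffc5ffe51d020600bffc5ffe2fff17ff8df085ffe1147))
noncomputable def tab7 : Tr := (Tr.l (nat_lit 0x5ffe48d017ff8bffc5ffe2fff17ff8bffc5ffe30c017ff8bffc5ffe2fff17ff8bffc5ffe1148))
noncomputable def tab8 : Tr := (Tr.l (nat_lit 0x5ffe5cd017ff8bffc5ffe2fff17ff90300649431d117ff8bffc5ffe324d17ff8bffc5ffe1149))
noncomputable def tab9 : Tr := (Tr.l (nat_lit 0xa2907d5017ff8bffcc3882fff17ff90724a180dbc817ff8bffc5ffe42c319268bffc5ffe114a))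
noncomputable def tab10 : Tr := (Tr.l (nat_lit 0x5ffe5c5017ff8bffc5ffe40c017ff8bffda6802fff17ff8df185ffe2fff17ff8bffc5ffe114b))
noncomputable def tab11 : Tr := (Tr.l (nat_lit 0x5ffe2fff17ff8bffc5ffe61cb28603d101c6964bc817ff8dd185ffe2fff17ff8bffdaa80114c))
noncomputable def tab12 : Tr := (Tr.l (nat_lit 0xf5902fff17ff8bffcc1802fff17ff94b0c83883b5117ff8bffc5ffe2fff19a535d005ffe114d))
noncomputable def tab13 : Tr := (Tr.l (nat_lit 0x19690bdc8552425b1a2c8682c939e519304cb810e402c20121007184f64373610a701ac800000))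
noncomputable def tab14 : Tr := (Tr.l (nat_lit 0x9630cab89765432100))
noncomputable def tab15 : Tr := (Tr.l (nat_lit 0))
noncomputable def tab16 : Tr := (Tr.l (nat_lit 0x1280))
noncomputable def tab17 : Tr := (Tr.l (nat_lit 0x1280))
noncomputable def tab18 : Tr := (Tr.l (nat_lit 0x10c0))
noncomputable def tab19 : Tr := (Tr.l (nat_lit 0x1140))
noncomputable def tab20 : Tr := (Tr.l (nat_lit 0))
noncomputable def tab21 : Tr := (Tr.l (nat_lit 0))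
noncomputable def tab22 : Tr := (Tr.l (nat_lit 0))
noncomputable def tab23 : Tr := (Tr.l (nat_lit 0))
noncomputable def tab24 : Tr := (Tr.l (nat_lit 0x1440))
noncomputable def tab25 : Tr := (Tr.l (nat_lit 0x1300))
noncomputable def tab26 : Tr := (Tr.l (nat_lit 0x4b02601280))
noncomputable def tab27 : Tr := (Tr.l (nat_lit 0x10c0))
noncomputable def tab28 : Tr := (Tr.l (nat_lit 0x1242a03c98e083248))
noncomputable def ty0 : TT := (TT.n (TT.n (TT.l (Ty.srel [nat_lit 0]))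
 (TT.l (Ty.skip)))
 (TT.n (TT.l (Ty.dfn))
 (TT.l (Ty.rel1 (nat_lit 0)))))
noncomputable def ty1 : TT := (TT.n (TT.n (TT.l (Ty.srel [nat_lit 1]))
 (TT.l (Ty.skip)))
 (TT.n (TT.l (Ty.dfn))
 (TT.l (Ty.rel3 (nat_lit 9) (nat_lit 2) (nat_lit 8)))))
noncomputable def ty2 : TT := (TT.n (TT.n (TT.n (TT.l (Ty.srel [nat_lit 2]))
 (TT.l (Ty.rel1 (nat_lit 2))))
 (TT.l (Ty.dfn)))
 (TT.n (TT.l (Ty.skip))
 (TT.l (Ty.rel3 (nat_lit 9) (nat_lit 3) (nat_lit 8)))))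
noncomputable def ty3 : TT := (TT.n (TT.n (TT.n (TT.l (Ty.srel [nat_lit 3]))
 (TT.l (Ty.rel1 (nat_lit 3))))
 (TT.l (Ty.relL (nat_lit 8) [nat_lit 12])))
 (TT.n (TT.l (Ty.skip))
 (TT.l (Ty.dfn))))
noncomputable def ty4 : TT := (TT.n (TT.n (TT.l (Ty.srel [nat_lit 4]))
 (TT.l (Ty.dfn)))
 (TT.n (TT.l (Ty.skip))
 (TT.l (Ty.srel [nat_lit 6, nat_lit 3, nat_lit 6]))))
noncomputable def ty5 : TT := (TT.n (TT.n (TT.l (Ty.srel [nat_lit 5]))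
 (TT.l (Ty.dfn)))
 (TT.l (Ty.skip)))
noncomputable def ty6 : TT := (TT.n (TT.n (TT.n (TT.l (Ty.srel [nat_lit 6]))
 (TT.l (Ty.rel1 (nat_lit 6))))
 (TT.l (Ty.srel [nat_lit 12, nat_lit 0, nat_lit 12])))
 (TT.n (TT.l (Ty.skip))
 (TT.l (Ty.dfn))))
noncomputable def ty7 : TT := (TT.n (TT.n (TT.l (Ty.srel [nat_lit 7]))
 (TT.l (Ty.dfn)))
 (TT.n (TT.l (Ty.skip))
 (TT.l (Ty.srel [nat_lit 6, nat_lit 7, nat_lit 6, nat_lit 7, nat_lit 6]))))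
noncomputable def ty8 : TT := (TT.n (TT.n (TT.n (TT.l (Ty.srel [nat_lit 9]))
 (TT.l (Ty.relL (nat_lit 4) [nat_lit 10, nat_lit 4, nat_lit 10])))
 (TT.l (Ty.rel1 (nat_lit 9))))
 (TT.n (TT.l (Ty.skip))
 (TT.l (Ty.dfn))))
noncomputable def ty9 : TT := (TT.n (TT.n (TT.n (TT.l (Ty.srel [nat_lit 8]))
 (TT.l (Ty.dfn)))
 (TT.n (TT.l (Ty.rel3 (nat_lit 3) (nat_lit 8) (nat_lit 2)))
 (TT.l (Ty.rel1 (nat_lit 8)))))
 (TT.n (TT.n (TT.l (Ty.skip))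
 (TT.l (Ty.relL (nat_lit 3) [nat_lit 12])))
 (TT.l (Ty.relL (nat_lit 9) [nat_lit 9]))))
noncomputable def ty10 : TT := (TT.n (TT.n (TT.n (TT.l (Ty.srel [nat_lit 11]))
 (TT.l (Ty.rel3 (nat_lit 6) (nat_lit 11) (nat_lit 6))))
 (TT.l (Ty.rel1 (nat_lit 11))))
 (TT.n (TT.l (Ty.skip))
 (TT.l (Ty.dfn))))
noncomputable def ty11 : TT := (TT.n (TT.n (TT.n (TT.l (Ty.srel [nat_lit 10]))
 (TT.l (Ty.dfn)))
 (TT.l (Ty.srel [nat_lit 0, nat_lit 5, nat_lit 10, nat_lit 5])))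
 (TT.n (TT.n (TT.l (Ty.skip))
 (TT.l (Ty.relL (nat_lit 11) [nat_lit 11])))
 (TT.l (Ty.srel [nat_lit 12, nat_lit 8, nat_lit 12]))))
noncomputable def ty12 : TT := (TT.n (TT.n (TT.n (TT.l (Ty.srel [nat_lit 12]))
 (TT.l (Ty.relL (nat_lit 9) [nat_lit 3])))
 (TT.n (TT.l (Ty.rel1 (nat_lit 12)))
 (TT.l (Ty.srel [nat_lit 3, nat_lit 8]))))
 (TT.n (TT.n (TT.l (Ty.skip))
 (TT.l (Ty.dfn)))
 (TT.l (Ty.relL (nat_lit 3) [nat_lit 8]))))
noncomputable def ty13 : TT := (TT.n (TT.n (TT.n (TT.n (TT.l (Ty.skip))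
 (TT.l (Ty.srel [nat_lit 5, nat_lit 0, nat_lit 5, nat_lit 0])))
 (TT.l (Ty.srel [nat_lit 2, nat_lit 6, nat_lit 1, nat_lit 6])))
 (TT.n (TT.n (TT.l (Ty.srel [nat_lit 6, nat_lit 3, nat_lit 6, nat_lit 4]))
 (TT.l (Ty.relL (nat_lit 6) [nat_lit 9, nat_lit 6, nat_lit 9, nat_lit 6, nat_lit 9])))
 (TT.l (Ty.relL (nat_lit 9) [nat_lit 10, nat_lit 8, nat_lit 11]))))
 (TT.n (TT.n (TT.n (TT.l (Ty.srel [nat_lit 4, nat_lit 12, nat_lit 4, nat_lit 6, nat_lit 4, nat_lit 12, nat_lit 4, nat_lit 6, nat_lit 4, nat_lit 12, nat_lit 4, nat_lit 6]))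
 (TT.l (Ty.srel [nat_lit 7, nat_lit 3, nat_lit 7, nat_lit 3])))
 (TT.l (Ty.rel5 (nat_lit 0) (nat_lit 2) (nat_lit 3) (nat_lit 2) (nat_lit 3))))
 (TT.n (TT.n (TT.l (Ty.relL (nat_lit 0) [nat_lit 11, nat_lit 5, nat_lit 10]))
 (TT.l (Ty.srel [nat_lit 7, nat_lit 8, nat_lit 7, nat_lit 8])))
 (TT.l (Ty.relL (nat_lit 12) [nat_lit 8, nat_lit 12, nat_lit 11])))))
noncomputable def C : Cert where
  tabs := [tab0, tab1, tab2, tab3, tab4, tab5, tab6, tab7, tab8, tab9, tab10, tab11, tab12, tab13, tab14, tab15, tab16, tab17, tab18, tab19, tab20, tab21, tab22, tab23, tab24, tab25, tab26, tab27, tab28]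
  tts := [ty0, ty1, ty2, ty3, ty4, ty5, ty6, ty7, ty8, ty9, ty10, ty11, ty12, ty13]
  k := nat_lit 6
  base := nat_lit 12
  mJ := nat_lit 64
  mR := nat_lit 63
  W := nat_lit 17
  mA := nat_lit 4095
  mI := nat_lit 127
  S := nat_lit 12
  mC := nat_lit 31
  nc := nat_lit 13
  lo := nat_lit 64
  live := nat_lit 65
  hi1 := nat_lit 81
  AW := nat_lit 13
  mAW := nat_lit 8191
def il : List ℕ := [0, 1, 2, 3, 4, 5, 6, 7, 9, 8, 11, 10, 12]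
def rels : List (List ℕ) := [[0, 1, 0, 1],
  [0, 2, 0, 2],
  [0, 3, 0, 3],
  [0, 4, 0, 4],
  [0, 5, 0, 5],
  [0, 6, 0, 6],
  [0, 7, 0, 7],
  [0, 9, 0, 8],
  [1, 2, 1, 2, 0],
  [1, 3, 1, 3, 0],
  [1, 4, 1, 4, 0],
  [1, 5, 1, 5, 0],
  [2, 3, 2, 3, 0],
  [2, 4, 2, 4, 0],
  [2, 5, 2, 5, 0],
  [3, 4, 3, 4, 0],
  [3, 5, 3, 5, 0],
  [4, 5, 4, 5, 0],
  [1, 2, 3, 4, 5],
  [6, 1, 6, 2],
  [6, 3, 6, 4],
  [6, 5, 6, 5],
  [7, 1, 7, 2],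
  [7, 3, 7, 3],
  [7, 4, 7, 5],
  [8, 1, 9, 2],
  [8, 2, 9, 3],
  [8, 4, 9, 4],
  [8, 5, 9, 5],
  [8, 8, 8],
  [6, 8, 6, 8, 6, 8],
  [7, 6, 7, 6, 7, 6],
  [7, 8, 7, 8],
  [10, 10, 10],
  [10, 0, 11, 5],
  [10, 5, 11, 0, 5],
  [11, 6, 10, 6],
  [11, 9, 10, 8],
  [4, 10, 4, 10, 8],
  [12, 10, 12, 9],
  [12, 0, 12, 6],
  [12, 4, 6, 4, 12, 4, 6, 4, 12, 4, 6, 4],
  [12, 4, 12, 4, 12, 7, 11, 8, 7, 11, 8, 4, 10, 9, 7, 10, 9, 7],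
  [3, 8, 12]]
def subs : List (List ℕ) := []
theorem valid : C.valid il rels subs = true := by decide +kernel
theorem p0 : C.OkL 64 65 := C.okL_of 64 0 1 65 (by decide) (by decide +kernel)
theorem p1 : C.OkR 65 82 := C.okR_of 65 0 17 82 (by decide) (by decide +kernel)
theorem covers {G : Type*} [Group G] (ev : ℕ → G) (H : Subgroup G)
    (hinv : ∀ x < 13, ev (il.getD x 0) = (ev x)⁻¹) (hr : ∀ r ∈ rels, evw ev r = 1)
    (hs : ∀ s ∈ subs, evw ev s ∈ H) : Covers H (gensub ev 13) 1 :=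
  C.sound il rels subs 13 1 valid (p0) (p1) (by decide) (by decide) ev H hinv hr hs
end CfH6.J3K
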