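import Cfsg.Agent.OD.Pre
import Cfsg.Agent.H6.M24D
import Cfsg.Agent.H6.J4C.F0
import Cfsg.Agent.H6.J4C.O
import Cfsg.Agent.H6.J4C.P0
set_option autoImplicit false
set_option maxRecDepth 100000
set_option Elab.async false
set_option linter.all false
namespace CfH6.J4C
open CfH6 CfH6.D MulAction
def σ : List (List ℕ) := [[0],
  [1],
  [2]]
def uss : List (List (List ℕ)) := [[[], []],
  [[1, 0, 2, 0, 1, 0, 2, 0, 1, 0, 1, 0, 2, 0, 1, 0, 2], [1, 0, 2, 0, 1, 0, 2, 0, 1, 0, 1, 0, 2, 0, 1, 0, 2], [1, 0, 2, 0, 1, 0, 2, 0, 1, 0, 1, 0, 2, 0, 1, 0, 2]],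
  [[2, 2, 0, 2, 0, 2, 0, 2, 0, 2, 0, 2, 0, 2, 2, 0, 2, 0, 2, 0], [0, 1, 0, 1, 0, 1, 1, 0, 1, 0, 1, 0, 1, 0, 1, 0, 1, 0, 1, 1, 1, 0, 1, 0, 1, 0, 1, 1, 0, 1, 0, 1, 0, 1, 1, 0, 1, 0, 1, 0, 1], [2, 2, 0, 2, 0, 2, 0, 2, 0, 2, 0, 2, 0, 2, 2, 0, 2, 0, 2, 0], [0, 1, 0, 1, 0, 1, 1, 0, 1, 0, 1, 0, 1, 0, 1, 0, 1, 0, 1, 1, 1, 0, 1, 0, 1, 0, 1, 1, 0, 1, 0, 1, 0, 1, 1, 0, 1, 0, 1, 0, 1]],
  [[0, 1, 0, 1, 0, 1, 1, 0, 1, 0, 1, 0, 1, 0, 1, 0, 1, 0, 1, 1, 1, 0, 1, 0, 1, 0, 1, 1, 0, 1, 0, 1, 0, 1, 1, 0, 1, 0, 1, 0, 1], [2, 2, 0, 2, 0, 2, 0, 2, 0, 2, 0, 2, 0, 2, 2, 0, 2, 0, 2, 0], [0, 1, 0, 1, 0, 1, 1, 0, 1, 0, 1, 0, 1, 0, 1, 0, 1, 0, 1, 1, 1, 0, 1, 0, 1, 0, 1, 1, 0, 1, 0, 1, 0, 1, 1, 0, 1, 0, 1, 0, 1], [2, 2, 0, 2, 0, 2, 0, 2, 0, 2, 0, 2, 0, 2, 2, 0, 2, 0, 2, 0]]]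
def bus : List (List ℕ × List ℕ) := [([0], [0]),
  ([1, 0, 1, 0, 2, 0, 2, 0, 1, 0, 1, 0, 1], [2, 0, 2, 0, 2, 0, 1, 0, 1, 0, 2, 0, 2])]
def ex : List (List ℕ) := []
def gws : List (List ℕ) := uss.map (gw σ 3)
def bws : List (List ℕ) := bus.map fun u => subst σ u.1 ++ 3 :: (subst σ u.2 ++ [3])
def sus : List (List ℕ × List (List ℕ)) := [([1, 0, 1, 0, 2, 0, 2, 0, 2, 0, 2], [[1, 0, 1, 0, 1, 0, 1, 0, 2, 0, 1, 0, 1, 0, 2, 0, 2, 0, 2, 0, 2], [1, 0, 1, 0, 1, 0, 1, 0, 2, 0, 1, 0, 1, 0, 2, 0, 2, 0, 2, 0, 2], [1, 0, 1, 0, 1, 0, 1, 0, 2, 0]])]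
def sws : List (List ℕ) := sus.map fun u => subst σ u.1 ++ gw σ 3 u.2
theorem chk : Rng P.chk 0 6275 := (p0).trans p1
section
variable {G : Type} [Group G] (el : ℕ → G) (ρ : M24B.G →* G) (hρ : ∀ x < 3, ρ (M24B.el x) = byW el σ x)
include hρ
theorem trl : Trl ρ M24D.cd M24D.eq 3 el σ := ⟨M24D.heq, fun x hx => by rw [M24D.cdx x hx, hρ x hx]⟩
theorem hbp (ht : el 3 = (el 3)⁻¹) (h : ∀ w ∈ bws, evw el w = 1) : ∀ p ∈ P.bp, ρ (M24D.cd p.1) * el 3 = el 3 * ρ (M24D.cd p.2) :=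
  (trl el ρ hρ).bp _ _ ht _ bus h (by decide +kernel)
theorem hsub (H : Subgroup G) (h : ∀ w ∈ sws, evw el w ∈ H) : ∀ r ∈ P.sub, ρ (M24D.cd (r.headD 0)) * evw (fun n => el 3 * ρ (M24D.cd n)) r.tail ∈ H :=
  (trl el ρ hρ).subs _ H _ sus h (by decide +kernel)
variable (H : Subgroup G) (hH : ∀ n, ρ n ∈ H) (hg : ∀ w ∈ gws, evw el w = 1)
  (hb : ∀ p ∈ P.bp, ρ (M24D.cd p.1) * el 3 = el 3 * ρ (M24D.cd p.2)) (hs : ∀ r ∈ P.sub, ρ (M24D.cd (r.headD 0)) * evw (fun n => el 3 * ρ (M24D.cd n)) r.tail ∈ H)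
noncomputable def C : Ctx P M24B.G G where
  ρ := ρ
  t := el 3
  H := H
  Bs := ⊤
  cd := M24D.cd
  cd0 := M24D.cd0
  heq := M24D.heq
  hH := fun _ => hH
  hB := fun _ => rfl
  hrel := (trl el ρ hρ).rels 3 _ uss hg (by decide +kernel)
  hsub := fun r hr => ⟨rfl, hs r hr⟩
  hbp := fun p hp => ⟨trivial, hb p hp⟩
include H hH hg hb hs
theorem hS : ∀ k < 6275, (C el ρ hρ H hH hg hb hs).Sem (P.fact k) := (C el ρ hρ H hH hg hb hs).sound chk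
section
attribute [local instance] actO
theorem memB : ∀ k, P.okP 6275 trO k = 0 → M24D.cd (P.cdK k) ∈ Bsub ρ (el 3) ⊓ stO := Ctx.okP_mem (hS el ρ hρ H hH hg hb hs) trsO (by decide)
end
section
attribute [local instance] M24D.actD
theorem cardB : 64512 ≤ Nat.card (Bsub ρ (el 3) ⊓ stO : Subgroup _) := have := M24D.fin; levs_card M24D.trsD (memB el ρ hρ H hH hg hb hs) levB _ lB
theorem hi : ∀ p ∈ lv, ((C el ρ hρ H hH hg hb hs).T p.1).index ≤ p.2 := have := M24D.fin; forall_cons (Ctx.T0 rfl) (forall_cons (index_le M24D.card (levs_card M24D.trsD (Ctx.okE_mem rfl (hS el ρ hρ H hH hg hb hs) 1) lev1 64512 l1) (by decide)) (forall_cons (index_le M24D.card (levs_card M24D.trsD (Ctx.okE_mem rfl (hS el ρ hρ H hH hg hb hs) 3) lev3 768 l3) (by decide)) (forall_cons (index_le M24D.card (levs_card M24D.trsD (Ctx.okE_mem rfl (hS el ρ hρ H hH hg hb hs) 4) lev4 48 l4) (by decide))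 (forall_cons (index_le M24D.card (levs_card M24D.trsD (Ctx.okE_mem rfl (hS el ρ hρ H hH hg hb hs) 5) lev5 192 l5) (by decide)) (forall_cons (index_le M24D.card (levs_card M24D.trsD (Ctx.okE_mem rfl (hS el ρ hρ H hH hg hb hs) 6) lev6 128 l6) (by decide)) (forall_cons (index_le M24D.card (levs_card M24D.trsD (Ctx.okE_mem rfl (hS el ρ hρ H hH hg hb hs) 7) lev7 3 l7) (by decide)) (forall_cons (index_le M24D.card (levs_card M24D.trsD (Ctx.okE_mem rfl (hS el ρ hρ H hH hg hb hs) 8) lev8 16 l8) (by decide)) (forall_cons (index_le M24D.card (levs_card M24D.trsD (Ctx.okE_mem rfl (hS el ρ hρ H hH hg hb hs) 9) lev9 6 l9) (by decide)) (forall_cons (index_le M24D.card (levs_card M24D.trsD (Ctx.okE_mem rfl (hS el ρ hρ H hH hg hb hs) 10) lev10 512 l10) (by decide)) (forall_cons (index_le M24D.card (levs_card M24D.trsD (Ctx.okE_mem rfl (hS el ρ hρ H hH hg hb hs) 11) lev11 96 l11)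 (by decide)) (forall_cons (index_le M24D.card (levs_card M24D.trsD (Ctx.okE_mem rfl (hS el ρ hρ H hH hg hb hs) 12) lev12 20 l12) (by decide)) (forall_cons (index_le M24D.card (levs_card M24D.trsD (Ctx.okE_mem rfl (hS el ρ hρ H hH hg hb hs) 13) lev13 32 l13) (by decide)) (forall_cons (index_le M24D.card (levs_card M24D.trsD (Ctx.okE_mem rfl (hS el ρ hρ H hH hg hb hs) 14) lev14 1152 l14) (by decide)) (forall_cons (index_le M24D.card (levs_card M24D.trsD (Ctx.okE_mem rfl (hS el ρ hρ H hH hg hb hs) 15) lev15 96 l15) (by decide)) (forall_cons (index_le M24D.card (levs_card M24D.trsD (Ctx.okE_mem rfl (hS el ρ hρ H hH hg hb hs) 16) lev16 253 l16) (by decide)) (forall_cons (index_le M24D.card (levs_card M24D.trsD (Ctx.okE_mem rfl (hS el ρ hρ H hH hg hb hs) 17) lev17 4608 l17) (by decide)) (forall_cons (index_le M24D.card (levs_card M24D.trsD (Ctx.okE_mem rfl (hS el ρ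 hρ H hH hg hb hs) 18) lev18 21504 l18) (by decide)) (forall_cons (index_le M24D.card (levs_card M24D.trsD (Ctx.okE_mem rfl (hS el ρ hρ H hH hg hb hs) 19) lev19 9216 l19) (by decide)) (forall_cons (index_le M24D.card (levs_card M24D.trsD (Ctx.okE_mem rfl (hS el ρ hρ H hH hg hb hs) 20) lev20 138240 l20) (by decide)) (forall_nil))))))))))))))))))))
end
section
attribute [local instance] actO
theorem dec : ∀ γ ∈ (C el ρ hρ H hH hg hb hs).K, (C el ρ hρ H hH hg hb hs).U LM γ := have := M24D.fin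
  (C el ρ hρ H hH hg hb hs).dec (m := 3795) (a := 0) (b := 0) lv (by decide +kernel) List.mem_cons_self (lm_of lv LM (by decide +kernel))
    (fun x => tb0O.bound M24B.htop x (by decide)) (stab_le M24D.card lowO (cardB el ρ hρ H hH hg hb hs) (by decide)) (forall_cons (Ctx.cos_of rfl (hS el ρ hρ H hH hg hb hs) trsO 0 [nat_lit 6217, nat_lit 30] 0 0 1 ct0 c0) (forall_cons (Ctx.cos_of rfl (hS el ρ hρ H hH hg hb hs) trsO 1 [nat_lit 31, nat_lit 33] 1 0 5 ct1 c1) (forall_cons (Ctx.cos_of rfl (hS el ρ hρ H hH hg hb hs) trsO 3 [nat_lit 307, nat_lit 200, nat_lit 130, nat_lit 81, nat_lit 136, nat_lit 103, nat_lit 235] 6 0 20 ct3 c3) (forall_cons (Ctx.cos_of rfl (hS el ρ hρ H hH hg hb hs) trsO 4 [nat_lit 339, nat_lit 636, nat_lit 358] 26 0 121 ct4 c4) (forall_cons (Ctx.cos_of rfl (hS el ρ hρ H hH hg hb hs) trsO 5 [nat_lit 757, nat_lit 752, nat_lit 768, nat_lit 749] 147 0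 31 ct5 c5) (forall_cons (Ctx.cos_of rfl (hS el ρ hρ H hH hg hb hs) trsO 6 [nat_lit 819, nat_lit 875, nat_lit 849, nat_lit 866, nat_lit 830, nat_lit 814] 178 0 60 ct6 c6) (forall_cons (Ctx.cos_of rfl (hS el ρ hρ H hH hg hb hs) trsO 7 [nat_lit 958] 238 9 123 ct7 c7) (forall_cons (Ctx.cos_of rfl (hS el ρ hρ H hH hg hb hs) trsO 8 [nat_lit 2704, nat_lit 2731, nat_lit 2612, nat_lit 2605] 1513 2 31 ct8 c8) (forall_cons (Ctx.cos_of rfl (hS el ρ hρ H hH hg hb hs) trsO 9 [nat_lit 3368, nat_lit 3207] 1800 5 47 ct9 c9) (forall_cons (Ctx.cos_of rfl (hS el ρ hρ H hH hg hb hs) trsO 10 [nat_lit 4747, nat_lit 4744, nat_lit 4726, nat_lit 4733, nat_lit 4724] 2487 0 31 ct10 c10) (forall_cons (Ctx.cos_of rfl (hS el ρ hρ H hH hg hb hs) trsO 11 [nat_lit 4789, nat_lit 4802, nat_lit 4819, nat_lit 4822] 2518 0 72 ct11 c11) (forall_cons (Ctx.cos_of rfl (hS el ρ hρ H hH hg hb hs) trsO 12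 [nat_lit 5053, nat_lit 4939] 2590 1 90 ct12 c12) (forall_cons (Ctx.cos_of rfl (hS el ρ hρ H hH hg hb hs) trsO 13 [nat_lit 5507, nat_lit 5481, nat_lit 5431, nat_lit 5482] 2808 1 39 ct13 c13) (forall_cons (Ctx.cos_of rfl (hS el ρ hρ H hH hg hb hs) trsO 14 [nat_lit 5825, nat_lit 5822, nat_lit 5818, nat_lit 5813, nat_lit 5805] 2975 0 18 ct14 c14) (forall_cons (Ctx.cos_of rfl (hS el ρ hρ H hH hg hb hs) trsO 15 [nat_lit 5888, nat_lit 5881, nat_lit 5874] 2993 0 82 ct15 c15) (forall_cons (Ctx.cos_of rfl (hS el ρ hρ H hH hg hb hs) trsO 16 [nat_lit 6102, nat_lit 6113] 3075 0 15 ct16 c16) (forall_cons (Ctx.cos_of rfl (hS el ρ hρ H hH hg hb hs) trsO 17 [nat_lit 6149, nat_lit 6145, nat_lit 6152] 3090 0 10 ct17 c17) (forall_cons (Ctx.cos_of rfl (hS el ρ hρ H hH hg hb hs) trsO 18 [nat_lit 6167, nat_lit 6168, nat_lit 6173, nat_lit 6169] 3100 0 7 ct18 c18) (forall_cons (Ctx.cos_of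 rfl (hS el ρ hρ H hH hg hb hs) trsO 19 [nat_lit 6189, nat_lit 6183, nat_lit 6190, nat_lit 6184] 3107 0 10 ct19 c19) (forall_cons (Ctx.cos_of rfl (hS el ρ hρ H hH hg hb hs) trsO 20 [nat_lit 6212, nat_lit 6206, nat_lit 6205, nat_lit 6208] 3117 0 4 ct20 c20) (forall_nil)))))))))))))))))))))
end
theorem covers : Covers H (C el ρ hρ H hH hg hb hs).K 173067389 := have := M24D.fin
  (C el ρ hρ H hH hg hb hs).cover lv (lm_of lv LM (by decide +kernel)) (dec el ρ hρ H hH hg hb hs) (hi el ρ hρ H hH hg hb hs) _ (by decide +kernel)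
theorem hmax (hK : (C el ρ hρ H hH hg hb hs).K = ⊤) : ∀ L : Subgroup G, H ≤ L → L = H ∨ L = ⊤ :=
  (C el ρ hρ H hH hg hb hs).hmax rfl lv (lm_of lv LM (by decide +kernel)) (dec el ρ hρ H hH hg hb hs) hK (forall_cons (Or.inl rfl) (forall_cons (Or.inr (Ctx.ov_of rfl (hS el ρ hρ H hH hg hb hs) 1 [nat_lit 0] 6225 34 (by decide +kernel))) (forall_cons (Or.inr (Ctx.ov_of rfl (hS el ρ hρ H hH hg hb hs) 3 [nat_lit 0] 6231 159 (by decide +kernel))) (forall_cons (Or.inr (Ctx.ov_of rfl (hS el ρ hρ H hH hg hb hs) 4 [nat_lit 0] 6233 379 (by decide +kernel))) (forall_cons (Or.inr (Ctx.ov_of rfl (hS el ρ hρ H hH hg hb hs) 5 [nat_lit 0] 6236 769 (by decide +kernel))) (forall_cons (Or.inr (Ctx.ov_of rfl (hS el ρ hρ H hH hg hb hs) 6 [nat_lit 0] 6237 868 (by decide +kernel))) (forall_cons (Or.inr (Ctx.ov_of rfl (hS el ρ hρ H hH hg hb hs) 7 [nat_lit 0] 6238 977 (by decide +kernel)))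 (forall_cons (Or.inr (Ctx.ov_of rfl (hS el ρ hρ H hH hg hb hs) 8 [nat_lit 0] 6239 2623 (by decide +kernel))) (forall_cons (Or.inr (Ctx.ov_of rfl (hS el ρ hρ H hH hg hb hs) 9 [nat_lit 0] 6240 3196 (by decide +kernel))) (forall_cons (Or.inr (Ctx.ov_of rfl (hS el ρ hρ H hH hg hb hs) 10 [nat_lit 0] 6241 4750 (by decide +kernel))) (forall_cons (Or.inr (Ctx.ov_of rfl (hS el ρ hρ H hH hg hb hs) 11 [nat_lit 0] 6242 4868 (by decide +kernel))) (forall_cons (Or.inr (Ctx.ov_of rfl (hS el ρ hρ H hH hg hb hs) 12 [nat_lit 0] 6243 5048 (by decide +kernel))) (forall_cons (Or.inr (Ctx.ov_of rfl (hS el ρ hρ H hH hg hb hs) 13 [nat_lit 0] 6245 5451 (by decide +kernel))) (forall_cons (Or.inr (Ctx.ov_of rfl (hS el ρ hρ H hH hg hb hs) 14 [nat_lit 0] 6247 5844 (by decide +kernel))) (forall_cons (Or.inr (Ctx.ov_of rfl (hS el ρ hρ H hH hg hb hs) 15 [nat_lit 0] 6248 5919 (by decide +kernel)))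 (forall_cons (Or.inr (Ctx.ov_of rfl (hS el ρ hρ H hH hg hb hs) 16 [nat_lit 8642, nat_lit 0] 6253 3196 (by decide +kernel))) (forall_cons (Or.inr (Ctx.ov_of rfl (hS el ρ hρ H hH hg hb hs) 17 [nat_lit 0] 6256 6160 (by decide +kernel))) (forall_cons (Or.inr (Ctx.ov_of rfl (hS el ρ hρ H hH hg hb hs) 18 [nat_lit 0] 6262 6178 (by decide +kernel))) (forall_cons (Or.inr (Ctx.ov_of rfl (hS el ρ hρ H hH hg hb hs) 19 [nat_lit 0] 6265 6201 (by decide +kernel))) (forall_cons (Or.inr (Ctx.ov_of rfl (hS el ρ hρ H hH hg hb hs) 20 [nat_lit 0] 6268 6215 (by decide +kernel))) (forall_nil)))))))))))))))))))))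
end
end CfH6.J4C
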