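import Cfsg.Agent.OD.Pre
import Cfsg.Agent.H6.M24D
import Cfsg.Agent.H6.J4V.F0
import Cfsg.Agent.H6.J4V.P0
set_option autoImplicit false
set_option maxRecDepth 100000
set_option Elab.async false
set_option linter.all false
namespace CfH6.J4V
open CfH6 CfH6.D MulAction
def σ : List (List ℕ) := [[0],
  [1],
  [2]]
def uss : List (List (List ℕ)) := [[[], []],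
  [[1, 0, 2, 0, 1, 0, 2, 0, 1, 0, 1, 0, 2, 0, 1, 0, 2], [1, 0, 2, 0, 1, 0, 2, 0, 1, 0, 1, 0, 2, 0, 1, 0, 2], [1, 0, 2, 0, 1, 0, 2, 0, 1, 0, 1, 0, 2, 0, 1, 0, 2]],
  [[2, 2, 0, 2, 0, 2, 0, 2, 0, 2, 0, 2, 0, 2, 2, 0, 2, 0, 2, 0], [0, 1, 0, 1, 0, 1, 1, 0, 1, 0, 1, 0, 1, 0, 1, 0, 1, 0, 1, 1, 1, 0, 1, 0, 1, 0, 1, 1, 0, 1, 0, 1, 0, 1, 1, 0, 1, 0, 1, 0, 1], [2, 2, 0, 2, 0, 2, 0, 2, 0, 2, 0, 2, 0, 2, 2, 0, 2, 0, 2, 0], [0, 1, 0, 1, 0, 1, 1, 0, 1, 0, 1, 0, 1, 0, 1, 0, 1, 0, 1, 1, 1, 0, 1, 0, 1, 0, 1, 1, 0, 1, 0, 1, 0, 1, 1, 0, 1, 0, 1, 0, 1]],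
  [[0, 1, 0, 1, 0, 1, 1, 0, 1, 0, 1, 0, 1, 0, 1, 0, 1, 0, 1, 1, 1, 0, 1, 0, 1, 0, 1, 1, 0, 1, 0, 1, 0, 1, 1, 0, 1, 0, 1, 0, 1], [2, 2, 0, 2, 0, 2, 0, 2, 0, 2, 0, 2, 0, 2, 2, 0, 2, 0, 2, 0], [0, 1, 0, 1, 0, 1, 1, 0, 1, 0, 1, 0, 1, 0, 1, 0, 1, 0, 1, 1, 1, 0, 1, 0, 1, 0, 1, 1, 0, 1, 0, 1, 0, 1, 1, 0, 1, 0, 1, 0, 1], [2, 2, 0, 2, 0, 2, 0, 2, 0, 2, 0, 2, 0, 2, 2, 0, 2, 0, 2, 0]]]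
def bus : List (List ℕ × List ℕ) := [([0], [0]),
  ([1, 0, 1, 0, 2, 0, 2, 0, 1, 0, 1, 0, 1], [2, 0, 2, 0, 2, 0, 1, 0, 1, 0, 2, 0, 2])]
def ex : List (List ℕ) := []
def gws : List (List ℕ) := uss.map (gw σ 3)
def bws : List (List ℕ) := bus.map fun u => subst σ u.1 ++ 3 :: (subst σ u.2 ++ [3])
def gs : List (ℕ × List ℕ × List (List ℕ)) := [(329, [1, 0, 1, 0, 2, 0, 2, 0, 2, 0, 2], [[1, 0, 1, 0, 1, 0, 1, 0, 2, 0, 1, 0, 1, 0, 2, 0, 2, 0, 2, 0, 2], [1, 0, 1, 0, 1, 0, 1, 0, 2, 0, 1, 0, 1, 0, 2, 0, 2, 0, 2, 0, 2], [1, 0, 1, 0, 1, 0, 1, 0, 2, 0, 1, 0, 1, 0, 2, 0, 2, 0, 2, 0, 2], [1, 0, 1, 0, 1, 0, 1, 0, 2, 0, 1, 0, 1, 0, 2, 0, 2, 0, 2, 0, 2], [1, 0, 1, 0, 1, 0, 1, 0, 2, 0, 1, 0, 1, 0, 2, 0, 2, 0, 2, 0, 2],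 [1, 0, 1, 0, 1, 0, 1, 0, 2, 0]]),
  (335, [1, 1, 0, 1, 0, 2, 0, 2, 0, 2, 0, 2], [[1, 0, 1, 0, 1, 0, 1, 0, 2, 0, 1, 0, 1, 0, 2, 0, 2, 0, 2, 0, 2], [1, 0, 1, 0, 1, 0, 1, 0, 2, 0, 1, 1, 0, 1, 0, 2, 0, 2, 0, 2, 0, 2], [1, 0, 1, 0, 1, 0, 1, 0, 2, 0, 1, 0, 1, 0, 2, 0, 2, 0, 2, 0, 2], [1, 0, 1, 0, 1, 0, 1, 0, 2, 0]]),
  (346, [0, 1, 0, 2, 0, 2, 0, 2, 0, 2, 0, 1, 0, 1, 0, 1, 0, 1, 0, 2, 0, 1, 0, 1, 0, 2, 0, 2, 0, 2, 0, 2], [[1, 0, 1, 0, 1, 0, 1, 0, 2, 0, 1, 0, 1, 0, 2, 0, 2, 0, 2, 0, 2], [1, 0, 1, 0, 1, 0, 1, 0, 2, 0, 1, 0, 1, 0, 2, 0, 2, 0, 2, 0, 2], [0, 1, 0, 1, 0, 1, 0, 1, 0, 2, 0, 1, 0, 1, 0, 2, 0, 2, 0, 2, 0, 2], [1, 0, 1, 0, 1, 0, 1, 0, 2, 0, 1, 0, 1, 0, 2, 0, 2, 0, 2, 0, 2], [1, 0, 1, 0, 1, 0, 1,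 0, 2, 0, 1, 0, 1, 0, 2, 0, 2, 0, 2, 0, 2], [1, 0, 1, 0, 1, 0, 1, 0, 2, 0]]),
  (351, [0, 1, 0, 2, 0, 2, 0, 2, 0, 1, 0, 2, 0, 1, 0, 1, 0, 1, 0, 2, 0, 1, 0, 1, 0, 2, 0, 2, 0, 2, 0, 2], [[1, 0, 1, 0, 1, 0, 1, 0, 2, 0, 1, 0, 1, 0, 2, 0, 2, 0, 2, 0, 2], [1, 0, 1, 0, 1, 0, 1, 0, 2, 0, 1, 0, 1, 0, 2, 0, 2, 0, 2, 0, 2], [1, 1, 0, 2, 0, 1, 0, 1, 0, 1, 0, 2, 0, 1, 0, 1, 0, 2, 0, 2, 0, 2, 0, 2], [1, 0, 1, 0, 1, 0, 1, 0, 2, 0, 1, 0, 1, 0, 2, 0, 2, 0, 2, 0, 2], [1, 0, 1, 0, 1, 0, 1, 0, 2, 0, 1, 0, 1, 0, 2, 0, 2, 0, 2, 0, 2], [1, 0, 1, 0, 1, 0, 1, 0, 2, 0]]),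
  (352, [1, 0, 1, 0, 2, 0, 2, 0, 2, 0, 2], [[1, 0, 1, 0, 1, 0, 1, 0, 2, 0, 1, 0, 1, 0, 2, 0, 2, 0, 2, 0, 2], [1, 0, 1, 0, 1, 0, 1, 0, 2, 0, 1, 0, 1, 0, 2, 0, 2, 0, 2, 0, 2], [1, 0, 1, 0, 1, 1, 0, 2, 0, 1, 0, 1, 0, 1, 0, 2, 0, 1, 0, 2, 0, 1, 0, 1, 0, 2, 0, 2, 0, 2, 0, 2], [1, 0, 1, 0, 1, 0, 1, 0, 2, 0, 1, 0, 1, 0, 2, 0, 2, 0, 2, 0, 2], [1, 0, 1, 0, 1, 0, 1, 0, 2, 0, 1, 0, 1, 0, 2, 0, 2, 0, 2, 0, 2], [1, 0, 1, 0, 1, 1, 0, 2, 0, 2, 0, 2, 0, 1, 0, 2, 0, 1, 0, 2, 0, 2, 0, 1, 0, 1, 0, 2, 0, 2, 0, 1, 0, 1, 0, 2, 0, 2, 0, 2, 0, 2], [1, 0, 1, 0, 1, 0, 1, 0, 2, 0, 1, 0, 1, 0, 2, 0, 2, 0, 2, 0, 2], [1, 0, 1, 0, 1, 0, 1, 0, 2, 0, 1, 0, 1, 0, 2, 0, 2, 0, 2, 0, 2], [1, 0, 1, 0, 1, 0, 1, 1, 0, 2, 0, 2, 0, 1]])]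
def gls : List (List ℕ) := gs.map fun g => subst σ g.2.1 ++ gw σ 3 g.2.2
theorem chk : Rng P.chk 0 353 := p0
section
variable {G : Type} [Group G] (el : ℕ → G) (ρ : M24B.G →* G) (hρ : ∀ x < 3, ρ (M24B.el x) = byW el σ x)
include hρ
theorem trl : Trl ρ M24D.cd M24D.eq 3 el σ := ⟨M24D.heq, fun x hx => by rw [M24D.cdx x hx, hρ x hx]⟩
theorem hbp (ht : el 3 = (el 3)⁻¹) (h : ∀ w ∈ bws, evw el w = 1) : ∀ p ∈ P.bp, ρ (M24D.cd p.1) * el 3 = el 3 * ρ (M24D.cd p.2) :=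
  (trl el ρ hρ).bp _ _ ht _ bus h (by decide +kernel)
variable (H : Subgroup G) (hg : ∀ w ∈ gws, evw el w = 1)
  (hb : ∀ p ∈ P.bp, ρ (M24D.cd p.1) * el 3 = el 3 * ρ (M24D.cd p.2))
noncomputable def C : Ctx P M24B.G G where
  ρ := ρ
  t := el 3
  H := H
  Bs := ⊤
  cd := M24D.cd
  cd0 := M24D.cd0
  heq := M24D.heq
  hH := fun h => absurd h (by decide)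
  hB := fun _ => rfl
  hrel := (trl el ρ hρ).rels 3 _ uss hg (by decide +kernel)
  hsub := forall_nil
  hbp := fun p hp => ⟨trivial, hb p hp⟩
include H hg hb
theorem hS : ∀ k < 353, (C el ρ hρ H hg hb).Sem (P.fact k) := (C el ρ hρ H hg hb).sound chk
theorem goals : ∀ w ∈ gls, evw el w = 1 := Ctx.goals_of (hS el ρ hρ H hg hb) rfl (trl el ρ hρ) rfl gs (by decide +kernel)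
end
end CfH6.J4V
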