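import Cfsg.Agent.OD.Pre
import Cfsg.Agent.H6.TCTop
/-! coset enumeration certificate; generators a b c d e f ; index 1 -/
set_option autoImplicit false
set_option maxRecDepth 100000
set_option Elab.async false
set_option linter.all false
namespace CfH6.L7K
open CfH6
noncomputable def tab0 : Tr := (Tr.l (nat_lit 0x13ffc9ffe4fff27ff88d309ffe525527ff891244bb67244312193ffca49e4fff27ff93ffc9ffe4fff28e313ffc9ffe4fff27ff93ffc9ffe4fff11670c300439a1141))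
noncomputable def tab1 : Tr := (Tr.l (nat_lit 0xfffc7ffe3fff42aa8fffc7ffe3fff1fff8fffc7ffe3fff1fff8fffc7ffe434739689890c428252da1fff8fffc87ac3fff1fff8fffc7ffe3fff1fff8fffc41801142))
noncomputable def tab2 : Tr := (Tr.l (nat_lit 0x13ffc9ffe4fff27ff93ffc9ffe4fff27ff93ffc9ffe314227ff93ffca98c4fff27ff93ffc9ffe4fff27ff93ffc9ffe4fff27ff93ffc9ffe30c010ec8874c439c1143))
noncomputable def tab3 : Tr := (Tr.l (nat_lit 0xbffce5ae2fff17ff9891482862fff17ff8bffca6962fff20a10bffc5ffe2fff17ff905045ffe2fff17ff8bffc5ffe2fff17ff8d5445ffe2fff20600c7505ffe1144))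
noncomputable def tab4 : Tr := (Tr.l (nat_lit 0xfffc7ffe544720a18fffc7ffe3fff1fff8fffc82843fff1fff8fffc46943fff20a088d787ffe3fff116a0fffc7ffe3fff1fff903007ffe3fff10ed0fffc44981145))
noncomputable def tab5 : Tr := (Tr.l (nat_lit 0x18b389ffe4fff27ff8c50c9ffe4fff27ff93ffc9ffe724b27ff93ffc9ffe4fff27ff93ffc9ffe61c127ff94b449ffe4fff126e13ffc6180945110ed88754439e1146))
noncomputable def tab6 : Tr := (Tr.l (nat_lit 0xbffc82862fff17ff8bffc5ffe2fff20a10bffc5ffe2fff17ff8bffc5ffe2fff17ff8bffc5ffe2fff17ff8bffc5ffe40c017ff8bffc67b497c218ee0c7585ffe1147))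
noncomputable def tab7 : Tr := (Tr.l (nat_lit 0xbffc5ffe41434ba194d145ffe2fff17ff905085ffe2fff17ff8bffc5ffe2fff17ff8bffc5ffe2fff17ff8bffc5ffe2fff20600bffc5ffe2fff18ee8bffc5ffe1148))
noncomputable def tab8 : Tr := (Tr.l (nat_lit 0xbffc5ffe2fff17ff8bffc5ffe2fff17ff8bffc5ffe2fff17ff8bffc848c2fff17ff8bffc5ffe2fff17ff8c3005ffe2fff17ff8bffc5ffe2fff17ff8bffc5ffe1149))
noncomputable def tab9 : Tr := (Tr.l (nat_lit 0xbffc5ffe2fff2aa30bffc5ffe2fff17ff8bffc84962fff17ff8bffc5ffe314117ff8bffc5ffe2fff17ff8bffc61802fff17ff8bffc5ffe2fff17ff8bffc5ffe114a))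
noncomputable def tab10 : Tr := (Tr.l (nat_lit 0x1850c7ffe3fff1fff90b4c7ffe3fff1fff8fffc7ffe3fff1fff985047ffe3fff1fff8fffc7ffe60c01fff8fffca5aa3fff1fff8fffc838499c01fff8876043a2114b))
noncomputable def tab11 : Tr := (Tr.l (nat_lit 0xfffc7ffe3fff1fff8fffc7ffe51421fff8fffc46923fff11ad0fffca2823fff1fff8fffc7ffe3fff28600fffc7ffe3fff1fff90b407ffe3fff10ef0891443a4114c))
noncomputable def tab12 : Tr := (Tr.l (nat_lit 0x723036d81a6db0fffe6350cfaa1fffc3a214f4c3ffe1fff0fffde706d28245ceace6d231a778129448c218cf1209862a447b21baf0db688cbc05e202ab0136800000))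
noncomputable def tab13 : Tr := (Tr.l (nat_lit 0xa67453b67423ab9431ab89674523010))
noncomputable def tab14 : Tr := (Tr.l (nat_lit 0))
noncomputable def tab15 : Tr := (Tr.l (nat_lit 0))
noncomputable def tab16 : Tr := (Tr.l (nat_lit 0))
noncomputable def tab17 : Tr := (Tr.l (nat_lit 0))
noncomputable def tab18 : Tr := (Tr.l (nat_lit 0))
noncomputable def tab19 : Tr := (Tr.l (nat_lit 0x1280))
noncomputable def tab20 : Tr := (Tr.l (nat_lit 0x15c0))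
noncomputable def tab21 : Tr := (Tr.l (nat_lit 0x1700))
noncomputable def tab22 : Tr := (Tr.l (nat_lit 0))
noncomputable def tab23 : Tr := (Tr.l (nat_lit 0))
noncomputable def tab24 : Tr := (Tr.l (nat_lit 0x1300))
noncomputable def tab25 : Tr := (Tr.l (nat_lit 0))
noncomputable def tab26 : Tr := (Tr.l (nat_lit 0x975c79e38b2e4ba1d1ae7474409704102d01663ac0500608508b835c19644d0a0))
noncomputable def ty0 : TT := (TT.n (TT.n (TT.n (TT.l (Ty.srel [nat_lit 1]))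
 (TT.l (Ty.relL (nat_lit 4) [nat_lit 10])))
 (TT.n (TT.l (Ty.dfn))
 (TT.l (Ty.rel3 (nat_lit 2) (nat_lit 1) (nat_lit 3)))))
 (TT.n (TT.n (TT.l (Ty.rel1 (nat_lit 1)))
 (TT.l (Ty.rel3 (nat_lit 3) (nat_lit 1) (nat_lit 2))))
 (TT.l (Ty.skip))))
noncomputable def ty1 : TT := (TT.n (TT.n (TT.n (TT.l (Ty.srel [nat_lit 0]))
 (TT.l (Ty.relL (nat_lit 3) [nat_lit 5, nat_lit 0, nat_lit 4])))
 (TT.n (TT.l (Ty.skip))
 (TT.l (Ty.rel1 (nat_lit 0)))))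
 (TT.n (TT.n (TT.l (Ty.dfn))
 (TT.l (Ty.rel3 (nat_lit 3) (nat_lit 0) (nat_lit 2))))
 (TT.n (TT.l (Ty.relL (nat_lit 7) [nat_lit 10, nat_lit 0, nat_lit 11]))
 (TT.l (Ty.srel [nat_lit 11, nat_lit 5])))))
noncomputable def ty2 : TT := (TT.n (TT.n (TT.n (TT.l (Ty.srel [nat_lit 3]))
 (TT.l (Ty.rel3 (nat_lit 4) (nat_lit 3) (nat_lit 5))))
 (TT.l (Ty.dfn)))
 (TT.n (TT.l (Ty.rel1 (nat_lit 3)))
 (TT.l (Ty.skip))))
noncomputable def ty3 : TT := (TT.n (TT.n (TT.n (TT.l (Ty.srel [nat_lit 2]))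
 (TT.l (Ty.rel3 (nat_lit 4) (nat_lit 2) (nat_lit 5))))
 (TT.n (TT.l (Ty.rel1 (nat_lit 2)))
 (TT.l (Ty.relL (nat_lit 6) [nat_lit 2, nat_lit 0, nat_lit 7]))))
 (TT.n (TT.n (TT.l (Ty.skip))
 (TT.l (Ty.rel3 (nat_lit 5) (nat_lit 2) (nat_lit 4))))
 (TT.l (Ty.dfn))))
noncomputable def ty4 : TT := (TT.n (TT.n (TT.n (TT.l (Ty.srel [nat_lit 5]))
 (TT.l (Ty.rel5 (nat_lit 7) (nat_lit 4) (nat_lit 6) (nat_lit 5) (nat_lit 6))))
 (TT.l (Ty.skip)))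
 (TT.n (TT.l (Ty.rel1 (nat_lit 5)))
 (TT.l (Ty.dfn))))
noncomputable def ty5 : TT := (TT.n (TT.n (TT.n (TT.l (Ty.srel [nat_lit 4]))
 (TT.l (Ty.rel3 (nat_lit 8) (nat_lit 4) (nat_lit 9))))
 (TT.n (TT.l (Ty.dfn))
 (TT.l (Ty.relL (nat_lit 0) [nat_lit 4, nat_lit 1, nat_lit 3]))))
 (TT.n (TT.n (TT.l (Ty.rel1 (nat_lit 4)))
 (TT.l (Ty.relL (nat_lit 1) [nat_lit 11])))
 (TT.l (Ty.skip))))
noncomputable def ty6 : TT := (TT.n (TT.n (TT.l (Ty.srel [nat_lit 7]))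
 (TT.l (Ty.rel1 (nat_lit 7))))
 (TT.n (TT.l (Ty.skip))
 (TT.l (Ty.dfn))))
noncomputable def ty7 : TT := (TT.n (TT.n (TT.n (TT.l (Ty.srel [nat_lit 6]))
 (TT.l (Ty.relL (nat_lit 10) [nat_lit 0, nat_lit 11, nat_lit 1])))
 (TT.l (Ty.rel1 (nat_lit 6))))
 (TT.n (TT.l (Ty.skip))
 (TT.l (Ty.dfn))))
noncomputable def ty8 : TT := (TT.n (TT.n (TT.l (Ty.srel [nat_lit 9]))
 (TT.l (Ty.dfn)))
 (TT.n (TT.l (Ty.skip))
 (TT.l (Ty.relL (nat_lit 4) [nat_lit 11, nat_lit 5, nat_lit 10]))))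
noncomputable def ty9 : TT := (TT.n (TT.n (TT.n (TT.l (Ty.srel [nat_lit 8]))
 (TT.l (Ty.srel [nat_lit 4, nat_lit 8, nat_lit 5])))
 (TT.l (Ty.dfn)))
 (TT.n (TT.l (Ty.skip))
 (TT.l (Ty.relL (nat_lit 11) [nat_lit 4, nat_lit 10, nat_lit 5]))))
noncomputable def ty10 : TT := (TT.n (TT.n (TT.n (TT.l (Ty.srel [nat_lit 11]))
 (TT.l (Ty.rel3 (nat_lit 9) (nat_lit 11) (nat_lit 8))))
 (TT.l (Ty.skip)))
 (TT.n (TT.n (TT.l (Ty.rel1 (nat_lit 11)))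
 (TT.l (Ty.dfn)))
 (TT.l (Ty.relL (nat_lit 0) [nat_lit 4]))))
noncomputable def ty11 : TT := (TT.n (TT.n (TT.n (TT.l (Ty.srel [nat_lit 10]))
 (TT.l (Ty.dfn)))
 (TT.l (Ty.skip)))
 (TT.n (TT.l (Ty.rel1 (nat_lit 10)))
 (TT.l (Ty.rel3 (nat_lit 9) (nat_lit 10) (nat_lit 8)))))
noncomputable def ty12 : TT := (TT.n (TT.n (TT.n (TT.l (Ty.skip))
 (TT.l (Ty.relL (nat_lit 11) [nat_lit 7, nat_lit 10, nat_lit 6])))
 (TT.l (Ty.rel5 (nat_lit 2) (nat_lit 0) (nat_lit 5) (nat_lit 1) (nat_lit 4))))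
 (TT.n (TT.n (TT.l (Ty.srel [nat_lit 10, nat_lit 6, nat_lit 11, nat_lit 7]))
 (TT.l (Ty.srel [nat_lit 0, nat_lit 7, nat_lit 3, nat_lit 6, nat_lit 2])))
 (TT.l (Ty.rel5 (nat_lit 4) (nat_lit 10) (nat_lit 5) (nat_lit 9) (nat_lit 11)))))
noncomputable def C : Cert where
  tabs := [tab0, tab1, tab2, tab3, tab4, tab5, tab6, tab7, tab8, tab9, tab10, tab11, tab12, tab13, tab14, tab15, tab16, tab17, tab18, tab19, tab20, tab21, tab22, tab23, tab24, tab25, tab26]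
  tts := [ty0, ty1, ty2, ty3, ty4, ty5, ty6, ty7, ty8, ty9, ty10, ty11, ty12]
  k := nat_lit 6
  base := nat_lit 8
  mJ := nat_lit 64
  mR := nat_lit 63
  W := nat_lit 17
  mA := nat_lit 4095
  mI := nat_lit 127
  S := nat_lit 12
  mC := nat_lit 31
  nc := nat_lit 12
  lo := nat_lit 64
  live := nat_lit 65
  hi1 := nat_lit 94
  AW := nat_lit 13
  mAW := nat_lit 8191
def il : List ℕ := [1, 0, 3, 2, 5, 4, 7, 6, 9, 8, 11, 10]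
def rels : List (List ℕ) := [[0, 0, 0, 0, 0, 0, 0],
  [2, 2, 2, 2, 2, 2, 2],
  [4, 4, 4, 4, 4, 4, 4],
  [6, 6, 6, 6, 6, 6, 6],
  [8, 8, 8, 8, 8, 8, 8],
  [10, 10, 10, 10, 10, 10, 10],
  [4, 4, 4, 7, 7, 5, 7, 5, 7, 7],
  [4, 6, 5, 6, 4, 7],
  [0, 7, 3, 6, 2],
  [0, 4, 1, 3, 5],
  [2, 4, 3, 5],
  [0, 2, 1, 3],
  [0, 0, 10, 10, 4, 10, 2, 10, 4, 0, 8, 0, 4],
  [4, 10, 5, 9, 11],
  [0, 10, 1, 11, 6],
  [8, 10, 9, 11],
  [6, 10, 7, 11],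
  [4, 8, 5, 9],
  [10, 0, 4]]
def subs : List (List ℕ) := []
theorem valid : C.valid il rels subs = true := by decide +kernel
theorem p0 : C.OkL 64 65 := C.okL_of 64 0 1 65 (by decide) (by decide +kernel)
theorem p1 : C.OkR 65 95 := C.okR_of 65 0 30 95 (by decide) (by decide +kernel)
theorem covers {G : Type*} [Group G] (ev : ℕ → G) (H : Subgroup G)
    (hinv : ∀ x < 12, ev (il.getD x 0) = (ev x)⁻¹) (hr : ∀ r ∈ rels, evw ev r = 1)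
    (hs : ∀ s ∈ subs, evw ev s ∈ H) : Covers H (gensub ev 12) 1 :=
  C.sound il rels subs 12 1 valid (p0) (p1) (by decide) (by decide) ev H hinv hr hs
end CfH6.L7K
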