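import Cfsg.Agent.OD.Pre
import Cfsg.Agent.H6.TCTop
/-! coset enumeration certificate; generators a b c d ; index 49 -/
set_option autoImplicit false
set_option maxRecDepth 100000
set_option Elab.async false
set_option linter.all false
namespace CfH6.L7T2
open CfH6
noncomputable def tab0 : Tr := (Tr.l (nat_lit 0x7fff7fff7fff445c345b167016ef146d1aee4356335546e23661685757e6185817e45360145f176b17ec146a146914e814e7434c334b15d9155a42ca32c921c845d1355012e512e313de13dd135413d313d2424432432142134f134e124d12c712c620c011c51141))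
noncomputable def tab1 : Tr := (Tr.l (nat_lit 0x9fff9fff9fff45ee366d6a6b83ec875f66e043de33dd445c345b1865225177632250176816e713e263e1434f334e14f014ef44d7355857e418e613ea13e952cd434c334b165315d242c732c621c513da13d913561355125442443243214112ca12c911c820c01142))
noncomputable def tab2 : Tr := (Tr.l (nat_lit 0x7fff7fff7fff225a13f043571aee386b49e6225418e4225313e84a6a665e1a6c645f335155e214e516e0224d166321cc135c21ca12ef13ed445621c8155812e921c712e7354f13e121c5155012dd2144125b21421259125521411252124e20c011cb11c911c61143))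
noncomputable def tab3 : Tr := (Tr.l (nat_lit 0x8fff8fff8fff536f22593a6d435849e418ec1ae62254536722521a6b6460786965dd16613350665f14e316e5224d52db21cb12f021c944d513ee14d721c812ea12e821c613e234ce15d121c512de125c2143125a2142125612532141124f11cc20c011ca11c71144))
noncomputable def tab4 : Tr := (Tr.l (nat_lit 0xafffafffafff376f45599ad87255725437e93a6c39e655d337e886e423dd396a37e5724f36d1724d56de366336e0345c43db3670444971c83a6d32ee345632eb54c734e771c536e234ce32e132df334c42cb355a6342325753c133d23250324441c3344a22c610c0))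
noncomputable def tab5 : Tr := (Tr.l (nat_lit 0xafffafffafff25da26f0425699d789ea425468e4376b6767545279693763176635de5650424e365d424d175f146523dc145b24ca15ef1b6e41c863d512ed12ec16685346266141c512e2344f12e022cc134b23c214d9125815531341125121c4124313c914471140))
noncomputable def tab6 : Tr := (Tr.l (nat_lit 0xa24fa24dcfff59e0376179e22ae7b9db29e859de58d546ee4b6ca251485396d987d847704a6d585c8befd84f4969376b365f49e635d2474b7865486a264949d445da4663464c42e42547365d62f154d7465045d645c3474854c434ce464542ca32c624c223c110c0))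
noncomputable def tab7 : Tr := (Tr.l (nat_lit 0xafffafff624d36e21c5f966889e18ae717dc37d638dd1a6b1b6d795a18d7625025d21a6e17ef1a7016db1a6a16ce18e01a6c355317641863154c354a1969395457e5165912e625cb42f3154642f235d126d8324416d536c815cf134325c515472549154214411140))
noncomputable def tab8 : Tr := (Tr.l (nat_lit 0x37ded7cd274d0000000000000000000000000000000000000000000000000000000000000000000000000000000000000000000000000000000000000000000000000000000000000000000000000000000000000000000000000000000000000000000000000000))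
noncomputable def tab9 : Tr := (Tr.l (nat_lit 0x6672354452323617145452323234523023452312323023123010))
noncomputable def tab10 : Tr := (Tr.l (nat_lit 0))
noncomputable def tab11 : Tr := (Tr.l (nat_lit 0))
noncomputable def tab12 : Tr := (Tr.l (nat_lit 0))
noncomputable def tab13 : Tr := (Tr.l (nat_lit 0))
noncomputable def tab14 : Tr := (Tr.l (nat_lit 0))
noncomputable def tab15 : Tr := (Tr.l (nat_lit 0))
noncomputable def tab16 : Tr := (Tr.l (nat_lit 0x1cc0))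
noncomputable def tab17 : Tr := (Tr.l (nat_lit 0))
noncomputable def tab18 : Tr := (Tr.l (nat_lit 0x1c67))
noncomputable def ty0 : TT := (TT.n (TT.n (TT.n (TT.l (Ty.rel1 (nat_lit 1)))
 (TT.l (Ty.relL (nat_lit 4) [nat_lit 1, nat_lit 3, nat_lit 5])))
 (TT.n (TT.l (Ty.rel3 (nat_lit 3) (nat_lit 1) (nat_lit 2)))
 (TT.l (Ty.skip))))
 (TT.n (TT.n (TT.l (Ty.dfn))
 (TT.l (Ty.relL (nat_lit 0) [nat_lit 0, nat_lit 0, nat_lit 0, nat_lit 0, nat_lit 0])))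
 (TT.l (Ty.rel3 (nat_lit 2) (nat_lit 1) (nat_lit 3)))))
noncomputable def ty1 : TT := (TT.n (TT.n (TT.n (TT.n (TT.l (Ty.rel1 (nat_lit 0)))
 (TT.l (Ty.skip)))
 (TT.l (Ty.relL (nat_lit 1) [nat_lit 1, nat_lit 1, nat_lit 1, nat_lit 1, nat_lit 1])))
 (TT.n (TT.l (Ty.rel3 (nat_lit 3) (nat_lit 0) (nat_lit 2)))
 (TT.l (Ty.relL (nat_lit 3) [nat_lit 7, nat_lit 2, nat_lit 6]))))
 (TT.n (TT.n (TT.l (Ty.dfn))
 (TT.l (Ty.relL (nat_lit 3) [nat_lit 5, nat_lit 0, nat_lit 4])))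
 (TT.n (TT.l (Ty.rel3 (nat_lit 2) (nat_lit 0) (nat_lit 3)))
 (TT.l (Ty.relL (nat_lit 4) [nat_lit 2, nat_lit 0, nat_lit 5])))))
noncomputable def ty2 : TT := (TT.n (TT.n (TT.n (TT.l (Ty.rel1 (nat_lit 3)))
 (TT.l (Ty.relL (nat_lit 2) [nat_lit 2, nat_lit 2, nat_lit 2, nat_lit 2, nat_lit 2])))
 (TT.n (TT.l (Ty.rel3 (nat_lit 4) (nat_lit 3) (nat_lit 5)))
 (TT.l (Ty.skip))))
 (TT.n (TT.n (TT.l (Ty.dfn))
 (TT.l (Ty.rel3 (nat_lit 1) (nat_lit 3) (nat_lit 0))))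
 (TT.l (Ty.rel3 (nat_lit 5) (nat_lit 3) (nat_lit 4)))))
noncomputable def ty3 : TT := (TT.n (TT.n (TT.n (TT.l (Ty.rel1 (nat_lit 2)))
 (TT.l (Ty.relL (nat_lit 3) [nat_lit 3, nat_lit 3, nat_lit 3, nat_lit 3, nat_lit 3])))
 (TT.n (TT.l (Ty.rel3 (nat_lit 5) (nat_lit 2) (nat_lit 4)))
 (TT.l (Ty.rel3 (nat_lit 0) (nat_lit 2) (nat_lit 1)))))
 (TT.n (TT.n (TT.l (Ty.dfn))
 (TT.l (Ty.rel3 (nat_lit 1) (nat_lit 2) (nat_lit 0))))
 (TT.n (TT.l (Ty.rel3 (nat_lit 4) (nat_lit 2) (nat_lit 5)))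
 (TT.l (Ty.skip)))))
noncomputable def ty4 : TT := (TT.n (TT.n (TT.n (TT.n (TT.l (Ty.ssub [] []))
 (TT.l (Ty.relL (nat_lit 4) [nat_lit 4, nat_lit 4, nat_lit 4, nat_lit 4, nat_lit 4])))
 (TT.l (Ty.rel3 (nat_lit 2) (nat_lit 5) (nat_lit 3))))
 (TT.n (TT.l (Ty.rel1 (nat_lit 5)))
 (TT.l (Ty.dfn))))
 (TT.n (TT.n (TT.n (TT.l (Ty.relL (nat_lit 1) [nat_lit 3, nat_lit 5, nat_lit 0]))
 (TT.l (Ty.skip)))
 (TT.l (Ty.relL (nat_lit 2) [nat_lit 0, nat_lit 5, nat_lit 1])))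
 (TT.n (TT.l (Ty.rel3 (nat_lit 3) (nat_lit 5) (nat_lit 2)))
 (TT.l (Ty.rel5 (nat_lit 7) (nat_lit 5) (nat_lit 6) (nat_lit 5) (nat_lit 7))))))
noncomputable def ty5 : TT := (TT.n (TT.n (TT.n (TT.n (TT.l (Ty.rel1 (nat_lit 4)))
 (TT.l (Ty.relL (nat_lit 5) [nat_lit 6, nat_lit 6, nat_lit 4, nat_lit 6, nat_lit 4, nat_lit 6, nat_lit 6, nat_lit 5])))
 (TT.l (Ty.rel3 (nat_lit 3) (nat_lit 4) (nat_lit 2))))
 (TT.n (TT.l (Ty.relL (nat_lit 1) [nat_lit 4, nat_lit 2, nat_lit 0]))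
 (TT.l (Ty.relL (nat_lit 7) [nat_lit 5, nat_lit 7, nat_lit 7, nat_lit 4, nat_lit 4, nat_lit 4, nat_lit 7, nat_lit 7]))))
 (TT.n (TT.n (TT.n (TT.l (Ty.rel3 (nat_lit 2) (nat_lit 4) (nat_lit 3)))
 (TT.l (Ty.skip)))
 (TT.l (Ty.relL (nat_lit 0) [nat_lit 4, nat_lit 1, nat_lit 3])))
 (TT.n (TT.l (Ty.dfn))
 (TT.l (Ty.relL (nat_lit 5) [nat_lit 5, nat_lit 5, nat_lit 5, nat_lit 5, nat_lit 5])))))
noncomputable def ty6 : TT := (TT.n (TT.n (TT.n (TT.n (TT.l (Ty.ssub [] []))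
 (TT.l (Ty.relL (nat_lit 4) [nat_lit 6, nat_lit 4, nat_lit 6, nat_lit 6, nat_lit 5, nat_lit 5, nat_lit 5, nat_lit 6])))
 (TT.l (Ty.relL (nat_lit 2) [nat_lit 0, nat_lit 7, nat_lit 3])))
 (TT.n (TT.n (TT.l (Ty.relL (nat_lit 1) [nat_lit 3, nat_lit 7, nat_lit 2]))
 (TT.l (Ty.relL (nat_lit 6) [nat_lit 4, nat_lit 6, nat_lit 4, nat_lit 6, nat_lit 6, nat_lit 5, nat_lit 5, nat_lit 5])))
 (TT.l (Ty.rel5 (nat_lit 5) (nat_lit 6) (nat_lit 4) (nat_lit 7) (nat_lit 4)))))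
 (TT.n (TT.n (TT.n (TT.l (Ty.rel5 (nat_lit 4) (nat_lit 7) (nat_lit 4) (nat_lit 6) (nat_lit 5)))
 (TT.l (Ty.dfn)))
 (TT.l (Ty.srel [nat_lit 7])))
 (TT.n (TT.n (TT.l (Ty.rel1 (nat_lit 7)))
 (TT.l (Ty.skip)))
 (TT.l (Ty.relL (nat_lit 6) [nat_lit 6, nat_lit 6, nat_lit 6, nat_lit 6, nat_lit 6])))))
noncomputable def ty7 : TT := (TT.n (TT.n (TT.n (TT.n (TT.l (Ty.rel1 (nat_lit 6)))
 (TT.l (Ty.rel5 (nat_lit 4) (nat_lit 6) (nat_lit 5) (nat_lit 6) (nat_lit 4))))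
 (TT.l (Ty.relL (nat_lit 5) [nat_lit 7, nat_lit 5, nat_lit 7, nat_lit 7, nat_lit 4, nat_lit 4, nat_lit 4, nat_lit 7])))
 (TT.n (TT.l (Ty.relL (nat_lit 2) [nat_lit 6, nat_lit 1, nat_lit 3]))
 (TT.l (Ty.relL (nat_lit 7) [nat_lit 7, nat_lit 7, nat_lit 7, nat_lit 7, nat_lit 7]))))
 (TT.n (TT.n (TT.n (TT.l (Ty.relL (nat_lit 3) [nat_lit 6, nat_lit 2, nat_lit 0]))
 (TT.l (Ty.skip)))
 (TT.l (Ty.dfn)))
 (TT.n (TT.l (Ty.srel [nat_lit 6]))
 (TT.l (Ty.rel5 (nat_lit 4) (nat_lit 7) (nat_lit 5) (nat_lit 6) (nat_lit 5))))))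
noncomputable def ty8 : TT := (TT.n (TT.n (TT.l (Ty.skip))
 (TT.l (Ty.srel [nat_lit 2, nat_lit 6, nat_lit 1, nat_lit 3, nat_lit 7])))
 (TT.l (Ty.relL (nat_lit 4) [nat_lit 7, nat_lit 4, nat_lit 6, nat_lit 5, nat_lit 6])))
noncomputable def C : Cert where
  tabs := [tab0, tab1, tab2, tab3, tab4, tab5, tab6, tab7, tab8, tab9, tab10, tab11, tab12, tab13, tab14, tab15, tab16, tab17, tab18]
  tts := [ty0, ty1, ty2, ty3, ty4, ty5, ty6, ty7, ty8]
  k := nat_lit 6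
  base := nat_lit 12
  mJ := nat_lit 64
  mR := nat_lit 63
  W := nat_lit 16
  mA := nat_lit 4095
  mI := nat_lit 127
  S := nat_lit 12
  mC := nat_lit 15
  nc := nat_lit 8
  lo := nat_lit 64
  live := nat_lit 113
  hi1 := nat_lit 115
  AW := nat_lit 13
  mAW := nat_lit 8191
def il : List ℕ := [1, 0, 3, 2, 5, 4, 7, 6]
def rels : List (List ℕ) := [[0, 0, 0, 0, 0, 0, 0],
  [2, 2, 2, 2, 2, 2, 2],
  [4, 4, 4, 4, 4, 4, 4],
  [6, 6, 6, 6, 6, 6, 6],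
  [4, 4, 4, 7, 7, 5, 7, 5, 7, 7],
  [4, 6, 5, 6, 4, 7],
  [0, 7, 3, 6, 2],
  [0, 4, 1, 3, 5],
  [2, 4, 3, 5],
  [0, 2, 1, 3]]
def subs : List (List ℕ) := [[4],
  [6]]
theorem valid : C.valid il rels subs = true := by decide +kernel
theorem p0 : C.OkL 64 113 := C.okL_of 64 0 49 113 (by decide) (by decide +kernel)
theorem p1 : C.OkR 113 116 := C.okR_of 113 0 3 116 (by decide) (by decide +kernel)
theorem covers {G : Type*} [Group G] (ev : ℕ → G) (H : Subgroup G)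
    (hinv : ∀ x < 8, ev (il.getD x 0) = (ev x)⁻¹) (hr : ∀ r ∈ rels, evw ev r = 1)
    (hs : ∀ s ∈ subs, evw ev s ∈ H) : Covers H (gensub ev 8) 49 :=
  C.sound il rels subs 8 49 valid (p0) (p1) (by decide) (by decide) ev H hinv hr hs
end CfH6.L7T2
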