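import Cfsg.Agent.OD.Pre
import Cfsg.Agent.H6.TCTop
/-! coset enumeration certificate; generators c d ; index 48 -/
set_option autoImplicit false
set_option maxRecDepth 100000
set_option Elab.async false
set_option linter.all false
namespace CfH6.L7T3
open CfH6
noncomputable def tab0 : Tr := (Tr.l (nat_lit 0x48ef77e1496d7864466b73e64ae979e732543253635957dd325129565758325023e0236e324d236c435b324b236a324a244e236823da24e331c822e522e231c722df22de31c522dc31c422d722d522523142224f224c3141224921c621c310c0))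
noncomputable def tab1 : Tr := (Tr.l (nat_lit 0x196f22de19ed22dc16eb22d91b6922d61a68146a225218ec64542251186e535f224f224e1864224c13db535513e517e1224a48e2224912e712e621c812e312e021c633d712dd21c512da12d821c3125312502142124d124b214111c711c41140))
noncomputable def tab2 : Tr := (Tr.l (nat_lit 0x8967786e87e678ec83e475ea83e17a68355534d748dd2251545c48582250545e1763136f56e0136d65cf16df136b334d155a136917e521c8534913e221c7534c13521354334b135312db12d912d6214252434246124e3244124a20c011c51141))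
noncomputable def tab3 : Tr := (Tr.l (nat_lit 0x22de18ee22dc196c22d9166a22d61ae819ef186d7755146b46df33521469175d765a14e0196514e3224b64d7224a18e21566224915e752ce42cc32cf12e412e1165b21c513d813d013cd21c313d31254125112c6214112c412c711c820c01142))
noncomputable def tab4 : Tr := (Tr.l (nat_lit 0))
noncomputable def tab5 : Tr := (Tr.l (nat_lit 0x313131310012012011013030131201201301031201301230))
noncomputable def tab6 : Tr := (Tr.l (nat_lit 0))
noncomputable def tab7 : Tr := (Tr.l (nat_lit 0))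
noncomputable def tab8 : Tr := (Tr.l (nat_lit 0))
noncomputable def tab9 : Tr := (Tr.l (nat_lit 0))
noncomputable def tab10 : Tr := (Tr.l (nat_lit 0))
noncomputable def ty0 : TT := (TT.n (TT.n (TT.n (TT.l (Ty.ssub [] []))
 (TT.l (Ty.rel5 (nat_lit 2) (nat_lit 1) (nat_lit 2) (nat_lit 0) (nat_lit 3))))
 (TT.n (TT.l (Ty.dfn))
 (TT.l (Ty.relL (nat_lit 0) [nat_lit 0, nat_lit 0, nat_lit 0, nat_lit 0, nat_lit 0]))))
 (TT.n (TT.n (TT.l (Ty.rel1 (nat_lit 1)))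
 (TT.l (Ty.relL (nat_lit 3) [nat_lit 3, nat_lit 1, nat_lit 3, nat_lit 1, nat_lit 3, nat_lit 3, nat_lit 0, nat_lit 0])))
 (TT.l (Ty.rel5 (nat_lit 3) (nat_lit 0) (nat_lit 2) (nat_lit 1) (nat_lit 2)))))
noncomputable def ty1 : TT := (TT.n (TT.n (TT.n (TT.l (Ty.rel1 (nat_lit 0)))
 (TT.l (Ty.relL (nat_lit 1) [nat_lit 1, nat_lit 1, nat_lit 1, nat_lit 1, nat_lit 1])))
 (TT.l (Ty.relL (nat_lit 1) [nat_lit 1, nat_lit 2, nat_lit 2, nat_lit 0, nat_lit 2, nat_lit 0, nat_lit 2, nat_lit 2])))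
 (TT.n (TT.n (TT.l (Ty.dfn))
 (TT.l (Ty.relL (nat_lit 2) [nat_lit 2, nat_lit 0, nat_lit 2, nat_lit 0, nat_lit 2, nat_lit 2, nat_lit 1, nat_lit 1])))
 (TT.l (Ty.rel5 (nat_lit 2) (nat_lit 0) (nat_lit 3) (nat_lit 0) (nat_lit 2)))))
noncomputable def ty2 : TT := (TT.n (TT.n (TT.n (TT.l (Ty.rel1 (nat_lit 3)))
 (TT.l (Ty.rel5 (nat_lit 1) (nat_lit 3) (nat_lit 0) (nat_lit 3) (nat_lit 1))))
 (TT.n (TT.l (Ty.rel5 (nat_lit 0) (nat_lit 3) (nat_lit 0) (nat_lit 2) (nat_lit 1)))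
 (TT.l (Ty.relL (nat_lit 0) [nat_lit 2, nat_lit 2, nat_lit 1, nat_lit 1, nat_lit 1, nat_lit 2, nat_lit 2, nat_lit 0]))))
 (TT.n (TT.n (TT.l (Ty.dfn))
 (TT.l (Ty.relL (nat_lit 1) [nat_lit 1, nat_lit 1, nat_lit 2, nat_lit 2, nat_lit 0, nat_lit 2, nat_lit 0, nat_lit 2])))
 (TT.n (TT.l (Ty.rel5 (nat_lit 1) (nat_lit 2) (nat_lit 0) (nat_lit 3) (nat_lit 0)))
 (TT.l (Ty.relL (nat_lit 2) [nat_lit 2, nat_lit 2, nat_lit 2, nat_lit 2, nat_lit 2])))))
noncomputable def ty3 : TT := (TT.n (TT.n (TT.n (TT.l (Ty.rel1 (nat_lit 2)))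
 (TT.l (Ty.relL (nat_lit 3) [nat_lit 3, nat_lit 3, nat_lit 3, nat_lit 3, nat_lit 3])))
 (TT.n (TT.l (Ty.rel5 (nat_lit 1) (nat_lit 2) (nat_lit 1) (nat_lit 3) (nat_lit 0)))
 (TT.l (Ty.rel5 (nat_lit 0) (nat_lit 2) (nat_lit 1) (nat_lit 2) (nat_lit 0)))))
 (TT.n (TT.n (TT.l (Ty.dfn))
 (TT.l (Ty.rel5 (nat_lit 0) (nat_lit 3) (nat_lit 1) (nat_lit 2) (nat_lit 1))))
 (TT.l (Ty.relL (nat_lit 1) [nat_lit 3, nat_lit 3, nat_lit 0, nat_lit 0, nat_lit 0, nat_lit 3, nat_lit 3, nat_lit 1]))))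
noncomputable def ty4 : TT := (TT.l (Ty.skip))
noncomputable def C : Cert where
  tabs := [tab0, tab1, tab2, tab3, tab4, tab5, tab6, tab7, tab8, tab9, tab10]
  tts := [ty0, ty1, ty2, ty3, ty4]
  k := nat_lit 6
  base := nat_lit 8
  mJ := nat_lit 64
  mR := nat_lit 63
  W := nat_lit 16
  mA := nat_lit 4095
  mI := nat_lit 127
  S := nat_lit 12
  mC := nat_lit 15
  nc := nat_lit 4
  lo := nat_lit 64
  live := nat_lit 112
  hi1 := nat_lit 111
  AW := nat_lit 13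
  mAW := nat_lit 8191
def il : List ℕ := [1, 0, 3, 2]
def rels : List (List ℕ) := [[0, 0, 0, 0, 0, 0, 0],
  [2, 2, 2, 2, 2, 2, 2],
  [0, 0, 0, 3, 3, 1, 3, 1, 3, 3],
  [0, 2, 1, 2, 0, 3]]
def subs : List (List ℕ) := [[0]]
theorem valid : C.valid il rels subs = true := by decide +kernel
theorem p0 : C.OkL 64 112 := C.okL_of 64 0 48 112 (by decide) (by decide +kernel)
theorem covers {G : Type*} [Group G] (ev : ℕ → G) (H : Subgroup G)
    (hinv : ∀ x < 4, ev (il.getD x 0) = (ev x)⁻¹) (hr : ∀ r ∈ rels, evw ev r = 1)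
    (hs : ∀ s ∈ subs, evw ev s ∈ H) : Covers H (gensub ev 4) 48 :=
  C.sound il rels subs 4 48 valid (p0) (Cert.OkR.nil C _) (by decide) (by decide) ev H hinv hr hs
end CfH6.L7T3
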