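import Cfsg.Agent.OD.Pre
import Cfsg.Agent.H6.L8B
import Cfsg.Agent.H6.L8A.P0
set_option autoImplicit false
set_option maxRecDepth 100000
set_option Elab.async false
set_option linter.all false
namespace CfH6.L8A
open CfH6 MulAction
theorem eq0 : ∀ e ∈ eqs0, evw (lp nets0) e.1 = evw (lp nets0) e.2 :=
  EqsOk.sound (e0_0) ok0 (by decide)
theorem eqAll : ∀ e ∈ eqs, evw (lp nets0) e.1 = evw (lp nets0) e.2 := eq0
theorem hsd : (∀ x < 6, lp nets0 (L8B.il.getD x 0) = (lp nets0 x)⁻¹) ∧ ∀ r ∈ eqRels L8B.il sig eqs, evw (lp nets0) r = 1 :=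
  eqRels_sound (lp nets0) (k := 6) (by decide +kernel) eqAll
theorem exRho : ∃ ρ : L8B.G →* Equiv.Perm ℕ, ∀ x < 6, ρ (L8B.el x) = lp nets0 x :=
  L8B.hhom _ hsd.1 (follows_sound (n := 4) _ hsd.1 hsd.2 (by decide +kernel))
noncomputable def rho : L8B.G →* Equiv.Perm ℕ := Classical.choose exRho
@[reducible] noncomputable def act : MulAction L8B.G ℕ := MulAction.compHom ℕ rho
attribute [local instance] act
theorem L0 : Lvl 128 nets0 6 L8B.el := lvl0 rho ok0 (Classical.choose_spec exRho)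
noncomputable abbrev el1 : ℕ → L8B.G := byW L8B.el ws1
theorem L1 : Lvl 128 nets1 5 el1 := L0.next sx1 (x1_0)
noncomputable abbrev el2 : ℕ → L8B.G := byW el1 ws2
theorem L2 : Lvl 48 nets2 3 el2 := L1.next sx2 (x2_0)
noncomputable abbrev el3 : ℕ → L8B.G := byW el2 ws3
theorem L3 : Lvl 10 nets3 2 el3 := L2.next sx3 (x3_0)
noncomputable abbrev el4 : ℕ → L8B.G := byW el3 ws4
theorem L4 : Lvl 6 nets4 1 el4 := L3.next sx4 (x4_0)
noncomputable abbrev H : Subgroup L8B.G := gensub el1 5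
theorem fix0 : H ≤ stabilizer L8B.G 0 := L1.fix' 0 (by decide +kernel)
theorem cU : (bitSet U).ncard = 114 := ncard_ivls lU _ (by decide +kernel)
theorem oi1 : OrbIn (gensub el1 5) 1 128 S1 :=
  (L1.orbStep (OrbIn.one _ (by decide)) 10 S1 oi1_0)
theorem o1 : orbit H 1 = bitSet S1 := L1.orbEq oi1 ci1
theorem c1 : (bitSet S1).ncard = 49 := ncard_ivls l1 _ (by decide +kernel)
theorem oi2 : OrbIn (gensub el1 5) 55 128 S2 :=
  (L1.orbStep (OrbIn.one _ (by decide)) 10 S2 oi2_0)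
theorem o2 : orbit H 55 = bitSet S2 := L1.orbEq oi2 ci2
theorem c2 : (bitSet S2).ncard = 8 := ncard_ivls l2 _ (by decide +kernel)
theorem oi3 : OrbIn (gensub el1 5) 5 128 S3 :=
  (L1.orbStep (OrbIn.one _ (by decide)) 15 S3 oi3_0)
theorem o3 : orbit H 5 = bitSet S3 := L1.orbEq oi3 ci3
theorem c3 : (bitSet S3).ncard = 56 := ncard_ivls l3 _ (by decide +kernel)
theorem hJ : ∀ j ∈ J, orbit H j.2.1 = bitSet j.2.2 := (forall_cons o1 (forall_cons o2 (forall_cons o3 forall_nil)))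
theorem subU : bitSet U ⊆ orbit (⊤ : Subgroup L8B.G) 0 := L0.sub_top J hJ U (by decide +kernel)
theorem q1 (hH : H = stabilizer L8B.G 0) : (orbit H ((evw L8B.el w1 : L8B.G) : L8B.G ⧸ H)).ncard = 49 :=
  L0.quot hH w1 o1 c1 (by decide +kernel)
theorem q2 (hH : H = stabilizer L8B.G 0) : (orbit H ((evw L8B.el w2 : L8B.G) : L8B.G ⧸ H)).ncard = 8 :=
  L0.quot hH w2 o2 c2 (by decide +kernel)
theorem q3 (hH : H = stabilizer L8B.G 0) : (orbit H ((evw L8B.el w3 : L8B.G) : L8B.G ⧸ H)).ncard = 56 :=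
  L0.quot hH w3 o3 c3 (by decide +kernel)
theorem orbTop : OrbGe (⊤ : Subgroup L8B.G) 0 114 := orbGe_of_sub subU cU
theorem stab (hc : Covers H ⊤ 114) : H = stabilizer L8B.G 0 ∧ H.index = 114 := stab_eq hc fix0 orbTop
theorem low4 : Low (gensub el4 1) [3] 2 :=
  (Low.cons bot_le bot_le (L4.orbGe 3 1 3 2 (by decide) (by decide) og4) (Low.nil ⊥)).cast (by decide)
theorem low3 : Low (gensub el3 2) [2, 3] 14 :=
  (Low.step' L4 (L3.orbGe 2 8 4 7 (by decide) (by decide) og3) (by decide +kernel) low4).cast (by decide)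
theorem low2 : Low (gensub el2 3) [1, 2, 3] 588 :=
  (Low.step' L3 (L2.orbGe 1 9 6 42 (by decide) (by decide) og2) (by decide +kernel) low3).cast (by decide)
theorem low1 : Low (gensub el1 5) [5, 1, 2, 3] 32928 :=
  (Low.step' L2 (orbGe_of_eq o3 c3) (by decide +kernel) low2).cast (by decide)
theorem low0 : Low (gensub L8B.el 6) [0, 5, 1, 2, 3] 3753792 :=
  (Low.step' L1 (L8B.htop ▸ orbTop) (by decide +kernel) low1).cast (by decide)
def bs : List ℕ := [0, 5, 1, 2, 3]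
theorem hbs : ∀ b ∈ bs, b ∈ orbit L8B.G 0 := base_mem subU bs (by decide +kernel)
theorem top (hf : Finite L8B.G ∧ Nat.card L8B.G ≤ 3753792) : Nat.card L8B.G = 3753792 ∧ ∀ g : L8B.G, (∀ b ∈ bs, g • b = b) → g = 1 := low0.top hf
end CfH6.L8A
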