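import Cfsg.Agent.OD.Pre
import Cfsg.Agent.H6.TCTop
/-! coset enumeration certificate; generators a b c d f ; index 112 -/
set_option autoImplicit false
set_option maxRecDepth 100000
set_option Elab.async false
set_option linter.all false
namespace CfH6.LT14
open CfH6
noncomputable def t0 : Tr := (Tr.n (Tr.n (Tr.l (nat_lit 0x912a16dcc64340698010ccc966202642a1078190c41762c2546086602b4fc12a24432f1c8cf0a1083257c84b20855b19ad611e0463ac8497d10aae11dece3df84a6d30ea8125dc42a904774094dc11dc463a89875008cd86316824348844d08cce61958c425048631089011984242e8485c1088e32d3822ac0c54c30a961255442a20455308a9e5291882228464908e843190c40a004241)) (Tr.l (nat_lit 0x44748c4de2ffff10ee0bfffd7fffaffff0b98abfffd7fffaffff31374326e58de5affff5fffe622dd7fffaffff)))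
 (Tr.l (nat_lit 0x10ccabfffd7fff84ad15fffe12b1d7fff987b309384bfffd7fffaffff09170bfffd7fffaffff1a55e43eb844d2960a92b15657e8c30d6151a83153446e80255696e960c154222354b4c05ca62b52643670c5c504e9e31b2212e9c43c1857a1313041be9043bf86b8f0b73e55e48274d8d1902d5284361c24d118975338ec1327464b905a7a09d1c53e1865bc94f6f0913212a5c43351687c)))
noncomputable def t1 : Tr := (Tr.n (Tr.n (Tr.l (nat_lit 0x1912c341d8aee590666ad700941e8654894dd22a37eb3df883300c88c1911632228a468948d02919aa397505320926c49ad631e08a3e3947c528f8431df107310cb6d20aa633d94a3de8c77539aa251ef067b71054f322b641138a35d146b828d6e4113083249044818cc651ad0672f9044718cb831568a2d98c5562068a4151063aa8c55418aa0512c062258c64a206843110c41a084140)) (Tr.l (nat_lit 0x831e083b89077087fff0fffc83b7c3fff138faf23061fff906b920cd30fffc833443fff87ffe4199c64e543fff)))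
 (Tr.l (nat_lit 0x120ef0fffc83309065e87ffe4156463e41055820aae416ca1fff905522089a31ada1fff903467df5683eb85154b60a51e15eb6a7c71d6b6ea82113283a8070d63de9571f262be3dacd08cfa61b7548727084448dd9e2110a41e0c64d3b129820f0241dfc6fd222e8d1a146b5a4084bc8d7921e14484a3877ca1077420ee641dc864cea18884210f755e064cdd977119134419a8644bd66c1)))
noncomputable def t2 : Tr := (Tr.n (Tr.n (Tr.l (nat_lit 0x18cd2319a051c588894b3ace745e8e6390c6631111c235cc56c155c66298ec235e4c63094b701150c2221c632e18c6c10f063156443bf8877e40f868270062ab0c75510ef072d7c46b894857118c45294ce52e8876d1889c81aec433518b58112c0219944432206b5116bc51920e3261064a310922156ca2a30875120a9621d4044a788752186842193461208c44310a882111c41a284140)) (Tr.l (nat_lit 0x31ef14868b7fff6fffedfffdbfffb7fff6fffedfffc635cb7fff6fffedfffdbfffb7fff18ccedfffdbfff94866)))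
 (Tr.l (nat_lit 0x3117edfffdbfff888d218ab4dfffc43e4b7fff6fffedfffc62aa37fff51b66dfffdbfffb7fff1655a3269d98d794ba12973e572a44ed514fa81155c32a44a7d294a8f3df306be5c46560c88a11956322256d4d8c8851373a43a68c74c8b0a316144aae00c4c08c77c2a52653a2045d31ce901174831ddcb6c60ae8d544fa2268044cf08f9218edc525bc44ce14d8418cd69b1d4454a8ac96)))
noncomputable def t3 : Tr := (Tr.n (Tr.n (Tr.l (nat_lit 0x218fe435cc4333aa77cad6cc2199444320489010cc2219802ec605c8b09cfc219782444848883919c21970244284a8110ab441d6c42ac0855708efa71f0423bd0497941ac62154823bb8477610aa011dc842a78476e090d4119ac42268466908cd0941582629a0c54296aa1198842238465f08cba20d1822ac8834538b6262920a42484b4a08aa21113822261074418a802090421a104643)) (Tr.l (nat_lit 0x44f4a88de4ffff9fffe21dbe7fffcffff10d753fffc8764cffff2b98a21ae02ee3886b79ffff3fffc43334ffff)))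
 (Tr.l (nat_lit 0x9fffe21ada7fff852d19ffff3fffc42d9847c608f8811efa7fffcffff08d733fffc4225cffff11350456aca8d6adfa90ad5cb7e88305604aaf927484726d6852854a71111a182aa2d4bc14915951e43a3909c510a870bb4cf9658a94c887820b74219a68a6ca8709375f28b3e482ad0087780973e13e7824d1a1c756b6e81527443b888770097396561843b6d576f6230612260a4b62c880)))
noncomputable def t4 : Tr := (Tr.n (Tr.n (Tr.l (nat_lit 0x4592c825a8543e2677d310f62224c454920f781111e12188444694acf20cbe22a20c4309065d20cb85233044430878409ed6229f843c00475930ece41558a3e020e6439cc6225d844b89055110ee64153c43b80876f41aa0735504434186582089821998c6aa88e5a310924111c433008e5b10cbc12d2881a28855728b642313844a99034210aa44090442268c743110882112041a304940)) (Tr.l (nat_lit 0xdfffdbfffb7fff312e8dfffdbfff9076e6fffe41ae5bfffb7fff6fffedfffdbfffb7fff6fffedfffc28e090665)))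
 (Tr.l (nat_lit 0x6fffee3ee9bfffb7fff6fffe242f843e537fff6fffedfffdbfffb7fff6fffe4112dbfffb7fff0a75ecb29cc956909a02133c4267484cd9089915b5cb7a4484481088e0bd3067a5c844508aac2111222aac45552179c115521ba6844d409fa313f442b5fc4dc3a298b20ef4425e44fd3089a520eee2269083baa9c82155282268444cf849724352a41db42b429066c4210627632acb710669)))
noncomputable def t5 : Tr := (Tr.n (Tr.n (Tr.l (nat_lit 0)) (Tr.l (nat_lit 0xe521beb4235877f34cbd5e138b2f318815c2d1b96003fffea067cc6cf87adef13ea9db84b8f767ee5153dd5b74)))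
 (Tr.l (nat_lit 0xf32e1d8d30e7b0f156f320b5b895f5234e644dc46b379114a7aa10e52b4ab15952c672588c46000000000000000000000000000000000000000000000000000000000000000000000000000000000000000000000000000000000000000000000000000000000000000000000000000000000000000000000000000000000000000000000000000000000000000000000000000000000000)))
noncomputable def t6 : Tr := (Tr.n (Tr.n (Tr.l (nat_lit 0x2231033233104304432032330422130434312130411104310343110424221300)) (Tr.l (nat_lit 0x2110314342113132134)))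
 (Tr.l (nat_lit 0x311213111211431320444441244304242121103110244134241113324342104)))
noncomputable def t7 : Tr := (Tr.n (Tr.n (Tr.l (nat_lit 0x3040)) (Tr.l (nat_lit 0)))
 (Tr.l (nat_lit 0x3480d103280)))
noncomputable def t8 : Tr := (Tr.n (Tr.n (Tr.l (nat_lit 0xc303000)) (Tr.l (nat_lit 0)))
 (Tr.l (nat_lit 0)))
noncomputable def t9 : Tr := (Tr.n (Tr.n (Tr.l (nat_lit 0x3040)) (Tr.l (nat_lit 0)))
 (Tr.l (nat_lit 0xd203440)))
noncomputable def t10 : Tr := (Tr.n (Tr.l (nat_lit 0))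
 (Tr.l (nat_lit 0x3300)))
noncomputable def t11 : Tr := (Tr.n (Tr.n (Tr.l (nat_lit 0)) (Tr.l (nat_lit 0x2f00bf82f23bc86e44c287143c48f2c0c6833e4)))
 (Tr.l (nat_lit 0xd086e84d20b2c3c786dc3ba86f83b90ed81)))
noncomputable def tab0 : Tr := t0
noncomputable def tab1 : Tr := t1
noncomputable def tab2 : Tr := t2
noncomputable def tab3 : Tr := t3
noncomputable def tab4 : Tr := t4
noncomputable def tab5 : Tr := t5
noncomputable def tab6 : Tr := t6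
noncomputable def tab7 : Tr := (Tr.l (nat_lit 0))
noncomputable def tab8 : Tr := t7
noncomputable def tab9 : Tr := t8
noncomputable def tab10 : Tr := t9
noncomputable def tab11 : Tr := t10
noncomputable def tab12 : Tr := t11
noncomputable def ty0 : TT := (TT.n (TT.n (TT.n (TT.n (TT.l (Ty.rel1 (nat_lit 0)))
 (TT.l (Ty.relL (nat_lit 1) [nat_lit 2, nat_lit 0, nat_lit 3, nat_lit 1, nat_lit 3, nat_lit 2, nat_lit 4, nat_lit 0, nat_lit 1, nat_lit 3, nat_lit 1, nat_lit 2, nat_lit 3, nat_lit 2, nat_lit 1, nat_lit 3, nat_lit 0, nat_lit 4, nat_lit 2, nat_lit 3, nat_lit 1, nat_lit 3])))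
 (TT.l (Ty.rel5 (nat_lit 4) (nat_lit 0) (nat_lit 4) (nat_lit 0) (nat_lit 4))))
 (TT.n (TT.n (TT.l (Ty.rel3 (nat_lit 3) (nat_lit 0) (nat_lit 3)))
 (TT.l (Ty.skip)))
 (TT.l (Ty.srel [nat_lit 0]))))
 (TT.n (TT.n (TT.n (TT.l (Ty.dfn))
 (TT.l (Ty.srel [nat_lit 1, nat_lit 3, nat_lit 1, nat_lit 2, nat_lit 3, nat_lit 2, nat_lit 1, nat_lit 3, nat_lit 0, nat_lit 4, nat_lit 2, nat_lit 3, nat_lit 1, nat_lit 3, nat_lit 0, nat_lit 1, nat_lit 2, nat_lit 0, nat_lit 3, nat_lit 1, nat_lit 3, nat_lit 2, nat_lit 4])))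
 (TT.l (Ty.rel3 (nat_lit 1) (nat_lit 0) (nat_lit 1))))
 (TT.n (TT.n (TT.l (Ty.rel5 (nat_lit 2) (nat_lit 0) (nat_lit 2) (nat_lit 0) (nat_lit 2)))
 (TT.l (Ty.relL (nat_lit 3) [nat_lit 1, nat_lit 3, nat_lit 2, nat_lit 4, nat_lit 0, nat_lit 3, nat_lit 1, nat_lit 2, nat_lit 3, nat_lit 2, nat_lit 1, nat_lit 3, nat_lit 1, nat_lit 0, nat_lit 4, nat_lit 2, nat_lit 3, nat_lit 1, nat_lit 3, nat_lit 0, nat_lit 2, nat_lit 1])))
 (TT.l (Ty.srel [nat_lit 2, nat_lit 0, nat_lit 2, nat_lit 0, nat_lit 2])))))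
noncomputable def ty1 : TT := (TT.n (TT.n (TT.n (TT.n (TT.l (Ty.ssub [] []))
 (TT.l (Ty.srel [nat_lit 3, nat_lit 1, nat_lit 3, nat_lit 1, nat_lit 3, nat_lit 1, nat_lit 3])))
 (TT.n (TT.l (Ty.srel [nat_lit 1]))
 (TT.l (Ty.relL (nat_lit 4) [nat_lit 1, nat_lit 4, nat_lit 1, nat_lit 4, nat_lit 1, nat_lit 4]))))
 (TT.n (TT.n (TT.l (Ty.rel1 (nat_lit 1)))
 (TT.l (Ty.srel [nat_lit 3, nat_lit 4, nat_lit 1, nat_lit 3, nat_lit 4, nat_lit 1, nat_lit 3, nat_lit 4])))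
 (TT.n (TT.l (Ty.relL (nat_lit 2) [nat_lit 3, nat_lit 2, nat_lit 1, nat_lit 3, nat_lit 0, nat_lit 4, nat_lit 2, nat_lit 3, nat_lit 1, nat_lit 3, nat_lit 0, nat_lit 1, nat_lit 2, nat_lit 0, nat_lit 3, nat_lit 1, nat_lit 3, nat_lit 2, nat_lit 4, nat_lit 0, nat_lit 1, nat_lit 3]))
 (TT.l (Ty.relL (nat_lit 3) [nat_lit 4, nat_lit 1, nat_lit 3, nat_lit 4, nat_lit 1, nat_lit 3, nat_lit 4])))))
 (TT.n (TT.n (TT.n (TT.l (Ty.rel3 (nat_lit 0) (nat_lit 1) (nat_lit 0)))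
 (TT.l (Ty.relL (nat_lit 3) [nat_lit 2, nat_lit 4, nat_lit 0, nat_lit 1, nat_lit 3, nat_lit 1, nat_lit 2, nat_lit 3, nat_lit 2, nat_lit 1, nat_lit 3, nat_lit 0, nat_lit 4, nat_lit 2, nat_lit 3, nat_lit 1, nat_lit 3, nat_lit 0, nat_lit 1, nat_lit 2, nat_lit 0, nat_lit 3])))
 (TT.n (TT.l (Ty.srel [nat_lit 2, nat_lit 1, nat_lit 2, nat_lit 1, nat_lit 2]))
 (TT.l (Ty.relL (nat_lit 4) [nat_lit 3, nat_lit 1, nat_lit 4, nat_lit 3, nat_lit 1, nat_lit 4, nat_lit 3]))))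
 (TT.n (TT.n (TT.l (Ty.dfn))
 (TT.l (Ty.relL (nat_lit 3) [nat_lit 1, nat_lit 3, nat_lit 1, nat_lit 3, nat_lit 1, nat_lit 3])))
 (TT.n (TT.l (Ty.rel5 (nat_lit 2) (nat_lit 1) (nat_lit 2) (nat_lit 1) (nat_lit 2)))
 (TT.l (Ty.skip))))))
noncomputable def ty2 : TT := (TT.n (TT.n (TT.n (TT.n (TT.l (Ty.ssub [] []))
 (TT.l (Ty.srel [nat_lit 3, nat_lit 1, nat_lit 3, nat_lit 0, nat_lit 1, nat_lit 2, nat_lit 0, nat_lit 3, nat_lit 1, nat_lit 3, nat_lit 2, nat_lit 4, nat_lit 0, nat_lit 1, nat_lit 3, nat_lit 1, nat_lit 2, nat_lit 3, nat_lit 2, nat_lit 1, nat_lit 3, nat_lit 0, nat_lit 4])))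
 (TT.n (TT.l (Ty.rel3 (nat_lit 4) (nat_lit 2) (nat_lit 4)))
 (TT.l (Ty.skip))))
 (TT.n (TT.n (TT.l (Ty.dfn))
 (TT.l (Ty.relL (nat_lit 0) [nat_lit 1, nat_lit 3, nat_lit 1, nat_lit 2, nat_lit 0, nat_lit 1, nat_lit 3, nat_lit 1, nat_lit 2, nat_lit 1, nat_lit 3, nat_lit 1, nat_lit 0, nat_lit 2, nat_lit 1, nat_lit 3, nat_lit 1, nat_lit 0, nat_lit 2, nat_lit 1, nat_lit 3, nat_lit 0, nat_lit 1])))
 (TT.l (Ty.rel5 (nat_lit 3) (nat_lit 2) (nat_lit 3) (nat_lit 2) (nat_lit 3)))))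
 (TT.n (TT.n (TT.n (TT.l (Ty.rel1 (nat_lit 2)))
 (TT.l (Ty.srel [nat_lit 1, nat_lit 2, nat_lit 1, nat_lit 2, nat_lit 1])))
 (TT.l (Ty.rel5 (nat_lit 0) (nat_lit 2) (nat_lit 0) (nat_lit 2) (nat_lit 0))))
 (TT.n (TT.n (TT.l (Ty.rel5 (nat_lit 1) (nat_lit 2) (nat_lit 1) (nat_lit 2) (nat_lit 1)))
 (TT.l (Ty.relL (nat_lit 3) [nat_lit 1, nat_lit 2, nat_lit 3, nat_lit 1, nat_lit 2, nat_lit 3, nat_lit 1, nat_lit 2, nat_lit 3, nat_lit 1, nat_lit 2, nat_lit 3, nat_lit 1])))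
 (TT.l (Ty.srel [nat_lit 2])))))
noncomputable def ty3 : TT := (TT.n (TT.n (TT.n (TT.n (TT.n (TT.l (Ty.rel1 (nat_lit 3)))
 (TT.l (Ty.relL (nat_lit 1) [nat_lit 4, nat_lit 3, nat_lit 1, nat_lit 4, nat_lit 3, nat_lit 1, nat_lit 4])))
 (TT.l (Ty.srel [nat_lit 1, nat_lit 0, nat_lit 2, nat_lit 1, nat_lit 3, nat_lit 1, nat_lit 0, nat_lit 2, nat_lit 1, nat_lit 3, nat_lit 0, nat_lit 1, nat_lit 2, nat_lit 0, nat_lit 1, nat_lit 3, nat_lit 1, nat_lit 2, nat_lit 0, nat_lit 1, nat_lit 3, nat_lit 1, nat_lit 2, nat_lit 1])))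
 (TT.n (TT.l (Ty.rel3 (nat_lit 0) (nat_lit 3) (nat_lit 0)))
 (TT.l (Ty.srel [nat_lit 4, nat_lit 1, nat_lit 3, nat_lit 4, nat_lit 1, nat_lit 3, nat_lit 4, nat_lit 1]))))
 (TT.n (TT.n (TT.n (TT.l (Ty.ssub [nat_lit 0, nat_lit 3, nat_lit 1] []))
 (TT.l (Ty.skip)))
 (TT.l (Ty.rel5 (nat_lit 4) (nat_lit 3) (nat_lit 4) (nat_lit 3) (nat_lit 4))))
 (TT.n (TT.l (Ty.srel [nat_lit 3]))
 (TT.l (Ty.srel [nat_lit 1, nat_lit 2, nat_lit 3, nat_lit 1, nat_lit 2, nat_lit 3, nat_lit 1, nat_lit 2, nat_lit 3, nat_lit 1, nat_lit 2, nat_lit 3, nat_lit 1, nat_lit 2])))))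
 (TT.n (TT.n (TT.n (TT.n (TT.l (Ty.dfn))
 (TT.l (Ty.relL (nat_lit 2) [nat_lit 4, nat_lit 0, nat_lit 1, nat_lit 3, nat_lit 1, nat_lit 2, nat_lit 3, nat_lit 2, nat_lit 1, nat_lit 3, nat_lit 0, nat_lit 4, nat_lit 2, nat_lit 3, nat_lit 1, nat_lit 3, nat_lit 0, nat_lit 1, nat_lit 2, nat_lit 0, nat_lit 3, nat_lit 1])))
 (TT.l (Ty.srel [nat_lit 1, nat_lit 3, nat_lit 1, nat_lit 3, nat_lit 1, nat_lit 3, nat_lit 1])))
 (TT.n (TT.l (Ty.relL (nat_lit 4) [nat_lit 1, nat_lit 3, nat_lit 4, nat_lit 1, nat_lit 3, nat_lit 4, nat_lit 1]))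
 (TT.l (Ty.srel [nat_lit 1, nat_lit 4, nat_lit 3, nat_lit 1, nat_lit 4, nat_lit 3, nat_lit 1, nat_lit 4]))))
 (TT.n (TT.n (TT.n (TT.l (Ty.rel5 (nat_lit 2) (nat_lit 3) (nat_lit 2) (nat_lit 3) (nat_lit 2)))
 (TT.l (Ty.srel [nat_lit 1, nat_lit 2, nat_lit 0, nat_lit 1, nat_lit 3, nat_lit 1, nat_lit 2, nat_lit 1, nat_lit 3, nat_lit 1, nat_lit 0, nat_lit 2, nat_lit 1, nat_lit 3, nat_lit 1, nat_lit 0, nat_lit 2, nat_lit 1, nat_lit 3, nat_lit 0, nat_lit 1, nat_lit 2, nat_lit 0, nat_lit 1])))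
 (TT.l (Ty.srel [nat_lit 2, nat_lit 3, nat_lit 2, nat_lit 3, nat_lit 2])))
 (TT.n (TT.l (Ty.relL (nat_lit 1) [nat_lit 3, nat_lit 1, nat_lit 3, nat_lit 1, nat_lit 3, nat_lit 1]))
 (TT.l (Ty.relL (nat_lit 1) [nat_lit 2, nat_lit 3, nat_lit 1, nat_lit 2, nat_lit 3, nat_lit 1, nat_lit 2, nat_lit 3, nat_lit 1, nat_lit 2, nat_lit 3, nat_lit 1, nat_lit 2]))))))
noncomputable def ty4 : TT := (TT.n (TT.n (TT.n (TT.n (TT.l (Ty.rel5 (nat_lit 3) (nat_lit 4) (nat_lit 3) (nat_lit 4) (nat_lit 3)))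
 (TT.l (Ty.srel [nat_lit 3, nat_lit 1, nat_lit 4, nat_lit 3, nat_lit 1, nat_lit 4, nat_lit 3, nat_lit 1])))
 (TT.n (TT.l (Ty.srel [nat_lit 4]))
 (TT.l (Ty.skip))))
 (TT.n (TT.n (TT.l (Ty.ssub [nat_lit 3, nat_lit 2] [nat_lit 3]))
 (TT.l (Ty.srel [nat_lit 0, nat_lit 1, nat_lit 3, nat_lit 1, nat_lit 2, nat_lit 3, nat_lit 2, nat_lit 1, nat_lit 3, nat_lit 0, nat_lit 4, nat_lit 2, nat_lit 3, nat_lit 1, nat_lit 3, nat_lit 0, nat_lit 1, nat_lit 2, nat_lit 0, nat_lit 3, nat_lit 1, nat_lit 3, nat_lit 2])))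
 (TT.l (Ty.relL (nat_lit 1) [nat_lit 4, nat_lit 1, nat_lit 4, nat_lit 1, nat_lit 4, nat_lit 1]))))
 (TT.n (TT.n (TT.n (TT.l (Ty.rel1 (nat_lit 4)))
 (TT.l (Ty.srel [nat_lit 1, nat_lit 4, nat_lit 1, nat_lit 4, nat_lit 1, nat_lit 4, nat_lit 1])))
 (TT.n (TT.l (Ty.rel5 (nat_lit 0) (nat_lit 4) (nat_lit 0) (nat_lit 4) (nat_lit 0)))
 (TT.l (Ty.srel [nat_lit 1, nat_lit 3, nat_lit 4, nat_lit 1, nat_lit 3, nat_lit 4, nat_lit 1, nat_lit 3]))))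
 (TT.n (TT.n (TT.l (Ty.dfn))
 (TT.l (Ty.relL (nat_lit 0) [nat_lit 1, nat_lit 3, nat_lit 1, nat_lit 2, nat_lit 3, nat_lit 2, nat_lit 1, nat_lit 3, nat_lit 0, nat_lit 4, nat_lit 2, nat_lit 3, nat_lit 1, nat_lit 3, nat_lit 0, nat_lit 1, nat_lit 2, nat_lit 0, nat_lit 3, nat_lit 1, nat_lit 3, nat_lit 2])))
 (TT.l (Ty.rel3 (nat_lit 2) (nat_lit 4) (nat_lit 2))))))
noncomputable def ty5 : TT := (TT.n (TT.n (TT.n (TT.n (TT.l (Ty.skip))
 (TT.l (Ty.srel [nat_lit 0, nat_lit 2, nat_lit 0, nat_lit 2, nat_lit 0, nat_lit 2])))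
 (TT.n (TT.l (Ty.srel [nat_lit 1, nat_lit 2, nat_lit 1, nat_lit 2, nat_lit 1, nat_lit 2]))
 (TT.l (Ty.srel [nat_lit 3, nat_lit 4, nat_lit 1, nat_lit 3, nat_lit 4, nat_lit 1, nat_lit 3, nat_lit 4, nat_lit 1]))))
 (TT.n (TT.n (TT.l (Ty.relL (nat_lit 1) [nat_lit 2, nat_lit 3, nat_lit 1, nat_lit 2, nat_lit 3, nat_lit 1, nat_lit 2, nat_lit 3, nat_lit 1, nat_lit 2, nat_lit 3, nat_lit 1, nat_lit 2, nat_lit 3]))
 (TT.l (Ty.srel [nat_lit 2, nat_lit 3, nat_lit 2, nat_lit 1, nat_lit 0, nat_lit 2, nat_lit 3, nat_lit 2, nat_lit 1, nat_lit 0, nat_lit 2, nat_lit 3, nat_lit 2, nat_lit 1, nat_lit 0, nat_lit 2, nat_lit 3, nat_lit 2, nat_lit 0, nat_lit 1, nat_lit 2, nat_lit 3, nat_lit 2, nat_lit 0, nat_lit 1])))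
 (TT.l (Ty.srel [nat_lit 0, nat_lit 1, nat_lit 0, nat_lit 1]))))
 (TT.n (TT.n (TT.n (TT.l (Ty.relL (nat_lit 3) [nat_lit 4, nat_lit 1, nat_lit 3, nat_lit 4, nat_lit 1, nat_lit 3, nat_lit 4, nat_lit 1]))
 (TT.l (Ty.relL (nat_lit 1) [nat_lit 3, nat_lit 1, nat_lit 3, nat_lit 1, nat_lit 3, nat_lit 1, nat_lit 3])))
 (TT.n (TT.l (Ty.srel [nat_lit 4, nat_lit 2, nat_lit 4, nat_lit 2]))
 (TT.l (Ty.relL (nat_lit 4) [nat_lit 2, nat_lit 3, nat_lit 1, nat_lit 3, nat_lit 0, nat_lit 1, nat_lit 2, nat_lit 0, nat_lit 3, nat_lit 1, nat_lit 3, nat_lit 2, nat_lit 4, nat_lit 0, nat_lit 1, nat_lit 3, nat_lit 1, nat_lit 2, nat_lit 3, nat_lit 2, nat_lit 1, nat_lit 3, nat_lit 0]))))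
 (TT.n (TT.n (TT.l (Ty.relL (nat_lit 3) [nat_lit 2, nat_lit 1, nat_lit 3, nat_lit 2, nat_lit 1, nat_lit 3, nat_lit 2, nat_lit 1, nat_lit 3, nat_lit 2, nat_lit 1, nat_lit 3, nat_lit 2, nat_lit 1]))
 (TT.l (Ty.relL (nat_lit 3) [nat_lit 4, nat_lit 3, nat_lit 4, nat_lit 3, nat_lit 4])))
 (TT.l (Ty.relL (nat_lit 0) [nat_lit 1, nat_lit 0, nat_lit 1])))))
noncomputable def C : Cert where
  tabs := [tab0, tab1, tab2, tab3, tab4, tab5, tab6, tab7, tab8, tab9, tab10, tab11, tab12]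
  tts := [ty0, ty1, ty2, ty3, ty4, ty5]
  k := nat_lit 6
  base := nat_lit 20
  mJ := nat_lit 192
  mR := nat_lit 63
  W := nat_lit 19
  mA := nat_lit 16383
  mI := nat_lit 255
  S := nat_lit 14
  mC := nat_lit 31
  nc := nat_lit 5
  lo := nat_lit 64
  live := nat_lit 176
  hi1 := nat_lit 210
  AW := nat_lit 14
  mAW := nat_lit 16383
def il : List ℕ := [0, 1, 2, 3, 4]
def rels : List (List ℕ) := [[0, 1, 0, 1],
  [0, 2, 0, 2, 0, 2],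
  [0, 3, 0, 3],
  [0, 4, 0, 4, 0, 4],
  [1, 2, 1, 2, 1, 2],
  [1, 3, 1, 3, 1, 3, 1, 3],
  [1, 4, 1, 4, 1, 4, 1, 4],
  [2, 3, 2, 3, 2, 3],
  [2, 4, 2, 4],
  [3, 4, 3, 4, 3, 4],
  [1, 2, 3, 1, 2, 3, 1, 2, 3, 1, 2, 3, 1, 2, 3],
  [0, 1, 2, 3, 2, 0, 1, 2, 3, 2, 0, 1, 2, 3, 2, 1, 0, 2, 3, 2, 1, 0, 2, 3, 2],
  [0, 1, 2, 0, 1, 3, 1, 2, 0, 1, 3, 1, 2, 1, 3, 1, 0, 2, 1, 3, 1, 0, 2, 1, 3],
  [0, 1, 2, 0, 3, 1, 3, 2, 4, 0, 1, 3, 1, 2, 3, 2, 1, 3, 0, 4, 2, 3, 1, 3],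
  [1, 3, 4, 1, 3, 4, 1, 3, 4]]
def subs : List (List ℕ) := [[1],
  [2],
  [0, 3, 1, 3],
  [3, 2, 4, 3]]
theorem valid : C.valid il rels subs = true := by decide +kernel
theorem p0 : C.OkL 64 176 := C.okL_of 64 0 112 176 (by decide) (by decide +kernel)
theorem p1 : C.OkR 176 211 := C.okR_of 176 0 35 211 (by decide) (by decide +kernel)
theorem covers {G : Type*} [Group G] (ev : ℕ → G) (H : Subgroup G)
    (hinv : ∀ x < 5, ev (il.getD x 0) = (ev x)⁻¹) (hr : ∀ r ∈ rels, evw ev r = 1)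
    (hs : ∀ s ∈ subs, evw ev s ∈ H) : Covers H (gensub ev 5) 112 :=
  C.sound il rels subs 5 112 valid (p0) (p1) (by decide) (by decide) ev H hinv hr hs
end CfH6.LT14
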