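import Cfsg.Agent.OD.Pre
import Cfsg.Agent.H6.TCTop
/-! coset enumeration certificate; generators a b c ; index 120 -/
set_option autoImplicit false
set_option maxRecDepth 100000
set_option Elab.async false
set_option linter.all false
namespace CfH6.LT17
open CfH6
noncomputable def t0 : Tr := (Tr.n (Tr.n (Tr.l (nat_lit 0xa13616ab0c2ad0834e08cf811ea830540834d08cf0116c4a2a90834c08ce811e9029d10834b08ce136270233d0834a08cd811e648ecb8834908cd01169823390834808cc811e3428450834708cc03134023350824608ab811258224a8824508ab01124023310824408aa81121822418824308aa0111ec223b84473088de111ac223384463088be10d6c21ab843530869e20500222104241)) (Tr.l (nat_lit 0x5fffebfffd7fff8469a5fffebfffd7fffaffff5fffebfffd7fffaffff5fffebfffc41acaffff5fffebfffd7fff8519c)))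
 (Tr.l (nat_lit 0x9f74bfffc26692ffff5fffebfffd7fffaffff10b4061e7933498848830d0a212008dc0a5fa5432f2a627c423886894108dc211b4b75b1aaaf108cc11e9d2bc7884650b76e152b5073485aa33470e176a44230859ab38d1620d7841ae90bb32b942419f463628677e3932411ed441ab046910ad6015ac841aa865b40a2fe1467687ac8648c2cd5c419d4c54c0835108d0934a68ad3b0d2d1)))
noncomputable def t1 : Tr := (Tr.n (Tr.n (Tr.l (nat_lit 0x1a11659a5023cb0c57b1069c615b42d578c5771069a16e0423c30c573106985159422d68c56f10696116ac22d50c56b106946157427d08c567106921169c22d20c563106905155422ce8c55f1068e11268224c8c45b1048c119f482628c4571048a1124422468c45310488119d422420c44f10486111f0223c04474088e0111b0223404464088c010d7021ac04354086a030d0440a004242)) (Tr.l (nat_lit 0x57ffe52ef4a8c00835e57ffeafffd5fffabfff57ffeafffd5fffabfff57ffeafffc62caabfff57ffeafffd5fffabfff)))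
 (Tr.l (nat_lit 0x57ffeafffd5fffabfff57ffeb3afd5fffabfff1b5461bea4c3490e48c0993035638423b1958f0d75019e1c69d12197e3b138319e92e4f25f7918d4c2119830580c67243340549c42ecb846b70b35c122d86845210c029efe71740633504b850bcd220d6841ac8e7ac0cf6a12a4c62c8083560b14b5520063311638808f3653d8687ca845b40c93e20d4823d98c583106a3349782e58845b2)))
noncomputable def t2 : Tr := (Tr.n (Tr.n (Tr.l (nat_lit 0x18d7020d38233f047560c15a20d34233d06aabeb93c126a42d51f105fda2c6116b823abe9960cb11620d28233710676c3f3a20d2423355d99ab130a1266024465564fa1ca61167c62e9ccd5008b362091822af10666189942091422ad04494089261124822470c4bf1897a1121c625e0c4ba088fe111f4223c8824208a98111b422348824108a9010d7421ac881400888810d2c21a384243)) (Tr.l (nat_lit 0x8f3c1257d7fffaffff5fffebfffd7fff85e9d5fffe11a5d7fffaffff5fffebfffd7fff8469a5fffe20d617fffaffff)))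
 (Tr.l (nat_lit 0x8d1620d4c235f04685106a011aed7fff8834f25d6496abc424486db74a7421bed154bc08475333389620092ca85bb54d76219a0442360846b0c906aa1a04232865860b76015258c9410846208f40211843054046b6191a49a69831d38835c106b6a3a4463658c6c2490e2921f02ad151b58106aa11a3c3252049a5106a8166a82d560835208d108563441a8cdf9739532116ccc74515772)))
noncomputable def t3 : Tr := (Tr.n (Tr.n (Tr.l (nat_lit 0x1069e315f441a704992e3b2a315e441a686ab1db8c211db022d86909bca2a61620024c9e1950bb0a8315b441a5045a908b50315a441a4869a6b12a211d7022d2d567fa1d7a1168022cf4cdba391a4311744123044980892e311644122904c230ce2519f022478448b2097c112202242904bb20970111f8223d0c44b10484111b822350c4471048210d7821ad0c3431028010d3021a404244)) (Tr.l (nat_lit 0x108c251e6d9fffb3fff67ffecfffd9fffb3fff68b2a20d6d9fffb3fff67ffecfffd9fffb3fff67ffe316519fffb3fff)))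
 (Tr.l (nat_lit 0x106a8316f441a98835118b7420d419fff8c57f5d968216706d562eeb2109041bedc36558daa30b76c211c92fbda99895d2f096228643b1df9d445321aa6864462238d532ea352442a598c69f108c471b4d2ee605aaf108be9171025c18c86638b9484e88335688358106ae20d5827cb51b9418b1c20d542b431876538b7e13e0422da8c587106a439290e2de4df5b1c74e14e84d2d5059ae)))
noncomputable def t4 : Tr := (Tr.n (Tr.n (Tr.l (nat_lit 0x18f8215e8c93d485067fbb9818ac3cc27f6868e351620d30233b6d05e08b5e20d2c233905ba7d31419623030cc61857bbeb617e94665fd995808f3620d2023335567e08b4220d1c233150d9199b8e3134462670c4cd189963132062630c4c308cfe2091022ab0c4c0089122090c22a904481089002090822a704475088e22090422a504465088c220500222304355086a210d3421a484245)) (Tr.l (nat_lit 0x57ffe20d7823692bfff106ba11b3d63458835b08d98afffc41ad2bfff106b211b1d5fff8835808d88afffc41ab8468c)))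
 (Tr.l (nat_lit 0x8f40afffd5fffabfff08d22afffc41a79d17e0e15a7b6d532d986b9d0c56c1b61035d91a29342306795f433d3084700cf2a19a582fd7188860b9581aadc2f4f04994108c82118c23d104d690c4da181a894480846009ef8182a032d50579f0914818e6491c69c6973cef57861c274e063b40ad0b651d033558835430ab820d4c234556259a18ba15e6a722d16ab118d7a20d4023410c6b9)))
noncomputable def t5 : Tr := (Tr.n (Tr.n (Tr.l (nat_lit 0x30aae44ae0335714e9bf3ab61a24fac4072858db4b8315d441a6690d1ca306315c441a5845acc30d37615070cfd987fabef637e786650519c319ef83159441a4045a308b443158441a38459c99ab24134882678468b20998413248263904c4209823115441220448c08914311444121844822097231134412104476088e431124412084466088c430d1440a004356086a410d3821a504246)) (Tr.l (nat_lit 0x6fffe3174441af37fff18b9c20d7441ae0c5cb106b6dfffc62e40835a18b8c20d65bfff8c5c3106b0dfffc633f88354)))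
 (Tr.l (nat_lit 0x616d2dfffcc2c1b7fff6fffedfffc62c037fff5534c686cc375b222900cd6aaaac435c23217a108e667aa557db8dba744b1aa9264343ea5f9a534e089ab58f35287973acfc31a844231a46bf32d30b7694755a1cd9130ccea5a19514b2606d08f28396a873558c8a40c7617857502dd8699db4ab555178324a9c5c020f9a3162441a9d225f9999c126a0aac78ecb20a55e3160441a80834f)))
noncomputable def t6 : Tr := (Tr.n (Tr.n (Tr.l (nat_lit 0)) (Tr.l (nat_lit 0x936ef13dd069c7411821970e782484cbb89e6b7b8f6e7a11b1c2ce48f64310b317d4744a586844ef096a410bb61d76e)))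
 (Tr.l (nat_lit 0x22ede6358e883994867218c1361c06bbc8956400000000000000000000000000000000000000000000000000000000000000000000000000000000000000000000000000000000000000000000000000000000000000000000000000000000000000000000000000000000000000000000000000000000000000000000000000000000000000000000000000000000000000000000000000)))
noncomputable def t7 : Tr := (Tr.n (Tr.n (Tr.l (nat_lit 0x3230123014501450123012301450145012301230145014501452345234523010)) (Tr.l (nat_lit 0x34514554534545045245)))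
 (Tr.l (nat_lit 0x3233234203203012530400220120445232043002211333012304245231201455)))
noncomputable def t8 : Tr := (Tr.n (Tr.n (Tr.l (nat_lit 0x3000)) (Tr.l (nat_lit 0)))
 (Tr.l (nat_lit 0xc503400)))
noncomputable def t9 : Tr := (Tr.n (Tr.l (nat_lit 0))
 (Tr.l (nat_lit 0x3440c503400)))
noncomputable def t10 : Tr := (Tr.n (Tr.n (Tr.l (nat_lit 0x34c0d202f40ba02fc0cc03100bc02e00be02ec0)) (Tr.l (nat_lit 0)))
 (Tr.l (nat_lit 0xc203280)))
noncomputable def t11 : Tr := (Tr.n (Tr.n (Tr.l (nat_lit 0xcb034c0d202f40ba02fc0bc02e00be02ec0)) (Tr.l (nat_lit 0)))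
 (Tr.l (nat_lit 0xc203280)))
noncomputable def t12 : Tr := (Tr.n (Tr.n (Tr.l (nat_lit 0x32c0b9030c0cd03480bf03000c103300c402e00bb03180)) (Tr.l (nat_lit 0)))
 (Tr.l (nat_lit 0x3380d1031c0cf03240)))
noncomputable def t13 : Tr := (Tr.n (Tr.n (Tr.l (nat_lit 0xcb02e40c303340d202f40bf03000c103300c403180)) (Tr.l (nat_lit 0)))
 (Tr.l (nat_lit 0x3380c803440c7033c0)))
noncomputable def t14 : Tr := (Tr.n (Tr.n (Tr.l (nat_lit 0)) (Tr.l (nat_lit 0x3245)))
 (Tr.l (nat_lit 0xd206fc0)))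
noncomputable def tab0 : Tr := t0
noncomputable def tab1 : Tr := t1
noncomputable def tab2 : Tr := t2
noncomputable def tab3 : Tr := t3
noncomputable def tab4 : Tr := t4
noncomputable def tab5 : Tr := t5
noncomputable def tab6 : Tr := t6
noncomputable def tab7 : Tr := t7
noncomputable def tab8 : Tr := t8
noncomputable def tab9 : Tr := t9
noncomputable def tab10 : Tr := t10
noncomputable def tab11 : Tr := t11
noncomputable def tab12 : Tr := t12
noncomputable def tab13 : Tr := t13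
noncomputable def tab14 : Tr := t14
noncomputable def ty0 : TT := (TT.n (TT.n (TT.n (TT.n (TT.l (Ty.rel1 (nat_lit 1)))
 (TT.l (Ty.relL (nat_lit 2) [nat_lit 0, nat_lit 2, nat_lit 5, nat_lit 3, nat_lit 5, nat_lit 3])))
 (TT.l (Ty.rel5 (nat_lit 4) (nat_lit 3) (nat_lit 1) (nat_lit 3) (nat_lit 4))))
 (TT.n (TT.n (TT.l (Ty.srel [nat_lit 1]))
 (TT.l (Ty.skip)))
 (TT.l (Ty.relL (nat_lit 2) [nat_lit 0, nat_lit 2, nat_lit 0, nat_lit 2, nat_lit 0, nat_lit 2]))))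
 (TT.n (TT.n (TT.n (TT.l (Ty.dfn))
 (TT.l (Ty.srel [nat_lit 2, nat_lit 5, nat_lit 1, nat_lit 5, nat_lit 2])))
 (TT.l (Ty.rel5 (nat_lit 2) (nat_lit 5) (nat_lit 1) (nat_lit 5) (nat_lit 2))))
 (TT.n (TT.l (Ty.relL (nat_lit 0) [nat_lit 0]))
 (TT.l (Ty.srel [nat_lit 4, nat_lit 3, nat_lit 1, nat_lit 3, nat_lit 4])))))
noncomputable def ty1 : TT := (TT.n (TT.n (TT.n (TT.n (TT.l (Ty.rel1 (nat_lit 0)))
 (TT.l (Ty.srel [nat_lit 3, nat_lit 4, nat_lit 0, nat_lit 4, nat_lit 3])))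
 (TT.l (Ty.rel5 (nat_lit 5) (nat_lit 2) (nat_lit 0) (nat_lit 2) (nat_lit 5))))
 (TT.n (TT.n (TT.l (Ty.relL (nat_lit 1) [nat_lit 1]))
 (TT.l (Ty.srel [nat_lit 3, nat_lit 1, nat_lit 3, nat_lit 1, nat_lit 3, nat_lit 1, nat_lit 3])))
 (TT.l (Ty.srel [nat_lit 1, nat_lit 1]))))
 (TT.n (TT.n (TT.n (TT.l (Ty.dfn))
 (TT.l (Ty.skip)))
 (TT.l (Ty.rel5 (nat_lit 3) (nat_lit 4) (nat_lit 0) (nat_lit 4) (nat_lit 3))))
 (TT.n (TT.l (Ty.srel [nat_lit 0]))
 (TT.l (Ty.srel [nat_lit 5, nat_lit 2, nat_lit 0, nat_lit 2, nat_lit 5])))))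
noncomputable def ty2 : TT := (TT.n (TT.n (TT.n (TT.n (TT.l (Ty.rel1 (nat_lit 3)))
 (TT.l (Ty.relL (nat_lit 2) [nat_lit 2])))
 (TT.l (Ty.relL (nat_lit 4) [nat_lit 3, nat_lit 1, nat_lit 3, nat_lit 1, nat_lit 2, nat_lit 4])))
 (TT.n (TT.n (TT.l (Ty.srel [nat_lit 3]))
 (TT.l (Ty.skip)))
 (TT.l (Ty.relL (nat_lit 0) [nat_lit 2, nat_lit 5, nat_lit 3, nat_lit 5, nat_lit 3, nat_lit 0]))))
 (TT.n (TT.n (TT.n (TT.l (Ty.dfn))
 (TT.l (Ty.srel [nat_lit 5, nat_lit 1, nat_lit 5, nat_lit 2, nat_lit 0])))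
 (TT.l (Ty.srel [nat_lit 4, nat_lit 3, nat_lit 1, nat_lit 3, nat_lit 1, nat_lit 2, nat_lit 4])))
 (TT.n (TT.l (Ty.relL (nat_lit 4) [nat_lit 2, nat_lit 4, nat_lit 3, nat_lit 1, nat_lit 3, nat_lit 1]))
 (TT.l (Ty.srel [nat_lit 0, nat_lit 2, nat_lit 5, nat_lit 3, nat_lit 5, nat_lit 3, nat_lit 0])))))
noncomputable def ty3 : TT := (TT.n (TT.n (TT.n (TT.n (TT.l (Ty.rel1 (nat_lit 2)))
 (TT.l (Ty.srel [nat_lit 4, nat_lit 0, nat_lit 4, nat_lit 3, nat_lit 1])))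
 (TT.n (TT.l (Ty.relL (nat_lit 0) [nat_lit 2, nat_lit 0, nat_lit 2, nat_lit 5, nat_lit 3, nat_lit 5]))
 (TT.l (Ty.rel5 (nat_lit 1) (nat_lit 3) (nat_lit 4) (nat_lit 0) (nat_lit 4)))))
 (TT.n (TT.n (TT.l (Ty.relL (nat_lit 3) [nat_lit 3]))
 (TT.l (Ty.rel5 (nat_lit 4) (nat_lit 0) (nat_lit 4) (nat_lit 3) (nat_lit 1))))
 (TT.l (Ty.srel [nat_lit 3, nat_lit 3]))))
 (TT.n (TT.n (TT.n (TT.l (Ty.dfn))
 (TT.l (Ty.srel [nat_lit 5, nat_lit 3, nat_lit 0, nat_lit 2, nat_lit 0, nat_lit 2, nat_lit 5])))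
 (TT.l (Ty.relL (nat_lit 5) [nat_lit 3, nat_lit 0, nat_lit 2, nat_lit 0, nat_lit 2, nat_lit 5])))
 (TT.n (TT.n (TT.l (Ty.srel [nat_lit 2]))
 (TT.l (Ty.skip)))
 (TT.l (Ty.relL (nat_lit 1) [nat_lit 2, nat_lit 4, nat_lit 2, nat_lit 4, nat_lit 3, nat_lit 1])))))
noncomputable def ty4 : TT := (TT.n (TT.n (TT.n (TT.n (TT.l (Ty.rel1 (nat_lit 5)))
 (TT.l (Ty.srel [nat_lit 0, nat_lit 4, nat_lit 3, nat_lit 1, nat_lit 3])))
 (TT.l (Ty.srel [nat_lit 2, nat_lit 4, nat_lit 3, nat_lit 1, nat_lit 3, nat_lit 1, nat_lit 2])))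
 (TT.n (TT.n (TT.l (Ty.srel [nat_lit 5]))
 (TT.l (Ty.relL (nat_lit 4) [nat_lit 4])))
 (TT.l (Ty.relL (nat_lit 2) [nat_lit 4, nat_lit 3, nat_lit 1, nat_lit 3, nat_lit 1, nat_lit 2]))))
 (TT.n (TT.n (TT.n (TT.l (Ty.dfn))
 (TT.l (Ty.skip)))
 (TT.l (Ty.rel5 (nat_lit 0) (nat_lit 4) (nat_lit 3) (nat_lit 1) (nat_lit 3))))
 (TT.n (TT.l (Ty.rel5 (nat_lit 3) (nat_lit 1) (nat_lit 3) (nat_lit 4) (nat_lit 0)))
 (TT.l (Ty.srel [nat_lit 4, nat_lit 4])))))
noncomputable def ty5 : TT := (TT.n (TT.n (TT.n (TT.n (TT.l (Ty.rel1 (nat_lit 4)))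
 (TT.l (Ty.srel [nat_lit 3, nat_lit 0, nat_lit 2, nat_lit 0, nat_lit 2, nat_lit 5, nat_lit 3])))
 (TT.n (TT.l (Ty.relL (nat_lit 3) [nat_lit 5, nat_lit 3, nat_lit 0, nat_lit 2, nat_lit 0, nat_lit 2]))
 (TT.l (Ty.skip))))
 (TT.n (TT.n (TT.l (Ty.relL (nat_lit 5) [nat_lit 5]))
 (TT.l (Ty.srel [nat_lit 3, nat_lit 5, nat_lit 3, nat_lit 0, nat_lit 2, nat_lit 0, nat_lit 2])))
 (TT.l (Ty.srel [nat_lit 5, nat_lit 5]))))
 (TT.n (TT.n (TT.n (TT.l (Ty.dfn))
 (TT.l (Ty.rel5 (nat_lit 2) (nat_lit 0) (nat_lit 2) (nat_lit 5) (nat_lit 1))))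
 (TT.l (Ty.rel5 (nat_lit 1) (nat_lit 5) (nat_lit 2) (nat_lit 0) (nat_lit 2))))
 (TT.n (TT.n (TT.l (Ty.srel [nat_lit 4]))
 (TT.l (Ty.relL (nat_lit 3) [nat_lit 0, nat_lit 2, nat_lit 0, nat_lit 2, nat_lit 5, nat_lit 3])))
 (TT.l (Ty.srel [nat_lit 2, nat_lit 0, nat_lit 2, nat_lit 5, nat_lit 1])))))
noncomputable def ty6 : TT := (TT.n (TT.n (TT.n (TT.n (TT.n (TT.l (Ty.skip))
 (TT.l (Ty.relL (nat_lit 0) [nat_lit 2, nat_lit 5, nat_lit 1, nat_lit 5, nat_lit 2])))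
 (TT.l (Ty.relL (nat_lit 1) [nat_lit 3, nat_lit 4, nat_lit 0, nat_lit 4, nat_lit 3])))
 (TT.n (TT.l (Ty.relL (nat_lit 4) [nat_lit 3, nat_lit 1, nat_lit 3, nat_lit 1, nat_lit 2, nat_lit 4, nat_lit 2]))
 (TT.l (Ty.relL (nat_lit 2) [nat_lit 0, nat_lit 2, nat_lit 5, nat_lit 1, nat_lit 5]))))
 (TT.n (TT.n (TT.l (Ty.relL (nat_lit 3) [nat_lit 5, nat_lit 3, nat_lit 0, nat_lit 2, nat_lit 0, nat_lit 2, nat_lit 5]))
 (TT.l (Ty.relL (nat_lit 3) [nat_lit 1, nat_lit 3, nat_lit 1, nat_lit 2, nat_lit 4, nat_lit 2, nat_lit 4])))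
 (TT.n (TT.l (Ty.relL (nat_lit 2) [nat_lit 4, nat_lit 3, nat_lit 1, nat_lit 3, nat_lit 1, nat_lit 2, nat_lit 4]))
 (TT.l (Ty.relL (nat_lit 0) [nat_lit 2, nat_lit 0, nat_lit 2, nat_lit 0, nat_lit 2, nat_lit 0, nat_lit 2])))))
 (TT.n (TT.n (TT.n (TT.n (TT.l (Ty.relL (nat_lit 1) [nat_lit 5, nat_lit 2, nat_lit 0, nat_lit 2, nat_lit 5]))
 (TT.l (Ty.srel [nat_lit 4, nat_lit 3, nat_lit 1, nat_lit 3, nat_lit 1, nat_lit 2, nat_lit 4, nat_lit 2])))
 (TT.l (Ty.relL (nat_lit 5) [nat_lit 2, nat_lit 0, nat_lit 2, nat_lit 5, nat_lit 1])))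
 (TT.n (TT.l (Ty.relL (nat_lit 1) [nat_lit 2, nat_lit 4, nat_lit 2, nat_lit 4, nat_lit 3, nat_lit 1, nat_lit 3]))
 (TT.l (Ty.srel [nat_lit 0, nat_lit 2, nat_lit 5, nat_lit 1, nat_lit 5, nat_lit 2]))))
 (TT.n (TT.n (TT.l (Ty.relL (nat_lit 1) [nat_lit 3, nat_lit 1, nat_lit 3, nat_lit 1, nat_lit 3, nat_lit 1, nat_lit 3]))
 (TT.l (Ty.srel [nat_lit 3, nat_lit 5, nat_lit 3, nat_lit 0, nat_lit 2, nat_lit 0, nat_lit 2, nat_lit 5])))
 (TT.n (TT.l (Ty.relL (nat_lit 0) [nat_lit 4, nat_lit 3, nat_lit 1, nat_lit 3, nat_lit 4]))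
 (TT.l (Ty.srel [nat_lit 4, nat_lit 3, nat_lit 1, nat_lit 3, nat_lit 4, nat_lit 0]))))))
noncomputable def C : Cert where
  tabs := [tab0, tab1, tab2, tab3, tab4, tab5, tab6, tab7, tab8, tab9, tab10, tab11, tab12, tab13, tab14]
  tts := [ty0, ty1, ty2, ty3, ty4, ty5, ty6]
  k := nat_lit 6
  base := nat_lit 18
  mJ := nat_lit 192
  mR := nat_lit 63
  W := nat_lit 19
  mA := nat_lit 16383
  mI := nat_lit 255
  S := nat_lit 14
  mC := nat_lit 31
  nc := nat_lit 6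
  lo := nat_lit 64
  live := nat_lit 184
  hi1 := nat_lit 211
  AW := nat_lit 14
  mAW := nat_lit 16383
def il : List ℕ := [1, 0, 3, 2, 5, 4]
def rels : List (List ℕ) := [[0, 0, 0],
  [2, 2, 2],
  [4, 4, 4],
  [0, 2, 0, 2, 0, 2, 0, 2],
  [4, 0, 4, 3, 1, 3],
  [2, 4, 2, 4, 3, 1, 3, 1]]
def subs : List (List ℕ) := []
theorem valid : C.valid il rels subs = true := by decide +kernel
theorem p0 : C.OkL 64 184 := C.okL_of 64 0 120 184 (by decide) (by decide +kernel)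
theorem p1 : C.OkR 184 212 := C.okR_of 184 0 28 212 (by decide) (by decide +kernel)
theorem covers {G : Type*} [Group G] (ev : ℕ → G) (H : Subgroup G)
    (hinv : ∀ x < 6, ev (il.getD x 0) = (ev x)⁻¹) (hr : ∀ r ∈ rels, evw ev r = 1)
    (hs : ∀ s ∈ subs, evw ev s ∈ H) : Covers H (gensub ev 6) 120 :=
  C.sound il rels subs 6 120 valid (p0) (p1) (by decide) (by decide) ev H hinv hr hs
end CfH6.LT17
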