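import Cfsg.Agent.OD.Pre
import Cfsg.Agent.H6.TCTop
/-! coset enumeration certificate; generators u v w ; index 128 -/
set_option autoImplicit false
set_option maxRecDepth 100000
set_option Elab.async false
set_option linter.all false
namespace CfH6.LT21
open CfH6
noncomputable def t0 : Tr := (Tr.n (Tr.n (Tr.l (nat_lit 0x14ca11584532c4560e63109ea04f4e455e22ae89e885336279f13ce915684f34455933e209e544f26455713c7911544d162884134409a1888a42683222899b084cfc267c2227899e04cee444d3360899c84ce0444b1336219384ad4434932e0095944ac6434712af89d584ab8434512ac10d1048a842431228109084898244a11a408d1882802241)) (Tr.l (nat_lit 0x8d0e466fbfff915888ab64453)))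
 (Tr.l (nat_lit 0x47de53ae91f7630bf185e8bef9a54aacac96ce32ab9133094a096d491e448f210fa687470aed9230a2db84440a4e245d66467a233c8c2c067728e8c4946919da1d1435b4233a0ba088ce62eb7443a919c7d90e2ab51540421f48cdce87f2336f2dbc516428b123358bebc67462fa422b48be846954456733e291598655a876822b2336785356a997)))
noncomputable def t1 : Tr := (Tr.n (Tr.n (Tr.l (nat_lit 0x16ce09eac613a27aa13d49157c8abc29a513d209e8c8ab8455b13cf09e6cceba279813cb915608aae279113c809a344d184454222989a1c4d086655134089a0088a0444f133d099e450e22675133a111308896266e1336911284ec8256812b390d20868e256112b010d18868a255a12ac8955884862452122889138489a424111a49050046882242)) (Tr.l (nat_lit 0x2bfff5fffafffd7ffebfff5fff)))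
 (Tr.l (nat_lit 0x245b1c6e4916247ac375791e9c657c47a123cc8a6fc8f2a479323c94ca80537b109f17dd91a288d0428bc233f119f08cf73189145d43e21d0f04677233b2c20c517033b218d8119cd9efa6c7f23392b22c516e467023378aa14516a6a86145a0a2cc8cd8466b44470a63c8ad4456916cd09eb8655030a622b30ae50d32c456518d109eb48ac64562)))
noncomputable def t2 : Tr := (Tr.n (Tr.n (Tr.l (nat_lit 0x22b08b6908ac033a322af8a668533a27a613d2915704f4227a022ad09e708ab2279922ac09e584f28279222ab09a3888a8268a1344911484d0a44511341111404cfe267d133d91138889a26762226099cc4ce2266f2225099ac8692256921a4095984ac8256221a3095784aba255b21a20955c48aa245321210913c8482244b20a008d1c468a2243)) (Tr.l (nat_lit 0x37fffbfff22e06ffff7ffe26c3)))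
 (Tr.l (nat_lit 0xc75d122cf1b782ebd23d48befc8f4594aab65391e63253f8cae14df5467a975a478f23458b6d059624681c8c40d6e051774e8716db919e08cef6c7e993e0a2e48cea467419da8caca90f246729540421e88ce028b67442119b9991a466d5546119b1110668861458115a85b2a2b9313d7915a08ace32ab17d40a6408aca299714c89158c4f582b9b)))
noncomputable def t3 : Tr := (Tr.n (Tr.n (Tr.l (nat_lit 0)) (Tr.l (nat_lit 0x117324a9236a612defdea7ce5b)))
 (Tr.l (nat_lit 0)))
noncomputable def t4 : Tr := (Tr.n (Tr.n (Tr.l (nat_lit 0x2020211002112020211020211202021102202110212021102110201020212100)) (Tr.l (nat_lit 0x2000)))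
 (Tr.l (nat_lit 0x1211212112111002211211100221102201021021120202110211022010210211)))
noncomputable def t5 : Tr := (Tr.n (Tr.n (Tr.l (nat_lit 0x3080)) (Tr.l (nat_lit 0)))
 (Tr.l (nat_lit 0xc503100)))
noncomputable def t6 : Tr := (Tr.n (Tr.n (Tr.l (nat_lit 0)) (Tr.l (nat_lit 0xc0830c2)))
 (Tr.l (nat_lit 0)))
noncomputable def tab0 : Tr := t0
noncomputable def tab1 : Tr := t1
noncomputable def tab2 : Tr := t2
noncomputable def tab3 : Tr := t3
noncomputable def tab4 : Tr := t4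
noncomputable def tab5 : Tr := t5
noncomputable def tab6 : Tr := (Tr.l (nat_lit 0))
noncomputable def tab7 : Tr := (Tr.l (nat_lit 0))
noncomputable def tab8 : Tr := t6
noncomputable def ty0 : TT := (TT.n (TT.n (TT.n (TT.n (TT.l (Ty.rel1 (nat_lit 0)))
 (TT.l (Ty.srel [nat_lit 1, nat_lit 0, nat_lit 1, nat_lit 0, nat_lit 1, nat_lit 0, nat_lit 1])))
 (TT.l (Ty.relL (nat_lit 2) [nat_lit 1, nat_lit 0, nat_lit 1, nat_lit 0, nat_lit 2, nat_lit 1, nat_lit 2, nat_lit 0, nat_lit 2, nat_lit 1])))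
 (TT.n (TT.n (TT.l (Ty.srel [nat_lit 0]))
 (TT.l (Ty.skip)))
 (TT.l (Ty.relL (nat_lit 2) [nat_lit 1, nat_lit 0, nat_lit 2, nat_lit 1, nat_lit 0, nat_lit 1, nat_lit 0, nat_lit 2, nat_lit 1, nat_lit 2]))))
 (TT.n (TT.n (TT.n (TT.l (Ty.dfn))
 (TT.l (Ty.srel [nat_lit 1, nat_lit 2, nat_lit 0, nat_lit 2, nat_lit 1, nat_lit 2, nat_lit 0, nat_lit 1, nat_lit 0, nat_lit 1, nat_lit 2])))
 (TT.l (Ty.relL (nat_lit 1) [nat_lit 2, nat_lit 0, nat_lit 2, nat_lit 1, nat_lit 2, nat_lit 0, nat_lit 1, nat_lit 0, nat_lit 1, nat_lit 2])))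
 (TT.n (TT.l (Ty.relL (nat_lit 1) [nat_lit 0, nat_lit 1, nat_lit 0, nat_lit 1, nat_lit 0, nat_lit 1]))
 (TT.l (Ty.relL (nat_lit 2) [nat_lit 1, nat_lit 2, nat_lit 0, nat_lit 1, nat_lit 0, nat_lit 1, nat_lit 2, nat_lit 0, nat_lit 1, nat_lit 2])))))
noncomputable def ty1 : TT := (TT.n (TT.n (TT.n (TT.n (TT.l (Ty.rel1 (nat_lit 1)))
 (TT.l (Ty.relL (nat_lit 2) [nat_lit 0, nat_lit 1, nat_lit 2, nat_lit 0, nat_lit 2, nat_lit 1, nat_lit 2, nat_lit 0, nat_lit 1, nat_lit 0])))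
 (TT.l (Ty.relL (nat_lit 0) [nat_lit 1, nat_lit 2, nat_lit 0, nat_lit 1, nat_lit 2, nat_lit 0, nat_lit 2, nat_lit 1, nat_lit 2, nat_lit 0])))
 (TT.n (TT.l (Ty.relL (nat_lit 2) [nat_lit 1, nat_lit 2, nat_lit 1, nat_lit 2, nat_lit 1, nat_lit 2]))
 (TT.l (Ty.relL (nat_lit 0) [nat_lit 2, nat_lit 1, nat_lit 0, nat_lit 1, nat_lit 0, nat_lit 2, nat_lit 1, nat_lit 2, nat_lit 0, nat_lit 2]))))
 (TT.n (TT.n (TT.n (TT.l (Ty.dfn))
 (TT.l (Ty.skip)))
 (TT.l (Ty.srel [nat_lit 0, nat_lit 1, nat_lit 2, nat_lit 0, nat_lit 1, nat_lit 2, nat_lit 0, nat_lit 2, nat_lit 1, nat_lit 2, nat_lit 0])))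
 (TT.n (TT.l (Ty.relL (nat_lit 2) [nat_lit 0, nat_lit 2, nat_lit 1, nat_lit 2, nat_lit 0, nat_lit 1, nat_lit 0, nat_lit 1, nat_lit 2, nat_lit 0]))
 (TT.l (Ty.srel [nat_lit 0, nat_lit 1, nat_lit 0, nat_lit 2, nat_lit 1, nat_lit 2, nat_lit 0, nat_lit 2, nat_lit 1, nat_lit 0, nat_lit 2])))))
noncomputable def ty2 : TT := (TT.n (TT.n (TT.n (TT.n (TT.l (Ty.rel1 (nat_lit 2)))
 (TT.l (Ty.relL (nat_lit 0) [nat_lit 1, nat_lit 2, nat_lit 0, nat_lit 2, nat_lit 1, nat_lit 2, nat_lit 0, nat_lit 1, nat_lit 0, nat_lit 1])))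
 (TT.n (TT.l (Ty.relL (nat_lit 1) [nat_lit 2, nat_lit 0, nat_lit 2, nat_lit 1, nat_lit 0, nat_lit 2, nat_lit 1, nat_lit 0, nat_lit 1, nat_lit 0]))
 (TT.l (Ty.skip))))
 (TT.n (TT.n (TT.l (Ty.relL (nat_lit 0) [nat_lit 2, nat_lit 1, nat_lit 0, nat_lit 2, nat_lit 1, nat_lit 0, nat_lit 1, nat_lit 0, nat_lit 2, nat_lit 1]))
 (TT.l (Ty.srel [nat_lit 0, nat_lit 1, nat_lit 2, nat_lit 0, nat_lit 2, nat_lit 1, nat_lit 2, nat_lit 0, nat_lit 1, nat_lit 0, nat_lit 1])))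
 (TT.l (Ty.relL (nat_lit 0) [nat_lit 1, nat_lit 0, nat_lit 1, nat_lit 2, nat_lit 0, nat_lit 1, nat_lit 2, nat_lit 0, nat_lit 2, nat_lit 1]))))
 (TT.n (TT.n (TT.n (TT.l (Ty.dfn))
 (TT.l (Ty.relL (nat_lit 1) [nat_lit 2, nat_lit 0, nat_lit 1, nat_lit 0, nat_lit 1, nat_lit 2, nat_lit 0, nat_lit 1, nat_lit 2, nat_lit 0])))
 (TT.l (Ty.relL (nat_lit 1) [nat_lit 0, nat_lit 1, nat_lit 0, nat_lit 2, nat_lit 1, nat_lit 2, nat_lit 0, nat_lit 2, nat_lit 1, nat_lit 0])))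
 (TT.n (TT.n (TT.l (Ty.relL (nat_lit 0) [nat_lit 2, nat_lit 1, nat_lit 2, nat_lit 0, nat_lit 1, nat_lit 0, nat_lit 1, nat_lit 2, nat_lit 0, nat_lit 1]))
 (TT.l (Ty.relL (nat_lit 1) [nat_lit 2, nat_lit 1, nat_lit 2, nat_lit 1, nat_lit 2, nat_lit 1])))
 (TT.l (Ty.relL (nat_lit 1) [nat_lit 0, nat_lit 2, nat_lit 1, nat_lit 0, nat_lit 1, nat_lit 0, nat_lit 2, nat_lit 1, nat_lit 2, nat_lit 0])))))
noncomputable def ty3 : TT := (TT.n (TT.n (TT.l (Ty.skip))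
 (TT.l (Ty.relL (nat_lit 1) [nat_lit 0, nat_lit 2, nat_lit 1, nat_lit 0, nat_lit 1, nat_lit 0, nat_lit 2, nat_lit 1, nat_lit 2, nat_lit 0, nat_lit 2])))
 (TT.n (TT.l (Ty.relL (nat_lit 2) [nat_lit 1, nat_lit 2, nat_lit 0, nat_lit 2, nat_lit 1, nat_lit 0, nat_lit 2, nat_lit 1, nat_lit 0, nat_lit 1, nat_lit 0]))
 (TT.l (Ty.relL (nat_lit 2) [nat_lit 1, nat_lit 0, nat_lit 1, nat_lit 0, nat_lit 2, nat_lit 1, nat_lit 2, nat_lit 0, nat_lit 2, nat_lit 1, nat_lit 0]))))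
noncomputable def C : Cert where
  tabs := [tab0, tab1, tab2, tab3, tab4, tab5, tab6, tab7, tab8]
  tts := [ty0, ty1, ty2, ty3]
  k := nat_lit 6
  base := nat_lit 13
  mJ := nat_lit 192
  mR := nat_lit 63
  W := nat_lit 17
  mA := nat_lit 8191
  mI := nat_lit 255
  S := nat_lit 13
  mC := nat_lit 15
  nc := nat_lit 3
  lo := nat_lit 64
  live := nat_lit 192
  hi1 := nat_lit 197
  AW := nat_lit 14
  mAW := nat_lit 16383
def il : List ℕ := [0, 1, 2]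
def rels : List (List ℕ) := [[0, 1, 0, 1, 2, 0, 1, 2, 0, 2, 1, 2],
  [1, 2, 1, 2, 1, 2, 1, 2],
  [0, 1, 0, 1, 0, 1, 0, 1]]
def subs : List (List ℕ) := []
theorem valid : C.valid il rels subs = true := by decide +kernel
theorem p0 : C.OkL 64 192 := C.okL_of 64 1 0 192 (by decide) (by decide +kernel)
theorem p1 : C.OkR 192 198 := C.okR_of 192 0 6 198 (by decide) (by decide +kernel)
theorem covers {G : Type*} [Group G] (ev : ℕ → G) (H : Subgroup G)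
    (hinv : ∀ x < 3, ev (il.getD x 0) = (ev x)⁻¹) (hr : ∀ r ∈ rels, evw ev r = 1)
    (hs : ∀ s ∈ subs, evw ev s ∈ H) : Covers H (gensub ev 3) 128 :=
  C.sound il rels subs 3 128 valid (p0) (p1) (by decide) (by decide) ev H hinv hr hs
end CfH6.LT21
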