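import Cfsg.Agent.OD.Pre
import Cfsg.Agent.H6.TCTop
/-! coset enumeration certificate; generators a b c d e f ; index 100 -/
set_option autoImplicit false
set_option maxRecDepth 100000
set_option Elab.async false
set_option linter.all false
namespace CfH6.LT24
open CfH6
noncomputable def t0 : Tr := (Tr.n (Tr.l (nat_lit 0x355e8d578255dcd17c245ed967f65e01967e659f6146c34db8936d24dad536a241c49070441bd9475651d19576651cd947224589516124581115f23d950f6433d8d9269649a19267649988f5943d60cf573396d0e5a64179905d641708d52335450d508354d8e56639558e5432d314b4b225358c4f631390948321258a4a71915074661d1d46444150cc44220d044140))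
 (Tr.l (nat_lit 0x57e85149e6828dd29a74a6195a274655d19447a5993a074649939f742419f9b64a75929c5723d929956e3991976764d9c9146a25598a466219a8c66e359a8b36209178335e04d284662199987662149679)))
noncomputable def t1 : Tr := (Tr.n (Tr.l (nat_lit 0x55e155584251d0d275249cd5182239b4cf78542018c6a54df1557d54dee1268241a4906744198ce6e53de58b61239ad4d76545c55372545c1516f239790e5d339708d62531b08d604357d4f6553d914f63331550c54231650c583315c8b565356d4d5a625388c4d32d450b503293d4a5353548ca498292d094a52d3108467211d49486151146454150cc44220d044140))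
 (Tr.l (nat_lit 0x87e8960a34526dde9d77671139657e815e9f55685919376e5d919157265549e6423d908e54a69908c54a618f8a54655519444e21519246219509044a0d548d34605598b359fcd47e54e24d07a54a1c8f77)))
noncomputable def t2 : Tr := (Tr.n (Tr.l (nat_lit 0x341d5128523dcd1584249c4cf6e239e51181239ad8e76445fc8e69441f54c6644dec917094191107a235898d6c43ddd4b5f43dd14b5d245810d7223595116f3418d0e6d529611267431a88d56431a0cf573316d8f5a231490b61441710e5e32d3dcd5062d4d0d59329310e5443155484a225350b5151d21094e32125084b8211dc74661d15444341510c44220d044140))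
 (Tr.l (nat_lit 0x54a79dda147a8a179c8726513a385a5d18a077a5995944767d9a9245e751f9b65241169a542351b985422d159553e254f884464d4f86446454e834423d108e3421d108c345f8d47c43e28cf82341e08f80)))
noncomputable def t3 : Tr := (Tr.n (Tr.l (nat_lit 0x33e19507e251e5507c23dc0ce83355f54f7835e02146a53dd4916d2399cd46c23994d07b4318d4e6e349d1d37223580d576235798f6133dcd0b5c33dc50b5b335bc8c59341a0ce6b4295cce6942954cc66331910a5333589095132d7c8b5632d75094e32d688a5232961084b5293cca5422535494c32541074752125064532129054431d20c64640d08c44320d044140))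
 (Tr.l (nat_lit 0x67e81129d44a68e0a397671119534e88de9f4464cd3a196e5ddb9437265108f34a78dc9834a6dd99066638da9234658da9143e1d978a43e14d88c43a090e81342350e7f3422d5184435e8cf8933e209677)))
noncomputable def t4 : Tr := (Tr.n (Tr.l (nat_lit 0x335d0cd7323e14cd7123e10cc6d23a08cc6b23a05906c331a48e7f239f94f68239f20e7043990cb62235e89176235e14e61235d490728359d0d5d835948f6f32d688c6e23daa0c60431620c5e23998ca543294c8c6382d648d5f325420b56325388b5c22d6e0a523212c8a57321288a5582534c74822544894f31918884c7211c874961d1546444150cc24120d084140))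
 (Tr.l (nat_lit 0x57e88a0a347a79de9c772749fa12767c9fa0472599c947665d9a9526a649d9b26e609d9a56a3997905623c9892266449b9346221558a45a24968c25e2c998d33a011383339f4ce7b25218cd79335dc8f87)))
noncomputable def t5 : Tr := (Tr.n (Tr.l (nat_lit 0x14a14cf75235c85184235bc5181231b0ce6e231a84e80141f88c68231984e7d231908c63139ec4f7822d844d7922d7c4d7722d744d7422d704d7322d6c4d71135c08a58131b48a57131ac8a55131a44c67131950c5a225444b6212d80894f12d790b5462d4c884c129650a50129594a4e21d2449525252d094a1213508487211d074661d1546444150cc442205004241))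
 (Tr.l (nat_lit 0x57a885fa346a79da9d766645ba116e81d89746259989516a7d979216670599b16669969055a3c589855630579415e4d548a45224569144e18558e15635128334a08548b345fcd07c14e205387341e88d76)))
noncomputable def t6 : Tr := (Tr.n (Tr.l (nat_lit 0x4454545451455255345152525353452535344353454315434254234303123450))
 (Tr.l (nat_lit 0x233003003101031121212232323343443445)))
noncomputable def tab0 : Tr := t0
noncomputable def tab1 : Tr := t1
noncomputable def tab2 : Tr := t2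
noncomputable def tab3 : Tr := t3
noncomputable def tab4 : Tr := t4
noncomputable def tab5 : Tr := t5
noncomputable def tab6 : Tr := (Tr.l (nat_lit 0))
noncomputable def tab7 : Tr := t6
noncomputable def tab8 : Tr := (Tr.l (nat_lit 0))
noncomputable def tab9 : Tr := (Tr.l (nat_lit 0))
noncomputable def tab10 : Tr := (Tr.l (nat_lit 0))
noncomputable def tab11 : Tr := (Tr.l (nat_lit 0))
noncomputable def tab12 : Tr := (Tr.l (nat_lit 0))
noncomputable def tab13 : Tr := (Tr.l (nat_lit 0))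
noncomputable def tab14 : Tr := (Tr.l (nat_lit 0))
noncomputable def ty0 : TT := (TT.n (TT.n (TT.n (TT.l (Ty.ssub [] []))
 (TT.l (Ty.rel3 (nat_lit 2) (nat_lit 0) (nat_lit 2))))
 (TT.n (TT.l (Ty.rel3 (nat_lit 4) (nat_lit 0) (nat_lit 4)))
 (TT.l (Ty.dfn))))
 (TT.n (TT.n (TT.l (Ty.rel3 (nat_lit 5) (nat_lit 0) (nat_lit 5)))
 (TT.l (Ty.rel1 (nat_lit 0))))
 (TT.n (TT.l (Ty.rel3 (nat_lit 3) (nat_lit 0) (nat_lit 3)))
 (TT.l (Ty.rel5 (nat_lit 1) (nat_lit 0) (nat_lit 1) (nat_lit 0) (nat_lit 1))))))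
noncomputable def ty1 : TT := (TT.n (TT.n (TT.n (TT.l (Ty.ssub [] []))
 (TT.l (Ty.rel1 (nat_lit 1))))
 (TT.n (TT.l (Ty.rel3 (nat_lit 4) (nat_lit 1) (nat_lit 4)))
 (TT.l (Ty.rel5 (nat_lit 0) (nat_lit 1) (nat_lit 0) (nat_lit 1) (nat_lit 0)))))
 (TT.n (TT.n (TT.l (Ty.rel3 (nat_lit 5) (nat_lit 1) (nat_lit 5)))
 (TT.l (Ty.dfn)))
 (TT.n (TT.l (Ty.rel3 (nat_lit 3) (nat_lit 1) (nat_lit 3)))
 (TT.l (Ty.rel5 (nat_lit 2) (nat_lit 1) (nat_lit 2) (nat_lit 1) (nat_lit 2))))))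
noncomputable def ty2 : TT := (TT.n (TT.n (TT.n (TT.n (TT.l (Ty.ssub [] []))
 (TT.l (Ty.relL (nat_lit 1) [nat_lit 4, nat_lit 3, nat_lit 2, nat_lit 1, nat_lit 4, nat_lit 3, nat_lit 2, nat_lit 1, nat_lit 4, nat_lit 3, nat_lit 2, nat_lit 1, nat_lit 4, nat_lit 3, nat_lit 2, nat_lit 1, nat_lit 4, nat_lit 3, nat_lit 2, nat_lit 1, nat_lit 4, nat_lit 3, nat_lit 2, nat_lit 1, nat_lit 4, nat_lit 3, nat_lit 2, nat_lit 1, nat_lit 4, nat_lit 3])))
 (TT.l (Ty.dfn)))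
 (TT.n (TT.l (Ty.rel3 (nat_lit 4) (nat_lit 2) (nat_lit 4)))
 (TT.l (Ty.relL (nat_lit 3) [nat_lit 2, nat_lit 3, nat_lit 2, nat_lit 3, nat_lit 2, nat_lit 0, nat_lit 3]))))
 (TT.n (TT.n (TT.l (Ty.rel3 (nat_lit 5) (nat_lit 2) (nat_lit 5)))
 (TT.l (Ty.rel5 (nat_lit 1) (nat_lit 2) (nat_lit 1) (nat_lit 2) (nat_lit 1))))
 (TT.n (TT.l (Ty.rel1 (nat_lit 2)))
 (TT.l (Ty.rel3 (nat_lit 0) (nat_lit 2) (nat_lit 0))))))
noncomputable def ty3 : TT := (TT.n (TT.n (TT.n (TT.n (TT.l (Ty.ssub [] []))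
 (TT.l (Ty.rel3 (nat_lit 0) (nat_lit 3) (nat_lit 0))))
 (TT.l (Ty.rel5 (nat_lit 4) (nat_lit 3) (nat_lit 4) (nat_lit 3) (nat_lit 4))))
 (TT.n (TT.l (Ty.rel1 (nat_lit 3)))
 (TT.l (Ty.rel3 (nat_lit 1) (nat_lit 3) (nat_lit 1)))))
 (TT.n (TT.n (TT.l (Ty.rel3 (nat_lit 5) (nat_lit 3) (nat_lit 5)))
 (TT.l (Ty.relL (nat_lit 2) [nat_lit 3, nat_lit 2, nat_lit 3, nat_lit 2, nat_lit 0, nat_lit 3, nat_lit 2])))
 (TT.n (TT.l (Ty.dfn))
 (TT.l (Ty.relL (nat_lit 4) [nat_lit 1, nat_lit 2, nat_lit 3, nat_lit 4, nat_lit 1, nat_lit 2, nat_lit 3, nat_lit 4, nat_lit 1, nat_lit 2, nat_lit 3, nat_lit 4, nat_lit 1, nat_lit 2, nat_lit 3, nat_lit 4, nat_lit 1, nat_lit 2, nat_lit 3, nat_lit 4, nat_lit 1, nat_lit 2, nat_lit 3, nat_lit 4, nat_lit 1, nat_lit 2, nat_lit 3, nat_lit 4, nat_lit 1, nat_lit 2])))))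
noncomputable def ty4 : TT := (TT.n (TT.n (TT.n (TT.l (Ty.ssub [] []))
 (TT.l (Ty.rel3 (nat_lit 2) (nat_lit 4) (nat_lit 2))))
 (TT.n (TT.l (Ty.dfn))
 (TT.l (Ty.rel3 (nat_lit 0) (nat_lit 4) (nat_lit 0)))))
 (TT.n (TT.n (TT.l (Ty.rel1 (nat_lit 4)))
 (TT.l (Ty.rel3 (nat_lit 1) (nat_lit 4) (nat_lit 1))))
 (TT.n (TT.l (Ty.rel5 (nat_lit 3) (nat_lit 4) (nat_lit 3) (nat_lit 4) (nat_lit 3)))
 (TT.l (Ty.rel5 (nat_lit 5) (nat_lit 4) (nat_lit 5) (nat_lit 4) (nat_lit 5))))))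
noncomputable def ty5 : TT := (TT.n (TT.n (TT.n (TT.l (Ty.rel1 (nat_lit 5)))
 (TT.l (Ty.rel3 (nat_lit 2) (nat_lit 5) (nat_lit 2))))
 (TT.n (TT.l (Ty.rel5 (nat_lit 4) (nat_lit 5) (nat_lit 4) (nat_lit 5) (nat_lit 4)))
 (TT.l (Ty.rel3 (nat_lit 0) (nat_lit 5) (nat_lit 0)))))
 (TT.n (TT.n (TT.l (Ty.dfn))
 (TT.l (Ty.rel3 (nat_lit 1) (nat_lit 5) (nat_lit 1))))
 (TT.l (Ty.rel3 (nat_lit 3) (nat_lit 5) (nat_lit 3)))))
noncomputable def ty6 : TT := (TT.l (Ty.skip))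
noncomputable def C : Cert where
  tabs := [tab0, tab1, tab2, tab3, tab4, tab5, tab6, tab7, tab8, tab9, tab10, tab11, tab12, tab13, tab14]
  tts := [ty0, ty1, ty2, ty3, ty4, ty5, ty6]
  k := nat_lit 6
  base := nat_lit 9
  mJ := nat_lit 192
  mR := nat_lit 63
  W := nat_lit 18
  mA := nat_lit 16383
  mI := nat_lit 255
  S := nat_lit 14
  mC := nat_lit 15
  nc := nat_lit 6
  lo := nat_lit 64
  live := nat_lit 164
  hi1 := nat_lit 163
  AW := nat_lit 14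
  mAW := nat_lit 16383
def il : List ℕ := [0, 1, 2, 3, 4, 5]
def rels : List (List ℕ) := [[0, 1, 0, 1, 0, 1],
  [0, 2, 0, 2],
  [0, 3, 0, 3],
  [0, 4, 0, 4],
  [0, 5, 0, 5],
  [1, 2, 1, 2, 1, 2],
  [1, 3, 1, 3],
  [1, 4, 1, 4],
  [1, 5, 1, 5],
  [2, 3, 2, 3, 2, 3, 2, 3, 2, 3, 2, 3, 2, 3, 2, 3],
  [2, 4, 2, 4],
  [2, 5, 2, 5],
  [3, 4, 3, 4, 3, 4],
  [3, 5, 3, 5],
  [4, 5, 4, 5, 4, 5],
  [0, 3, 2, 3, 2, 3, 2, 3, 2],
  [1, 2, 3, 4, 1, 2, 3, 4, 1, 2, 3, 4, 1, 2, 3, 4, 1, 2, 3, 4, 1, 2, 3, 4, 1, 2, 3, 4, 1, 2, 3, 4]]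
def subs : List (List ℕ) := [[0],
  [1],
  [2],
  [3],
  [4]]
theorem valid : C.valid il rels subs = true := by decide +kernel
theorem p0 : C.OkL 64 164 := C.okL_of 64 0 100 164 (by decide) (by decide +kernel)
theorem covers {G : Type*} [Group G] (ev : ℕ → G) (H : Subgroup G)
    (hinv : ∀ x < 6, ev (il.getD x 0) = (ev x)⁻¹) (hr : ∀ r ∈ rels, evw ev r = 1)
    (hs : ∀ s ∈ subs, evw ev s ∈ H) : Covers H (gensub ev 6) 100 :=
  C.sound il rels subs 6 100 valid (p0) (Cert.OkR.nil C _) (by decide) (by decide) ev H hinv hr hs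
end CfH6.LT24
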