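import Cfsg.Agent.OD.Pre
import Cfsg.Agent.H6.TCTop
/-! coset enumeration certificate; generators c d p e ; index 108 -/
set_option autoImplicit false
set_option maxRecDepth 100000
set_option Elab.async false
set_option linter.all false
namespace CfH6.LT34
open CfH6
noncomputable def t0 : Tr := (Tr.n (Tr.l (nat_lit 0x122fe3325464cb10966424f6241e866488d08f212c6b35d866c714760214c2639c865c49475c21b023261444ada8c6c114d632e08842c08b68220ce329f0a32aa4f64194ee5194c65b98c874110a482578852a0c870194da5193c84ac8c96928a9a4295863b28cb5d18ec43257ca2a50884b18eb422138632b8894c192a03194483229c74810a8e6211863a494342208863111041a084140))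
 (Tr.l (nat_lit 0x86da43fff87fff0fffd0bdcc3fff219670fffe1fff8cebd19b6f0fffe1fff88caf19b610fffe1fffc3fff7bd56246a90cd4895a82933645a7ca4ca219a41194644288a4c508c8b1af4cd464048ce9149c1954e23a1ca4400d89772f30521f445bf0caa5539262460c45bc8d29e69ef0231d585c688f8c19b4032a848538a108819f34c4218a437093841a524229a867378c999)))
noncomputable def t1 : Tr := (Tr.n (Tr.l (nat_lit 0x1133025a2c63b30899418eca2523044c98c7631132031d8844c788f851131a31d7444c5089881130c31d6c86b68c75a113082220c44408888018cac221f4443d8c654110f0221d8c6ac0c652212be3194444390c650110dc221b0a4ab88e61114b221d9c62a60876418a9621d8043af0875c18a9241d3862238865510ca63111443278c44410a9a30d0c42a5085481088c3090441a104140))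
 (Tr.l (nat_lit 0x1ffff8c9917fffeffffc6459bffff12d38ffffdffff89b9511372ffffc63d7bffff11162ffffc62d6086ad1954e866a0655009aaa11756e5669a9ce8c99222f2cc5a5d69c708ba9193123261c4a52a95b71910425a9aacce0c87f12f442628d4d5a0c87c190f222a91255e0c877190ea252846439a137a22afc321c4454f8c8701153c321bce73a0c86b18ed42266c63b48c768)))
noncomputable def t2 : Tr := (Tr.n (Tr.l (nat_lit 0x2936a2265ce53c0c7654a2f6655e8a4da08b7d18ec4625d968c720b7418ebe931c863ae0898918eb62461446c0a496c528d6522cc632b948b2210c831954443e0896718ca6221dc632918a60110e692178632808871110df52d3c63270c54d10ed23153043b30c54b10ec621d8503a88875d28f5c21d64432c0865610ca87192862221864828b584151861a108549184822111441a184140))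
 (Tr.l (nat_lit 0x64c8cffff9fffe3262e86dc8c8831910432200643f8c87918ed431da27fffcffff9fffe3193e7fff8c4474af56a6ea92c5491ca84314e326524a4fa58a48b146326310750c1fa012b4a45241ecce8c9843af368526accc121895190fc8423c4ccc08aa67392757a0ca55e8959e1232c249d527c688aa22957473628643824f886a70e93e19a83708a9c29370526dd8636949b6)))
noncomputable def t3 : Tr := (Tr.n (Tr.l (nat_lit 0x10ece21d982a45049950990821d9043b184992093221462043b090a620931c1263024c584c850930e3257043ad1cc6c10eb221960244108656090fe121f884ab8487a090f212dd0243a8c85310ca262178a45804a6e10c9e121b424358476a094ca11da063a6947af092c02152823af8854908eb621520242a884461088a1194823280464e106861153022a5905440888e3110840a004241))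
 (Tr.l (nat_lit 0x15fffabfff11320afffd5fffabfff57ffeafffd5fffabfff57ffeafffd5fff8875d10ca8afffd5fffabfff1b75222a882e5588a9c2333e9626d0b4f0cb931131a12ea88acb089890b54e15e9444c304ba80b34c222048c4b8ca800b33215a84443e5569009948221e0443b94abb19f06221cc255188872110e274df425500d076110de12a7485b80cb7b0a11e21da424cd04b98)))
noncomputable def t4 : Tr := (Tr.n (Tr.l (nat_lit 0))
 (Tr.l (nat_lit 0x3afbca5a9542b2866a2ceb3419d92e3133b61a8acbfe9e91caf0185da088b95d354b24ba3296845a6d4c4700000000000000000000000000000000000000000000000000000000000000000000000000000000000000000000000000000000000000000000000000000000000000000000000000000000000000000000000000000000000000000000000000000000000000000)))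
noncomputable def t5 : Tr := (Tr.n (Tr.l (nat_lit 0x3312133121302120213133231201202131213022021213031313312131202130))
 (Tr.l (nat_lit 0x21321222222213321213130201320311321301203113311313312131011311)))
noncomputable def t6 : Tr := (Tr.n (Tr.l (nat_lit 0))
 (Tr.l (nat_lit 0x2dc0)))
noncomputable def t7 : Tr := (Tr.n (Tr.l (nat_lit 0x2b80))
 (Tr.l (nat_lit 0xb702e00)))
noncomputable def t8 : Tr := (Tr.n (Tr.l (nat_lit 0))
 (Tr.l (nat_lit 0x2ec0)))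
noncomputable def t9 : Tr := (Tr.n (Tr.l (nat_lit 0))
 (Tr.l (nat_lit 0x2d00b302ce2bc86e41b98abc0b106b41)))
noncomputable def tab0 : Tr := t0
noncomputable def tab1 : Tr := t1
noncomputable def tab2 : Tr := t2
noncomputable def tab3 : Tr := t3
noncomputable def tab4 : Tr := t4
noncomputable def tab5 : Tr := t5
noncomputable def tab6 : Tr := (Tr.l (nat_lit 0))
noncomputable def tab7 : Tr := t6
noncomputable def tab8 : Tr := t7
noncomputable def tab9 : Tr := t8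
noncomputable def tab10 : Tr := t9
noncomputable def ty0 : TT := (TT.n (TT.n (TT.n (TT.n (TT.l (Ty.ssub [] []))
 (TT.l (Ty.relL (nat_lit 1) [nat_lit 0, nat_lit 1, nat_lit 0, nat_lit 1, nat_lit 2, nat_lit 0, nat_lit 1, nat_lit 0, nat_lit 1, nat_lit 0, nat_lit 1, nat_lit 0, nat_lit 1, nat_lit 2, nat_lit 1])))
 (TT.n (TT.l (Ty.dfn))
 (TT.l (Ty.relL (nat_lit 1) [nat_lit 2, nat_lit 1, nat_lit 0, nat_lit 1, nat_lit 3, nat_lit 1, nat_lit 0, nat_lit 1, nat_lit 2, nat_lit 1, nat_lit 0, nat_lit 1, nat_lit 3, nat_lit 1]))))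
 (TT.n (TT.n (TT.l (Ty.rel1 (nat_lit 0)))
 (TT.l (Ty.relL (nat_lit 1) [nat_lit 0, nat_lit 1, nat_lit 3, nat_lit 0, nat_lit 1, nat_lit 0, nat_lit 1, nat_lit 0, nat_lit 1, nat_lit 0, nat_lit 1, nat_lit 3, nat_lit 0, nat_lit 1, nat_lit 0, nat_lit 1])))
 (TT.n (TT.l (Ty.relL (nat_lit 1) [nat_lit 0, nat_lit 1, nat_lit 0, nat_lit 1, nat_lit 0, nat_lit 1, nat_lit 2, nat_lit 1, nat_lit 0, nat_lit 1, nat_lit 0, nat_lit 1, nat_lit 0, nat_lit 1, nat_lit 2]))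
 (TT.l (Ty.srel [nat_lit 1, nat_lit 2, nat_lit 0, nat_lit 1, nat_lit 0, nat_lit 1, nat_lit 2, nat_lit 0, nat_lit 1, nat_lit 0, nat_lit 1, nat_lit 2, nat_lit 0, nat_lit 1])))))
 (TT.n (TT.n (TT.n (TT.l (Ty.rel3 (nat_lit 3) (nat_lit 0) (nat_lit 3)))
 (TT.l (Ty.srel [nat_lit 1, nat_lit 2, nat_lit 1, nat_lit 0, nat_lit 1, nat_lit 2, nat_lit 1, nat_lit 0, nat_lit 1, nat_lit 2, nat_lit 1])))
 (TT.n (TT.l (Ty.relL (nat_lit 1) [nat_lit 2, nat_lit 0, nat_lit 1, nat_lit 0, nat_lit 1, nat_lit 2, nat_lit 0, nat_lit 1, nat_lit 0, nat_lit 1, nat_lit 2, nat_lit 0, nat_lit 1]))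
 (TT.l (Ty.relL (nat_lit 1) [nat_lit 3, nat_lit 1, nat_lit 0, nat_lit 1, nat_lit 2, nat_lit 1, nat_lit 0, nat_lit 1, nat_lit 3, nat_lit 1, nat_lit 0, nat_lit 1, nat_lit 2, nat_lit 1]))))
 (TT.n (TT.n (TT.l (Ty.rel3 (nat_lit 2) (nat_lit 0) (nat_lit 2)))
 (TT.l (Ty.relL (nat_lit 1) [nat_lit 2, nat_lit 1, nat_lit 0, nat_lit 1, nat_lit 2, nat_lit 1, nat_lit 0, nat_lit 1, nat_lit 2, nat_lit 1])))
 (TT.n (TT.l (Ty.relL (nat_lit 1) [nat_lit 0, nat_lit 1, nat_lit 2, nat_lit 0, nat_lit 1, nat_lit 0, nat_lit 1, nat_lit 2, nat_lit 0, nat_lit 1, nat_lit 0, nat_lit 1, nat_lit 2]))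
 (TT.l (Ty.skip))))))
noncomputable def ty1 : TT := (TT.n (TT.n (TT.n (TT.n (TT.l (Ty.ssub [] []))
 (TT.l (Ty.srel [nat_lit 1])))
 (TT.n (TT.l (Ty.relL (nat_lit 0) [nat_lit 1, nat_lit 3, nat_lit 1, nat_lit 0, nat_lit 1, nat_lit 2, nat_lit 1, nat_lit 0, nat_lit 1, nat_lit 3, nat_lit 1, nat_lit 0, nat_lit 1, nat_lit 2]))
 (TT.l (Ty.relL (nat_lit 3) [nat_lit 1, nat_lit 0, nat_lit 1, nat_lit 2, nat_lit 1, nat_lit 0, nat_lit 1, nat_lit 3, nat_lit 1, nat_lit 0, nat_lit 1, nat_lit 2, nat_lit 1, nat_lit 0]))))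
 (TT.n (TT.n (TT.l (Ty.dfn))
 (TT.l (Ty.relL (nat_lit 2) [nat_lit 1, nat_lit 0, nat_lit 1, nat_lit 2, nat_lit 1, nat_lit 0, nat_lit 1, nat_lit 2, nat_lit 1, nat_lit 0])))
 (TT.n (TT.l (Ty.relL (nat_lit 2) [nat_lit 0, nat_lit 1, nat_lit 0, nat_lit 1, nat_lit 2, nat_lit 0, nat_lit 1, nat_lit 0, nat_lit 1, nat_lit 2, nat_lit 0, nat_lit 1, nat_lit 0]))
 (TT.l (Ty.skip)))))
 (TT.n (TT.n (TT.n (TT.l (Ty.rel1 (nat_lit 1)))
 (TT.l (Ty.srel [nat_lit 2, nat_lit 3, nat_lit 2, nat_lit 1, nat_lit 2, nat_lit 1, nat_lit 2, nat_lit 3, nat_lit 2, nat_lit 1, nat_lit 2])))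
 (TT.n (TT.l (Ty.srel [nat_lit 2, nat_lit 1, nat_lit 2, nat_lit 3, nat_lit 2, nat_lit 1, nat_lit 2, nat_lit 1, nat_lit 2, nat_lit 3, nat_lit 2]))
 (TT.l (Ty.relL (nat_lit 0) [nat_lit 1, nat_lit 2, nat_lit 1, nat_lit 0, nat_lit 1, nat_lit 2, nat_lit 1, nat_lit 0, nat_lit 1, nat_lit 2]))))
 (TT.n (TT.n (TT.l (Ty.rel5 (nat_lit 3) (nat_lit 1) (nat_lit 3) (nat_lit 1) (nat_lit 3)))
 (TT.l (Ty.relL (nat_lit 2) [nat_lit 3, nat_lit 2, nat_lit 1, nat_lit 2, nat_lit 1, nat_lit 2, nat_lit 3, nat_lit 2, nat_lit 1, nat_lit 2])))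
 (TT.l (Ty.srel [nat_lit 3, nat_lit 1, nat_lit 3, nat_lit 1, nat_lit 3])))))
noncomputable def ty2 : TT := (TT.n (TT.n (TT.n (TT.n (TT.n (TT.l (Ty.ssub [] []))
 (TT.l (Ty.relL (nat_lit 1) [nat_lit 2, nat_lit 1, nat_lit 2, nat_lit 3, nat_lit 2, nat_lit 1, nat_lit 2, nat_lit 1, nat_lit 2, nat_lit 3])))
 (TT.l (Ty.relL (nat_lit 1) [nat_lit 0, nat_lit 1, nat_lit 2, nat_lit 1, nat_lit 0, nat_lit 1, nat_lit 2, nat_lit 1, nat_lit 0, nat_lit 1])))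
 (TT.n (TT.l (Ty.srel [nat_lit 2]))
 (TT.l (Ty.relL (nat_lit 1) [nat_lit 0, nat_lit 1, nat_lit 0, nat_lit 1, nat_lit 0, nat_lit 1, nat_lit 2, nat_lit 0, nat_lit 1, nat_lit 0, nat_lit 1, nat_lit 0, nat_lit 1, nat_lit 0, nat_lit 1]))))
 (TT.n (TT.n (TT.n (TT.l (Ty.dfn))
 (TT.l (Ty.skip)))
 (TT.l (Ty.relL (nat_lit 0) [nat_lit 1, nat_lit 0, nat_lit 1, nat_lit 2, nat_lit 0, nat_lit 1, nat_lit 0, nat_lit 1, nat_lit 2, nat_lit 0, nat_lit 1, nat_lit 0, nat_lit 1])))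
 (TT.n (TT.l (Ty.relL (nat_lit 1) [nat_lit 2, nat_lit 1, nat_lit 2, nat_lit 1, nat_lit 2, nat_lit 1, nat_lit 2, nat_lit 1, nat_lit 2, nat_lit 1]))
 (TT.l (Ty.relL (nat_lit 0) [nat_lit 1, nat_lit 0, nat_lit 1, nat_lit 0, nat_lit 1, nat_lit 0, nat_lit 1, nat_lit 2, nat_lit 1, nat_lit 0, nat_lit 1, nat_lit 0, nat_lit 1, nat_lit 0, nat_lit 1])))))
 (TT.n (TT.n (TT.n (TT.n (TT.l (Ty.rel1 (nat_lit 2)))
 (TT.l (Ty.relL (nat_lit 1) [nat_lit 0, nat_lit 1, nat_lit 0, nat_lit 2, nat_lit 1, nat_lit 0, nat_lit 1, nat_lit 0, nat_lit 2, nat_lit 1, nat_lit 0, nat_lit 1, nat_lit 0])))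
 (TT.l (Ty.srel [nat_lit 1, nat_lit 0, nat_lit 1, nat_lit 3, nat_lit 1, nat_lit 0, nat_lit 1, nat_lit 2, nat_lit 1, nat_lit 0, nat_lit 1, nat_lit 3, nat_lit 1, nat_lit 0, nat_lit 1])))
 (TT.n (TT.l (Ty.relL (nat_lit 1) [nat_lit 0, nat_lit 1, nat_lit 3, nat_lit 1, nat_lit 0, nat_lit 1, nat_lit 2, nat_lit 1, nat_lit 0, nat_lit 1, nat_lit 3, nat_lit 1, nat_lit 0, nat_lit 1]))
 (TT.l (Ty.srel [nat_lit 1, nat_lit 2, nat_lit 1, nat_lit 2, nat_lit 1, nat_lit 2, nat_lit 1, nat_lit 2, nat_lit 1, nat_lit 2, nat_lit 1]))))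
 (TT.n (TT.n (TT.n (TT.l (Ty.relL (nat_lit 1) [nat_lit 2, nat_lit 3, nat_lit 2, nat_lit 1, nat_lit 2, nat_lit 1, nat_lit 2, nat_lit 3, nat_lit 2, nat_lit 1]))
 (TT.l (Ty.srel [nat_lit 1, nat_lit 2, nat_lit 3, nat_lit 2, nat_lit 1, nat_lit 2, nat_lit 1, nat_lit 2, nat_lit 3, nat_lit 2, nat_lit 1])))
 (TT.l (Ty.relL (nat_lit 3) [nat_lit 2, nat_lit 1, nat_lit 2, nat_lit 1, nat_lit 2, nat_lit 3, nat_lit 2, nat_lit 1, nat_lit 2, nat_lit 1])))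
 (TT.n (TT.l (Ty.rel3 (nat_lit 0) (nat_lit 2) (nat_lit 0)))
 (TT.l (Ty.srel [nat_lit 1, nat_lit 0, nat_lit 1, nat_lit 0, nat_lit 2, nat_lit 1, nat_lit 0, nat_lit 1, nat_lit 0, nat_lit 2, nat_lit 1, nat_lit 0, nat_lit 1, nat_lit 0]))))))
noncomputable def ty3 : TT := (TT.n (TT.n (TT.n (TT.n (TT.l (Ty.rel1 (nat_lit 3)))
 (TT.l (Ty.relL (nat_lit 2) [nat_lit 1, nat_lit 2, nat_lit 1, nat_lit 2, nat_lit 3, nat_lit 2, nat_lit 1, nat_lit 2, nat_lit 1, nat_lit 2])))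
 (TT.l (Ty.srel [nat_lit 3])))
 (TT.n (TT.l (Ty.rel5 (nat_lit 1) (nat_lit 3) (nat_lit 1) (nat_lit 3) (nat_lit 1)))
 (TT.l (Ty.srel [nat_lit 2, nat_lit 1, nat_lit 2, nat_lit 1, nat_lit 2, nat_lit 3, nat_lit 2, nat_lit 1, nat_lit 2, nat_lit 1, nat_lit 2]))))
 (TT.n (TT.n (TT.n (TT.l (Ty.dfn))
 (TT.l (Ty.skip)))
 (TT.l (Ty.relL (nat_lit 1) [nat_lit 0, nat_lit 1, nat_lit 2, nat_lit 1, nat_lit 0, nat_lit 1, nat_lit 3, nat_lit 1, nat_lit 0, nat_lit 1, nat_lit 2, nat_lit 1, nat_lit 0, nat_lit 1])))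
 (TT.n (TT.l (Ty.rel3 (nat_lit 0) (nat_lit 3) (nat_lit 0)))
 (TT.l (Ty.relL (nat_lit 0) [nat_lit 1, nat_lit 0, nat_lit 1, nat_lit 0, nat_lit 1, nat_lit 0, nat_lit 1, nat_lit 3, nat_lit 0, nat_lit 1, nat_lit 0, nat_lit 1, nat_lit 0, nat_lit 1, nat_lit 0, nat_lit 1])))))
noncomputable def ty4 : TT := (TT.n (TT.n (TT.n (TT.n (TT.l (Ty.skip))
 (TT.l (Ty.srel [nat_lit 2, nat_lit 1, nat_lit 0, nat_lit 1, nat_lit 3, nat_lit 1, nat_lit 0, nat_lit 1, nat_lit 2, nat_lit 1, nat_lit 0, nat_lit 1, nat_lit 3, nat_lit 1, nat_lit 0, nat_lit 1])))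
 (TT.l (Ty.relL (nat_lit 1) [nat_lit 0, nat_lit 1, nat_lit 2, nat_lit 1, nat_lit 0, nat_lit 1, nat_lit 2, nat_lit 1, nat_lit 0, nat_lit 1, nat_lit 2])))
 (TT.n (TT.l (Ty.relL (nat_lit 0) [nat_lit 1, nat_lit 0, nat_lit 1, nat_lit 2, nat_lit 0, nat_lit 1, nat_lit 0, nat_lit 1, nat_lit 2, nat_lit 0, nat_lit 1, nat_lit 0, nat_lit 1, nat_lit 2]))
 (TT.l (Ty.relL (nat_lit 3) [nat_lit 1, nat_lit 0, nat_lit 1, nat_lit 2, nat_lit 1, nat_lit 0, nat_lit 1, nat_lit 3, nat_lit 1, nat_lit 0, nat_lit 1, nat_lit 2, nat_lit 1, nat_lit 0, nat_lit 1]))))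
 (TT.n (TT.n (TT.l (Ty.relL (nat_lit 0) [nat_lit 1, nat_lit 2, nat_lit 1, nat_lit 0, nat_lit 1, nat_lit 2, nat_lit 1, nat_lit 0, nat_lit 1, nat_lit 2, nat_lit 1]))
 (TT.l (Ty.srel [nat_lit 1, nat_lit 2, nat_lit 3, nat_lit 2, nat_lit 1, nat_lit 2, nat_lit 1, nat_lit 2, nat_lit 3, nat_lit 2, nat_lit 1, nat_lit 2])))
 (TT.n (TT.l (Ty.relL (nat_lit 0) [nat_lit 1, nat_lit 2, nat_lit 1, nat_lit 0, nat_lit 1, nat_lit 3, nat_lit 1, nat_lit 0, nat_lit 1, nat_lit 2, nat_lit 1, nat_lit 0, nat_lit 1, nat_lit 3, nat_lit 1]))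
 (TT.l (Ty.relL (nat_lit 0) [nat_lit 1, nat_lit 0, nat_lit 1, nat_lit 0, nat_lit 1, nat_lit 0, nat_lit 1, nat_lit 3, nat_lit 0, nat_lit 1, nat_lit 0, nat_lit 1, nat_lit 0, nat_lit 1, nat_lit 0, nat_lit 1, nat_lit 3])))))
noncomputable def C : Cert where
  tabs := [tab0, tab1, tab2, tab3, tab4, tab5, tab6, tab7, tab8, tab9, tab10]
  tts := [ty0, ty1, ty2, ty3, ty4]
  k := nat_lit 6
  base := nat_lit 20
  mJ := nat_lit 192
  mR := nat_lit 63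
  W := nat_lit 19
  mA := nat_lit 16383
  mI := nat_lit 255
  S := nat_lit 14
  mC := nat_lit 31
  nc := nat_lit 4
  lo := nat_lit 64
  live := nat_lit 172
  hi1 := nat_lit 189
  AW := nat_lit 14
  mAW := nat_lit 16383
def il : List ℕ := [0, 1, 2, 3]
def rels : List (List ℕ) := [[0, 1, 0, 1, 0, 1, 0, 1, 0, 1, 0, 1, 0, 1, 0, 1],
  [0, 2, 0, 2],
  [1, 0, 1, 2, 1, 0, 1, 2, 1, 0, 1, 2],
  [0, 1, 0, 1, 2, 0, 1, 0, 1, 2, 0, 1, 0, 1, 2],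
  [1, 0, 1, 2, 0, 1, 0, 1, 0, 1, 0, 1, 2, 1, 0, 1, 0],
  [2, 1, 2, 1, 2, 1, 2, 1, 2, 1, 2, 1],
  [1, 3, 1, 3, 1, 3],
  [0, 3, 0, 3],
  [1, 0, 1, 2, 1, 0, 1, 3, 1, 0, 1, 2, 1, 0, 1, 3],
  [2, 1, 2, 1, 2, 3, 2, 1, 2, 1, 2, 3],
  [0, 1, 0, 1, 0, 1, 0, 1, 3, 0, 1, 0, 1, 0, 1, 0, 1, 3]]
def subs : List (List ℕ) := [[0],
  [1],
  [2]]
theorem valid : C.valid il rels subs = true := by decide +kernel
theorem p0 : C.OkL 64 172 := C.okL_of 64 0 108 172 (by decide) (by decide +kernel)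
theorem p1 : C.OkR 172 190 := C.okR_of 172 0 18 190 (by decide) (by decide +kernel)
theorem covers {G : Type*} [Group G] (ev : ℕ → G) (H : Subgroup G)
    (hinv : ∀ x < 4, ev (il.getD x 0) = (ev x)⁻¹) (hr : ∀ r ∈ rels, evw ev r = 1)
    (hs : ∀ s ∈ subs, evw ev s ∈ H) : Covers H (gensub ev 4) 108 :=
  C.sound il rels subs 4 108 valid (p0) (p1) (by decide) (by decide) ev H hinv hr hs
end CfH6.LT34
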