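import Cfsg.Agent.OD.Pre
import Cfsg.Agent.H6.TCTop
/-! coset enumeration certificate; generators a b c d e h ; index 100 -/
set_option autoImplicit false
set_option maxRecDepth 100000
set_option Elab.async false
set_option linter.all false
namespace CfH6.LT4
open CfH6
noncomputable def t0 : Tr := (Tr.n (Tr.l (nat_lit 0x13720281dd53c509f8711522529b84546895802befc2262444c308984113045299c4f3515968296de22de863b09526b126d8b75c4a83489a70116e47216ca532a975c314c63195844369d05f122c053d78e7ae89864112cc315314c2798858412ae21d88e4a71494d49ca423d4ce72898e50132b222954452a0865a40e9671d20c3a30884a21a8e22124a2a19054410c8a3090441a104140))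
 (Tr.l (nat_lit 0x6fffe41e98c2d2086a53cd467a28895d00aca13cd3c29e7cb14c966963452857a5451ce965982cf2e29e704fcd0a39b341188921464bda1a7f145024720c64bc8a193449162a1f4643b3268833cf8321d452c90c87413b1c321ccf0c791478)))
noncomputable def t1 : Tr := (Tr.n (Tr.l (nat_lit 0x3c31c32a4c74448dd86230e8b5dc8ec398da85193183262864c38d97b1b2f2361e9ad352da6b634deb559d0ab32d6681b6e036dc584b48d76c1acdc359b56cb290f6428cae859686aad98e603a6beb2178c3a89c85c228c235d88872c9454b18ec6a5130c3a524c4d21aa684148642e9444738c9e6192066aa0d55618cb032154a2228c74e18aa050d0c62a4907441888c2129441d204140))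
 (Tr.l (nat_lit 0x97ffe41698a1a114241357466aa8895ce14a9634f3452a558e4c8eca12951e3a27c6ecec6a988d32e32e8065cf14981292fc79e010d423a48319736389fd0d411487785116521da13be9dc88290eaf71f1ccbc0db911cb2036e34654a0e892)))
noncomputable def t2 : Tr := (Tr.n (Tr.l (nat_lit 0x1cb20421c070c41086f210dc32a3c65471076b1c3083262c83b490768193063260083b28c97e192f8325ed0ab695067190f0241a8643a8c8741a2d86497c64389065739cc68518849ae988551a6cc521786a3088e5c30e9c8414882a59cd5818ec82494064b01524d20a9234568c3240d35611a9e3216c69aa1044618cb26352863298c7512068631530a622903421888e3111041a084140))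
 (Tr.l (nat_lit 0x67ffe40e90e3528c4a632b466927c854b1e99d1cb449aa787550169994d12454e68754e154982c52a32e8471cba638c4b90a3a66d1140ae47f212f4425e46e410e494210ecaa22912c48a07d4950e846186ec9a2077210e676e3471c890872)))
noncomputable def t3 : Tr := (Tr.n (Tr.l (nat_lit 0x13720429c4cbb990f7c22aea321b4c93c8958018ed464dd84b3d90f74130fa31d9845bf0c76418ec631d8444bd0c76018cbe221dc632e8c65c18cb6221c8632b88870110dea656444370886c10ed63154443b48876810ecea4d484d311985810eca2593ca7270c5491249825168432f2465042aac23d5462231d15330c9651928432a1454820a8e2153461a14cb44184822111441a184140))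
 (Tr.l (nat_lit 0x77ffe81a99dfffbbfff299465328895500aba12cd3c29e7c65498ca926bf2832a3864c60c98b193103261464c18a09b1173a22e714bc319a7f22d1e22e6949c688a99115302a6094a4488a976350e26244454b290841152aba228cd4091478)))
noncomputable def t4 : Tr := (Tr.n (Tr.l (nat_lit 0x23d2047a3c4d3e95a7c2b0e886dc04a399188023102225d8a4ba9197b22af2855aca53891c7a432de859a065312126722ce4221a904349176e226d86196904b294959492b042db4442b1865310ea481d78c2a80874f30a9841d98853210a6310e9642584c2a49cc4d20ec04217cc2239065d210b86111886aa1065b210ae61114832a9834320aa24153882a514544208903110841a084140))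
 (Tr.l (nat_lit 0x5fffebfffd7fffaffff3153062a5c964b2a89c3152aa966910cc929a04bf2649a78914e90ba3217448ae8485cfa598c2413626a146d4209d7f2bafc55a0c6b4111a942951692a28654488a884950e32a188dc911b9122f1c45e344bbb95778)))
noncomputable def t5 : Tr := (Tr.n (Tr.l (nat_lit 0x110e018a3444378638b0952412a404436149a7212d621da424c40498510ece12604ee388497f092fa441a06c3204979094ee21978243b0516e090e66659884328596d3aab636564432a9916010aa211da8c92e8854e0acc6361682d311d64c10a942152423b0a154d1a0a62111c232f9d1501088c119702b2a057581088a1195c232b1854808aa41153c22a5949a6208863110840a004241))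
 (Tr.l (nat_lit 0x110f092111dfffbbfff34b466a681b65086aa235332aaa68944a917973c9261ae78354f924980b1384425834ce9e6830cb36225ec32420897a0c904c823070bf0618e5c4f872a2868c4888755370e39e18443a263910cf2868e3c44394e678)))
noncomputable def t6 : Tr := (Tr.n (Tr.l (nat_lit 0))
 (Tr.l (nat_lit 0x1cb00229128620ccb42000000000000000000000000000000000000000000000000000000000000000000000000000000000000000000000000000000000000000000000000000000000000000000000000000000000000000000000000000)))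
noncomputable def t7 : Tr := (Tr.n (Tr.l (nat_lit 0x5252235235225323330335333432105453454021554325415432541421323050))
 (Tr.l (nat_lit 0x5211442141331333333115052201210510502052)))
noncomputable def t8 : Tr := (Tr.n (Tr.l (nat_lit 0x2980))
 (Tr.l (nat_lit 0)))
noncomputable def t9 : Tr := (Tr.n (Tr.l (nat_lit 0))
 (Tr.l (nat_lit 0x29c0)))
noncomputable def t10 : Tr := (Tr.n (Tr.l (nat_lit 0))
 (Tr.l (nat_lit 0xa402982)))
noncomputable def tab0 : Tr := t0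
noncomputable def tab1 : Tr := t1
noncomputable def tab2 : Tr := t2
noncomputable def tab3 : Tr := t3
noncomputable def tab4 : Tr := t4
noncomputable def tab5 : Tr := t5
noncomputable def tab6 : Tr := t6
noncomputable def tab7 : Tr := t7
noncomputable def tab8 : Tr := (Tr.l (nat_lit 0))
noncomputable def tab9 : Tr := (Tr.l (nat_lit 0))
noncomputable def tab10 : Tr := (Tr.l (nat_lit 0))
noncomputable def tab11 : Tr := t8
noncomputable def tab12 : Tr := (Tr.l (nat_lit 0))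
noncomputable def tab13 : Tr := t9
noncomputable def tab14 : Tr := t10
noncomputable def ty0 : TT := (TT.n (TT.n (TT.n (TT.n (TT.l (Ty.ssub [] []))
 (TT.l (Ty.relL (nat_lit 5) [nat_lit 2, nat_lit 5, nat_lit 1, nat_lit 0, nat_lit 2, nat_lit 1])))
 (TT.n (TT.l (Ty.rel3 (nat_lit 3) (nat_lit 0) (nat_lit 3)))
 (TT.l (Ty.skip))))
 (TT.n (TT.n (TT.l (Ty.dfn))
 (TT.l (Ty.relL (nat_lit 2) [nat_lit 1, nat_lit 0, nat_lit 5, nat_lit 2, nat_lit 5, nat_lit 1])))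
 (TT.l (Ty.rel3 (nat_lit 4) (nat_lit 0) (nat_lit 4)))))
 (TT.n (TT.n (TT.n (TT.l (Ty.rel1 (nat_lit 0)))
 (TT.l (Ty.relL (nat_lit 1) [nat_lit 5, nat_lit 2, nat_lit 5, nat_lit 0, nat_lit 1, nat_lit 2])))
 (TT.l (Ty.rel3 (nat_lit 1) (nat_lit 0) (nat_lit 1))))
 (TT.n (TT.n (TT.l (Ty.rel5 (nat_lit 2) (nat_lit 0) (nat_lit 2) (nat_lit 0) (nat_lit 2)))
 (TT.l (Ty.relL (nat_lit 1) [nat_lit 2, nat_lit 3, nat_lit 2, nat_lit 0, nat_lit 1, nat_lit 2, nat_lit 3, nat_lit 2, nat_lit 1, nat_lit 0, nat_lit 2, nat_lit 3, nat_lit 2, nat_lit 1, nat_lit 0, nat_lit 2, nat_lit 3, nat_lit 2, nat_lit 0, nat_lit 1, nat_lit 2, nat_lit 3, nat_lit 2])))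
 (TT.l (Ty.rel5 (nat_lit 5) (nat_lit 0) (nat_lit 5) (nat_lit 0) (nat_lit 5))))))
noncomputable def ty1 : TT := (TT.n (TT.n (TT.n (TT.n (TT.n (TT.l (Ty.ssub [] []))
 (TT.l (Ty.relL (nat_lit 2) [nat_lit 3, nat_lit 1, nat_lit 2, nat_lit 3, nat_lit 1, nat_lit 2, nat_lit 3, nat_lit 1, nat_lit 2, nat_lit 3, nat_lit 1, nat_lit 2, nat_lit 3])))
 (TT.l (Ty.srel [nat_lit 3, nat_lit 1, nat_lit 3, nat_lit 1, nat_lit 3, nat_lit 1, nat_lit 3])))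
 (TT.n (TT.l (Ty.dfn))
 (TT.l (Ty.relL (nat_lit 5) [nat_lit 2, nat_lit 3, nat_lit 2, nat_lit 1, nat_lit 3, nat_lit 1, nat_lit 2, nat_lit 3, nat_lit 5, nat_lit 1, nat_lit 2, nat_lit 1, nat_lit 3, nat_lit 1, nat_lit 2]))))
 (TT.n (TT.n (TT.l (Ty.rel1 (nat_lit 1)))
 (TT.l (Ty.relL (nat_lit 3) [nat_lit 4, nat_lit 3, nat_lit 1, nat_lit 3, nat_lit 4, nat_lit 1, nat_lit 3])))
 (TT.n (TT.l (Ty.rel5 (nat_lit 5) (nat_lit 1) (nat_lit 5) (nat_lit 1) (nat_lit 5)))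
 (TT.l (Ty.relL (nat_lit 2) [nat_lit 0, nat_lit 1, nat_lit 3, nat_lit 1, nat_lit 2, nat_lit 0, nat_lit 1, nat_lit 3, nat_lit 1, nat_lit 2, nat_lit 1, nat_lit 3, nat_lit 1, nat_lit 0, nat_lit 2, nat_lit 1, nat_lit 3, nat_lit 1, nat_lit 0, nat_lit 2, nat_lit 1, nat_lit 3, nat_lit 0])))))
 (TT.n (TT.n (TT.n (TT.n (TT.l (Ty.srel [nat_lit 1]))
 (TT.l (Ty.skip)))
 (TT.l (Ty.relL (nat_lit 2) [nat_lit 1, nat_lit 3, nat_lit 1, nat_lit 2, nat_lit 1, nat_lit 5, nat_lit 2, nat_lit 3, nat_lit 2, nat_lit 1, nat_lit 3, nat_lit 1, nat_lit 2, nat_lit 3, nat_lit 5])))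
 (TT.n (TT.l (Ty.rel3 (nat_lit 4) (nat_lit 1) (nat_lit 4)))
 (TT.l (Ty.relL (nat_lit 0) [nat_lit 2, nat_lit 1, nat_lit 0, nat_lit 5, nat_lit 2, nat_lit 5]))))
 (TT.n (TT.n (TT.l (Ty.rel5 (nat_lit 2) (nat_lit 1) (nat_lit 2) (nat_lit 1) (nat_lit 2)))
 (TT.l (Ty.relL (nat_lit 3) [nat_lit 1, nat_lit 3, nat_lit 1, nat_lit 3, nat_lit 1, nat_lit 3])))
 (TT.n (TT.l (Ty.rel3 (nat_lit 0) (nat_lit 1) (nat_lit 0)))
 (TT.l (Ty.relL (nat_lit 2) [nat_lit 0, nat_lit 1, nat_lit 5, nat_lit 2, nat_lit 5, nat_lit 0]))))))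
noncomputable def ty2 : TT := (TT.n (TT.n (TT.n (TT.n (TT.l (Ty.ssub [] []))
 (TT.l (Ty.rel5 (nat_lit 1) (nat_lit 2) (nat_lit 1) (nat_lit 2) (nat_lit 1))))
 (TT.l (Ty.rel5 (nat_lit 3) (nat_lit 2) (nat_lit 3) (nat_lit 2) (nat_lit 3))))
 (TT.n (TT.n (TT.l (Ty.rel1 (nat_lit 2)))
 (TT.l (Ty.relL (nat_lit 5) [nat_lit 2, nat_lit 5, nat_lit 2, nat_lit 5, nat_lit 2, nat_lit 5])))
 (TT.l (Ty.relL (nat_lit 0) [nat_lit 1, nat_lit 5, nat_lit 2, nat_lit 5, nat_lit 0, nat_lit 1]))))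
 (TT.n (TT.n (TT.n (TT.l (Ty.relL (nat_lit 5) [nat_lit 0, nat_lit 1, nat_lit 2, nat_lit 0, nat_lit 1, nat_lit 5]))
 (TT.l (Ty.relL (nat_lit 1) [nat_lit 0, nat_lit 5, nat_lit 2, nat_lit 5, nat_lit 1, nat_lit 0])))
 (TT.l (Ty.rel3 (nat_lit 4) (nat_lit 2) (nat_lit 4))))
 (TT.n (TT.n (TT.l (Ty.dfn))
 (TT.l (Ty.skip)))
 (TT.l (Ty.rel5 (nat_lit 0) (nat_lit 2) (nat_lit 0) (nat_lit 2) (nat_lit 0))))))
noncomputable def ty3 : TT := (TT.n (TT.n (TT.n (TT.n (TT.l (Ty.ssub [] []))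
 (TT.l (Ty.relL (nat_lit 1) [nat_lit 2, nat_lit 3, nat_lit 5, nat_lit 1, nat_lit 2, nat_lit 1, nat_lit 3, nat_lit 1, nat_lit 2, nat_lit 1, nat_lit 5, nat_lit 2, nat_lit 3, nat_lit 2, nat_lit 1])))
 (TT.n (TT.l (Ty.rel5 (nat_lit 4) (nat_lit 3) (nat_lit 4) (nat_lit 3) (nat_lit 4)))
 (TT.l (Ty.relL (nat_lit 1) [nat_lit 3, nat_lit 4, nat_lit 3, nat_lit 1, nat_lit 3, nat_lit 4, nat_lit 1]))))
 (TT.n (TT.n (TT.l (Ty.dfn))
 (TT.l (Ty.relL (nat_lit 1) [nat_lit 0, nat_lit 2, nat_lit 1, nat_lit 3, nat_lit 1, nat_lit 0, nat_lit 2, nat_lit 1, nat_lit 3, nat_lit 0, nat_lit 1, nat_lit 2, nat_lit 0, nat_lit 1, nat_lit 3, nat_lit 1, nat_lit 2, nat_lit 0, nat_lit 1, nat_lit 3, nat_lit 1, nat_lit 2, nat_lit 1])))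
 (TT.l (Ty.srel [nat_lit 5, nat_lit 1, nat_lit 2, nat_lit 1, nat_lit 3, nat_lit 1, nat_lit 2, nat_lit 1, nat_lit 5, nat_lit 2, nat_lit 3, nat_lit 2, nat_lit 1, nat_lit 3, nat_lit 1, nat_lit 2]))))
 (TT.n (TT.n (TT.n (TT.l (Ty.rel1 (nat_lit 3)))
 (TT.l (Ty.rel3 (nat_lit 0) (nat_lit 3) (nat_lit 0))))
 (TT.n (TT.l (Ty.rel5 (nat_lit 5) (nat_lit 3) (nat_lit 5) (nat_lit 3) (nat_lit 5)))
 (TT.l (Ty.skip))))
 (TT.n (TT.n (TT.l (Ty.rel5 (nat_lit 2) (nat_lit 3) (nat_lit 2) (nat_lit 3) (nat_lit 2)))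
 (TT.l (Ty.relL (nat_lit 1) [nat_lit 3, nat_lit 1, nat_lit 3, nat_lit 1, nat_lit 3, nat_lit 1])))
 (TT.l (Ty.relL (nat_lit 1) [nat_lit 2, nat_lit 1, nat_lit 5, nat_lit 2, nat_lit 3, nat_lit 2, nat_lit 1, nat_lit 3, nat_lit 1, nat_lit 2, nat_lit 3, nat_lit 5, nat_lit 1, nat_lit 2, nat_lit 1])))))
noncomputable def ty4 : TT := (TT.n (TT.n (TT.n (TT.n (TT.l (Ty.ssub [] []))
 (TT.l (Ty.rel3 (nat_lit 1) (nat_lit 4) (nat_lit 1))))
 (TT.l (Ty.rel3 (nat_lit 2) (nat_lit 4) (nat_lit 2))))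
 (TT.n (TT.n (TT.l (Ty.rel3 (nat_lit 0) (nat_lit 4) (nat_lit 0)))
 (TT.l (Ty.skip)))
 (TT.l (Ty.srel [nat_lit 3, nat_lit 1, nat_lit 3, nat_lit 4, nat_lit 1, nat_lit 3, nat_lit 1, nat_lit 3]))))
 (TT.n (TT.n (TT.n (TT.l (Ty.rel3 (nat_lit 5) (nat_lit 4) (nat_lit 5)))
 (TT.l (Ty.relL (nat_lit 3) [nat_lit 1, nat_lit 3, nat_lit 4, nat_lit 3, nat_lit 1, nat_lit 3, nat_lit 1])))
 (TT.l (Ty.dfn)))
 (TT.n (TT.l (Ty.rel1 (nat_lit 4)))
 (TT.l (Ty.rel5 (nat_lit 3) (nat_lit 4) (nat_lit 3) (nat_lit 4) (nat_lit 3))))))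
noncomputable def ty5 : TT := (TT.n (TT.n (TT.n (TT.n (TT.l (Ty.rel1 (nat_lit 5)))
 (TT.l (Ty.relL (nat_lit 2) [nat_lit 5, nat_lit 0, nat_lit 1, nat_lit 2, nat_lit 0, nat_lit 1])))
 (TT.n (TT.l (Ty.srel [nat_lit 5]))
 (TT.l (Ty.relL (nat_lit 0) [nat_lit 1, nat_lit 2, nat_lit 0, nat_lit 1, nat_lit 5, nat_lit 2]))))
 (TT.n (TT.n (TT.l (Ty.rel5 (nat_lit 0) (nat_lit 5) (nat_lit 0) (nat_lit 5) (nat_lit 0)))
 (TT.l (Ty.relL (nat_lit 2) [nat_lit 5, nat_lit 2, nat_lit 5, nat_lit 2, nat_lit 5, nat_lit 2])))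
 (TT.l (Ty.rel5 (nat_lit 1) (nat_lit 5) (nat_lit 1) (nat_lit 5) (nat_lit 1)))))
 (TT.n (TT.n (TT.n (TT.l (Ty.dfn))
 (TT.l (Ty.relL (nat_lit 2) [nat_lit 3, nat_lit 2, nat_lit 1, nat_lit 3, nat_lit 1, nat_lit 2, nat_lit 3, nat_lit 5, nat_lit 1, nat_lit 2, nat_lit 1, nat_lit 3, nat_lit 1, nat_lit 2, nat_lit 1])))
 (TT.n (TT.l (Ty.rel3 (nat_lit 4) (nat_lit 5) (nat_lit 4)))
 (TT.l (Ty.skip))))
 (TT.n (TT.n (TT.l (Ty.rel5 (nat_lit 3) (nat_lit 5) (nat_lit 3) (nat_lit 5) (nat_lit 3)))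
 (TT.l (Ty.relL (nat_lit 1) [nat_lit 0, nat_lit 2, nat_lit 1, nat_lit 0, nat_lit 5, nat_lit 2])))
 (TT.l (Ty.relL (nat_lit 1) [nat_lit 2, nat_lit 1, nat_lit 3, nat_lit 1, nat_lit 2, nat_lit 1, nat_lit 5, nat_lit 2, nat_lit 3, nat_lit 2, nat_lit 1, nat_lit 3, nat_lit 1, nat_lit 2, nat_lit 3])))))
noncomputable def ty6 : TT := (TT.n (TT.n (TT.l (Ty.skip))
 (TT.l (Ty.relL (nat_lit 2) [nat_lit 5, nat_lit 2, nat_lit 5, nat_lit 2, nat_lit 5, nat_lit 2, nat_lit 5])))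
 (TT.l (Ty.relL (nat_lit 0) [nat_lit 5, nat_lit 0, nat_lit 5, nat_lit 0, nat_lit 5])))
noncomputable def C : Cert where
  tabs := [tab0, tab1, tab2, tab3, tab4, tab5, tab6, tab7, tab8, tab9, tab10, tab11, tab12, tab13, tab14]
  tts := [ty0, ty1, ty2, ty3, ty4, ty5, ty6]
  k := nat_lit 6
  base := nat_lit 18
  mJ := nat_lit 192
  mR := nat_lit 63
  W := nat_lit 19
  mA := nat_lit 16383
  mI := nat_lit 255
  S := nat_lit 14
  mC := nat_lit 31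
  nc := nat_lit 6
  lo := nat_lit 64
  live := nat_lit 164
  hi1 := nat_lit 167
  AW := nat_lit 14
  mAW := nat_lit 16383
def il : List ℕ := [0, 1, 2, 3, 4, 5]
def rels : List (List ℕ) := [[0, 1, 0, 1],
  [0, 2, 0, 2, 0, 2],
  [0, 3, 0, 3],
  [0, 4, 0, 4],
  [0, 5, 0, 5, 0, 5],
  [1, 2, 1, 2, 1, 2],
  [1, 3, 1, 3, 1, 3, 1, 3],
  [1, 4, 1, 4],
  [1, 5, 1, 5, 1, 5],
  [2, 3, 2, 3, 2, 3],
  [2, 4, 2, 4],
  [2, 5, 2, 5, 2, 5, 2, 5],
  [3, 4, 3, 4, 3, 4],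
  [3, 5, 3, 5, 3, 5],
  [4, 5, 4, 5],
  [1, 2, 3, 1, 2, 3, 1, 2, 3, 1, 2, 3, 1, 2, 3],
  [0, 1, 2, 3, 2, 0, 1, 2, 3, 2, 0, 1, 2, 3, 2, 1, 0, 2, 3, 2, 1, 0, 2, 3, 2],
  [0, 1, 2, 0, 1, 3, 1, 2, 0, 1, 3, 1, 2, 1, 3, 1, 0, 2, 1, 3, 1, 0, 2, 1, 3],
  [1, 3, 1, 3, 4, 3, 1, 3, 4],
  [0, 1, 2, 0, 1, 5, 2, 5],
  [1, 2, 1, 3, 1, 2, 1, 5, 2, 3, 2, 1, 3, 1, 2, 3, 5]]
def subs : List (List ℕ) := [[0],
  [1],
  [2],
  [3],
  [4]]
theorem valid : C.valid il rels subs = true := by decide +kernel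
theorem p0 : C.OkL 64 164 := C.okL_of 64 0 100 164 (by decide) (by decide +kernel)
theorem p1 : C.OkR 164 168 := C.okR_of 164 0 4 168 (by decide) (by decide +kernel)
theorem covers {G : Type*} [Group G] (ev : ℕ → G) (H : Subgroup G)
    (hinv : ∀ x < 6, ev (il.getD x 0) = (ev x)⁻¹) (hr : ∀ r ∈ rels, evw ev r = 1)
    (hs : ∀ s ∈ subs, evw ev s ∈ H) : Covers H (gensub ev 6) 100 :=
  C.sound il rels subs 6 100 valid (p0) (p1) (by decide) (by decide) ev H hinv hr hs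
end CfH6.LT4
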