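import Cfsg.Agent.OD.Pre
import Cfsg.Agent.H6.Mc3D
import Cfsg.Agent.H6.Ly3C.F0
import Cfsg.Agent.H6.Ly3C.O
import Cfsg.Agent.H6.Ly3C.P0
import Cfsg.Agent.H6.Ly3C.P1
set_option autoImplicit false
set_option maxRecDepth 100000
set_option Elab.async false
set_option linter.all false
namespace CfH6.Ly3C
open CfH6 CfH6.D MulAction
def σ : List (List ℕ) := [[0],
  [1],
  [2],
  [3],
  [4],
  [5],
  [6],
  [7],
  [8],
  [9],
  [10],
  [11],
  [12],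
  [13],
  [14]]
def uss : List (List (List ℕ)) := [[[], []],
  [[1, 3, 5, 9, 11, 3, 5, 8, 1], [1, 3, 5, 9, 11, 3, 5, 8, 1], [1, 3, 5, 9, 11, 3, 5, 8, 1]]]
def bus : List (List ℕ × List ℕ) := [([13], [1, 3, 6, 4, 2]),
  ([1, 3, 5, 4, 2], [14]),
  ([7], [7]),
  ([9], [9]),
  ([11], [11]),
  ([0, 2, 8, 1, 7, 5, 9, 3, 11, 1, 7, 7, 1, 0], [1, 7, 3, 9, 1, 7, 0, 2, 8, 8, 2, 12, 4, 10, 6, 8, 2, 7, 1, 0, 8, 2, 10, 4, 8, 2, 0, 2, 8, 8, 2, 12, 4, 10, 6, 8, 2, 7, 1, 0])]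
def ex : List (List ℕ) := []
def gws : List (List ℕ) := uss.map (gw σ 15)
def bws : List (List ℕ) := bus.map fun u => subst σ u.1 ++ 15 :: (subst σ u.2 ++ [15])
theorem chk : Rng P.chk 0 1496 := p0
section
variable {G : Type} [Group G] (el : ℕ → G) (ρ : Mc3B.G →* G) (hρ : ∀ x < 15, ρ (Mc3B.el x) = byW el σ x)
include hρ
theorem trl : Trl ρ Mc3D.cd Mc3D.eq 15 el σ := ⟨Mc3D.heq, fun x hx => by rw [Mc3D.cdx x hx, hρ x hx]⟩
theorem hbp (ht : el 15 = (el 15)⁻¹) (h : ∀ w ∈ bws, evw el w = 1) : ∀ p ∈ P.bp, ρ (Mc3D.cd p.1) * el 15 = el 15 * ρ (Mc3D.cd p.2) :=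
  (trl el ρ hρ).bp _ _ ht _ bus h (by decide +kernel)
variable (H : Subgroup G) (hH : ∀ n, ρ n ∈ H) (hg : ∀ w ∈ gws, evw el w = 1)
  (hb : ∀ p ∈ P.bp, ρ (Mc3D.cd p.1) * el 15 = el 15 * ρ (Mc3D.cd p.2))
noncomputable def C : Ctx P Mc3B.G G where
  ρ := ρ
  t := el 15
  H := H
  Bs := ⊤
  cd := Mc3D.cd
  cd0 := Mc3D.cd0
  heq := Mc3D.heq
  hH := fun _ => hH
  hB := fun _ => rfl
  hrel := (trl el ρ hρ).rels 15 _ uss hg (by decide +kernel)
  hsub := forall_nil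
  hbp := fun p hp => ⟨trivial, hb p hp⟩
include H hH hg hb
theorem hS : ∀ k < 1496, (C el ρ hρ H hH hg hb).Sem (P.fact k) := (C el ρ hρ H hH hg hb).sound chk
section
attribute [local instance] actO
theorem memB : ∀ k, P.okP 1496 trO k = 0 → Mc3D.cd (P.cdK k) ∈ Bsub ρ (el 15) ⊓ stO := Ctx.okP_mem (hS el ρ hρ H hH hg hb) trsO (by decide)
end
section
attribute [local instance] Mc3D.actD
theorem cardB : 87480 ≤ Nat.card (Bsub ρ (el 15) ⊓ stO : Subgroup _) := have := Mc3D.fin; levs_card Mc3D.trsD (memB el ρ hρ H hH hg hb) levB _ lB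
theorem hi : ∀ p ∈ lv, ((C el ρ hρ H hH hg hb).T p.1).index ≤ p.2 := have := Mc3D.fin; forall_cons (Ctx.T0 rfl) (forall_cons (index_le Mc3D.card (levs_card Mc3D.trsD (Ctx.okE_mem rfl (hS el ρ hρ H hH hg hb) 1) lev1 87480 l1) (by decide)) (forall_cons (index_le Mc3D.card (levs_card Mc3D.trsD (Ctx.okE_mem rfl (hS el ρ hρ H hH hg hb) 2) lev2 2694384000 l2) (by decide)) (forall_cons (index_le Mc3D.card (levs_card Mc3D.trsD (Ctx.okE_mem rfl (hS el ρ hρ H hH hg hb) 3) lev3 5040 l3) (by decide)) (forall_cons (index_le Mc3D.card (levs_card Mc3D.trsD (Ctx.okE_mem rfl (hS el ρ hρ H hH hg hb) 4) lev4 5040 l4) (by decide)) (forall_cons (index_le Mc3D.card (levs_card Mc3D.trsD (Ctx.okE_mem rfl (hS el ρ hρ H hH hg hb) 5) lev5 720 l5) (by decide)) (forall_cons (index_le Mc3D.card (levs_card Mc3D.trsD (Ctx.okE_mem rfl (hS el ρ hρ H hH hg hb) 6) lev6 375 l6) (by decide)) (forall_cons (index_le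 Mc3D.card (levs_card Mc3D.trsD (Ctx.okE_mem rfl (hS el ρ hρ H hH hg hb) 7) lev7 375 l7) (by decide)) (forall_nil))))))))
end
section
attribute [local instance] actO
theorem dec : ∀ γ ∈ (C el ρ hρ H hH hg hb).K, (C el ρ hρ H hH hg hb).U LM γ := have := Mc3D.fin
  (C el ρ hρ H hH hg hb).dec (m := 30800) (a := 0) (b := 0) lv (by decide +kernel) List.mem_cons_self (lm_of lv LM (by decide +kernel))
    (fun x => tb0O.bound Mc3B.htop x (by decide)) (stab_le Mc3D.card lowO (cardB el ρ hρ H hH hg hb) (by decide)) (forall_cons (Ctx.cos_of rfl (hS el ρ hρ H hH hg hb) trsO 0 [nat_lit 1457, nat_lit 1458, nat_lit 1459, nat_lit 1460, nat_lit 27, nat_lit 29, nat_lit 31] 0 0 1 ct0 c0) (forall_cons (Ctx.cos_of rfl (hS el ρ hρ H hH hg hb) trsO 1 [nat_lit 24, nat_lit 28, nat_lit 30, nat_lit 32, nat_lit 34] 1 0 10 ct1 c1) (forall_cons (Ctx.cos_of rfl (hS el ρ hρ H hH hg hb) trsO 2 [nat_lit 41,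 nat_lit 56, nat_lit 42, nat_lit 43, nat_lit 50] 11 0 1 ct2 c2) (forall_cons (Ctx.cos_of rfl (hS el ρ hρ H hH hg hb) trsO 3 [nat_lit 77, nat_lit 108, nat_lit 58, nat_lit 65] 12 0 16 ct3 c3) (forall_cons (Ctx.cos_of rfl (hS el ρ hρ H hH hg hb) trsO 4 [nat_lit 110, nat_lit 122, nat_lit 113, nat_lit 117] 28 0 16 ct4 c4) (forall_cons (Ctx.cos_of rfl (hS el ρ hρ H hH hg hb) trsO 5 [nat_lit 157, nat_lit 164, nat_lit 179, nat_lit 153] 44 0 67 ct5 c5) (forall_cons (Ctx.cos_of rfl (hS el ρ hρ H hH hg hb) trsO 6 [nat_lit 220, nat_lit 405, nat_lit 211] 111 0 108 ct6 c6) (forall_cons (Ctx.cos_of rfl (hS el ρ hρ H hH hg hb) trsO 7 [nat_lit 811, nat_lit 1068, nat_lit 816] 219 0 108 ct7 c7) (forall_nil)))))))))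
end
theorem covers : Covers H (C el ρ hρ H hH hg hb).K 19212250 := have := Mc3D.fin
  (C el ρ hρ H hH hg hb).cover lv (lm_of lv LM (by decide +kernel)) (dec el ρ hρ H hH hg hb) (hi el ρ hρ H hH hg hb) _ (by decide +kernel)
end
end CfH6.Ly3C
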