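import Cfsg.Agent.OD.Pre
import Cfsg.Agent.H6.Top2
set_option autoImplicit false
set_option maxRecDepth 100000
set_option Elab.async false
set_option linter.all false
namespace CfH6.LyB0
open CfH6 MulAction
def gl : List Cfsg.Spor.Ly.Gen := [.a, .b, .c, .d, .z, .e, .a1, .a2, .a3, .a4, .c1, .c2, .c3, .c4, .c5, .u, .x23, .x24, .x25, .x29, .x47, .x96, .x129, .x162, .x163, .x164, .x165, .x166, .x167, .x168, .x169, .x364, .x365, .x366, .x367, .x368, .x369, .x370, .x371]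
def il : List ℕ := [1, 0, 3, 2, 5, 4, 7, 6, 9, 8, 10, 12, 11, 14, 13, 16, 15, 18, 17, 20, 19, 22, 21, 24, 23, 26, 25, 28, 27, 30, 29, 32, 31, 34, 33, 36, 35, 38, 37, 40, 39, 42, 41, 44, 43, 46, 45, 48, 47, 50, 49, 52, 51, 54, 53, 56, 55, 58, 57, 60, 59, 62, 61, 64, 63, 66, 65, 68, 67, 70, 69, 72, 71, 74, 73, 76, 75]
def cs : List (List ℕ) := [[0],
  [1],
  [2],
  [3],
  [4],
  [5],
  [6],
  [7],
  [8],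
  [9],
  [10],
  [12],
  [13],
  [14],
  [15],
  [16],
  [17],
  [18],
  [19],
  [20],
  [21],
  [22],
  [23],
  [24],
  [25],
  [26],
  [27],
  [28],
  [29],
  [30],
  [31],
  [32],
  [33],
  [34],
  [35],
  [36],
  [37],
  [38],
  [39],
  [40],
  [41],
  [42],
  [43],
  [44],
  [45],
  [46],
  [47],
  [48],
  [49],
  [50],
  [51],
  [52],
  [53],
  [54],
  [55],
  [56],
  [57],
  [58],
  [59],
  [60],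
  [61],
  [62],
  [63],
  [64],
  [65],
  [66],
  [67],
  [68],
  [69],
  [70],
  [71],
  [72],
  [73],
  [74],
  [75],
  [76],
  [77]]
def cf : List (List ℕ) := [[0],
  [1],
  [2],
  [3],
  [4],
  [5],
  [6],
  [7],
  [8],
  [9],
  [10],
  [10],
  [11],
  [12],
  [13],
  [14],
  [15],
  [16],
  [17],
  [18],
  [19],
  [20],
  [21],
  [22],
  [23],
  [24],
  [25],
  [26],
  [27],
  [28],
  [29],
  [30],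
  [31],
  [32],
  [33],
  [34],
  [35],
  [36],
  [37],
  [38],
  [39],
  [40],
  [41],
  [42],
  [43],
  [44],
  [45],
  [46],
  [47],
  [48],
  [49],
  [50],
  [51],
  [52],
  [53],
  [54],
  [55],
  [56],
  [57],
  [58],
  [59],
  [60],
  [61],
  [62],
  [63],
  [64],
  [65],
  [66],
  [67],
  [68],
  [69],
  [70],
  [71],
  [72],
  [73],
  [74],
  [75],
  [76]]
def rels : List (List ℕ) := [[0, 0, 0, 0, 0, 0, 0, 0],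
  [2, 2, 2, 2, 2],
  [0, 2, 0, 2, 0, 2, 0, 2],
  [1, 1, 3, 0, 0, 2],
  [1, 3, 0, 2, 1, 3, 0, 2, 1, 3, 0, 2],
  [19, 5],
  [21, 1, 5, 0],
  [23, 3, 5, 2],
  [25, 2, 5, 3],
  [27, 22, 20, 21, 19],
  [19, 19, 19, 19, 19],
  [27, 27, 27, 27, 27],
  [20, 28, 19, 27],
  [22, 28, 21, 27],
  [24, 28, 23, 27],
  [26, 28, 25, 27],
  [20, 24, 19, 23, 27, 27],
  [20, 26, 19, 25, 28, 28],
  [22, 24, 21, 23, 27],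
  [22, 26, 21, 25],
  [24, 26, 23, 25, 27],
  [1, 21, 0, 19, 19],
  [1, 23, 0, 26, 20, 23, 23],
  [1, 25, 0, 26, 20, 26, 23, 21, 20],
  [1, 27, 0, 28, 28],
  [3, 21, 2, 25, 19, 25, 24, 22],
  [3, 23, 2, 23, 23, 26, 20, 20],
  [3, 27, 2, 28],
  [10, 7, 20, 7, 2, 1, 3, 20, 7, 1, 20, 0, 20, 1, 19, 0, 2, 2],
  [10, 19, 10, 19, 3, 24, 3],
  [10, 23, 10, 0, 25, 19, 22, 1, 3, 3],
  [10, 25, 10, 26, 23, 3, 3],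
  [10, 27, 10, 25, 20, 23, 20],
  [10, 0, 0, 10, 25, 28, 20, 1, 2, 1, 3, 3, 1],
  [10, 2, 10, 25, 25, 23, 20],
  [10, 0, 2, 2, 0, 3, 0, 10, 25, 28, 20, 1, 1],
  [10, 21, 10, 22, 10, 21, 26, 0, 23, 0, 0, 0],
  [6, 10, 3, 21, 1, 10, 1, 10, 1, 27, 25, 19, 2, 0, 3, 3, 1],
  [6, 6, 1, 1, 1, 1],
  [3, 7, 2, 6],
  [7, 0, 6, 1, 1, 1],
  [6, 27, 6, 27, 6, 27, 6, 27, 6, 27],
  [6, 27, 6, 28, 6, 27, 1, 1],
  [11, 1],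
  [13, 2, 1, 3],
  [15, 2, 2, 1, 3, 3],
  [17, 3, 3, 1, 2, 2],
  [29, 1, 1],
  [31, 7],
  [33, 6],
  [35, 3, 5, 0, 3, 3, 4, 7, 4, 0, 5, 1, 4, 3, 3, 0, 2, 0, 3, 3],
  [37, 5, 3, 5, 7, 2, 2, 5, 7, 2, 5, 3, 5, 1, 4, 3, 3, 0, 3, 3, 0, 3, 1],
  [39, 6, 4, 3, 0, 4, 0, 6, 4],
  [41, 7, 3],
  [43, 2, 6],
  [45, 1, 3, 4, 1, 2, 4, 3, 0, 2, 0],
  [47, 3, 5, 3, 0, 5, 1, 2, 2],
  [49, 1, 3, 1, 5, 0, 2, 0],
  [51, 3, 1, 2, 5, 3, 0, 2],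
  [53, 4, 2, 2, 5, 1, 3, 5, 2, 0, 3, 3],
  [55, 0, 0, 0],
  [57, 0, 0, 2, 0, 3],
  [59, 0, 2, 2, 1, 3, 3, 1],
  [61, 2, 1, 3, 1, 2, 1, 4, 0, 2, 4, 3, 6, 4, 3, 0, 4, 2, 7, 0],
  [63, 6, 2, 5, 0, 5, 1, 5, 7, 4, 4, 0, 3, 4, 3, 5, 0, 2, 2, 1],
  [65, 5, 3, 5, 7, 2, 2, 5, 7, 3, 5, 3, 3, 5, 2, 0, 2, 2, 0, 2, 1, 3],
  [67, 2, 0, 3, 1, 3, 3, 1, 3, 4, 2, 2, 4, 2, 6, 4, 3, 3, 6, 4, 2, 4],
  [69, 2, 2, 0, 2, 4, 2, 2, 5, 1, 4, 0, 6, 4, 1, 2, 4, 1, 6, 4, 0],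
  [71, 2, 1, 2, 2, 1, 2, 4, 2, 0, 3, 6, 4, 2, 0, 3, 6, 4, 0],
  [73, 0, 3, 0, 2, 2, 0, 5, 0, 2, 1, 6, 4, 0, 5, 3, 5, 1, 6],
  [75, 3, 0, 2, 0, 2, 5, 1, 5, 0, 5, 6, 4, 3, 5, 0, 4],
  [9, 19, 8, 46],
  [9, 21, 8, 48],
  [9, 23, 8, 50],
  [9, 25, 8, 52],
  [9, 27, 8, 54],
  [9, 11, 8, 56],
  [9, 13, 8, 58],
  [9, 15, 8, 60],
  [8, 8, 30],
  [17, 8, 17, 8, 17, 8, 29],
  [39, 8, 61, 8, 69, 8],
  [9, 33, 9, 71, 8, 31, 8, 37],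
  [8, 65, 8, 63, 9, 67, 9, 73],
  [8, 41, 8, 35, 9, 43, 9, 75]]
theorem hgl : ∀ a, a ∈ gl := by intro a; cases a <;> decide
theorem hnd : gl.Nodup := by decide
theorem side : sideP Cfsg.Spor.Ly.edges Cfsg.Spor.Ly.extra gl 77 il cs cf rels 4 = true := by decide +kernel
abbrev G : Type := Cfsg.Spor.CoxPresented Cfsg.Spor.Ly.Gen Cfsg.Spor.Ly.edges Cfsg.Spor.Ly.extra
noncomputable def el : ℕ → G := colP Cfsg.Spor.Ly.edges Cfsg.Spor.Ly.extra gl cs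
theorem hinv : ∀ x < 77, el (il.getD x 0) = (el x)⁻¹ := (colP_spec Cfsg.Spor.Ly.edges Cfsg.Spor.Ly.extra gl hgl hnd side).1
theorem hrel : ∀ r ∈ rels, evw el r = 1 := (colP_spec Cfsg.Spor.Ly.edges Cfsg.Spor.Ly.extra gl hgl hnd side).2.1
def tr (r : FreeGroup Cfsg.Spor.Ly.Gen) : List ℕ := subst cf (rawW gl r)
theorem hmk : ∀ r, PresentedGroup.mk _ r = evw el (tr r) := (colP_spec Cfsg.Spor.Ly.edges Cfsg.Spor.Ly.extra gl hgl hnd side).2.2.1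
theorem htop : gensub el 77 = ⊤ := (colP_spec Cfsg.Spor.Ly.edges Cfsg.Spor.Ly.extra gl hgl hnd side).2.2.2.1
theorem hhom {Γ : Type} [Group Γ] (ev : ℕ → Γ) (h1 : ∀ x < 77, ev (il.getD x 0) = (ev x)⁻¹) (h2 : ∀ r ∈ rels, evw ev r = 1) :
    ∃ ρ : G →* Γ, ∀ x < 77, ρ (el x) = ev x := (colP_spec Cfsg.Spor.Ly.edges Cfsg.Spor.Ly.extra gl hgl hnd side).2.2.2.2 ev h1 h2
end CfH6.LyB0
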