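import Cfsg.Agent.OD.Pre
import Cfsg.Agent.H6.LyB0
import Cfsg.Agent.H6.WP
/-! The Lyons presentation on the six generators `a b c d e z` (columns `a A b B c C d D e z Z`). -/
set_option autoImplicit false
set_option maxRecDepth 100000
set_option Elab.async false
set_option linter.all false
namespace CfH6.LyB
open CfH6
def il : List ℕ := [1, 0, 3, 2, 5, 4, 7, 6, 8, 10, 9]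
def rels : List (List ℕ) := [[0, 0, 0, 0, 0, 0, 0, 0],
  [2, 2, 2, 2, 2],
  [0, 2, 0, 2, 0, 2, 0, 2],
  [1, 1, 3, 0, 0, 2],
  [1, 3, 0, 2, 1, 3, 0, 2, 1, 3, 0, 2],
  [4, 4, 4, 4, 4],
  [5, 1, 5, 0, 4, 1, 4, 0, 5, 1, 5, 0, 4, 1, 4, 0, 5, 1, 5, 0, 4, 1, 4, 0, 5, 1, 5, 0, 4, 1, 4, 0, 5, 1, 5, 0, 4, 1, 4, 0],
  [5, 1, 5, 0, 5, 1, 4, 0, 4, 1, 5, 0, 4, 1, 4, 0],
  [5, 0, 5, 1, 4, 0, 4, 1, 4, 0, 5, 1, 5, 0, 4, 1],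
  [3, 5, 2, 1, 5, 0, 5, 1, 4, 0, 4, 3, 4, 2, 5, 1, 5, 0, 4, 1, 4, 0],
  [2, 5, 3, 1, 5, 0, 5, 1, 4, 0, 4, 2, 4, 3, 5, 1, 5, 0, 4, 1, 4, 0],
  [5, 3, 5, 2, 4, 3, 4, 2, 5, 1, 5, 0, 4, 1, 4, 0, 5, 1, 5, 0, 4, 1, 4, 0],
  [2, 5, 3, 4, 2, 4, 3, 1, 5, 0, 5, 1, 4, 0, 4, 1, 5, 0, 5, 1, 4, 0],
  [3, 5, 2, 1, 4, 0, 3, 4, 2, 5, 1, 5, 0, 4],
  [1, 5, 0, 2, 5, 3, 1, 4, 0, 2, 4, 3],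
  [3, 5, 2, 2, 5, 3, 3, 4, 2, 2, 4, 3, 5, 1, 5, 0, 4, 1, 4, 0],
  [1, 1, 4, 0, 0, 4, 4],
  [1, 3, 4, 2, 0, 2, 5, 3, 5, 3, 4, 4, 2],
  [1, 2, 4, 3, 0, 2, 5, 3, 5, 2, 5, 3, 3, 4, 2, 1, 4, 0, 5],
  [1, 5, 1, 5, 0, 4, 1, 4, 0, 5, 0, 5, 1, 4, 0, 4, 1, 5, 0, 5, 1, 4, 0, 4],
  [3, 1, 4, 0, 2, 2, 4, 3, 4, 2, 4, 3, 3, 5, 2, 1, 5, 0],
  [3, 3, 4, 2, 4, 4, 2, 2, 5, 3, 5, 5],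
  [3, 5, 1, 5, 0, 4, 1, 4, 0, 2, 1, 5, 0, 5, 1, 4, 0, 4],
  [8, 7, 5, 7, 2, 1, 3, 5, 7, 1, 5, 0, 5, 1, 4, 0, 2, 2],
  [8, 4, 8, 4, 3, 3, 5],
  [8, 3, 4, 2, 8, 0, 2, 4, 3, 4, 1, 5, 3, 3],
  [8, 2, 4, 3, 8, 2, 5, 3, 3, 4, 3],
  [8, 5, 1, 5, 0, 4, 1, 4, 0, 8, 2, 4, 3, 5, 3, 4, 2, 5],
  [8, 0, 0, 8, 2, 4, 3, 1, 5, 0, 5, 1, 4, 2, 1, 3, 3, 1],
  [8, 2, 8, 2, 4, 4, 3, 3, 4, 2, 5],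
  [8, 0, 2, 2, 0, 3, 0, 8, 2, 4, 3, 1, 5, 0, 5, 1, 4, 1],
  [8, 1, 4, 0, 8, 1, 5, 0, 8, 1, 4, 0, 2, 5, 3, 0, 3, 4, 2, 0, 0, 0],
  [6, 8, 3, 1, 4, 8, 1, 8, 1, 5, 1, 5, 0, 4, 1, 4, 0, 2, 4, 3, 4, 2, 0, 3, 3, 1],
  [6, 6, 1, 1, 1, 1],
  [3, 7, 2, 6],
  [7, 0, 6, 1, 1, 1],
  [6, 5, 1, 5, 0, 4, 1, 4, 0, 6, 5, 1, 5, 0, 4, 1, 4, 0, 6, 5, 1, 5, 0, 4, 1, 4, 0, 6, 5, 1, 5, 0, 4, 1, 4, 0, 6, 5, 1, 5, 0, 4, 1, 4, 0],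
  [6, 5, 1, 5, 0, 4, 1, 4, 0, 6, 1, 5, 0, 5, 1, 4, 0, 4, 6, 5, 1, 5, 0, 4, 1, 4, 1],
  [10, 4, 9, 1, 3, 4, 1, 2, 4, 3, 0, 2, 0],
  [10, 1, 4, 0, 9, 3, 5, 3, 0, 5, 1, 2, 2],
  [10, 3, 4, 2, 9, 1, 3, 1, 5, 0, 2, 0],
  [10, 2, 4, 3, 9, 3, 1, 2, 5, 3, 0, 2],
  [10, 5, 1, 5, 0, 4, 1, 4, 0, 9, 4, 2, 2, 5, 1, 3, 5, 2, 0, 3, 3],
  [10, 0, 9, 0, 0, 0],
  [10, 2, 0, 3, 9, 0, 0, 2, 0, 3],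
  [10, 2, 2, 0, 3, 3, 9, 0, 2, 2, 1, 3, 3, 1],
  [9, 9, 1, 1],
  [3, 3, 0, 2, 2, 9, 3, 3, 0, 2, 2, 9, 3, 3, 0, 2, 2, 9, 0, 0],
  [5, 7, 1, 5, 1, 2, 5, 7, 9, 1, 6, 3, 5, 1, 2, 5, 7, 2, 5, 3, 1, 5, 0, 3, 0, 2, 0, 3, 9, 1, 5, 7, 0, 5, 3, 0, 5, 7, 1, 5, 0, 4, 3, 3, 5, 3, 1, 3, 3, 9],
  [10, 7, 10, 1, 5, 7, 2, 1, 3, 5, 7, 2, 1, 3, 5, 3, 0, 3, 3, 0, 3, 9, 6, 9, 0, 2, 1, 2, 2, 1, 2, 2, 5, 0, 4, 2, 4, 3, 6, 4, 3, 3, 6, 4, 2, 4],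
  [9, 2, 0, 3, 1, 3, 3, 1, 3, 4, 2, 2, 4, 2, 6, 4, 3, 3, 6, 4, 2, 4, 9, 0, 3, 3, 1, 4, 2, 5, 2, 1, 5, 5, 6, 4, 0, 4, 1, 4, 3, 7, 10, 5, 3, 5, 7, 2, 2, 5, 7, 3, 5, 3, 3, 5, 2, 0, 2, 2, 0, 2, 1, 3, 10, 7, 0, 4, 2, 4, 1, 5, 7, 0, 3, 1, 4, 1, 3, 3, 1, 2, 1],
  [9, 2, 6, 9, 2, 2, 1, 3, 1, 2, 2, 5, 0, 4, 1, 5, 6, 5, 2, 2, 1, 4, 2, 10, 7, 3, 10, 5, 1, 4, 2, 5, 7, 4, 1, 4, 0, 4, 3, 1, 3, 1, 2]]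
def σ : List (List ℕ) := [[0], [1], [2], [3], [4], [5], [6], [7], [10], [8], [9]]
def t1 : List (List ℕ) := [[0], [1], [2], [3], [4], [5], [6], [7], [8], [9], [10], [0], [1], [2, 0, 3], [2, 1, 3], [2, 2, 0, 3, 3], [2, 2, 1, 3, 3], [3, 3, 0, 2, 2], [3, 3, 1, 2, 2], [4], [5], [1, 4, 0], [1, 5, 0], [3, 4, 2], [3, 5, 2], [2, 4, 3], [2, 5, 3], [27], [28], [0, 0], [1, 1], [6], [7], [7], [6], [2, 2, 1, 3, 1, 2, 2, 5, 0, 4, 1, 5, 6, 5, 2, 2, 1, 4, 2], [3, 5, 0, 3, 3, 4, 7, 4, 0, 5, 1, 4, 3, 3, 0, 2, 0, 3, 3], [0, 2, 1, 2, 2, 1, 2, 2, 5, 0, 4, 2, 4, 3, 6, 4, 3, 3, 6, 4, 2, 4], [5, 3, 5, 7, 2, 2, 5, 7, 2, 5, 3, 5, 1, 4, 3, 3, 0, 3, 3, 0, 3, 1], [5, 7, 1, 5, 1, 2, 5, 7], [6, 4, 3, 0, 4, 0, 6, 4], [2, 6], [7, 3], [7, 3], [2,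 6], [1, 3, 1, 2, 5, 3, 0, 5, 2, 0], [1, 3, 4, 1, 2, 4, 3, 0, 2, 0], [3, 3, 0, 4, 1, 2, 4, 2], [3, 5, 3, 0, 5, 1, 2, 2], [1, 3, 1, 4, 0, 2, 0], [1, 3, 1, 5, 0, 2, 0], [3, 1, 2, 4, 3, 0, 2], [3, 1, 2, 5, 3, 0, 2], [2, 2, 1, 3, 4, 2, 0, 4, 3, 3, 5], [4, 2, 2, 5, 1, 3, 5, 2, 0, 3, 3], [1, 1, 1], [0, 0, 0], [2, 1, 3, 1, 1], [0, 0, 2, 0, 3], [0, 2, 2, 0, 3, 3, 1], [0, 2, 2, 1, 3, 3, 1], [1, 6, 3, 5, 1, 2, 5, 7, 2, 5, 3, 1, 5, 0, 3, 0, 2, 0, 3], [2, 1, 3, 1, 2, 1, 4, 0, 2, 4, 3, 6, 4, 3, 0, 4, 2, 7, 0], [0, 3, 3, 1, 4, 2, 5, 2, 1, 5, 5, 6, 4, 0, 4, 1, 4, 3, 7], [6, 2, 5, 0, 5, 1, 5, 7, 4, 4, 0, 3, 4, 3, 5, 0, 2, 2, 1], [2, 0, 3, 1, 3, 3, 1, 3, 4, 2, 2, 4, 2, 6, 4, 3, 3, 6, 4, 2, 4], [5, 3, 5, 7, 2, 2, 5, 7, 3, 5, 3, 3, 5,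 2, 0, 2, 2, 0, 2, 1, 3], [5, 3, 5, 7, 2, 2, 5, 7, 3, 5, 3, 3, 5, 2, 0, 2, 2, 0, 2, 1, 3], [2, 0, 3, 1, 3, 3, 1, 3, 4, 2, 2, 4, 2, 6, 4, 3, 3, 6, 4, 2, 4], [1, 5, 7, 0, 5, 3, 0, 5, 7, 1, 5, 0, 4, 3, 3, 5, 3, 1, 3, 3], [2, 2, 0, 2, 4, 2, 2, 5, 1, 4, 0, 6, 4, 1, 2, 4, 1, 6, 4, 0], [1, 5, 7, 2, 1, 3, 5, 7, 2, 1, 3, 5, 3, 0, 3, 3, 0, 3], [2, 1, 2, 2, 1, 2, 4, 2, 0, 3, 6, 4, 2, 0, 3, 6, 4, 0], [7, 0, 4, 2, 4, 1, 5, 7, 0, 3, 1, 4, 1, 3, 3, 1, 2, 1], [0, 3, 0, 2, 2, 0, 5, 0, 2, 1, 6, 4, 0, 5, 3, 5, 1, 6], [5, 1, 4, 2, 5, 7, 4, 1, 4, 0, 4, 3, 1, 3, 1, 2], [3, 0, 2, 0, 2, 5, 1, 5, 0, 5, 6, 4, 3, 5, 0, 4]]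
def t2 : List (List ℕ) := [[0], [1], [2], [3], [4], [5], [6], [7], [8], [9], [10], [11], [12], [13], [14], [15], [16], [17], [18], [19], [20], [21], [22], [23], [24], [25], [26], [20, 22, 19, 21], [22, 20, 21, 19], [29], [30], [31], [32], [33], [34], [35], [36], [37], [38], [39], [40], [41], [42], [43], [44], [45], [46], [47], [48], [49], [50], [51], [52], [53], [54], [55], [56], [57], [58], [59], [60], [61], [62], [63], [64], [65], [66], [67], [68], [69], [70], [71], [72], [73], [74], [75], [76]]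
def s : List (List ℕ) := [[0], [1], [2], [3], [4], [5], [6], [7], [9], [10], [8], [0], [1], [2, 0, 3], [2, 1, 3], [2, 2, 0, 3, 3], [2, 2, 1, 3, 3], [3, 3, 0, 2, 2], [3, 3, 1, 2, 2], [4], [5], [1, 4, 0], [1, 5, 0], [3, 4, 2], [3, 5, 2], [2, 4, 3], [2, 5, 3], [5, 1, 5, 0, 4, 1, 4, 0], [1, 5, 0, 5, 1, 4, 0, 4], [0, 0], [1, 1], [6], [7], [7], [6], [2, 2, 1, 3, 1, 2, 2, 5, 0, 4, 1, 5, 6, 5, 2, 2, 1, 4, 2], [3, 5, 0, 3, 3, 4, 7, 4, 0, 5, 1, 4, 3, 3, 0, 2, 0, 3, 3], [0, 2, 1, 2, 2, 1, 2, 2, 5, 0, 4, 2, 4, 3, 6, 4, 3, 3, 6, 4, 2, 4], [5, 3, 5, 7, 2, 2, 5, 7, 2, 5, 3, 5, 1, 4, 3, 3, 0, 3, 3, 0, 3, 1], [5, 7, 1, 5, 1, 2, 5, 7], [6, 4, 3, 0, 4, 0, 6, 4], [2, 6], [7, 3], [7, 3], [2, 6], [1, 3, 1, 2, 5, 3, 0, 5, 2, 0], [1, 3,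 4, 1, 2, 4, 3, 0, 2, 0], [3, 3, 0, 4, 1, 2, 4, 2], [3, 5, 3, 0, 5, 1, 2, 2], [1, 3, 1, 4, 0, 2, 0], [1, 3, 1, 5, 0, 2, 0], [3, 1, 2, 4, 3, 0, 2], [3, 1, 2, 5, 3, 0, 2], [2, 2, 1, 3, 4, 2, 0, 4, 3, 3, 5], [4, 2, 2, 5, 1, 3, 5, 2, 0, 3, 3], [1, 1, 1], [0, 0, 0], [2, 1, 3, 1, 1], [0, 0, 2, 0, 3], [0, 2, 2, 0, 3, 3, 1], [0, 2, 2, 1, 3, 3, 1], [1, 6, 3, 5, 1, 2, 5, 7, 2, 5, 3, 1, 5, 0, 3, 0, 2, 0, 3], [2, 1, 3, 1, 2, 1, 4, 0, 2, 4, 3, 6, 4, 3, 0, 4, 2, 7, 0], [0, 3, 3, 1, 4, 2, 5, 2, 1, 5, 5, 6, 4, 0, 4, 1, 4, 3, 7], [6, 2, 5, 0, 5, 1, 5, 7, 4, 4, 0, 3, 4, 3, 5, 0, 2, 2, 1], [2, 0, 3, 1, 3, 3, 1, 3, 4, 2, 2, 4, 2, 6, 4, 3, 3, 6, 4, 2, 4], [5, 3, 5, 7, 2, 2, 5, 7, 3, 5, 3, 3, 5, 2, 0, 2, 2, 0, 2, 1, 3], [5, 3, 5, 7, 2,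 2, 5, 7, 3, 5, 3, 3, 5, 2, 0, 2, 2, 0, 2, 1, 3], [2, 0, 3, 1, 3, 3, 1, 3, 4, 2, 2, 4, 2, 6, 4, 3, 3, 6, 4, 2, 4], [1, 5, 7, 0, 5, 3, 0, 5, 7, 1, 5, 0, 4, 3, 3, 5, 3, 1, 3, 3], [2, 2, 0, 2, 4, 2, 2, 5, 1, 4, 0, 6, 4, 1, 2, 4, 1, 6, 4, 0], [1, 5, 7, 2, 1, 3, 5, 7, 2, 1, 3, 5, 3, 0, 3, 3, 0, 3], [2, 1, 2, 2, 1, 2, 4, 2, 0, 3, 6, 4, 2, 0, 3, 6, 4, 0], [7, 0, 4, 2, 4, 1, 5, 7, 0, 3, 1, 4, 1, 3, 3, 1, 2, 1], [0, 3, 0, 2, 2, 0, 5, 0, 2, 1, 6, 4, 0, 5, 3, 5, 1, 6], [5, 1, 4, 2, 5, 7, 4, 1, 4, 0, 4, 3, 1, 3, 1, 2], [3, 0, 2, 0, 2, 5, 1, 5, 0, 5, 6, 4, 3, 5, 0, 4]]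
abbrev G : Type := LyB0.G
noncomputable def el : ℕ → G := byW LyB0.el σ
theorem hinv : ∀ x < 11, el (il.getD x 0) = (el x)⁻¹ := byW_inv LyB0.el (n := 4) LyB0.hinv LyB0.hrel (by decide +kernel)
theorem defs (t : List (List ℕ))
    (h : follows 77 LyB0.il 8 LyB0.rels ((List.range 77).map fun x => t.getD x [] ++ [LyB0.il.getD x 0]) = true) :
    ∀ x < 77, byW LyB0.el t x = LyB0.el x := fun x hx => by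
  have := follows_sound LyB0.el LyB0.hinv LyB0.hrel h _ (List.mem_map.mpr ⟨x, List.mem_range.mpr hx, rfl⟩)
  rw [evw_append, evw_cons, evw_nil, mul_one, LyB0.hinv x hx] at this
  exact mul_inv_eq_one.mp this
theorem d1 : ∀ x < 77, byW LyB0.el t1 x = LyB0.el x := defs t1 (by decide +kernel)
theorem d2 : ∀ x < 77, byW LyB0.el t2 x = LyB0.el x := defs t2 (by decide +kernel)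
theorem step (t rs : List (List ℕ)) (ht : ∀ x < 77, byW LyB0.el t x = LyB0.el x) (hl : rs.all (allLt 77) = true)
    (hr : ∀ r ∈ rs, evw LyB0.el r = 1) : ∀ r ∈ rs.map (subst t), evw LyB0.el r = 1 := fun r hr' => by
  obtain ⟨r0, h0, rfl⟩ := List.mem_map.mp hr'
  rw [evw_subst, evw_congr ht (allLt_all hl r0 h0), hr r0 h0]
theorem hrel : ∀ r ∈ rels, evw el r = 1 :=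
  byW_rels LyB0.el (n := 30) LyB0.hinv (step t1 _ d1 (by decide +kernel) (step t2 _ d2 (by decide +kernel) LyB0.hrel))
    (by decide +kernel)
theorem ds : ∀ x < 77, byW el s x = LyB0.el x := fun x hx => by
  have h1 : ∀ x < 77, subst σ (s.getD x []) = subst t1 (t2.getD x []) := by decide +kernel
  rw [byW, el, ← evw_subst, h1 x hx, evw_subst, evw_congr d1 (getD_lt (allLt_all (k := 77) (by decide +kernel)) x)]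
  exact d2 x hx
theorem htop : gensub el 11 = ⊤ := top_le_iff.mp (LyB0.htop.ge.trans (gensub_le fun x hx => by
  rw [← ds x hx]
  exact evw_mem (fun _ h => mem_gensub h) (getD_lt (allLt_all (k := 11) (by decide +kernel)) x)))
theorem hhom {Γ : Type} [Group Γ] (ev : ℕ → Γ) (h1 : ∀ x < 11, ev (il.getD x 0) = (ev x)⁻¹) (h2 : ∀ r ∈ rels, evw ev r = 1) :
    ∃ ρ : G →* Γ, ∀ x < 11, ρ (el x) = ev x := by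
  obtain ⟨ρ, hρ⟩ := LyB0.hhom (byW ev s) (byW_inv ev (n := 30) h1 h2 (by decide +kernel))
    (byW_rels ev (n := 30) h1 h2 (by decide +kernel))
  refine ⟨ρ, fun x hx => ?_⟩
  have h3 : ∀ x < 11, subst s (σ.getD x []) = [x] := by decide +kernel
  rw [el, byW, hom_evw hρ _ (getD_lt (allLt_all (k := 77) (by decide +kernel)) x), ← evw_subst, h3 x hx, evw_cons,
    evw_nil, mul_one]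
end CfH6.LyB
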