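import Cfsg.Agent.OD.Pre
import Cfsg.Agent.H6.G25D
import Cfsg.Agent.H6.LyC.F0
import Cfsg.Agent.H6.LyC.O
import Cfsg.Agent.H6.LyC.P0
set_option autoImplicit false
set_option maxRecDepth 100000
set_option Elab.async false
set_option linter.all false
namespace CfH6.LyC
open CfH6 CfH6.D MulAction
def σ : List (List ℕ) := [[0],
  [1],
  [2],
  [3],
  [4],
  [5],
  [6],
  [7],
  [8]]
def uss : List (List (List ℕ)) := [[[], [1, 1]],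
  [[3, 3, 0, 2, 2], [3, 3, 0, 2, 2], [0, 0, 3, 3, 0, 2, 2]],
  [[3, 3, 0, 2, 2], [0, 0, 3, 3, 0, 2, 2], [3, 3, 0, 2, 2]],
  [[0, 0, 3, 3, 0, 2, 2], [3, 3, 0, 2, 2], [3, 3, 0, 2, 2]],
  [[1, 6, 3, 5, 1, 2, 5, 7, 2, 5, 3, 1, 5, 0, 3, 0, 2, 0, 3], [1, 5, 7, 0, 5, 3, 0, 5, 7, 1, 5, 0, 4, 3, 3, 5, 3, 1, 3, 3], [5, 7, 1, 5, 1, 2, 5, 7]],
  [[1, 5, 7, 0, 5, 3, 0, 5, 7, 1, 5, 0, 4, 3, 3, 5, 3, 1, 3, 3], [5, 7, 1, 5, 1, 2, 5, 7], [1, 6, 3, 5, 1, 2, 5, 7, 2, 5, 3, 1, 5, 0, 3, 0, 2, 0, 3]],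
  [[5, 7, 1, 5, 1, 2, 5, 7], [1, 6, 3, 5, 1, 2, 5, 7, 2, 5, 3, 1, 5, 0, 3, 0, 2, 0, 3], [1, 5, 7, 0, 5, 3, 0, 5, 7, 1, 5, 0, 4, 3, 3, 5, 3, 1, 3, 3]],
  [[1, 1, 7], [1, 1, 1, 5, 7, 2, 1, 3, 5, 7, 2, 1, 3, 5, 3, 0, 3, 3, 0, 3], [6], [0, 2, 1, 2, 2, 1, 2, 2, 5, 0, 4, 2, 4, 3, 6, 4, 3, 3, 6, 4, 2, 4]],
  [[1, 1, 1, 5, 7, 2, 1, 3, 5, 7, 2, 1, 3, 5, 3, 0, 3, 3, 0, 3], [6], [0, 2, 1, 2, 2, 1, 2, 2, 5, 0, 4, 2, 4, 3, 6, 4, 3, 3, 6, 4, 2, 4], [1, 1, 7]],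
  [[6], [0, 2, 1, 2, 2, 1, 2, 2, 5, 0, 4, 2, 4, 3, 6, 4, 3, 3, 6, 4, 2, 4], [1, 1, 7], [1, 1, 1, 5, 7, 2, 1, 3, 5, 7, 2, 1, 3, 5, 3, 0, 3, 3, 0, 3]],
  [[0, 2, 1, 2, 2, 1, 2, 2, 5, 0, 4, 2, 4, 3, 6, 4, 3, 3, 6, 4, 2, 4], [1, 1, 7], [1, 1, 1, 5, 7, 2, 1, 3, 5, 7, 2, 1, 3, 5, 3, 0, 3, 3, 0, 3], [6]],
  [[2, 0, 3, 1, 3, 3, 1, 3, 4, 2, 2, 4, 2, 6, 4, 3, 3, 6, 4, 2, 4], [0, 3, 3, 1, 4, 2, 5, 2, 1, 5, 5, 6, 4, 0, 4, 1, 4, 3, 7], [1, 1, 5, 3, 5, 7, 2, 2, 5, 7, 3, 5, 3, 3, 5, 2, 0, 2, 2, 0, 2, 1, 3], [1, 1, 7, 0, 4, 2, 4, 1, 5, 7, 0, 3, 1, 4, 1, 3, 3, 1, 2, 1]],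
  [[0, 3, 3, 1, 4, 2, 5, 2, 1, 5, 5, 6, 4, 0, 4, 1, 4, 3, 7], [1, 1, 5, 3, 5, 7, 2, 2, 5, 7, 3, 5, 3, 3, 5, 2, 0, 2, 2, 0, 2, 1, 3], [1, 1, 7, 0, 4, 2, 4, 1, 5, 7, 0, 3, 1, 4, 1, 3, 3, 1, 2, 1], [2, 0, 3, 1, 3, 3, 1, 3, 4, 2, 2, 4, 2, 6, 4, 3, 3, 6, 4, 2, 4]],
  [[1, 1, 5, 3, 5, 7, 2, 2, 5, 7, 3, 5, 3, 3, 5, 2, 0, 2, 2, 0, 2, 1, 3], [1, 1, 7, 0, 4, 2, 4, 1, 5, 7, 0, 3, 1, 4, 1, 3, 3, 1, 2, 1], [2, 0, 3, 1, 3, 3, 1, 3, 4, 2, 2, 4, 2, 6, 4, 3, 3, 6, 4, 2, 4], [0, 3, 3, 1, 4, 2, 5, 2, 1, 5, 5, 6, 4, 0, 4, 1, 4, 3, 7]],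
  [[1, 1, 7, 0, 4, 2, 4, 1, 5, 7, 0, 3, 1, 4, 1, 3, 3, 1, 2, 1], [2, 0, 3, 1, 3, 3, 1, 3, 4, 2, 2, 4, 2, 6, 4, 3, 3, 6, 4, 2, 4], [0, 3, 3, 1, 4, 2, 5, 2, 1, 5, 5, 6, 4, 0, 4, 1, 4, 3, 7], [1, 1, 5, 3, 5, 7, 2, 2, 5, 7, 3, 5, 3, 3, 5, 2, 0, 2, 2, 0, 2, 1, 3]],
  [[2, 6], [2, 2, 1, 3, 1, 2, 2, 5, 0, 4, 1, 5, 6, 5, 2, 2, 1, 4, 2], [1, 1, 7, 3], [1, 1, 5, 1, 4, 2, 5, 7, 4, 1, 4, 0, 4, 3, 1, 3, 1, 2]],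
  [[2, 2, 1, 3, 1, 2, 2, 5, 0, 4, 1, 5, 6, 5, 2, 2, 1, 4, 2], [1, 1, 7, 3], [1, 1, 5, 1, 4, 2, 5, 7, 4, 1, 4, 0, 4, 3, 1, 3, 1, 2], [2, 6]],
  [[1, 1, 7, 3], [1, 1, 5, 1, 4, 2, 5, 7, 4, 1, 4, 0, 4, 3, 1, 3, 1, 2], [2, 6], [2, 2, 1, 3, 1, 2, 2, 5, 0, 4, 1, 5, 6, 5, 2, 2, 1, 4, 2]],
  [[1, 1, 5, 1, 4, 2, 5, 7, 4, 1, 4, 0, 4, 3, 1, 3, 1, 2], [2, 6], [2, 2, 1, 3, 1, 2, 2, 5, 0, 4, 1, 5, 6, 5, 2, 2, 1, 4, 2], [1, 1, 7, 3]]]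
def bus : List (List ℕ × List ℕ) := [([4], [1, 3, 4, 1, 2, 4, 3, 0, 2, 0]),
  ([1, 4, 0], [3, 5, 3, 0, 5, 1, 2, 2]),
  ([3, 4, 2], [1, 3, 1, 5, 0, 2, 0]),
  ([2, 4, 3], [3, 1, 2, 5, 3, 0, 2]),
  ([5, 1, 5, 0, 4, 1, 4, 0], [4, 2, 2, 5, 1, 3, 5, 2, 0, 3, 3]),
  ([0], [0, 0, 0]),
  ([2, 0, 3], [0, 0, 2, 0, 3]),
  ([2, 2, 0, 3, 3], [0, 2, 2, 1, 3, 3, 1])]
def ex : List (List ℕ) := [[0, 0, 0, 10, 6, 0, 0, 10, 5, 3, 5, 7, 2, 2, 5, 7, 2, 5, 3, 5, 1, 4, 3, 3, 0, 3, 3, 0, 3, 1, 10, 7, 10, 2, 1, 2, 2, 1, 2, 4, 2, 0, 3, 6, 4, 2, 0, 3, 6, 4],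
  [0, 0, 10, 2, 0, 3, 1, 3, 3, 1, 3, 4, 2, 2, 4, 2, 6, 4, 3, 3, 6, 4, 2, 4, 0, 0, 10, 6, 2, 5, 0, 5, 1, 5, 7, 4, 4, 0, 3, 4, 3, 5, 0, 2, 2, 1, 10, 5, 3, 5, 7, 2, 2, 5, 7, 3, 5, 3, 3, 5, 2, 0, 2, 2, 0, 2, 1, 3, 10, 0, 3, 0, 2, 2, 0, 5, 0, 2, 1, 6, 4, 0, 5, 3, 5, 1, 6],
  [0, 0, 10, 2, 6, 0, 0, 10, 3, 5, 0, 3, 3, 4, 7, 4, 0, 5, 1, 4, 3, 3, 0, 2, 0, 3, 3, 10, 7, 3, 10, 3, 0, 2, 0, 2, 5, 1, 5, 0, 5, 6, 4, 3, 5, 0, 4]]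
def gws : List (List ℕ) := uss.map (gw σ 9)
def bws : List (List ℕ) := bus.map fun u => subst σ u.1 ++ 9 :: (subst σ u.2 ++ [10])
theorem chk : Rng P.chk 0 685 := p0
section
variable {G : Type} [Group G] (el : ℕ → G) (ρ : G25B.G →* G) (hρ : ∀ x < 9, ρ (G25B.el x) = byW el σ x)
include hρ
theorem trl : Trl ρ G25D.cd G25D.eq 9 el σ := ⟨G25D.heq, fun x hx => by rw [G25D.cdx x hx, hρ x hx]⟩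
theorem hbp (ht : el 10 = (el 9)⁻¹) (h : ∀ w ∈ bws, evw el w = 1) : ∀ p ∈ P.bp, ρ (G25D.cd p.1) * el 9 = el 9 * ρ (G25D.cd p.2) :=
  (trl el ρ hρ).bp _ _ ht _ bus h (by decide +kernel)
variable (H : Subgroup G) (hH : ∀ n, ρ n ∈ H) (hg : ∀ w ∈ gws, evw el w = 1)
  (hb : ∀ p ∈ P.bp, ρ (G25D.cd p.1) * el 9 = el 9 * ρ (G25D.cd p.2))
noncomputable def C : Ctx P G25B.G G where
  ρ := ρ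
  t := el 9
  H := H
  Bs := ⊤
  cd := G25D.cd
  cd0 := G25D.cd0
  heq := G25D.heq
  hH := fun _ => hH
  hB := fun _ => rfl
  hrel := (trl el ρ hρ).rels 9 _ uss hg (by decide +kernel)
  hsub := forall_nil
  hbp := fun p hp => ⟨trivial, hb p hp⟩
include H hH hg hb
theorem hS : ∀ k < 685, (C el ρ hρ H hH hg hb).Sem (P.fact k) := (C el ρ hρ H hH hg hb).sound chk
section
attribute [local instance] actO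
theorem memB : ∀ k, P.okP 685 trO k = 0 → G25D.cd (P.cdK k) ∈ Bsub ρ (el 9) ⊓ stO := Ctx.okP_mem (hS el ρ hρ H hH hg hb) trsO (by decide)
end
section
attribute [local instance] G25D.actD
theorem cardB : 300000 ≤ Nat.card (Bsub ρ (el 9) ⊓ stO : Subgroup _) := have := G25D.fin; levs_card G25D.trsD (memB el ρ hρ H hH hg hb) levB _ lB
theorem hi : ∀ p ∈ lv, ((C el ρ hρ H hH hg hb).T p.1).index ≤ p.2 := have := G25D.fin; forall_cons (Ctx.T0 rfl) (forall_cons (index_le G25D.card (levs_card G25D.trsD (Ctx.okE_mem rfl (hS el ρ hρ H hH hg hb) 1) lev1 300000 l1) (by decide)) (forall_cons (index_le G25D.card (levs_card G25D.trsD (Ctx.okE_mem rfl (hS el ρ hρ H hH hg hb) 2) lev2 6048 l2) (by decide)) (forall_cons (index_le G25D.card (levs_card G25D.trsD (Ctx.okE_mem rfl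 (hS el ρ hρ H hH hg hb) 3) lev3 2880 l3) (by decide)) (forall_cons (index_le G25D.card (levs_card G25D.trsD (Ctx.okE_mem rfl (hS el ρ hρ H hH hg hb) 4) lev4 1008 l4) (by decide)) (forall_nil)))))
end
section
attribute [local instance] actO
theorem dec : ∀ γ ∈ (C el ρ hρ H hH hg hb).K, (C el ρ hρ H hH hg hb).U LM γ := have := G25D.fin
  (C el ρ hρ H hH hg hb).dec (m := 19530) (a := 0) (b := 130) lv (by decide +kernel) List.mem_cons_self (lm_of lv LM (by decide +kernel))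
    (fun x => tb0O.bound G25B.htop x (by decide)) (stab_le G25D.card lowO (cardB el ρ hρ H hH hg hb) (by decide)) (forall_cons (Ctx.cos_of rfl (hS el ρ hρ H hH hg hb) trsO 0 [nat_lit 677, nat_lit 678, nat_lit 679, nat_lit 26, nat_lit 36] 0 0 1 ct0 c0) (forall_cons (Ctx.cos_of rfl (hS el ρ hρ H hH hg hb) trsO 1 [nat_lit 31, nat_lit 41, nat_lit 37, nat_lit 29, nat_lit 39, nat_lit 35, nat_lit 27] 1 0 6 ct1 c1) (forall_cons (Ctx.cos_of rfl (hS el ρ hρ H hH hg hb) trsO 2 [nat_lit 70, nat_lit 50, nat_lit 49, nat_lit 48] 7 0 11 ct2 c2) (forall_cons (Ctx.cos_of rfl (hS el ρ hρ H hH hg hb) trsO 3 [nat_lit 144, nat_lit 128, nat_lit 118, nat_lit 136, nat_lit 220, nat_lit 189] 18 0 18 ct3 c3) (forall_cons (Ctx.cos_of rfl (hS el ρ hρ H hH hg hb) trsO 4 [nat_lit 417, nat_lit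 334, nat_lit 335, nat_lit 497] 36 0 30 ct4 c4) (forall_nil))))))
end
theorem covers : Covers H (C el ρ hρ H hH hg hb).K 8835156 := have := G25D.fin
  (C el ρ hρ H hH hg hb).cover lv (lm_of lv LM (by decide +kernel)) (dec el ρ hρ H hH hg hb) (hi el ρ hρ H hH hg hb) _ (by decide +kernel)
theorem hmax (hK : (C el ρ hρ H hH hg hb).K = ⊤) : ∀ L : Subgroup G, H ≤ L → L = H ∨ L = ⊤ :=
  (C el ρ hρ H hH hg hb).hmax rfl lv (lm_of lv LM (by decide +kernel)) (dec el ρ hρ H hH hg hb) hK (forall_cons (Or.inl rfl) (forall_cons (Or.inr (Ctx.ov_of rfl (hS el ρ hρ H hH hg hb) 1 [nat_lit 0] 680 42 (by decide +kernel))) (forall_cons (Or.inr (Ctx.ov_of rfl (hS el ρ hρ H hH hg hb) 2 [nat_lit 0] 681 66 (by decide +kernel))) (forall_cons (Or.inr (Ctx.ov_of rfl (hS el ρ hρ H hH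 hg hb) 3 [nat_lit 0] 683 154 (by decide +kernel))) (forall_cons (Or.inr (Ctx.ov_of rfl (hS el ρ hρ H hH hg hb) 4 [nat_lit 0] 684 337 (by decide +kernel))) (forall_nil))))))
end
end CfH6.LyC
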