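import Cfsg.Agent.OD.Pre
import Cfsg.Agent.H6.TCTop
/-! coset enumeration certificate; generators a b c d e z ; index 1 -/
set_option autoImplicit false
set_option maxRecDepth 100000
set_option Elab.async false
set_option linter.all false
namespace CfH6.LyK
open CfH6
noncomputable def t0 : Tr := (Tr.n (Tr.l (nat_lit 0x8c5213fff13fff13fff13fff1457213fff13fff13fff13fff13fff0c24813fff13fff13fff0c24713fff13fff13fff13fff13fff13fff13fff13fff13fff13fff13fff13fff13fff0c24413fff13fff0c2430867b13fff13fff0868008b7f13fff13fff13fff086820c24213fff13fff5474750c4813fff13fff13fff13fff0847a13fff0875d13fff083730836f13fff13fff13fff0835e0c1400834c04241))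
 (Tr.l (nat_lit 0x13fff13fff13fff0c37113fff2939413fff13fff13fff13fff24789205621c55f18c5513fff13fff13fff13fff13fff13fff13fff13fff0c34f13fff13fff13fff13fff13fff13fff0c34d13fff08a74)))
noncomputable def t1 : Tr := (Tr.n (Tr.l (nat_lit 0x24a5a13fff13fff13fff2055e0834c13fff13fff13fff13fff13fff1c980082480c67a0c49c13fff0824713fff13fff13fff13fff13fff13fff13fff13fff13fff13fff13fff13fff13fff13fff13fff0c693082431864a13fff13fff5084813fff13fff13fff13fff0cd9213fff13fff14b7f13fff13fff13fff13fff0c4820824113fff13fff13fff0c3740c37013fff13fff13fff13fff0c3550814004242))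
 (Tr.l (nat_lit 0x13fff13fff13fff13fff13fff13fff13fff13fff13fff13fff13fff0d49a13fff2477213fff13fff13fff13fff13fff13fff13fff13fff13fff13fff13fff13fff13fff13fff13fff2c55613fff2855b)))
noncomputable def t2 : Tr := (Tr.n (Tr.l (nat_lit 0x13fff13fff13fff0c34c13fff13fff13fff13fff0c24a0849e13fff13fff13fff13fff13fff13fff13fff13fff13fff0c24613fff13fff13fff0c2450866913fff13fff13fff0c24413fff13fff085630849b0849a13fff13fff13fff13fff13fff13fff0c242084950849313fff13fff13fff13fff0848e0848a0c241084830847b13fff0837613fff13fff13fff0836b083670c14008360083560834d04243))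
 (Tr.l (nat_lit 0x13fff13fff13fff13fff13fff13fff13fff13fff13fff13fff13fff0c35513fff13fff13fff13fff0c35013fff13fff13fff0c34f0878c13fff13fff13fff13fff0c34e13fff0868513fff13fff13fff)))
noncomputable def t3 : Tr := (Tr.n (Tr.l (nat_lit 0x13fff13fff13fff13fff0c34c13fff13fff13fff13fff0c24a13fff13fff13fff13fff13fff13fff13fff13fff13fff13fff0c24613fff1856713fff0c24513fff13fff13fff1446013fff13fff0c24313fff13fff13fff13fff13fff5145a13fff13fff13fff0c2420849413fff13fff13fff13fff0848f0848b084850c2410847c13fff0837713fff13fff13fff0836c08368083630c140083570834e04244))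
 (Tr.l (nat_lit 0x13fff0c37613fff13fff0c35f0c35e13fff13fff1c55a13fff0c35613fff0c35513fff13fff13fff13fff0c35013fff1868a13fff0c34f13fff13fff13fff13fff1458313fff0c34d13fff13fff13fff)))
noncomputable def t4 : Tr := (Tr.n (Tr.l (nat_lit 0x13fff0c34c13fff13fff13fff13fff13fff0c24a13fff0849f13fff13fff13fff13fff13fff13fff13fff13fff0c24613fff13fff13fff0856d13fff13fff13fff0c24450a4613fff13fff13fff13fff13fff13fff13fff13fff13fff13fff0c24213fff13fff14f9514d9313fff13fff13fff13fff0c2410848c08486084840847d13fff13fff13fff13fff083710c140083690836408361083580834f04245))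
 (Tr.l (nat_lit 0x13fff13fff13fff13fff1949b13fff13fff13fff13fff0c35613fff08b5513fff13fff13fff0c35013fff13fff13fff0869013fff13fff13fff13fff0c34e50b5013fff13fff13fff13fff13fff13fff)))
noncomputable def t5 : Tr := (Tr.n (Tr.l (nat_lit 0xffff0ffff1034c0ffff0ffff0ffff0ffff0ffff0ffff51c760ffff0ffff0ffff0ffff102470ffff0ffff0ffff184690ffff0ffff0ffff102450ffff0ffff0ffff0ffff102440ffff0ffff102430ffff0ffff0ffff0ffff0ffff0ffff0ffff0ffff102420ffff0849614a940ffff0ffff0ffff0ffff0849010241084870ffff0847e0ffff0ffff0ffff0ffff0ffff0836d10140083650ffff083590835004246))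
 (Tr.l (nat_lit 0x103760ffff0ffff0ffff0959b0ffff0ffff0ffff0ffff0ffff0ffff0ffff08e550ffff0ffff1858c0ffff0ffff0ffff1034f0ffff0ffff0ffff0ffff0ffff1034e0ffff1034d0ffff0ffff0ffff0ffff)))
noncomputable def t6 : Tr := (Tr.n (Tr.l (nat_lit 0xffff0ffff0ffff0ffff0ffff14c6f0ffff0ffff0ffff0ffff102480ffff0ffff50f480ffff0ffff0ffff0ffff0ffff0ffff0ffff0ffff0ffff0ffff0ffff0ffff0ffff0ffff0ffff0ffff0ffff0ffff0ffff0ffff0ffff0ffff102420867a0ffff0ffff0ffff084970ffff0ffff0ffff10241084920ffff0ffff0ffff0ffff0847f0ffff0ffff0ffff101400ffff0ffff0ffff0ffff0ffff0835a0835104247))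
 (Tr.l (nat_lit 0xffff0ffff0ffff0ffff0ffff0ffff0ffff0ffff0ffff0ffff0ffff0ffff0ffff14c520ffff0ffff0ffff0ffff0ffff0ffff0ffff0ffff0ffff0ffff0ffff0ffff0ffff0ffff0ffff0ffff0ffff1034c)))
noncomputable def t7 : Tr := (Tr.n (Tr.l (nat_lit 0x1034c0ffff0ffff0ffff0ffff1455a0ffff0ffff0ffff0ffff0ffff0ffff0ffff102470ffff0ffff0ffff0ffff0ffff0ffff0ffff0ffff0ffff0ffff0ffff0ffff0ffff0ffff0ffff0ffff0ffff0ffff0ffff0ffff0ffff0ffff0ffff102420ffff0ffff0ffff0ffff0ffff0ffff0ffff0ffff102410ffff0ffff0ffff0ffff084800ffff0ffff0ffff08375101400ffff0ffff0ffff0ffff0835b0835204248))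
 (Tr.l (nat_lit 0xffff0ffff0ffff0ffff0ffff0ffff0ffff0ffff103560ffff0ffff0ffff0ffff103510ffff0ffff0ffff0ffff0ffff0ffff0ffff0ffff0ffff0ffff0ffff0ffff0ffff0ffff0ffff0ffff0ffff0ffff)))
noncomputable def t8 : Tr := (Tr.n (Tr.l (nat_lit 0xffff0ffff0ffff0ffff0ffff0ffff1024a0ffff0ffff15f780ffff0ffff0ffff0ffff0849d0ffff0ffff102460ffff0ffff0ffff102450ffff0ffff0ffff102440ffff0ffff0ffff0ffff0ffff0ffff0ffff0ffff0ffff102420ffff084990ffff0ffff0ffff084980ffff0ffff102410ffff0ffff084910848d084880ffff0ffff0ffff08379101400ffff0ffff0836e0836a083660ffff0835c0835304249))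
 (Tr.l (nat_lit 0xffff0ffff103710ffff0ffff0ffff1035a103560ffff0ffff0ffff0ffff0ffff0ffff103500ffff0ffff0ffff1034f0ffff0ffff0ffff0ffff1034e0ffff0ffff0ffff0ffff0ffff0ffff0ffff0ffff)))
noncomputable def t9 : Tr := (Tr.n (Tr.l (nat_lit 0xffff0ffff0ffff0ffff0ffff0ffff0ffff0ffff0ffff0ffff0ffff0ffff0ffff0ffff0ffff0ffff0ffff0ffff0ffff0ffff0ffff0ffff0ffff0ffff0ffff0ffff0ffff0ffff0ffff0ffff0ffff0ffff0ffff0ffff102420ffff0ffff0ffff0ffff0ffff0ffff0ffff1444b0ffff0ffff0ffff0ffff0ffff0ffff0ffff0ffff08481101400854c0ffff0ffff0ffff0ffff0ffff0ffff0ffff0ffff083540424a))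
 (Tr.l (nat_lit 0xffff0ffff0ffff0ffff0ffff0ffff0ffff0ffff0ffff0ffff0ffff0ffff0ffff08e5d0ffff0ffff0ffff0ffff0ffff0ffff0ffff0ffff0ffff0ffff0ffff0ffff0ffff0ffff0ffff0ffff0ffff0ffff)))
noncomputable def t10 : Tr := (Tr.n (Tr.l (nat_lit 0xbfff0bfff0bfff0bfff0bfff0bfff0bfff0bfff0bfff0bfff0bfff0bfff0bfff0bfff0bfff0bfff0bfff0bfff0bfff0bfff0bfff0bfff0bfff0bfff0bfff0bfff0bfff0bfff0bfff0bfff0bfff0bfff0bfff0bfff18d920bfff0bfff0bfff0bfff0bfff0bfff0bfff0bfff102410bfff0bfff0bfff0bfff0bfff0bfff0bfff1444a0bfff101400bfff0bfff0bfff0bfff0bfff0bfff0bfff0c35d0bfff0424b))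
 (Tr.l (nat_lit 0xbfff0bfff0bfff0bfff0bfff0bfff0bfff0bfff0bfff0bfff0bfff0bfff0bfff0bfff0bfff0bfff0bfff0bfff0bfff0bfff0bfff0bfff0bfff0bfff0bfff0bfff0bfff0bfff0bfff0bfff1034c0bfff)))
noncomputable def t11 : Tr := (Tr.n (Tr.l (nat_lit 0x7fffe5c4ce1c4cdda4cd994cd5c420c44a0e07641d76d214a3ce7238b513475acdb40c9e41306522cd5b0c446c4964c0b45289440c445bc84424543b87630c444b494507fffb0a4607fff20c46ac6451d642a9841a5b540c442a1d5a9e04c191429905695342912428db4c8a44a0c44185b51820407d641795417554171441161406e24a125400c34069c4765f41619405d8405984055740522410a34000000))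
 (Tr.l (nat_lit 0x4db768de4a0c57149d4007fff899410c55a0c5568535a44f4207fff818557d75579a410c55074a8670c4f28a4e0c54f6c94e2464d6888507fff0c54e64a4f60e4d5cb5020d505874f5534051c4b07fff)))
noncomputable def t12 : Tr := (Tr.n (Tr.l (nat_lit 0x7452318423601750184238523845205301986745230a867452319a8674523010))
 (Tr.l (nat_lit 0x538033887432378423852308452530a6)))
noncomputable def t13 : Tr := (Tr.n (Tr.l (nat_lit 0x7001d00))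
 (Tr.l (nat_lit 0)))
noncomputable def t14 : Tr := (Tr.n (Tr.l (nat_lit 0x1cc0))
 (Tr.l (nat_lit 0)))
noncomputable def t15 : Tr := (Tr.n (Tr.l (nat_lit 0x25c0))
 (Tr.l (nat_lit 0)))
noncomputable def t16 : Tr := (Tr.n (Tr.l (nat_lit 0x1b40))
 (Tr.l (nat_lit 0x2400)))
noncomputable def t17 : Tr := (Tr.n (Tr.l (nat_lit 0x27c0))
 (Tr.l (nat_lit 0)))
noncomputable def t18 : Tr := (Tr.n (Tr.l (nat_lit 0x1d40))
 (Tr.l (nat_lit 0)))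
noncomputable def t19 : Tr := (Tr.n (Tr.l (nat_lit 0x55955647b8d7805581e24920670069118e367098226995ae368890c09225e8647025a4568d6649a0104992191c14d113424d8e0804c25c8671150c443090e35f01300))
 (Tr.l (nat_lit 0x7789782561a4e35f065218c121638a0a0e28c961258e8e2e25601569)))
noncomputable def tab0 : Tr := t0
noncomputable def tab1 : Tr := t1
noncomputable def tab2 : Tr := t2
noncomputable def tab3 : Tr := t3
noncomputable def tab4 : Tr := t4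
noncomputable def tab5 : Tr := t5
noncomputable def tab6 : Tr := t6
noncomputable def tab7 : Tr := t7
noncomputable def tab8 : Tr := t8
noncomputable def tab9 : Tr := t9
noncomputable def tab10 : Tr := t10
noncomputable def tab11 : Tr := t11
noncomputable def tab12 : Tr := t12
noncomputable def tab13 : Tr := t13
noncomputable def tab14 : Tr := t14
noncomputable def tab15 : Tr := (Tr.l (nat_lit 0))
noncomputable def tab16 : Tr := t15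
noncomputable def tab17 : Tr := t16
noncomputable def tab18 : Tr := t17
noncomputable def tab19 : Tr := t18
noncomputable def tab20 : Tr := (Tr.l (nat_lit 0))
noncomputable def tab21 : Tr := (Tr.l (nat_lit 0))
noncomputable def tab22 : Tr := (Tr.l (nat_lit 0))
noncomputable def tab23 : Tr := (Tr.l (nat_lit 0))
noncomputable def tab24 : Tr := t19
noncomputable def ty0 : TT := (TT.n (TT.n (TT.n (TT.n (TT.l (Ty.srel [nat_lit 1]))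
 (TT.l (Ty.srel [nat_lit 0, nat_lit 3, nat_lit 1, nat_lit 1, nat_lit 2])))
 (TT.l (Ty.rel5 (nat_lit 7) (nat_lit 7) (nat_lit 0) (nat_lit 0) (nat_lit 0))))
 (TT.n (TT.l (Ty.dfn))
 (TT.l (Ty.rel5 (nat_lit 0) (nat_lit 3) (nat_lit 1) (nat_lit 1) (nat_lit 2)))))
 (TT.n (TT.n (TT.n (TT.l (Ty.rel1 (nat_lit 1)))
 (TT.l (Ty.srel [nat_lit 2, nat_lit 0, nat_lit 2, nat_lit 0, nat_lit 2, nat_lit 0, nat_lit 2])))
 (TT.l (Ty.srel [nat_lit 0, nat_lit 0, nat_lit 7, nat_lit 1, nat_lit 6])))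
 (TT.n (TT.l (Ty.skip))
 (TT.l (Ty.rel5 (nat_lit 0) (nat_lit 2) (nat_lit 1) (nat_lit 1) (nat_lit 3))))))
noncomputable def ty1 : TT := (TT.n (TT.n (TT.n (TT.n (TT.l (Ty.srel [nat_lit 0]))
 (TT.l (Ty.rel5 (nat_lit 1) (nat_lit 1) (nat_lit 1) (nat_lit 6) (nat_lit 6))))
 (TT.l (Ty.srel [nat_lit 1, nat_lit 1, nat_lit 6, nat_lit 6, nat_lit 1])))
 (TT.n (TT.n (TT.l (Ty.rel1 (nat_lit 0)))
 (TT.l (Ty.rel5 (nat_lit 3) (nat_lit 0) (nat_lit 0) (nat_lit 2) (nat_lit 1))))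
 (TT.l (Ty.rel5 (nat_lit 1) (nat_lit 6) (nat_lit 6) (nat_lit 1) (nat_lit 1)))))
 (TT.n (TT.n (TT.n (TT.l (Ty.dfn))
 (TT.l (Ty.rel5 (nat_lit 6) (nat_lit 0) (nat_lit 0) (nat_lit 0) (nat_lit 7))))
 (TT.l (Ty.rel5 (nat_lit 9) (nat_lit 1) (nat_lit 1) (nat_lit 1) (nat_lit 10))))
 (TT.n (TT.l (Ty.skip))
 (TT.l (Ty.rel5 (nat_lit 1) (nat_lit 3) (nat_lit 0) (nat_lit 0) (nat_lit 2))))))
noncomputable def ty2 : TT := (TT.n (TT.n (TT.l (Ty.srel [nat_lit 3]))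
 (TT.l (Ty.dfn)))
 (TT.n (TT.l (Ty.rel1 (nat_lit 3)))
 (TT.l (Ty.skip))))
noncomputable def ty3 : TT := (TT.n (TT.n (TT.n (TT.l (Ty.srel [nat_lit 2]))
 (TT.l (Ty.relL (nat_lit 3) [nat_lit 3, nat_lit 3, nat_lit 3])))
 (TT.n (TT.l (Ty.dfn))
 (TT.l (Ty.rel3 (nat_lit 7) (nat_lit 2) (nat_lit 6)))))
 (TT.n (TT.n (TT.l (Ty.rel1 (nat_lit 2)))
 (TT.l (Ty.srel [nat_lit 3, nat_lit 5, nat_lit 8, nat_lit 4, nat_lit 8, nat_lit 4])))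
 (TT.l (Ty.skip))))
noncomputable def ty4 : TT := (TT.n (TT.n (TT.n (TT.l (Ty.srel [nat_lit 5]))
 (TT.l (Ty.srel [nat_lit 0, nat_lit 0, nat_lit 4, nat_lit 4, nat_lit 1, nat_lit 1])))
 (TT.l (Ty.dfn)))
 (TT.n (TT.n (TT.l (Ty.rel1 (nat_lit 5)))
 (TT.l (Ty.srel [nat_lit 3, nat_lit 1, nat_lit 5, nat_lit 0, nat_lit 2, nat_lit 5, nat_lit 3, nat_lit 1, nat_lit 4, nat_lit 0, nat_lit 2])))
 (TT.l (Ty.skip))))
noncomputable def ty5 : TT := (TT.n (TT.n (TT.n (TT.l (Ty.srel [nat_lit 4]))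
 (TT.l (Ty.srel [nat_lit 0, nat_lit 0, nat_lit 5, nat_lit 5, nat_lit 1, nat_lit 1])))
 (TT.l (Ty.skip)))
 (TT.n (TT.n (TT.l (Ty.rel1 (nat_lit 4)))
 (TT.l (Ty.relL (nat_lit 5) [nat_lit 5, nat_lit 5, nat_lit 5])))
 (TT.l (Ty.dfn))))
noncomputable def ty6 : TT := (TT.n (TT.n (TT.n (TT.l (Ty.srel [nat_lit 7]))
 (TT.l (Ty.srel [nat_lit 1, nat_lit 1, nat_lit 1, nat_lit 1, nat_lit 6])))
 (TT.l (Ty.skip)))
 (TT.n (TT.l (Ty.rel1 (nat_lit 7)))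
 (TT.l (Ty.dfn))))
noncomputable def ty7 : TT := (TT.n (TT.n (TT.n (TT.l (Ty.srel [nat_lit 6]))
 (TT.l (Ty.rel5 (nat_lit 7) (nat_lit 0) (nat_lit 0) (nat_lit 0) (nat_lit 0))))
 (TT.l (Ty.skip)))
 (TT.n (TT.l (Ty.rel1 (nat_lit 6)))
 (TT.l (Ty.dfn))))
noncomputable def ty8 : TT := (TT.n (TT.n (TT.n (TT.l (Ty.srel [nat_lit 8]))
 (TT.l (Ty.srel [nat_lit 4, nat_lit 3, nat_lit 5, nat_lit 2, nat_lit 2, nat_lit 5, nat_lit 5, nat_lit 3, nat_lit 8, nat_lit 3])))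
 (TT.l (Ty.skip)))
 (TT.n (TT.l (Ty.rel1 (nat_lit 8)))
 (TT.l (Ty.dfn))))
noncomputable def ty9 : TT := (TT.n (TT.n (TT.n (TT.l (Ty.srel [nat_lit 10]))
 (TT.l (Ty.rel3 (nat_lit 9) (nat_lit 1) (nat_lit 1))))
 (TT.l (Ty.skip)))
 (TT.n (TT.l (Ty.rel1 (nat_lit 10)))
 (TT.l (Ty.dfn))))
noncomputable def ty10 : TT := (TT.n (TT.n (TT.n (TT.l (Ty.srel [nat_lit 9]))
 (TT.l (Ty.rel3 (nat_lit 10) (nat_lit 0) (nat_lit 0))))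
 (TT.l (Ty.rel1 (nat_lit 9))))
 (TT.n (TT.n (TT.l (Ty.skip))
 (TT.l (Ty.rel3 (nat_lit 0) (nat_lit 0) (nat_lit 10))))
 (TT.l (Ty.dfn))))
noncomputable def ty11 : TT := (TT.n (TT.n (TT.n (TT.n (TT.n (TT.l (Ty.skip))
 (TT.l (Ty.srel [nat_lit 0, nat_lit 0, nat_lit 5, nat_lit 5, nat_lit 1, nat_lit 1, nat_lit 5])))
 (TT.l (Ty.srel [nat_lit 3, nat_lit 5, nat_lit 8, nat_lit 4, nat_lit 8, nat_lit 4, nat_lit 3])))
 (TT.n (TT.l (Ty.srel [nat_lit 8, nat_lit 7, nat_lit 5, nat_lit 7, nat_lit 2, nat_lit 1, nat_lit 3, nat_lit 5, nat_lit 7, nat_lit 1, nat_lit 5, nat_lit 0, nat_lit 5, nat_lit 1, nat_lit 4, nat_lit 0, nat_lit 2, nat_lit 2]))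
 (TT.l (Ty.relL (nat_lit 6) [nat_lit 1, nat_lit 1, nat_lit 1, nat_lit 7, nat_lit 0]))))
 (TT.n (TT.n (TT.n (TT.l (Ty.rel1 (nat_lit 8)))
 (TT.l (Ty.srel [nat_lit 3, nat_lit 9, nat_lit 3, nat_lit 1, nat_lit 2, nat_lit 5, nat_lit 3, nat_lit 0, nat_lit 2, nat_lit 10, nat_lit 2, nat_lit 4])))
 (TT.l (Ty.srel [nat_lit 0, nat_lit 0, nat_lit 0, nat_lit 0, nat_lit 0, nat_lit 0, nat_lit 0, nat_lit 0])))
 (TT.n (TT.l (Ty.srel [nat_lit 5, nat_lit 3, nat_lit 4, nat_lit 4, nat_lit 2, nat_lit 1, nat_lit 3, nat_lit 4, nat_lit 2, nat_lit 0, nat_lit 2, nat_lit 5, nat_lit 3]))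
 (TT.l (Ty.srel [nat_lit 1, nat_lit 6, nat_lit 0, nat_lit 0, nat_lit 0, nat_lit 7])))))
 (TT.n (TT.n (TT.n (TT.n (TT.l (Ty.srel [nat_lit 8, nat_lit 0, nat_lit 0, nat_lit 8, nat_lit 2, nat_lit 4, nat_lit 3, nat_lit 1, nat_lit 5, nat_lit 0, nat_lit 5, nat_lit 1, nat_lit 4, nat_lit 2, nat_lit 1, nat_lit 3, nat_lit 3, nat_lit 1]))
 (TT.l (Ty.srel [nat_lit 8, nat_lit 1, nat_lit 5, nat_lit 1, nat_lit 5, nat_lit 0, nat_lit 4, nat_lit 1, nat_lit 4, nat_lit 0, nat_lit 2, nat_lit 4, nat_lit 3, nat_lit 4, nat_lit 2, nat_lit 0, nat_lit 3, nat_lit 3, nat_lit 1, nat_lit 6, nat_lit 8, nat_lit 3, nat_lit 1, nat_lit 4, nat_lit 8, nat_lit 1])))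
 (TT.l (Ty.srel [nat_lit 8, nat_lit 2, nat_lit 4, nat_lit 4, nat_lit 3, nat_lit 3, nat_lit 4, nat_lit 2, nat_lit 5, nat_lit 8, nat_lit 2])))
 (TT.n (TT.l (Ty.srel [nat_lit 8, nat_lit 4, nat_lit 8, nat_lit 4, nat_lit 3, nat_lit 3, nat_lit 5]))
 (TT.l (Ty.relL (nat_lit 7) [nat_lit 0, nat_lit 6, nat_lit 1, nat_lit 1, nat_lit 1]))))
 (TT.n (TT.n (TT.l (Ty.srel [nat_lit 3, nat_lit 3, nat_lit 0, nat_lit 2, nat_lit 2, nat_lit 9, nat_lit 3, nat_lit 3, nat_lit 0, nat_lit 2, nat_lit 2, nat_lit 9, nat_lit 3, nat_lit 3, nat_lit 0, nat_lit 2, nat_lit 2, nat_lit 9, nat_lit 0, nat_lit 0]))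
 (TT.l (Ty.relL (nat_lit 6) [nat_lit 0, nat_lit 0, nat_lit 0, nat_lit 7, nat_lit 1])))
 (TT.n (TT.l (Ty.srel [nat_lit 2, nat_lit 5, nat_lit 8, nat_lit 2, nat_lit 8, nat_lit 2, nat_lit 4, nat_lit 4, nat_lit 3, nat_lit 3, nat_lit 4]))
 (TT.l (Ty.srel [nat_lit 4, nat_lit 3, nat_lit 8, nat_lit 2, nat_lit 4, nat_lit 3, nat_lit 8, nat_lit 2, nat_lit 5, nat_lit 3, nat_lit 3]))))))
noncomputable def C : Cert where
  tabs := [tab0, tab1, tab2, tab3, tab4, tab5, tab6, tab7, tab8, tab9, tab10, tab11, tab12, tab13, tab14, tab15, tab16, tab17, tab18, tab19, tab20, tab21, tab22, tab23, tab24]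
  tts := [ty0, ty1, ty2, ty3, ty4, ty5, ty6, ty7, ty8, ty9, ty10, ty11]
  k := nat_lit 6
  base := nat_lit 19
  mJ := nat_lit 192
  mR := nat_lit 63
  W := nat_lit 20
  mA := nat_lit 16383
  mI := nat_lit 255
  S := nat_lit 14
  mC := nat_lit 63
  nc := nat_lit 11
  lo := nat_lit 64
  live := nat_lit 65
  hi1 := nat_lit 159
  AW := nat_lit 14
  mAW := nat_lit 16383
def il : List ℕ := [1, 0, 3, 2, 5, 4, 7, 6, 8, 10, 9]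
def rels : List (List ℕ) := [[0, 0, 0, 0, 0, 0, 0, 0],
  [2, 2, 2, 2, 2],
  [0, 2, 0, 2, 0, 2, 0, 2],
  [1, 1, 3, 0, 0, 2],
  [1, 3, 0, 2, 1, 3, 0, 2, 1, 3, 0, 2],
  [4, 4, 4, 4, 4],
  [5, 1, 5, 0, 4, 1, 4, 0, 5, 1, 5, 0, 4, 1, 4, 0, 5, 1, 5, 0, 4, 1, 4, 0, 5, 1, 5, 0, 4, 1, 4, 0, 5, 1, 5, 0, 4, 1, 4, 0],
  [5, 1, 5, 0, 5, 1, 4, 0, 4, 1, 5, 0, 4, 1, 4, 0],
  [5, 0, 5, 1, 4, 0, 4, 1, 4, 0, 5, 1, 5, 0, 4, 1],
  [3, 5, 2, 1, 5, 0, 5, 1, 4, 0, 4, 3, 4, 2, 5, 1, 5, 0, 4, 1, 4, 0],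
  [2, 5, 3, 1, 5, 0, 5, 1, 4, 0, 4, 2, 4, 3, 5, 1, 5, 0, 4, 1, 4, 0],
  [5, 3, 5, 2, 4, 3, 4, 2, 5, 1, 5, 0, 4, 1, 4, 0, 5, 1, 5, 0, 4, 1, 4, 0],
  [2, 5, 3, 4, 2, 4, 3, 1, 5, 0, 5, 1, 4, 0, 4, 1, 5, 0, 5, 1, 4, 0],
  [3, 5, 2, 1, 4, 0, 3, 4, 2, 5, 1, 5, 0, 4],
  [1, 5, 0, 2, 5, 3, 1, 4, 0, 2, 4, 3],
  [3, 5, 2, 2, 5, 3, 3, 4, 2, 2, 4, 3, 5, 1, 5, 0, 4, 1, 4, 0],
  [1, 1, 4, 0, 0, 4, 4],
  [1, 3, 4, 2, 0, 2, 5, 3, 5, 3, 4, 4, 2],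
  [1, 2, 4, 3, 0, 2, 5, 3, 5, 2, 5, 3, 3, 4, 2, 1, 4, 0, 5],
  [1, 5, 1, 5, 0, 4, 1, 4, 0, 5, 0, 5, 1, 4, 0, 4, 1, 5, 0, 5, 1, 4, 0, 4],
  [3, 1, 4, 0, 2, 2, 4, 3, 4, 2, 4, 3, 3, 5, 2, 1, 5, 0],
  [3, 3, 4, 2, 4, 4, 2, 2, 5, 3, 5, 5],
  [3, 5, 1, 5, 0, 4, 1, 4, 0, 2, 1, 5, 0, 5, 1, 4, 0, 4],
  [8, 7, 5, 7, 2, 1, 3, 5, 7, 1, 5, 0, 5, 1, 4, 0, 2, 2],
  [8, 4, 8, 4, 3, 3, 5],
  [8, 3, 4, 2, 8, 0, 2, 4, 3, 4, 1, 5, 3, 3],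
  [8, 2, 4, 3, 8, 2, 5, 3, 3, 4, 3],
  [8, 5, 1, 5, 0, 4, 1, 4, 0, 8, 2, 4, 3, 5, 3, 4, 2, 5],
  [8, 0, 0, 8, 2, 4, 3, 1, 5, 0, 5, 1, 4, 2, 1, 3, 3, 1],
  [8, 2, 8, 2, 4, 4, 3, 3, 4, 2, 5],
  [8, 0, 2, 2, 0, 3, 0, 8, 2, 4, 3, 1, 5, 0, 5, 1, 4, 1],
  [8, 1, 4, 0, 8, 1, 5, 0, 8, 1, 4, 0, 2, 5, 3, 0, 3, 4, 2, 0, 0, 0],
  [6, 8, 3, 1, 4, 8, 1, 8, 1, 5, 1, 5, 0, 4, 1, 4, 0, 2, 4, 3, 4, 2, 0, 3, 3, 1],
  [6, 6, 1, 1, 1, 1],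
  [3, 7, 2, 6],
  [7, 0, 6, 1, 1, 1],
  [6, 5, 1, 5, 0, 4, 1, 4, 0, 6, 5, 1, 5, 0, 4, 1, 4, 0, 6, 5, 1, 5, 0, 4, 1, 4, 0, 6, 5, 1, 5, 0, 4, 1, 4, 0, 6, 5, 1, 5, 0, 4, 1, 4, 0],
  [6, 5, 1, 5, 0, 4, 1, 4, 0, 6, 1, 5, 0, 5, 1, 4, 0, 4, 6, 5, 1, 5, 0, 4, 1, 4, 1],
  [10, 4, 9, 1, 3, 4, 1, 2, 4, 3, 0, 2, 0],
  [10, 1, 4, 0, 9, 3, 5, 3, 0, 5, 1, 2, 2],
  [10, 3, 4, 2, 9, 1, 3, 1, 5, 0, 2, 0],
  [10, 2, 4, 3, 9, 3, 1, 2, 5, 3, 0, 2],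
  [10, 5, 1, 5, 0, 4, 1, 4, 0, 9, 4, 2, 2, 5, 1, 3, 5, 2, 0, 3, 3],
  [10, 0, 9, 0, 0, 0],
  [10, 2, 0, 3, 9, 0, 0, 2, 0, 3],
  [10, 2, 2, 0, 3, 3, 9, 0, 2, 2, 1, 3, 3, 1],
  [9, 9, 1, 1],
  [3, 3, 0, 2, 2, 9, 3, 3, 0, 2, 2, 9, 3, 3, 0, 2, 2, 9, 0, 0],
  [5, 7, 1, 5, 1, 2, 5, 7, 9, 1, 6, 3, 5, 1, 2, 5, 7, 2, 5, 3, 1, 5, 0, 3, 0, 2, 0, 3, 9, 1, 5, 7, 0, 5, 3, 0, 5, 7, 1, 5, 0, 4, 3, 3, 5, 3, 1, 3, 3, 9],
  [10, 7, 10, 1, 5, 7, 2, 1, 3, 5, 7, 2, 1, 3, 5, 3, 0, 3, 3, 0, 3, 9, 6, 9, 0, 2, 1, 2, 2, 1, 2, 2, 5, 0, 4, 2, 4, 3, 6, 4, 3, 3, 6, 4, 2, 4],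
  [9, 2, 0, 3, 1, 3, 3, 1, 3, 4, 2, 2, 4, 2, 6, 4, 3, 3, 6, 4, 2, 4, 9, 0, 3, 3, 1, 4, 2, 5, 2, 1, 5, 5, 6, 4, 0, 4, 1, 4, 3, 7, 10, 5, 3, 5, 7, 2, 2, 5, 7, 3, 5, 3, 3, 5, 2, 0, 2, 2, 0, 2, 1, 3, 10, 7, 0, 4, 2, 4, 1, 5, 7, 0, 3, 1, 4, 1, 3, 3, 1, 2, 1],
  [9, 2, 6, 9, 2, 2, 1, 3, 1, 2, 2, 5, 0, 4, 1, 5, 6, 5, 2, 2, 1, 4, 2, 10, 7, 3, 10, 5, 1, 4, 2, 5, 7, 4, 1, 4, 0, 4, 3, 1, 3, 1, 2],
  [8]]
def subs : List (List ℕ) := []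
theorem valid : C.valid il rels subs = true := by decide +kernel
theorem p0 : C.OkL 64 65 := C.okL_of 64 0 1 65 (by decide) (by decide +kernel)
theorem p1 : C.OkR 65 160 := C.okR_of 65 0 95 160 (by decide) (by decide +kernel)
theorem covers {G : Type*} [Group G] (ev : ℕ → G) (H : Subgroup G)
    (hinv : ∀ x < 11, ev (il.getD x 0) = (ev x)⁻¹) (hr : ∀ r ∈ rels, evw ev r = 1)
    (hs : ∀ s ∈ subs, evw ev s ∈ H) : Covers H (gensub ev 11) 1 :=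
  C.sound il rels subs 11 1 valid (p0) (p1) (by decide) (by decide) ev H hinv hr hs
end CfH6.LyK
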