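import Cfsg.Agent.OD.Pre
import Cfsg.Agent.H6.TCTop
/-! coset enumeration certificate; generators a b c d e z ; index 1 -/
set_option autoImplicit false
set_option maxRecDepth 100000
set_option Elab.async false
set_option linter.all false
namespace CfH6.LyW
open CfH6
noncomputable def t0 : Tr := (Tr.n (Tr.l (nat_lit 0x9fffc27fff09fffc27fff06092027fff09fffc1128709fffc1064a06091c27fff09fffc27fff09fffc1824609fffc27fff09fffc182453c6a1c27fff09fffc27fff09fffc27fff09fffc18244041a1427fff0e965427fff09fffc3259409fffc2a99204125818243041a1027fff041a2410b8809fffc1074b09fffce874738312027fff09fffc1048c09fffc104830415d81075809fffc1037a040dd027fff040dac10363040d6418140040d3008241))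
 (Tr.l (nat_lit 0x27fff09fffc27fff09fffc27fff04d26027fff09fffc6369b09fffc5a45b09fffc27fff09fffc2a95c09fffc27fff09fffc27fff09fffc5234e09fffc27fff0429ec10c52124dc027fff09fffc27fff1015dc10a8609fffc27fff)))
noncomputable def t1 : Tr := (Tr.n (Tr.l (nat_lit 0x7fffc1ffff07fffc1ffff1826241024807fffc1ffff081a0c5844b07fffc1024707fffc1ffff07fffc2148707fffc1ffff3e5a0c1ffff0409141ffff07fffc1ffff07fffc1ffff07fffc1ffff0409101ffff1496541ffff07fffc4a59407fffc1ffff0896581ffff04090c4064a3c3d1ce884807fffc1ffff07fffc38b883832241ffff07fffc2248c07fffc102410c19502857607fffc2037b080dd420370080db020364080d681ffff04050008242))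
 (Tr.l (nat_lit 0x1ffff07fffc1ffff07fffc1ffff08de601ffff07fffc8b39b07fffc1035b0899841ffff07fffc1ffff07fffc1ffff07fffc1ffff07fffc1034e07fffc1ffff1e155c80a561645e0789821c158c68559040d301ffff07fffc1ffff)))
noncomputable def t2 : Tr := (Tr.n (Tr.l (nat_lit 0x7fffc2024a07fffc1ffff07fffc1ffff07fffc1ffff07fffc1ffff07fffc1ffff07fffc1ffff07fffc1ffff07fffc1ffff07fffc1ffff07fffc13c9e0c11202844707fffc1ffff0809101ffff0412801ffff07fffc1049c07fffc1ffff07fffc1ffff0415941ffff0412441ffff07fffc1ffff07fffc1ffff07fffc1ffff07fffc1ffff07fffc2024107fffc1048407fffc1ffff07fffc1055f0415781ffff07fffc20140040d6c1ffff040d3408243))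
 (Tr.l (nat_lit 0x1ffff0cf27c1ffff07fffc1ffff07fffc1ffff07fffc1ffff07fffc1ffff07fffc1ffff07fffc1ffff07fffc2035307fffc1ffff391e341ffff07fffc1ffff07fffc1ffff07fffc1ffff080d301ffff07fffc1ffff07fffc1ffff)))
noncomputable def t3 : Tr := (Tr.n (Tr.l (nat_lit 0x7fffc1ffff07fffc4c17c07fffc1ffff07fffc1ffff07fffc1ffff07fffc1ffff07fffc1ffff07fffc1ffff07fffc1ffff07fffc1ffff07fffc43c9e07fffc1ffff07fffc1ffff0e116c1ffff07fffc1ffff07fffce3b600c11202844707fffc1ffff08090c1ffff07fffc1ffff07fffc1ffff07fffc1ffff0412401ffff07fffc1ffff07fffc1ffff0809041048507fffc1037e07fffc105690415a01ffff07fffc103650805001ffff040d3808244))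
 (Tr.l (nat_lit 0x2036304f67c53b6a07fffc2036007fffc1ffff07fffc1ffff07fffc1ffff07fffc1ffff07fffc1ffff080d641ffff07fffc1ffff391e341ffff07fffc1ffff07fffc1ffff07fffc1ffff07fffc2034c07fffc1ffff07fffc1ffff)))
noncomputable def t4 : Tr := (Tr.n (Tr.l (nat_lit 0x809281ffff0809241436a07fffc1ffff07fffc1ffff07fffc2024707fffc1ffff07fffc1ffff0809181ffff07fffc1ffff0415c41ffff106a0ce3e6007fffc1ffff0809101ffff0505941ffff0f118c1ffff049e501049d07fffc32e5e08090c2aa5d04125c1ffff0412481ffff07fffc1ffff07fffc1ffff07fffc1ffff0445fc2024107fffc1048d04122810486040e041ffff07fffc1ffff07fffc20140040db410366040d701ffff040d3c08245))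
 (Tr.l (nat_lit 0x143a007fffc2036007fffc1ffff07fffc1ffff07fffc2035b07fffc1ffff07fffc1ffff080d642aa9312fe441ffff07fffc1ffff07fffc1ffff080d341ffff07fffc1ffff080d301ffff07fffc1ffff07fffc1ffff07fffc1ffff)))
noncomputable def t5 : Tr := (Tr.n (Tr.l (nat_lit 0x1041441ffff07fffc2024907fffc1ffff07fffc1ffff07fffc1ffff07fffcf0d4b07fffc1ffff0e11b41ffff07fffc1ffff0809141ffff07fffc3427c07fffc1ffff07fffc202440b01941ffff05158c1ffff3abd841049e07fffc12f5e04ad70202430412601ffff04124c1ffff383d2c1ffff07fffc1ffff07fffc1ffff07fffc1ffff0809041ffff04122c1048707fffc1037f07fffc1ffff040dd81037108050010367040d741ffff040d4008246))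
 (Tr.l (nat_lit 0x542a007fffc1ffff080d801ffff07fffc1ffff07fffc1ffff080d6c1ffff07fffc4a66107fffc2035907fffc1ffff07fffc1ffff080d381ffff07fffc2034d07fffc1ffff07fffc2034c07fffc1ffff07fffc1ffff08092c1ffff)))
noncomputable def t6 : Tr := (Tr.n (Tr.l (nat_lit 0x7fffc3254e07fffc1ffff07fffc1ffff07fffc1ffff07fffc1ffff07fffc1ffff07fffc1ffff07fffc1ffff07fffc1ffff07fffc1ffff07fffc1ffff0809101ffff07fffc1ffff07fffc1ffff07fffc1ffff041a481ffff08090c1ffff07fffc2a7950412641ffff0412501ffff0809081068307fffc1ffff07fffc2024107fffc1ffff07fffc1048e07fffc1048807fffc1054f07fffc2014007fffc1ffff07fffc10368040d7810356040d4408247))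
 (Tr.l (nat_lit 0x1ffff080d801ffff07fffc1ffff07fffc1ffff07fffc1ffff07fffc1ffff0e91703245907fffc2a76107fffc1ffff07fffc1ffff391d801ffff07fffc1ffff080d301ffff07fffc1ffff07fffc1ffff0426042024b07fffc2024a)))
noncomputable def t7 : Tr := (Tr.n (Tr.l (nat_lit 0x7fffc1ffff07fffc1ffff07fffc1ffff07fffc1ffff0a091c1ffff07fffc1ffff07fffc1ffff07fffc1ffff07fffc1ffff38591c1ffff07fffc1ffff07fffc2824407fffc1ffff07fffc1ffff07fffc1ffff04a2481049f07fffc2824307fffc1ffff07fffc1ffff07fffc3088607fffc2824207fffc1ffff07fffc1ffff0a09041ffff0811281267e07fffc1048907fffc1038007fffc1ffff0a05001ffff08155410369040d7c1ffff040d4808248))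
 (Tr.l (nat_lit 0x1ffff07fffc1ffff07fffc1ffff07fffc1ffff0a0d6c1ffff07fffc1ffff04a1702835907fffc2056107fffc1ffff07fffc2834e07fffc1ffff07fffc1ffff07fffc2834c07fffc2055407fffc1ffff0c15581ffff08220c1ffff)))
noncomputable def t8 : Tr := (Tr.n (Tr.l (nat_lit 0x7fffc1ffff05099411f9807fffc1ffff07fffc1ffff07fffc1ffff07fffc1ffff07fffc1ffff07fffc1ffff07fffc1ffff07fffc1ffff07fffc2024407fffc1ffff07fffc1ffff0b05f41ffff07fffc1ffff07fffc2024307fffc1ffff07fffc1ffff0412681ffff07fffc1ffff07fffc1ffff07fffc1ffff0809041ffff07fffc1ffff07fffc1048f07fffc1ffff07fffc1ffff0805001ffff07fffc1ffff07fffc1036a040d801ffff040d4c08249))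
 (Tr.l (nat_lit 0x1ffff07fffc3ae6707fffc1ffff07fffc2035b07fffc31e7c07fffc1ffff07fffc1ffff07fffc1ffff07fffc1ffff080d381ffff07fffc1ffff07fffc1ffff07fffc1ffff07fffc1ffff07fffc1ffff07fffc1ffff07fffc1ffff)))
noncomputable def t9 : Tr := (Tr.n (Tr.l (nat_lit 0x7fffc1ffff07fffc1ffff07fffc1ffff08091c2908907fffc1ffff07fffc1ffff0809181ffff07fffc304480809141ffff07fffcf184707fffc1ffff07fffc1ffff07fffc1ffff07fffc1ffff07fffc202430a1a101ffff07fffc1ffff07fffc1ffff04126c1ffff0412542024207fffc1ffff0809041ffff07fffce9046386d141ffff07fffc1ffff07fffc1ffff0805001054c07fffc1ffff040de010372040db81ffff040d841ffff040d500824a))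
 (Tr.l (nat_lit 0x1ffff07fffc1ffff07fffc1ffff0a996c1ffff07fffc1ffff07fffc1ffff1091641ffff07fffc1ffff07fffc1ffff07fffc1ffff07fffc1ffff07fffc1ffff0e29c01ffff07fffc1ffff07fffc1ffff07fffc1ffff07fffc1ffff)))
noncomputable def t10 : Tr := (Tr.n (Tr.l (nat_lit 0x7fffc1ffff07fffc1ffff07fffc1ffff07fffc2024707fffc1ffff07fffc1ffff07fffc2024607fffc10b8907fffc2024507fffc1ffff3e691c1ffff07fffc1ffff07fffc1ffff07fffc1ffff07fffc1ffff08090c1ffff07fffc1ffff07fffc1ffff049e6c1ffff07fffc1ffff3c3118e99450e11082024107fffc3128707fffce158907fffc1ffff07fffc2844a07fffc2014007fffc10570040de410373040dbc1ffff040d8810358040d540824b))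
 (Tr.l (nat_lit 0x1ffff07fffc1ffff07fffc1ffff080d6c1ffff07fffc3b59607fffc43498080d641ffff07fffc1ffff07fffc1ffff07fffc1ffff07fffc1ffff07fffc1ffff07fffc1ffff0e4d581ffff07fffc107610a15501ffff07fffc1ffff)))
noncomputable def t11 : Tr := (Tr.n (Tr.l (nat_lit 0x86755e1344e832d040ffff1e2d44707561a5db06196b1655b40ffff14194848e570c3d4840b5703fffc394500c6944298568079000ffff7e7905f4b417a81a1e334476f911d3f4403fffdca36303fffdc236108c165bca416c8179ab14368b50c1ac4303fffd9a35903fffd92154627d2981e4a5e7921722475b310d61f4b56712d51f4f52810944a414f2905321404a81292334147310511f4742c90101e403e7500f4d433b3900e2241053d0000000))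
 (Tr.l (nat_lit 0xffff371a34d3d6a330df4c3a6003fffd5397c2ec96cb385b52e56c0ffff50b5793ae614cb9652ad5903fffcac88f492d4ca237e2725040ffff2501351c14d4475500ffff42753101c4c3e8910f22433a794089b412031d0e1f42)))
noncomputable def t12 : Tr := (Tr.n (Tr.l (nat_lit 0x4245019a74019a409a501867452019a867453019679a867452319a8674523010))
 (Tr.l (nat_lit 0x36453a87451a745328751456745231656)))
noncomputable def t13 : Tr := (Tr.n (Tr.l (nat_lit 0x1e007501ec0))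
 (Tr.l (nat_lit 0)))
noncomputable def t14 : Tr := (Tr.n (Tr.l (nat_lit 0x7701d007a01ec0))
 (Tr.l (nat_lit 0)))
noncomputable def t15 : Tr := (Tr.n (Tr.l (nat_lit 0))
 (Tr.l (nat_lit 0x27c0)))
noncomputable def t16 : Tr := (Tr.n (Tr.l (nat_lit 0x2700))
 (Tr.l (nat_lit 0x27c0)))
noncomputable def t17 : Tr := (Tr.n (Tr.l (nat_lit 0x2780))
 (Tr.l (nat_lit 0)))
noncomputable def t18 : Tr := (Tr.n (Tr.l (nat_lit 0x20409401d00))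
 (Tr.l (nat_lit 0)))
noncomputable def t19 : Tr := (Tr.n (Tr.l (nat_lit 0))
 (Tr.l (nat_lit 0x27c0)))
noncomputable def t20 : Tr := (Tr.n (Tr.l (nat_lit 0x1dc0))
 (Tr.l (nat_lit 0)))
noncomputable def t21 : Tr := (Tr.n (Tr.l (nat_lit 0x1e407301bc0))
 (Tr.l (nat_lit 0)))
noncomputable def t22 : Tr := (Tr.n (Tr.l (nat_lit 0x7801c806e01c00))
 (Tr.l (nat_lit 0)))
noncomputable def t23 : Tr := (Tr.n (Tr.l (nat_lit 0x511128360111448705805480d1c39e219e4858612a8d192026101704848542a46261ca451d4a060a118a8299ac46d063638d894a957151c07d11aea5e0d1655125a88530d4a6))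
 (Tr.l (nat_lit 0x26289891706929a4845c013888b921a786960804c0d30287815a7)))
noncomputable def tab0 : Tr := t0
noncomputable def tab1 : Tr := t1
noncomputable def tab2 : Tr := t2
noncomputable def tab3 : Tr := t3
noncomputable def tab4 : Tr := t4
noncomputable def tab5 : Tr := t5
noncomputable def tab6 : Tr := t6
noncomputable def tab7 : Tr := t7
noncomputable def tab8 : Tr := t8
noncomputable def tab9 : Tr := t9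
noncomputable def tab10 : Tr := t10
noncomputable def tab11 : Tr := t11
noncomputable def tab12 : Tr := t12
noncomputable def tab13 : Tr := t13
noncomputable def tab14 : Tr := t14
noncomputable def tab15 : Tr := t15
noncomputable def tab16 : Tr := t16
noncomputable def tab17 : Tr := t17
noncomputable def tab18 : Tr := t18
noncomputable def tab19 : Tr := t19
noncomputable def tab20 : Tr := t20
noncomputable def tab21 : Tr := (Tr.l (nat_lit 0))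
noncomputable def tab22 : Tr := t21
noncomputable def tab23 : Tr := t22
noncomputable def tab24 : Tr := t23
noncomputable def ty0 : TT := (TT.n (TT.n (TT.n (TT.n (TT.l (Ty.srel [nat_lit 1]))
 (TT.l (Ty.srel [nat_lit 0, nat_lit 10, nat_lit 10])))
 (TT.l (Ty.rel5 (nat_lit 6) (nat_lit 1) (nat_lit 1) (nat_lit 1) (nat_lit 7))))
 (TT.n (TT.n (TT.l (Ty.dfn))
 (TT.l (Ty.srel [nat_lit 3, nat_lit 1, nat_lit 1, nat_lit 2, nat_lit 0])))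
 (TT.l (Ty.srel [nat_lit 9, nat_lit 0, nat_lit 0, nat_lit 0, nat_lit 10]))))
 (TT.n (TT.n (TT.n (TT.l (Ty.rel1 (nat_lit 1)))
 (TT.l (Ty.srel [nat_lit 2, nat_lit 1, nat_lit 1, nat_lit 3, nat_lit 0])))
 (TT.l (Ty.srel [nat_lit 6, nat_lit 1, nat_lit 1, nat_lit 1, nat_lit 7])))
 (TT.n (TT.n (TT.l (Ty.skip))
 (TT.l (Ty.rel3 (nat_lit 0) (nat_lit 10) (nat_lit 10))))
 (TT.l (Ty.rel5 (nat_lit 7) (nat_lit 7) (nat_lit 0) (nat_lit 0) (nat_lit 0))))))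
noncomputable def ty1 : TT := (TT.n (TT.n (TT.n (TT.n (TT.n (TT.l (Ty.srel [nat_lit 0]))
 (TT.l (Ty.srel [nat_lit 9, nat_lit 6, nat_lit 5])))
 (TT.l (Ty.srel [nat_lit 6, nat_lit 0, nat_lit 0, nat_lit 0, nat_lit 7])))
 (TT.n (TT.l (Ty.rel3 (nat_lit 1) (nat_lit 9) (nat_lit 9)))
 (TT.l (Ty.rel5 (nat_lit 1) (nat_lit 3) (nat_lit 0) (nat_lit 0) (nat_lit 2)))))
 (TT.n (TT.n (TT.l (Ty.skip))
 (TT.l (Ty.rel3 (nat_lit 9) (nat_lit 6) (nat_lit 5))))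
 (TT.n (TT.l (Ty.srel [nat_lit 1, nat_lit 1, nat_lit 6, nat_lit 6, nat_lit 1]))
 (TT.l (Ty.rel5 (nat_lit 6) (nat_lit 0) (nat_lit 0) (nat_lit 0) (nat_lit 7))))))
 (TT.n (TT.n (TT.n (TT.l (Ty.dfn))
 (TT.l (Ty.srel [nat_lit 9, nat_lit 1, nat_lit 1, nat_lit 1, nat_lit 10])))
 (TT.n (TT.l (Ty.rel5 (nat_lit 10) (nat_lit 1) (nat_lit 9) (nat_lit 1) (nat_lit 1)))
 (TT.l (Ty.rel5 (nat_lit 1) (nat_lit 2) (nat_lit 0) (nat_lit 0) (nat_lit 3)))))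
 (TT.n (TT.n (TT.l (Ty.rel1 (nat_lit 0)))
 (TT.l (Ty.rel5 (nat_lit 1) (nat_lit 6) (nat_lit 6) (nat_lit 1) (nat_lit 1))))
 (TT.n (TT.l (Ty.rel5 (nat_lit 9) (nat_lit 1) (nat_lit 1) (nat_lit 1) (nat_lit 10)))
 (TT.l (Ty.rel5 (nat_lit 1) (nat_lit 1) (nat_lit 1) (nat_lit 6) (nat_lit 6)))))))
noncomputable def ty2 : TT := (TT.n (TT.n (TT.n (TT.l (Ty.srel [nat_lit 3]))
 (TT.l (Ty.rel3 (nat_lit 7) (nat_lit 3) (nat_lit 6))))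
 (TT.l (Ty.skip)))
 (TT.n (TT.n (TT.l (Ty.rel1 (nat_lit 3)))
 (TT.l (Ty.rel3 (nat_lit 6) (nat_lit 3) (nat_lit 7))))
 (TT.l (Ty.dfn))))
noncomputable def ty3 : TT := (TT.n (TT.n (TT.n (TT.n (TT.l (Ty.srel [nat_lit 2]))
 (TT.l (Ty.srel [nat_lit 8, nat_lit 4, nat_lit 3, nat_lit 5, nat_lit 2, nat_lit 2, nat_lit 5, nat_lit 5, nat_lit 3, nat_lit 8])))
 (TT.l (Ty.rel3 (nat_lit 7) (nat_lit 2) (nat_lit 6))))
 (TT.n (TT.l (Ty.skip))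
 (TT.l (Ty.relL (nat_lit 3) [nat_lit 3, nat_lit 3, nat_lit 3]))))
 (TT.n (TT.n (TT.n (TT.l (Ty.rel1 (nat_lit 2)))
 (TT.l (Ty.srel [nat_lit 8, nat_lit 2, nat_lit 5, nat_lit 2, nat_lit 2, nat_lit 4, nat_lit 3, nat_lit 8, nat_lit 2, nat_lit 5])))
 (TT.l (Ty.rel3 (nat_lit 6) (nat_lit 2) (nat_lit 7))))
 (TT.n (TT.l (Ty.dfn))
 (TT.l (Ty.srel [nat_lit 4, nat_lit 3, nat_lit 8, nat_lit 2, nat_lit 4, nat_lit 3, nat_lit 8, nat_lit 2, nat_lit 5, nat_lit 3])))))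
noncomputable def ty4 : TT := (TT.n (TT.n (TT.n (TT.n (TT.l (Ty.srel [nat_lit 5]))
 (TT.l (Ty.srel [nat_lit 3, nat_lit 4, nat_lit 1, nat_lit 5, nat_lit 3, nat_lit 3, nat_lit 8, nat_lit 3, nat_lit 4, nat_lit 2, nat_lit 8, nat_lit 0, nat_lit 2])))
 (TT.l (Ty.srel [nat_lit 4, nat_lit 1, nat_lit 1, nat_lit 4, nat_lit 0, nat_lit 0])))
 (TT.n (TT.l (Ty.skip))
 (TT.l (Ty.srel [nat_lit 1, nat_lit 5, nat_lit 3, nat_lit 3, nat_lit 8, nat_lit 3, nat_lit 4, nat_lit 2, nat_lit 8, nat_lit 0, nat_lit 2, nat_lit 4, nat_lit 3]))))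
 (TT.n (TT.n (TT.l (Ty.rel1 (nat_lit 5)))
 (TT.l (Ty.srel [nat_lit 7, nat_lit 10, nat_lit 0])))
 (TT.n (TT.l (Ty.dfn))
 (TT.l (Ty.rel3 (nat_lit 7) (nat_lit 10) (nat_lit 0))))))
noncomputable def ty5 : TT := (TT.n (TT.n (TT.n (TT.n (TT.l (Ty.srel [nat_lit 4]))
 (TT.l (Ty.rel3 (nat_lit 1) (nat_lit 9) (nat_lit 6))))
 (TT.l (Ty.srel [nat_lit 2, nat_lit 2, nat_lit 5, nat_lit 5, nat_lit 3, nat_lit 8, nat_lit 3, nat_lit 8, nat_lit 4, nat_lit 3])))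
 (TT.n (TT.l (Ty.skip))
 (TT.l (Ty.relL (nat_lit 5) [nat_lit 5, nat_lit 5, nat_lit 5]))))
 (TT.n (TT.n (TT.n (TT.l (Ty.rel1 (nat_lit 4)))
 (TT.l (Ty.srel [nat_lit 3, nat_lit 0, nat_lit 2, nat_lit 10, nat_lit 2, nat_lit 4, nat_lit 3, nat_lit 9, nat_lit 3, nat_lit 1, nat_lit 2])))
 (TT.l (Ty.srel [nat_lit 3, nat_lit 8, nat_lit 2, nat_lit 5, nat_lit 2, nat_lit 2, nat_lit 4, nat_lit 3, nat_lit 8, nat_lit 2])))
 (TT.n (TT.l (Ty.dfn))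
 (TT.l (Ty.relL (nat_lit 1) [nat_lit 1, nat_lit 5, nat_lit 0, nat_lit 0, nat_lit 5])))))
noncomputable def ty6 : TT := (TT.n (TT.n (TT.n (TT.l (Ty.srel [nat_lit 7]))
 (TT.l (Ty.rel5 (nat_lit 1) (nat_lit 1) (nat_lit 1) (nat_lit 1) (nat_lit 6))))
 (TT.n (TT.l (Ty.skip))
 (TT.l (Ty.srel [nat_lit 5, nat_lit 1, nat_lit 9]))))
 (TT.n (TT.n (TT.l (Ty.rel1 (nat_lit 7)))
 (TT.l (Ty.srel [nat_lit 1, nat_lit 1, nat_lit 1, nat_lit 1, nat_lit 6])))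
 (TT.l (Ty.dfn))))
noncomputable def ty7 : TT := (TT.n (TT.n (TT.n (TT.l (Ty.srel [nat_lit 6]))
 (TT.l (Ty.dfn)))
 (TT.l (Ty.skip)))
 (TT.n (TT.n (TT.l (Ty.rel1 (nat_lit 6)))
 (TT.l (Ty.rel5 (nat_lit 7) (nat_lit 0) (nat_lit 0) (nat_lit 0) (nat_lit 0))))
 (TT.l (Ty.rel3 (nat_lit 10) (nat_lit 0) (nat_lit 4)))))
noncomputable def ty8 : TT := (TT.n (TT.n (TT.n (TT.l (Ty.srel [nat_lit 8]))
 (TT.l (Ty.srel [nat_lit 4, nat_lit 8, nat_lit 4, nat_lit 3, nat_lit 3, nat_lit 5])))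
 (TT.n (TT.l (Ty.skip))
 (TT.l (Ty.srel [nat_lit 4, nat_lit 2, nat_lit 2, nat_lit 5, nat_lit 8, nat_lit 5]))))
 (TT.n (TT.n (TT.l (Ty.rel1 (nat_lit 8)))
 (TT.l (Ty.srel [nat_lit 5, nat_lit 8, nat_lit 4, nat_lit 2, nat_lit 2, nat_lit 5])))
 (TT.l (Ty.dfn))))
noncomputable def ty9 : TT := (TT.n (TT.n (TT.n (TT.l (Ty.srel [nat_lit 10]))
 (TT.l (Ty.rel3 (nat_lit 1) (nat_lit 1) (nat_lit 9))))
 (TT.n (TT.l (Ty.skip))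
 (TT.l (Ty.rel3 (nat_lit 9) (nat_lit 1) (nat_lit 1)))))
 (TT.n (TT.n (TT.l (Ty.rel1 (nat_lit 10)))
 (TT.l (Ty.rel3 (nat_lit 6) (nat_lit 5) (nat_lit 1))))
 (TT.n (TT.l (Ty.dfn))
 (TT.l (Ty.srel [nat_lit 1, nat_lit 1, nat_lit 9])))))
noncomputable def ty10 : TT := (TT.n (TT.n (TT.n (TT.l (Ty.srel [nat_lit 9]))
 (TT.l (Ty.rel3 (nat_lit 10) (nat_lit 0) (nat_lit 0))))
 (TT.n (TT.l (Ty.skip))
 (TT.l (Ty.rel3 (nat_lit 0) (nat_lit 0) (nat_lit 10)))))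
 (TT.n (TT.n (TT.l (Ty.rel1 (nat_lit 9)))
 (TT.l (Ty.srel [nat_lit 1, nat_lit 9, nat_lit 1, nat_lit 1, nat_lit 1])))
 (TT.n (TT.l (Ty.dfn))
 (TT.l (Ty.rel5 (nat_lit 1) (nat_lit 9) (nat_lit 1) (nat_lit 1) (nat_lit 1))))))
noncomputable def ty11 : TT := (TT.n (TT.n (TT.n (TT.n (TT.n (TT.l (Ty.skip))
 (TT.l (Ty.relL (nat_lit 1) [nat_lit 4, nat_lit 0, nat_lit 0, nat_lit 4, nat_lit 4, nat_lit 1])))
 (TT.n (TT.l (Ty.srel [nat_lit 0, nat_lit 0, nat_lit 0, nat_lit 0, nat_lit 0, nat_lit 0, nat_lit 0, nat_lit 0]))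
 (TT.l (Ty.srel [nat_lit 8, nat_lit 4, nat_lit 3, nat_lit 3, nat_lit 5, nat_lit 8, nat_lit 4]))))
 (TT.n (TT.n (TT.l (Ty.srel [nat_lit 0, nat_lit 0, nat_lit 0, nat_lit 10, nat_lit 0, nat_lit 9]))
 (TT.l (Ty.srel [nat_lit 8, nat_lit 4, nat_lit 3, nat_lit 5, nat_lit 2, nat_lit 2, nat_lit 5, nat_lit 5, nat_lit 3, nat_lit 8, nat_lit 3])))
 (TT.l (Ty.relL (nat_lit 0) [nat_lit 4, nat_lit 7, nat_lit 10]))))
 (TT.n (TT.n (TT.n (TT.l (Ty.rel5 (nat_lit 5) (nat_lit 5) (nat_lit 5) (nat_lit 5) (nat_lit 5)))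
 (TT.l (Ty.srel [nat_lit 0, nat_lit 2, nat_lit 5, nat_lit 3, nat_lit 5, nat_lit 3, nat_lit 4, nat_lit 4, nat_lit 2, nat_lit 1, nat_lit 3, nat_lit 4, nat_lit 2])))
 (TT.n (TT.l (Ty.relL (nat_lit 4) [nat_lit 4, nat_lit 1, nat_lit 1, nat_lit 4, nat_lit 0, nat_lit 0]))
 (TT.l (Ty.srel [nat_lit 5, nat_lit 7, nat_lit 2, nat_lit 1, nat_lit 3, nat_lit 5, nat_lit 7, nat_lit 1, nat_lit 5, nat_lit 0, nat_lit 5, nat_lit 1, nat_lit 4, nat_lit 0, nat_lit 2, nat_lit 2, nat_lit 8, nat_lit 7]))))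
 (TT.n (TT.n (TT.l (Ty.relL (nat_lit 4) [nat_lit 7, nat_lit 10, nat_lit 0]))
 (TT.l (Ty.srel [nat_lit 3, nat_lit 7, nat_lit 2, nat_lit 6])))
 (TT.l (Ty.relL (nat_lit 7) [nat_lit 0, nat_lit 6, nat_lit 1, nat_lit 1, nat_lit 1])))))
 (TT.n (TT.n (TT.n (TT.n (TT.l (Ty.srel [nat_lit 8, nat_lit 0, nat_lit 0, nat_lit 8, nat_lit 2, nat_lit 4, nat_lit 3, nat_lit 1, nat_lit 5, nat_lit 0, nat_lit 5, nat_lit 1, nat_lit 4, nat_lit 2, nat_lit 1, nat_lit 3, nat_lit 3, nat_lit 1]))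
 (TT.l (Ty.srel [nat_lit 3, nat_lit 0, nat_lit 2, nat_lit 10, nat_lit 2, nat_lit 4, nat_lit 3, nat_lit 9, nat_lit 3, nat_lit 1, nat_lit 2, nat_lit 5])))
 (TT.n (TT.l (Ty.relL (nat_lit 6) [nat_lit 0, nat_lit 0, nat_lit 0, nat_lit 7, nat_lit 1]))
 (TT.l (Ty.rel5 (nat_lit 3) (nat_lit 3) (nat_lit 3) (nat_lit 3) (nat_lit 3)))))
 (TT.n (TT.n (TT.l (Ty.srel [nat_lit 0, nat_lit 0, nat_lit 10, nat_lit 10]))
 (TT.l (Ty.srel [nat_lit 5, nat_lit 0, nat_lit 9, nat_lit 3, nat_lit 3, nat_lit 0, nat_lit 4, nat_lit 1, nat_lit 2, nat_lit 4, nat_lit 2, nat_lit 10, nat_lit 1])))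
 (TT.l (Ty.relL (nat_lit 6) [nat_lit 1, nat_lit 1, nat_lit 1, nat_lit 7, nat_lit 0]))))
 (TT.n (TT.n (TT.n (TT.l (Ty.srel [nat_lit 4, nat_lit 0, nat_lit 4, nat_lit 7, nat_lit 0, nat_lit 5, nat_lit 0, nat_lit 5, nat_lit 1, nat_lit 4, nat_lit 0, nat_lit 4, nat_lit 7, nat_lit 5, nat_lit 1, nat_lit 5, nat_lit 0, nat_lit 4, nat_lit 1, nat_lit 4, nat_lit 0, nat_lit 7, nat_lit 1, nat_lit 5, nat_lit 0, nat_lit 5, nat_lit 1]))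
 (TT.l (Ty.srel [nat_lit 2, nat_lit 7, nat_lit 3, nat_lit 6])))
 (TT.l (Ty.relL (nat_lit 1) [nat_lit 1, nat_lit 9, nat_lit 9])))
 (TT.n (TT.n (TT.l (Ty.relL (nat_lit 0) [nat_lit 0, nat_lit 0, nat_lit 10, nat_lit 0, nat_lit 9]))
 (TT.l (Ty.srel [nat_lit 8, nat_lit 2, nat_lit 4, nat_lit 4, nat_lit 3, nat_lit 3, nat_lit 4, nat_lit 2, nat_lit 5, nat_lit 8, nat_lit 2])))
 (TT.l (Ty.srel [nat_lit 1, nat_lit 1, nat_lit 1, nat_lit 1, nat_lit 6, nat_lit 6]))))))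
noncomputable def C : Cert where
  tabs := [tab0, tab1, tab2, tab3, tab4, tab5, tab6, tab7, tab8, tab9, tab10, tab11, tab12, tab13, tab14, tab15, tab16, tab17, tab18, tab19, tab20, tab21, tab22, tab23, tab24]
  tts := [ty0, ty1, ty2, ty3, ty4, ty5, ty6, ty7, ty8, ty9, ty10, ty11]
  k := nat_lit 6
  base := nat_lit 27
  mJ := nat_lit 192
  mR := nat_lit 63
  W := nat_lit 22
  mA := nat_lit 32767
  mI := nat_lit 255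
  S := nat_lit 15
  mC := nat_lit 127
  nc := nat_lit 11
  lo := nat_lit 64
  live := nat_lit 65
  hi1 := nat_lit 160
  AW := nat_lit 14
  mAW := nat_lit 16383
def il : List ℕ := [1, 0, 3, 2, 5, 4, 7, 6, 8, 10, 9]
def rels : List (List ℕ) := [[0, 0, 0, 0, 0, 0, 0, 0],
  [2, 2, 2, 2, 2],
  [0, 2, 0, 2, 0, 2, 0, 2],
  [1, 1, 3, 0, 0, 2],
  [1, 3, 0, 2, 1, 3, 0, 2, 1, 3, 0, 2],
  [4, 4, 4, 4, 4],
  [5, 1, 5, 0, 4, 1, 4, 0, 5, 1, 5, 0, 4, 1, 4, 0, 5, 1, 5, 0, 4, 1, 4, 0, 5, 1, 5, 0, 4, 1, 4, 0, 5, 1, 5, 0, 4, 1, 4, 0],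
  [5, 1, 5, 0, 5, 1, 4, 0, 4, 1, 5, 0, 4, 1, 4, 0],
  [5, 0, 5, 1, 4, 0, 4, 1, 4, 0, 5, 1, 5, 0, 4, 1],
  [3, 5, 2, 1, 5, 0, 5, 1, 4, 0, 4, 3, 4, 2, 5, 1, 5, 0, 4, 1, 4, 0],
  [2, 5, 3, 1, 5, 0, 5, 1, 4, 0, 4, 2, 4, 3, 5, 1, 5, 0, 4, 1, 4, 0],
  [5, 3, 5, 2, 4, 3, 4, 2, 5, 1, 5, 0, 4, 1, 4, 0, 5, 1, 5, 0, 4, 1, 4, 0],
  [2, 5, 3, 4, 2, 4, 3, 1, 5, 0, 5, 1, 4, 0, 4, 1, 5, 0, 5, 1, 4, 0],
  [3, 5, 2, 1, 4, 0, 3, 4, 2, 5, 1, 5, 0, 4],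
  [1, 5, 0, 2, 5, 3, 1, 4, 0, 2, 4, 3],
  [3, 5, 2, 2, 5, 3, 3, 4, 2, 2, 4, 3, 5, 1, 5, 0, 4, 1, 4, 0],
  [1, 1, 4, 0, 0, 4, 4],
  [1, 3, 4, 2, 0, 2, 5, 3, 5, 3, 4, 4, 2],
  [1, 2, 4, 3, 0, 2, 5, 3, 5, 2, 5, 3, 3, 4, 2, 1, 4, 0, 5],
  [1, 5, 1, 5, 0, 4, 1, 4, 0, 5, 0, 5, 1, 4, 0, 4, 1, 5, 0, 5, 1, 4, 0, 4],
  [3, 1, 4, 0, 2, 2, 4, 3, 4, 2, 4, 3, 3, 5, 2, 1, 5, 0],
  [3, 3, 4, 2, 4, 4, 2, 2, 5, 3, 5, 5],
  [3, 5, 1, 5, 0, 4, 1, 4, 0, 2, 1, 5, 0, 5, 1, 4, 0, 4],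
  [8, 7, 5, 7, 2, 1, 3, 5, 7, 1, 5, 0, 5, 1, 4, 0, 2, 2],
  [8, 4, 8, 4, 3, 3, 5],
  [8, 3, 4, 2, 8, 0, 2, 4, 3, 4, 1, 5, 3, 3],
  [8, 2, 4, 3, 8, 2, 5, 3, 3, 4, 3],
  [8, 5, 1, 5, 0, 4, 1, 4, 0, 8, 2, 4, 3, 5, 3, 4, 2, 5],
  [8, 0, 0, 8, 2, 4, 3, 1, 5, 0, 5, 1, 4, 2, 1, 3, 3, 1],
  [8, 2, 8, 2, 4, 4, 3, 3, 4, 2, 5],
  [8, 0, 2, 2, 0, 3, 0, 8, 2, 4, 3, 1, 5, 0, 5, 1, 4, 1],
  [8, 1, 4, 0, 8, 1, 5, 0, 8, 1, 4, 0, 2, 5, 3, 0, 3, 4, 2, 0, 0, 0],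
  [6, 8, 3, 1, 4, 8, 1, 8, 1, 5, 1, 5, 0, 4, 1, 4, 0, 2, 4, 3, 4, 2, 0, 3, 3, 1],
  [6, 6, 1, 1, 1, 1],
  [3, 7, 2, 6],
  [7, 0, 6, 1, 1, 1],
  [6, 5, 1, 5, 0, 4, 1, 4, 0, 6, 5, 1, 5, 0, 4, 1, 4, 0, 6, 5, 1, 5, 0, 4, 1, 4, 0, 6, 5, 1, 5, 0, 4, 1, 4, 0, 6, 5, 1, 5, 0, 4, 1, 4, 0],
  [6, 5, 1, 5, 0, 4, 1, 4, 0, 6, 1, 5, 0, 5, 1, 4, 0, 4, 6, 5, 1, 5, 0, 4, 1, 4, 1],
  [10, 4, 9, 1, 3, 4, 1, 2, 4, 3, 0, 2, 0],
  [10, 1, 4, 0, 9, 3, 5, 3, 0, 5, 1, 2, 2],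
  [10, 3, 4, 2, 9, 1, 3, 1, 5, 0, 2, 0],
  [10, 2, 4, 3, 9, 3, 1, 2, 5, 3, 0, 2],
  [10, 5, 1, 5, 0, 4, 1, 4, 0, 9, 4, 2, 2, 5, 1, 3, 5, 2, 0, 3, 3],
  [10, 0, 9, 0, 0, 0],
  [10, 2, 0, 3, 9, 0, 0, 2, 0, 3],
  [10, 2, 2, 0, 3, 3, 9, 0, 2, 2, 1, 3, 3, 1],
  [9, 9, 1, 1],
  [3, 3, 0, 2, 2, 9, 3, 3, 0, 2, 2, 9, 3, 3, 0, 2, 2, 9, 0, 0],
  [5, 7, 1, 5, 1, 2, 5, 7, 9, 1, 6, 3, 5, 1, 2, 5, 7, 2, 5, 3, 1, 5, 0, 3, 0, 2, 0, 3, 9, 1, 5, 7, 0, 5, 3, 0, 5, 7, 1, 5, 0, 4, 3, 3, 5, 3, 1, 3, 3, 9],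
  [10, 7, 10, 1, 5, 7, 2, 1, 3, 5, 7, 2, 1, 3, 5, 3, 0, 3, 3, 0, 3, 9, 6, 9, 0, 2, 1, 2, 2, 1, 2, 2, 5, 0, 4, 2, 4, 3, 6, 4, 3, 3, 6, 4, 2, 4],
  [9, 2, 0, 3, 1, 3, 3, 1, 3, 4, 2, 2, 4, 2, 6, 4, 3, 3, 6, 4, 2, 4, 9, 0, 3, 3, 1, 4, 2, 5, 2, 1, 5, 5, 6, 4, 0, 4, 1, 4, 3, 7, 10, 5, 3, 5, 7, 2, 2, 5, 7, 3, 5, 3, 3, 5, 2, 0, 2, 2, 0, 2, 1, 3, 10, 7, 0, 4, 2, 4, 1, 5, 7, 0, 3, 1, 4, 1, 3, 3, 1, 2, 1],
  [9, 2, 6, 9, 2, 2, 1, 3, 1, 2, 2, 5, 0, 4, 1, 5, 6, 5, 2, 2, 1, 4, 2, 10, 7, 3, 10, 5, 1, 4, 2, 5, 7, 4, 1, 4, 0, 4, 3, 1, 3, 1, 2],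
  [0, 4, 7, 10]]
def subs : List (List ℕ) := []
theorem valid : C.valid il rels subs = true := by decide +kernel
theorem p0 : C.OkL 64 65 := C.okL_of 64 0 1 65 (by decide) (by decide +kernel)
theorem p1 : C.OkR 65 161 := C.okR_of 65 0 96 161 (by decide) (by decide +kernel)
theorem covers {G : Type*} [Group G] (ev : ℕ → G) (H : Subgroup G)
    (hinv : ∀ x < 11, ev (il.getD x 0) = (ev x)⁻¹) (hr : ∀ r ∈ rels, evw ev r = 1)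
    (hs : ∀ s ∈ subs, evw ev s ∈ H) : Covers H (gensub ev 11) 1 :=
  C.sound il rels subs 11 1 valid (p0) (p1) (by decide) (by decide) ev H hinv hr hs
end CfH6.LyW
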