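import Cfsg.Agent.OD.Pre
import Cfsg.Agent.H6.M24B
import Cfsg.Agent.H6.TCPart
import Cfsg.Agent.H6.M24R
set_option autoImplicit false
set_option maxRecDepth 100000
set_option linter.all false
namespace CfH6.M24B1
open CfH6
def r0 : List (List ℕ) := [[0, 2, 0, 2, 0, 1, 0, 2, 0, 2, 0, 1, 0, 2, 0, 1, 1, 0, 1, 0, 1, 0, 2, 0, 2, 2, 0, 1, 0, 2, 0, 1, 0, 1, 0, 2, 0, 1], [1, 0, 1, 0, 2, 0, 2, 0, 2, 2, 0, 2, 0, 2, 0, 1, 0, 1, 0, 1, 1, 0, 1, 0, 1, 0, 1, 1, 0, 1, 0, 2, 2, 0, 2, 0, 1, 0, 2, 0, 1], [0, 2, 0, 1, 0, 1, 0, 2, 0, 2, 0, 2, 2, 0, 1, 0, 2, 0, 2, 0, 1, 0, 2, 2, 0, 2, 0, 2, 0, 1, 0, 1, 0, 1, 1, 0, 2, 0, 1, 0, 1, 0, 2], [0, 2, 0, 2, 0, 1, 0, 2, 0,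 2, 0, 1, 0, 2, 2, 0, 2, 0, 1, 0, 1, 0, 1, 1, 0, 1, 0, 1, 0, 1, 1, 0, 1, 0, 2, 0, 2, 0, 1], [0, 2, 0, 1, 0, 2, 0, 2, 0, 1, 0, 2, 0, 2, 0, 1, 0, 2, 0, 2, 0, 1, 0, 2, 2, 0, 2, 0, 1, 0, 1, 0, 2, 0, 1, 0, 1], [0, 2, 0, 1, 0, 1, 0, 2, 0, 2, 2, 0, 2, 0, 1, 1, 0, 1, 0, 2, 0, 2, 0, 1, 0, 2, 0, 2, 0, 1, 0, 1, 0, 2, 0, 1, 0, 1], [1, 0, 2, 0, 2, 2, 0, 2, 0, 1, 1, 0, 1, 0, 2, 2, 0, 2, 0, 1, 0, 2, 2, 0, 2, 0, 1, 0, 1, 0, 2, 0, 1, 0, 1, 1, 0, 2, 0, 1, 0, 1], [2, 0, 2, 0, 1, 1, 0, 1, 0, 1, 0, 2, 0, 2, 2, 0, 1, 0, 2, 0, 2, 2, 0, 1, 0, 1, 1, 0, 1, 0, 2, 0, 1, 1, 0, 1, 0, 2, 0, 2, 0, 2], [1, 0, 1, 0, 2, 0, 2, 0, 2, 2, 0, 2, 0, 2, 0, 1, 0, 1, 1, 0, 2, 0, 2, 2, 0,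 1, 0, 1, 1, 0, 1, 0, 2, 2, 0, 2, 0, 1, 0, 1, 0, 1], [0, 2, 0, 1, 0, 1, 0, 2, 0, 2, 2, 0, 1, 0, 1, 1, 0, 1, 0, 2, 2, 0, 2, 0, 1, 0, 2, 0, 2, 0, 1, 0, 2, 0, 2, 0, 1, 0, 2], [2, 0, 2, 0, 1, 0, 2, 2, 0, 2, 0, 1, 0, 1, 1, 0, 2, 0, 2, 2, 0, 2, 0, 1, 1, 0, 1, 0, 2, 0, 1, 1, 0, 1, 0, 1, 0, 1, 1, 0, 1, 0, 2], [0, 2, 0, 2, 0, 2, 0, 2, 0, 2, 0, 1, 1, 0, 2, 0, 2, 0, 1, 1, 0, 2, 0, 2, 0, 1, 1, 0, 2, 0, 2, 0, 2, 0, 2, 0, 1, 1, 0, 2, 0, 2, 0, 1, 1, 0, 2, 0, 2, 0, 2], [2, 0, 2, 0, 1, 0, 2, 2, 0, 2, 0, 1, 0, 1, 0, 1, 1, 0, 1, 0, 2, 0, 2, 0, 2, 2, 0, 2, 0, 1, 1, 0, 1, 0, 1, 1, 0, 1, 1, 0, 1, 0, 2], [0, 2, 0, 2, 0, 1, 0, 1, 0, 2, 0, 2, 0, 2, 2, 0, 1, 0, 1, 1, 0,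 2, 0, 2, 2, 0, 2, 2, 0, 2, 0, 2, 0, 2, 2, 0, 1, 0, 2, 0, 2, 0, 1, 0, 1], [0, 2, 0, 2, 0, 1, 0, 1, 0, 2, 0, 2, 2, 0, 2, 2, 0, 2, 0, 2, 2, 0, 1, 0, 1, 1, 0, 1, 0, 1, 1, 0, 1, 1, 0, 1, 0, 2, 0, 2, 0, 1], [1, 0, 1, 0, 2, 0, 2, 0, 2, 2, 0, 2, 0, 1, 0, 2, 0, 2, 2, 0, 2, 0, 1, 1, 0, 1, 0, 2, 0, 1, 0, 1, 1, 0, 1, 0, 2, 0, 2, 0, 2, 2, 0, 2, 0, 1, 0, 2, 0, 2, 2, 0, 2, 0, 1, 1, 0, 1, 0, 2, 0, 1, 0, 1], [1, 0, 1, 0, 2, 0, 2, 2, 0, 2, 0, 1, 0, 2, 2, 0, 2, 0, 1, 0, 2, 0, 2, 2, 0, 2, 0, 1, 0, 1, 0, 1, 1, 0, 1, 0, 2, 0, 2, 2, 0, 2, 0, 1, 0, 2, 2, 0, 2, 0, 1, 0, 2, 0, 2, 2, 0, 2, 0, 1, 0, 1, 0, 1], [0, 2, 0, 1, 0, 2, 0, 1, 0, 1, 1, 0, 1, 0, 2, 0, 2, 2, 0, 2,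 0, 1, 0, 2, 0, 2, 2, 0, 2, 0, 1, 0, 1, 1, 0, 1, 0, 2, 0, 2, 2, 0, 2, 0, 2, 2, 0, 2, 0, 1, 0, 2, 0, 1], [0, 2, 0, 1, 0, 2, 0, 2, 0, 1, 0, 2, 0, 1, 0, 2, 0, 1, 0, 2, 0, 2, 0, 1, 0, 2, 0, 1, 0, 2, 0, 1, 0, 2, 0, 2, 0, 1, 0, 2, 0, 1, 0, 2, 0, 1, 0, 2, 0, 2, 0, 1, 0, 2, 0, 1], [1, 0, 1, 0, 2, 0, 2, 2, 0, 2, 0, 1, 1, 0, 1, 0, 2, 0, 2, 2, 0, 2, 0, 1, 0, 2, 0, 2, 0, 1, 0, 1, 1, 0, 1, 0, 2, 0, 2, 2, 0, 2, 0, 1, 1, 0, 1, 0, 2, 0, 2, 2, 0, 2, 0, 1, 0, 2, 0, 2, 0, 1, 0, 1], [2, 0, 2, 0, 1, 1, 0, 1, 0, 1, 1, 0, 1, 0, 2, 0, 2, 2, 0, 2, 0, 2, 0, 1, 0, 1, 1, 0, 1, 0, 2, 0, 2, 2, 0, 2, 0, 2, 0, 2, 2, 0, 2, 0, 1, 0, 1, 1, 0, 1, 0, 2, 0, 1, 1, 0, 1, 0, 2, 0, 2,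 2, 0, 2, 0, 2], [0, 2, 0, 1, 0, 2, 0, 1, 0, 1, 1, 0, 2, 0, 2, 2, 0, 2, 0, 1, 0, 2, 0, 1, 0, 2, 0, 2, 0, 1, 0, 2, 0, 2, 2, 0, 2, 0, 1, 0, 1, 1, 0, 2, 0, 1, 0, 1, 1, 0, 1, 0, 1, 1, 0, 1, 0, 2, 0, 2, 0, 1], [1, 0, 2, 0, 2, 2, 0, 1, 0, 1, 1, 0, 2, 0, 2, 2, 0, 1, 0, 1, 1, 0, 2, 0, 2, 2, 0, 1, 0, 1, 1, 0, 2, 0, 2, 2, 0, 1, 0, 1, 1, 0, 2, 0, 2, 2, 0, 1, 0, 1], [1, 0, 2, 0, 2, 2, 0, 1, 0, 1, 1, 0, 2, 0, 2, 2, 0, 1, 0, 1, 1, 0, 2, 0, 2, 2, 0, 1, 0, 1, 1, 0, 2, 0, 2, 2, 0, 1, 0, 1, 1, 0, 2, 0, 2, 2, 0, 1, 0, 1], [0, 2, 0, 2, 0, 1, 0, 2, 0, 1, 0, 1, 1, 0, 1, 0, 1, 1, 0, 1, 1, 0, 1, 0, 2, 0, 2, 2, 0, 2, 0, 1, 0, 1, 1, 0, 2, 0, 2, 2, 0, 2, 0, 1, 0, 1, 1,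 0, 1, 0, 2, 0, 2, 0, 2, 2, 0, 2, 0, 1, 0, 2, 0, 1], [0, 2, 0, 1, 0, 1, 0, 2, 0, 2, 2, 0, 2, 0, 1, 0, 2, 0, 1, 0, 1, 0, 2, 0, 1, 0, 1, 1, 0, 1, 0, 2, 0, 2, 2, 0, 1, 0, 2, 0, 1, 0, 1, 1, 0, 1, 0, 1, 1, 0, 1, 0, 2, 2, 0, 2, 0, 1, 0, 2, 0, 1], [2, 0, 2, 2, 0, 2, 2, 0, 2, 2, 0, 2, 2, 0, 2, 2, 0, 2, 2, 0, 2, 2, 0, 2, 2, 0, 2, 2, 0, 2, 2, 0, 2, 2, 0, 2, 2, 0, 2, 2, 0, 2, 2, 0, 2, 2, 0, 2, 2, 0, 2, 2, 0, 2, 2, 0, 2, 2, 0, 2, 2, 0, 2, 2, 0, 2, 2, 0, 2]]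
theorem h0 : ∀ w ∈ r0, evw M24B.el w = 1 := follows_sound (n := 0) M24B.el M24B.hinv
  (rel_step M24B.el M24B.hinv M24B.hrel [[0], [1], [2]] 4 (fun ev H => M24R.words ev H) (by decide +kernel)) (by decide +kernel)
abbrev G : Type := M24B.G
noncomputable abbrev el : ℕ → G := M24B.el
def il : List ℕ := M24B.il
def rels : List (List ℕ) := (M24B.rels ++ r0)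
theorem hinv : ∀ x < 3, el (il.getD x 0) = (el x)⁻¹ := M24B.hinv
theorem hrel : ∀ r ∈ rels, evw el r = 1 := (forall_app M24B.hrel h0)
theorem htop : gensub el 3 = ⊤ := M24B.htop
end CfH6.M24B1
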