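import Cfsg.Agent.OD.Pre
import Cfsg.Agent.H6.M24B2
import Cfsg.Agent.H6.TCPart
import Cfsg.Agent.H6.M24T1
import Cfsg.Agent.H6.M24T2
import Cfsg.Agent.H6.M24T4
set_option autoImplicit false
set_option maxRecDepth 100000
set_option linter.all false
namespace CfH6.M24O2
open CfH6
def s0 : List (List ℕ) := [[0], [1], [2]]
def t0 : List (List ℕ) := [[0, 1, 0], [1, 0, 1, 0, 1, 0, 2, 0, 2], [1, 0, 2, 0, 1, 0, 1, 0, 2], [2, 0, 1, 0, 2, 0, 1, 0, 1, 0, 2, 0, 1], [2, 0, 2, 0, 1, 0, 1, 0, 2, 0, 1, 0, 1], [2, 0, 2, 0, 2, 0, 1, 0, 1, 0, 1, 0, 1], [2, 0, 1, 0, 1, 0, 1, 0, 1, 0, 2, 0, 2, 0, 1]]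
theorem cov0 : Covers (gensub (byW M24B2.el t0) 7) (gensub (byW M24B2.el s0) 3) 24 :=
  cov_step M24B2.el M24B2.hinv M24B2.hrel s0 t0 7 16 (fun ev H => M24T1.covers ev H) (by decide +kernel)
theorem top0 : gensub (byW M24B2.el s0) 3 = ⊤ := (gensub_id M24B2.el (by decide)).trans M24B2.htop
theorem covT0 : Covers (gensub (byW M24B2.el t0) 7) ⊤ 24 := cov0.top top0
def s1 : List (List ℕ) := [[0, 1, 0], [0, 2, 0], [1, 0, 1, 0, 1, 0, 2, 0, 2], [1, 0, 1, 0, 2, 0, 2, 0, 2], [1, 0, 2, 0, 1, 0, 1, 0, 2], [1, 0, 2, 0, 2, 0, 1, 0, 2], [2, 0, 1, 0, 2, 0, 1, 0, 1, 0, 2, 0, 1], [2, 0, 1, 0, 2, 0, 2, 0, 1, 0, 2, 0, 1], [2, 0, 2, 0, 1, 0, 1, 0, 2, 0, 1, 0, 1], [2, 0, 2, 0, 1, 0, 2, 0, 2, 0, 1, 0, 1], [2, 0, 2, 0, 2, 0, 1, 0, 1, 0, 1, 0, 1], [2, 0, 2, 0, 2, 0, 2, 0, 1, 0, 1, 0, 1], [2, 0, 1, 0, 1, 0, 1, 0, 1, 0, 2, 0, 2, 0, 1], [2, 0,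 1, 0, 1, 0, 2, 0, 2, 0, 2, 0, 2, 0, 1]]
def t1 : List (List ℕ) := [[1, 0, 1, 0, 1, 0, 2, 0, 2], [1, 0, 2, 0, 1, 0, 1, 0, 2], [2, 0, 2, 0, 1, 0, 1, 0, 2, 0, 1, 0, 1]]
theorem cov1 : Covers (gensub (byW M24B2.el t1) 3) (gensub (byW M24B2.el s1) 14) 1771 :=
  cov_step M24B2.el M24B2.hinv M24B2.hrel s1 t1 3 16 (fun ev H => M24T2.covers ev H) (by decide +kernel)
def s2 : List (List ℕ) := [[1, 0, 1, 0, 1, 0, 2, 0, 2], [1, 0, 1, 0, 2, 0, 2, 0, 2], [1, 0, 2, 0, 1, 0, 1, 0, 2], [1, 0, 2, 0, 2, 0, 1, 0, 2], [2, 0, 2, 0, 1, 0, 1, 0, 2, 0, 1, 0, 1], [2, 0, 2, 0, 1, 0, 2, 0, 2, 0, 1, 0, 1]]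
def t2 : List (List ℕ) := []
theorem cov2 : Covers (gensub (byW M24B2.el t2) 0) (gensub (byW M24B2.el s2) 6) 5760 :=
  cov_step M24B2.el M24B2.hinv M24B2.hrel s2 t2 0 16 (fun ev H => M24T4.covers ev H) (by decide +kernel)
theorem finT2 : Finite (gensub (byW M24B2.el t2) 0) ∧ Nat.card (gensub (byW M24B2.el t2) 0) ≤ 1 := (gensub_zero _)
theorem fin2 : Finite (gensub (byW M24B2.el s2) 6) ∧ Nat.card (gensub (byW M24B2.el s2) 6) ≤ 5760 :=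
  fin_cast (cov2.card_le finT2) (by decide)
theorem finT1 : Finite (gensub (byW M24B2.el t1) 3) ∧ Nat.card (gensub (byW M24B2.el t1) 3) ≤ 5760 := (fin_le (gensub_le_of_subsIn M24B2.el (by decide)) fin2)
theorem fin1 : Finite (gensub (byW M24B2.el s1) 14) ∧ Nat.card (gensub (byW M24B2.el s1) 14) ≤ 10200960 :=
  fin_cast (cov1.card_le finT1) (by decide)
theorem finT0 : Finite (gensub (byW M24B2.el t0) 7) ∧ Nat.card (gensub (byW M24B2.el t0) 7) ≤ 10200960 := (fin_le (gensub_le_of_subsIn M24B2.el (by decide)) fin1)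
theorem fin0 : Finite (gensub (byW M24B2.el s0) 3) ∧ Nat.card (gensub (byW M24B2.el s0) 3) ≤ 244823040 :=
  fin_cast (cov0.card_le finT0) (by decide)
theorem finG : Finite M24B2.G ∧ Nat.card M24B2.G ≤ 244823040 := fin_top (top0 ▸ fin0)
end CfH6.M24O2
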