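import Cfsg.Agent.OD.Pre
import Cfsg.Agent.H6.Mc3D
/-! Word facts in the presented group `3.McL`. -/
set_option autoImplicit false
set_option maxRecDepth 100000
set_option Elab.async false
set_option linter.all false
namespace CfH6.Mc3F
open CfH6
open CfH6.D MulAction
attribute [local instance] Mc3D.actD
noncomputable def chk (ws : List (List ℕ)) : Bool := ws.all fun w => allLt 15 w &&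
  ([0, 1, 23, 42, 2, 275].all fun b => Nat.beq (trW (fun x => Mc3D.fD (Nat.succ x)) w b) b)
/-- words that are trivial in the faithful action: prove the hypothesis by `decide +kernel` -/
theorem of {ws : List (List ℕ)} (h : chk ws = true) : ∀ w ∈ ws, evw Mc3B.el w = 1 := fun w hw =>
  Mc3D.base _ fun b hb => by
    have := List.all_eq_true.mp h w hw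
    rw [Bool.and_eq_true] at this
    rw [← (Mc3D.tb0D.word (allLt_sound this.1) (p := b) (by revert b; decide)).1]
    exact Nat.eq_of_beq_eq_true (List.all_eq_true.mp this.2 b hb)
/-- a word that moves a point is not trivial -/
theorem ne_one {w : List ℕ} (b : ℕ) (h : (allLt 15 w && Nat.blt b 67100 &&
    !Nat.beq (trW (fun x => Mc3D.fD (Nat.succ x)) w b) b) = true) : evw Mc3B.el w ≠ 1 := fun e => by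
  simp only [Bool.and_eq_true, Nat.blt_eq, Bool.not_eq_true'] at h
  have := (Mc3D.tb0D.word (allLt_sound h.1.1) h.1.2).1
  rw [e, one_smul] at this
  rw [this, Nat.beq_refl] at h
  exact absurd h.2 (by decide)
theorem card : Nat.card Mc3B.G = 2694384000 := Mc3D.card
def facts : List (List ℕ) := [[0, 2, 8, 8, 2, 12, 4, 10, 6, 8, 2, 7, 1, 0, 1, 3, 6, 4, 2, 0, 2, 8, 1, 7, 5, 9, 3, 11, 1, 7, 7, 1, 0, 1, 3, 5, 4, 2], [0, 2, 8, 8, 2, 12, 4, 10, 6, 8, 2, 7, 1, 0, 7, 9, 12, 10, 8, 0, 2, 8, 1, 7, 5, 9, 3, 11, 1, 7, 7, 1, 0, 7, 9, 11, 10, 8], [0, 2, 8, 8, 2, 12, 4, 10, 6, 8, 2, 7, 1, 0, 1, 7, 3, 9, 1, 7, 0, 2, 8, 8, 2, 12, 4, 10, 6, 8, 2, 7, 1, 0, 8, 2, 10, 4, 8, 2, 0, 2, 8, 1, 7, 5, 9,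 3, 11, 1, 7, 7, 1, 0, 1, 7, 3, 9, 1, 7, 0, 2, 8, 1, 7, 5, 9, 3, 11, 1, 7, 7, 1, 0, 8, 2, 10, 4, 8, 2], [0, 2, 8, 8, 2, 12, 4, 10, 6, 8, 2, 7, 1, 0, 7, 0, 2, 8, 8, 2, 12, 4, 10, 6, 8, 2, 7, 1, 0, 8, 0, 2, 8, 1, 7, 5, 9, 3, 11, 1, 7, 7, 1, 0, 7, 0, 2, 8, 1, 7, 5, 9, 3, 11, 1, 7, 7, 1, 0, 8, 1, 3, 6, 4, 2, 14], [8, 7, 8, 7], [1, 7, 3, 9, 1, 7, 0, 2, 8, 8, 2, 12, 4, 10, 6, 8, 2, 7, 1, 0, 8, 2, 10, 4, 8, 2, 8, 1, 7, 3, 9, 1, 7, 0, 2, 8, 8, 2, 12, 4, 10, 6, 8, 2, 7, 1, 0, 8, 2, 10, 4, 8, 2, 7, 1, 7, 3, 9, 1, 7, 0, 2, 8, 1, 7, 5, 9, 3, 11, 1, 7, 7, 1, 0, 8, 2, 10, 4, 8, 2, 8, 1, 7, 3, 9, 1, 7, 0, 2, 8, 1, 7, 5, 9, 3, 11, 1, 7, 7, 1, 0, 8, 2, 10, 4, 8, 2, 7, 1, 3, 6, 4, 2, 14, 14], [1,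 7, 3, 9, 1, 7, 0, 2, 8, 8, 2, 12, 4, 10, 6, 8, 2, 7, 1, 0, 8, 2, 10, 4, 8, 2, 1, 7, 3, 9, 1, 7, 0, 2, 8, 8, 2, 12, 4, 10, 6, 8, 2, 7, 1, 0, 8, 2, 10, 4, 8, 2, 8, 1, 7, 3, 9, 1, 7, 0, 2, 8, 8, 2, 12, 4, 10, 6, 8, 2, 7, 1, 0, 8, 2, 10, 4, 8, 2, 1, 7, 3, 9, 1, 7, 0, 2, 8, 8, 2, 12, 4, 10, 6, 8, 2, 7, 1, 0, 8, 2, 10, 4, 8, 2, 7, 1, 7, 3, 9, 1, 7, 0, 2, 8, 1, 7, 5, 9, 3, 11, 1, 7, 7, 1, 0, 8, 2, 10, 4, 8, 2, 1, 7, 3, 9, 1, 7, 0, 2, 8, 1, 7, 5, 9, 3, 11, 1, 7, 7, 1, 0, 8, 2, 10, 4, 8, 2, 8, 1, 7, 3, 9, 1, 7, 0, 2, 8, 1, 7, 5, 9, 3, 11, 1, 7, 7, 1, 0, 8, 2, 10, 4, 8, 2, 1, 7, 3, 9, 1, 7, 0, 2, 8, 1, 7, 5, 9, 3, 11, 1, 7, 7, 1, 0, 8, 2, 10, 4, 8, 2, 7, 1, 3, 6, 4, 2, 14, 14], [0, 2, 8,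 8, 2, 12, 4, 10, 6, 8, 2, 7, 1, 0, 8, 0, 2, 8, 8, 2, 12, 4, 10, 6, 8, 2, 7, 1, 0, 7, 0, 2, 8, 1, 7, 5, 9, 3, 11, 1, 7, 7, 1, 0, 8, 0, 2, 8, 1, 7, 5, 9, 3, 11, 1, 7, 7, 1, 0, 7, 1, 3, 6, 4, 2, 1, 3, 6, 4, 2, 14, 14], [1, 7, 3, 9, 1, 7, 0, 2, 8, 8, 2, 12, 4, 10, 6, 8, 2, 7, 1, 0, 8, 2, 10, 4, 8, 2, 0, 2, 8, 8, 2, 12, 4, 10, 6, 8, 2, 7, 1, 0, 8, 1, 7, 3, 9, 1, 7, 0, 2, 8, 8, 2, 12, 4, 10, 6, 8, 2, 7, 1, 0, 8, 2, 10, 4, 8, 2, 0, 2, 8, 8, 2, 12, 4, 10, 6, 8, 2, 7, 1, 0, 7, 0, 2, 8, 1, 7, 5, 9, 3, 11, 1, 7, 7, 1, 0, 1, 7, 3, 9, 1, 7, 0, 2, 8, 1, 7, 5, 9, 3, 11, 1, 7, 7, 1, 0, 8, 2, 10, 4, 8, 2, 8, 0, 2, 8, 1, 7, 5, 9, 3, 11, 1, 7, 7, 1, 0, 1, 7, 3, 9, 1, 7, 0, 2, 8, 1, 7, 5, 9, 3, 11,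 1, 7, 7, 1, 0, 8, 2, 10, 4, 8, 2, 7, 1, 3, 6, 4, 2, 14], [1, 7, 3, 9, 1, 7, 0, 2, 8, 8, 2, 12, 4, 10, 6, 8, 2, 7, 1, 0, 8, 2, 10, 4, 8, 2, 1, 7, 3, 9, 1, 7, 0, 2, 8, 8, 2, 12, 4, 10, 6, 8, 2, 7, 1, 0, 8, 2, 10, 4, 8, 2, 0, 2, 8, 8, 2, 12, 4, 10, 6, 8, 2, 7, 1, 0, 8, 1, 7, 3, 9, 1, 7, 0, 2, 8, 8, 2, 12, 4, 10, 6, 8, 2, 7, 1, 0, 8, 2, 10, 4, 8, 2, 1, 7, 3, 9, 1, 7, 0, 2, 8, 8, 2, 12, 4, 10, 6, 8, 2, 7, 1, 0, 8, 2, 10, 4, 8, 2, 0, 2, 8, 8, 2, 12, 4, 10, 6, 8, 2, 7, 1, 0, 7, 0, 2, 8, 1, 7, 5, 9, 3, 11, 1, 7, 7, 1, 0, 1, 7, 3, 9, 1, 7, 0, 2, 8, 1, 7, 5, 9, 3, 11, 1, 7, 7, 1, 0, 8, 2, 10, 4, 8, 2, 1, 7, 3, 9, 1, 7, 0, 2, 8, 1, 7, 5, 9, 3, 11, 1, 7, 7, 1, 0, 8, 2, 10, 4, 8, 2, 8, 0,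 2, 8, 1, 7, 5, 9, 3, 11, 1, 7, 7, 1, 0, 1, 7, 3, 9, 1, 7, 0, 2, 8, 1, 7, 5, 9, 3, 11, 1, 7, 7, 1, 0, 8, 2, 10, 4, 8, 2, 1, 7, 3, 9, 1, 7, 0, 2, 8, 1, 7, 5, 9, 3, 11, 1, 7, 7, 1, 0, 8, 2, 10, 4, 8, 2, 7, 1, 3, 6, 4, 2, 1, 3, 6, 4, 2, 14], [0, 2, 8, 8, 2, 12, 4, 10, 6, 8, 2, 7, 1, 0, 0, 2, 8, 8, 2, 12, 4, 10, 6, 8, 2, 7, 1, 0, 8, 0, 2, 8, 8, 2, 12, 4, 10, 6, 8, 2, 7, 1, 0, 0, 2, 8, 8, 2, 12, 4, 10, 6, 8, 2, 7, 1, 0, 7, 0, 2, 8, 1, 7, 5, 9, 3, 11, 1, 7, 7, 1, 0, 0, 2, 8, 1, 7, 5, 9, 3, 11, 1, 7, 7, 1, 0, 8, 0, 2, 8, 1, 7, 5, 9, 3, 11, 1, 7, 7, 1, 0, 0, 2, 8, 1, 7, 5, 9, 3, 11, 1, 7, 7, 1, 0, 7, 1, 3, 6, 4, 2, 1, 3, 6, 4, 2, 14, 14], [1, 7, 3, 9, 1, 7, 0, 2, 8, 8, 2, 12, 4, 10, 6,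 8, 2, 7, 1, 0, 8, 2, 10, 4, 8, 2, 0, 2, 8, 8, 2, 12, 4, 10, 6, 8, 2, 7, 1, 0, 0, 2, 8, 8, 2, 12, 4, 10, 6, 8, 2, 7, 1, 0, 8, 1, 7, 3, 9, 1, 7, 0, 2, 8, 8, 2, 12, 4, 10, 6, 8, 2, 7, 1, 0, 8, 2, 10, 4, 8, 2, 0, 2, 8, 8, 2, 12, 4, 10, 6, 8, 2, 7, 1, 0, 0, 2, 8, 8, 2, 12, 4, 10, 6, 8, 2, 7, 1, 0, 7, 0, 2, 8, 1, 7, 5, 9, 3, 11, 1, 7, 7, 1, 0, 0, 2, 8, 1, 7, 5, 9, 3, 11, 1, 7, 7, 1, 0, 1, 7, 3, 9, 1, 7, 0, 2, 8, 1, 7, 5, 9, 3, 11, 1, 7, 7, 1, 0, 8, 2, 10, 4, 8, 2, 8, 0, 2, 8, 1, 7, 5, 9, 3, 11, 1, 7, 7, 1, 0, 0, 2, 8, 1, 7, 5, 9, 3, 11, 1, 7, 7, 1, 0, 1, 7, 3, 9, 1, 7, 0, 2, 8, 1, 7, 5, 9, 3, 11, 1, 7, 7, 1, 0, 8, 2, 10, 4, 8, 2, 7, 1, 3, 6, 4, 2, 1, 3, 6, 4, 2, 14], [1, 7, 3, 9, 1,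 7, 0, 2, 8, 8, 2, 12, 4, 10, 6, 8, 2, 7, 1, 0, 8, 2, 10, 4, 8, 2, 1, 7, 3, 9, 1, 7, 0, 2, 8, 8, 2, 12, 4, 10, 6, 8, 2, 7, 1, 0, 8, 2, 10, 4, 8, 2, 0, 2, 8, 8, 2, 12, 4, 10, 6, 8, 2, 7, 1, 0, 0, 2, 8, 8, 2, 12, 4, 10, 6, 8, 2, 7, 1, 0, 8, 1, 7, 3, 9, 1, 7, 0, 2, 8, 8, 2, 12, 4, 10, 6, 8, 2, 7, 1, 0, 8, 2, 10, 4, 8, 2, 1, 7, 3, 9, 1, 7, 0, 2, 8, 8, 2, 12, 4, 10, 6, 8, 2, 7, 1, 0, 8, 2, 10, 4, 8, 2, 0, 2, 8, 8, 2, 12, 4, 10, 6, 8, 2, 7, 1, 0, 0, 2, 8, 8, 2, 12, 4, 10, 6, 8, 2, 7, 1, 0, 7, 0, 2, 8, 1, 7, 5, 9, 3, 11, 1, 7, 7, 1, 0, 0, 2, 8, 1, 7, 5, 9, 3, 11, 1, 7, 7, 1, 0, 1, 7, 3, 9, 1, 7, 0, 2, 8, 1, 7, 5, 9, 3, 11, 1, 7, 7, 1, 0, 8, 2, 10, 4, 8, 2, 1, 7, 3, 9, 1, 7, 0, 2, 8, 1,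 7, 5, 9, 3, 11, 1, 7, 7, 1, 0, 8, 2, 10, 4, 8, 2, 8, 0, 2, 8, 1, 7, 5, 9, 3, 11, 1, 7, 7, 1, 0, 0, 2, 8, 1, 7, 5, 9, 3, 11, 1, 7, 7, 1, 0, 1, 7, 3, 9, 1, 7, 0, 2, 8, 1, 7, 5, 9, 3, 11, 1, 7, 7, 1, 0, 8, 2, 10, 4, 8, 2, 1, 7, 3, 9, 1, 7, 0, 2, 8, 1, 7, 5, 9, 3, 11, 1, 7, 7, 1, 0, 8, 2, 10, 4, 8, 2, 7, 1, 3, 6, 4, 2, 14]]
theorem facts_one : ∀ w ∈ facts, evw Mc3B.el w = 1 := of (by decide +kernel)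
end CfH6.Mc3F
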