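import Cfsg.Agent.OD.Pre
import Cfsg.Agent.H6.TCTop
/-! coset enumeration certificate; generators x y a b p q r s ; index 16 -/
set_option autoImplicit false
set_option maxRecDepth 100000
set_option Elab.async false
set_option linter.all false
namespace CfH6.N23T2
open CfH6
noncomputable def tab0 : Tr := (Tr.l (nat_lit 0x554c4347244f26cd42443249234824ca32c6224e234531c321cb2242224110c0))
noncomputable def tab1 : Tr := (Tr.l (nat_lit 0x83cd61c6764c15cf6143544812ca52c913ce134742c512cb124431c221c11140))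
noncomputable def tab2 : Tr := (Tr.l (nat_lit 0x91c8244f534984ca724b62c752c623ce454c234d42422244224331c121c510c0))
noncomputable def tab3 : Tr := (Tr.l (nat_lit 0x63ce534822c615c712cb154c13cd124f134a1349414131c421c312c512421140))
noncomputable def tab4 : Tr := (Tr.l (nat_lit 0x73cd28c7244f51c5734b42c9234a5142684e5141224c41c431c321c821c610c0))
noncomputable def tab5 : Tr := (Tr.l (nat_lit 0x754b544894c986c755cf8344554d73ce574c534362c553ca42c631c221c110c0))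
noncomputable def tab6 : Tr := (Tr.l (nat_lit 0x8448734b63c943ca13ce144c144d14cf5244424313c212c712c6334520c01141))
noncomputable def tab7 : Tr := (Tr.l (nat_lit 0x83ce144f53c616c773486244524313cb464c144d32c112ca12c920c013451142))
noncomputable def tab8 : Tr := (Tr.l (nat_lit 0x654c57c721c515cf13c43348214213ca184e4241124d334b20c011c912c61143))
noncomputable def tab9 : Tr := (Tr.l (nat_lit 0x33cd53c6144f15c552c32142424812c92141144e354c20c0134b11ca11c71144))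
noncomputable def tab10 : Tr := (Tr.l (nat_lit 0))
noncomputable def tab11 : Tr := (Tr.l (nat_lit 0x2184198494398760))
noncomputable def tab12 : Tr := (Tr.l (nat_lit 0))
noncomputable def tab13 : Tr := (Tr.l (nat_lit 0))
noncomputable def tab14 : Tr := (Tr.l (nat_lit 0))
noncomputable def tab15 : Tr := (Tr.l (nat_lit 0))
noncomputable def tab16 : Tr := (Tr.l (nat_lit 0))
noncomputable def tab17 : Tr := (Tr.l (nat_lit 0))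
noncomputable def tab18 : Tr := (Tr.l (nat_lit 0))
noncomputable def tab19 : Tr := (Tr.l (nat_lit 0))
noncomputable def tab20 : Tr := (Tr.l (nat_lit 0))
noncomputable def tab21 : Tr := (Tr.l (nat_lit 0))
noncomputable def tab22 : Tr := (Tr.l (nat_lit 0))
noncomputable def ty0 : TT := (TT.n (TT.n (TT.n (TT.l (Ty.ssub [] []))
 (TT.l (Ty.rel3 (nat_lit 2) (nat_lit 1) (nat_lit 3))))
 (TT.l (Ty.rel3 (nat_lit 8) (nat_lit 1) (nat_lit 9))))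
 (TT.n (TT.l (Ty.rel1 (nat_lit 1)))
 (TT.l (Ty.relL (nat_lit 0) [nat_lit 0]))))
noncomputable def ty1 : TT := (TT.n (TT.n (TT.n (TT.l (Ty.rel1 (nat_lit 0)))
 (TT.l (Ty.relL (nat_lit 8) [nat_lit 9, nat_lit 0, nat_lit 9])))
 (TT.n (TT.l (Ty.rel3 (nat_lit 7) (nat_lit 0) (nat_lit 7)))
 (TT.l (Ty.rel3 (nat_lit 9) (nat_lit 0) (nat_lit 8)))))
 (TT.n (TT.n (TT.l (Ty.rel3 (nat_lit 6) (nat_lit 0) (nat_lit 6)))
 (TT.l (Ty.dfn)))
 (TT.n (TT.l (Ty.rel3 (nat_lit 3) (nat_lit 0) (nat_lit 2)))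
 (TT.l (Ty.rel3 (nat_lit 2) (nat_lit 0) (nat_lit 3))))))
noncomputable def ty2 : TT := (TT.n (TT.n (TT.n (TT.n (TT.l (Ty.ssub [] []))
 (TT.l (Ty.dfn)))
 (TT.l (Ty.rel3 (nat_lit 8) (nat_lit 3) (nat_lit 8))))
 (TT.n (TT.l (Ty.rel3 (nat_lit 6) (nat_lit 3) (nat_lit 7)))
 (TT.l (Ty.rel3 (nat_lit 1) (nat_lit 3) (nat_lit 0)))))
 (TT.n (TT.n (TT.l (Ty.rel1 (nat_lit 3)))
 (TT.l (Ty.rel3 (nat_lit 9) (nat_lit 3) (nat_lit 9))))
 (TT.n (TT.l (Ty.relL (nat_lit 2) [nat_lit 2]))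
 (TT.l (Ty.rel5 (nat_lit 1) (nat_lit 4) (nat_lit 0) (nat_lit 3) (nat_lit 4))))))
noncomputable def ty3 : TT := (TT.n (TT.n (TT.n (TT.l (Ty.rel1 (nat_lit 2)))
 (TT.l (Ty.rel3 (nat_lit 1) (nat_lit 2) (nat_lit 0))))
 (TT.l (Ty.rel3 (nat_lit 9) (nat_lit 2) (nat_lit 9))))
 (TT.n (TT.n (TT.l (Ty.rel3 (nat_lit 8) (nat_lit 2) (nat_lit 8)))
 (TT.l (Ty.relL (nat_lit 3) [nat_lit 3])))
 (TT.l (Ty.dfn))))
noncomputable def ty4 : TT := (TT.n (TT.n (TT.n (TT.l (Ty.ssub [] []))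
 (TT.l (Ty.dfn)))
 (TT.n (TT.l (Ty.rel3 (nat_lit 8) (nat_lit 4) (nat_lit 8)))
 (TT.l (Ty.rel5 (nat_lit 2) (nat_lit 1) (nat_lit 4) (nat_lit 0) (nat_lit 3)))))
 (TT.n (TT.n (TT.l (Ty.rel1 (nat_lit 4)))
 (TT.l (Ty.relL (nat_lit 6) [nat_lit 4, nat_lit 6, nat_lit 8])))
 (TT.l (Ty.rel3 (nat_lit 9) (nat_lit 4) (nat_lit 9)))))
noncomputable def ty5 : TT := (TT.n (TT.n (TT.n (TT.n (TT.l (Ty.ssub [] []))
 (TT.l (Ty.relL (nat_lit 6) [nat_lit 8, nat_lit 5, nat_lit 8])))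
 (TT.l (Ty.rel1 (nat_lit 5))))
 (TT.n (TT.l (Ty.rel3 (nat_lit 7) (nat_lit 5) (nat_lit 7)))
 (TT.l (Ty.relL (nat_lit 0) [nat_lit 3, nat_lit 5, nat_lit 0, nat_lit 3, nat_lit 5, nat_lit 0, nat_lit 3]))))
 (TT.n (TT.n (TT.l (Ty.rel3 (nat_lit 6) (nat_lit 5) (nat_lit 6)))
 (TT.l (Ty.rel5 (nat_lit 3) (nat_lit 1) (nat_lit 5) (nat_lit 0) (nat_lit 2))))
 (TT.n (TT.l (Ty.relL (nat_lit 8) [nat_lit 5, nat_lit 6, nat_lit 8]))
 (TT.l (Ty.relL (nat_lit 7) [nat_lit 9, nat_lit 5, nat_lit 9])))))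
noncomputable def ty6 : TT := (TT.n (TT.n (TT.n (TT.l (Ty.rel1 (nat_lit 6)))
 (TT.l (Ty.rel3 (nat_lit 9) (nat_lit 6) (nat_lit 9))))
 (TT.n (TT.l (Ty.rel3 (nat_lit 7) (nat_lit 6) (nat_lit 7)))
 (TT.l (Ty.rel3 (nat_lit 1) (nat_lit 6) (nat_lit 0)))))
 (TT.n (TT.n (TT.l (Ty.dfn))
 (TT.l (Ty.rel3 (nat_lit 8) (nat_lit 6) (nat_lit 8))))
 (TT.n (TT.l (Ty.relL (nat_lit 8) [nat_lit 4, nat_lit 6, nat_lit 4]))
 (TT.l (Ty.relL (nat_lit 7) [nat_lit 2, nat_lit 7, nat_lit 3])))))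
noncomputable def ty7 : TT := (TT.n (TT.n (TT.n (TT.l (Ty.rel1 (nat_lit 7)))
 (TT.l (Ty.rel3 (nat_lit 8) (nat_lit 7) (nat_lit 8))))
 (TT.n (TT.l (Ty.relL (nat_lit 3) [nat_lit 7, nat_lit 6, nat_lit 2]))
 (TT.l (Ty.rel3 (nat_lit 1) (nat_lit 7) (nat_lit 0)))))
 (TT.n (TT.n (TT.l (Ty.dfn))
 (TT.l (Ty.rel3 (nat_lit 9) (nat_lit 7) (nat_lit 9))))
 (TT.n (TT.l (Ty.rel3 (nat_lit 2) (nat_lit 6) (nat_lit 3)))
 (TT.l (Ty.relL (nat_lit 6) [nat_lit 2, nat_lit 7, nat_lit 3])))))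
noncomputable def ty8 : TT := (TT.n (TT.n (TT.n (TT.l (Ty.rel1 (nat_lit 8)))
 (TT.l (Ty.relL (nat_lit 5) [nat_lit 6, nat_lit 8, nat_lit 5])))
 (TT.l (Ty.rel3 (nat_lit 9) (nat_lit 8) (nat_lit 9))))
 (TT.n (TT.n (TT.l (Ty.dfn))
 (TT.l (Ty.rel3 (nat_lit 2) (nat_lit 8) (nat_lit 3))))
 (TT.l (Ty.relL (nat_lit 6) [nat_lit 4, nat_lit 6, nat_lit 4]))))
noncomputable def ty9 : TT := (TT.n (TT.n (TT.n (TT.l (Ty.rel1 (nat_lit 9)))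
 (TT.l (Ty.relL (nat_lit 1) [nat_lit 9, nat_lit 8, nat_lit 0])))
 (TT.l (Ty.rel3 (nat_lit 2) (nat_lit 9) (nat_lit 3))))
 (TT.n (TT.l (Ty.dfn))
 (TT.l (Ty.rel5 (nat_lit 4) (nat_lit 7) (nat_lit 4) (nat_lit 7) (nat_lit 8)))))
noncomputable def ty10 : TT := (TT.l (Ty.skip))
noncomputable def C : Cert where
  tabs := [tab0, tab1, tab2, tab3, tab4, tab5, tab6, tab7, tab8, tab9, tab10, tab11, tab12, tab13, tab14, tab15, tab16, tab17, tab18, tab19, tab20, tab21, tab22]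
  tts := [ty0, ty1, ty2, ty3, ty4, ty5, ty6, ty7, ty8, ty9, ty10]
  k := nat_lit 6
  base := nat_lit 9
  mJ := nat_lit 64
  mR := nat_lit 63
  W := nat_lit 16
  mA := nat_lit 4095
  mI := nat_lit 127
  S := nat_lit 12
  mC := nat_lit 15
  nc := nat_lit 10
  lo := nat_lit 64
  live := nat_lit 80
  hi1 := nat_lit 79
  AW := nat_lit 13
  mAW := nat_lit 8191
def il : List ℕ := [1, 0, 3, 2, 4, 5, 6, 7, 8, 9]
def rels : List (List ℕ) := [[0, 0, 0],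
  [2, 2, 2],
  [0, 2, 1, 3],
  [4, 0, 3, 4, 2, 1],
  [5, 0, 2, 5, 3, 1],
  [4, 0, 2, 4, 0, 2, 4, 0, 2],
  [5, 0, 3, 5, 0, 3, 5, 0, 3],
  [4, 5, 4, 5, 4, 5, 4, 5, 4, 5, 4, 5],
  [0, 4, 5, 0, 4, 5, 0, 4, 5, 0, 4, 5, 0, 4, 5],
  [2, 4, 5, 2, 4, 5, 2, 4, 5, 2, 4, 5, 2, 4, 5],
  [6, 7, 6, 7],
  [6, 8, 6, 8],
  [6, 9, 6, 9],
  [7, 8, 7, 8],
  [7, 9, 7, 9],
  [8, 9, 8, 9],
  [0, 6, 1, 6],
  [0, 7, 1, 7],
  [0, 8, 1, 9],
  [0, 9, 1, 8, 9],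
  [2, 6, 3, 7],
  [2, 7, 3, 6, 7],
  [2, 8, 3, 8],
  [2, 9, 3, 9],
  [4, 6, 4, 6, 8],
  [4, 7, 4, 7, 8, 9],
  [4, 8, 4, 8],
  [4, 9, 4, 9],
  [5, 6, 5, 6],
  [5, 7, 5, 7],
  [5, 8, 5, 6, 8],
  [5, 9, 5, 7, 9]]
def subs : List (List ℕ) := [[0],
  [2],
  [4],
  [5]]
theorem valid : C.valid il rels subs = true := by decide +kernel
theorem p0 : C.OkL 64 80 := C.okL_of 64 0 16 80 (by decide) (by decide +kernel)
theorem covers {G : Type*} [Group G] (ev : ℕ → G) (H : Subgroup G)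
    (hinv : ∀ x < 10, ev (il.getD x 0) = (ev x)⁻¹) (hr : ∀ r ∈ rels, evw ev r = 1)
    (hs : ∀ s ∈ subs, evw ev s ∈ H) : Covers H (gensub ev 10) 16 :=
  C.sound il rels subs 10 16 valid (p0) (Cert.OkR.nil C _) (by decide) (by decide) ev H hinv hr hs
end CfH6.N23T2
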