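import Cfsg.Agent.OD.Pre
import Cfsg.Agent.H6.N23B
import Cfsg.Agent.H6.N23T1
import Cfsg.Agent.H6.N23T2
import Cfsg.Agent.H6.N23T3
import Cfsg.Agent.H6.N23T4
import Cfsg.Agent.H6.N23T5
set_option autoImplicit false
set_option maxRecDepth 100000
set_option linter.all false
namespace CfH6.N23O
open CfH6
def s0 : List (List ℕ) := [[0], [1], [2], [3], [4], [5], [6], [7], [8], [9], [10]]
def t0 : List (List ℕ) := [[0], [2], [4], [5], [6], [7], [8], [9]]
theorem cov0 : Covers (gensub (byW N23B.el t0) 8) (gensub (byW N23B.el s0) 11) 253 :=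
  cov_step N23B.el N23B.hinv N23B.hrel s0 t0 8 4 (fun ev H => N23T1.covers ev H) (by decide +kernel)
theorem top0 : gensub (byW N23B.el s0) 11 = ⊤ := (gensub_id N23B.el (by decide)).trans N23B.htop
theorem covT0 : Covers (gensub (byW N23B.el t0) 8) ⊤ 253 := cov0.top top0
def s1 : List (List ℕ) := [[0], [1], [2], [3], [4], [5], [6], [7], [8], [9]]
def t1 : List (List ℕ) := [[0], [2], [4], [5]]
theorem cov1 : Covers (gensub (byW N23B.el t1) 4) (gensub (byW N23B.el s1) 10) 16 :=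
  cov_step N23B.el N23B.hinv N23B.hrel s1 t1 4 4 (fun ev H => N23T2.covers ev H) (by decide +kernel)
def s2 : List (List ℕ) := [[0], [1], [2], [3], [4], [5]]
def t2 : List (List ℕ) := [[0], [2], [4]]
theorem cov2 : Covers (gensub (byW N23B.el t2) 3) (gensub (byW N23B.el s2) 6) 70 :=
  cov_step N23B.el N23B.hinv N23B.hrel s2 t2 3 4 (fun ev H => N23T3.covers ev H) (by decide +kernel)
def s3 : List (List ℕ) := [[0], [1], [2], [3], [4]]
def t3 : List (List ℕ) := [[0], [2]]
theorem cov3 : Covers (gensub (byW N23B.el t3) 2) (gensub (byW N23B.el s3) 5) 4 :=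
  cov_step N23B.el N23B.hinv N23B.hrel s3 t3 2 4 (fun ev H => N23T4.covers ev H) (by decide +kernel)
def s4 : List (List ℕ) := [[0], [1], [2], [3]]
def t4 : List (List ℕ) := []
theorem cov4 : Covers (gensub (byW N23B.el t4) 0) (gensub (byW N23B.el s4) 4) 9 :=
  cov_step N23B.el N23B.hinv N23B.hrel s4 t4 0 4 (fun ev H => N23T5.covers ev H) (by decide +kernel)
theorem finT4 : Finite (gensub (byW N23B.el t4) 0) ∧ Nat.card (gensub (byW N23B.el t4) 0) ≤ 1 := (gensub_zero _)
theorem fin4 : Finite (gensub (byW N23B.el s4) 4) ∧ Nat.card (gensub (byW N23B.el s4) 4) ≤ 9 :=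
  fin_cast (cov4.card_le finT4) (by decide)
theorem finT3 : Finite (gensub (byW N23B.el t3) 2) ∧ Nat.card (gensub (byW N23B.el t3) 2) ≤ 9 := (fin_le (gensub_le_of_subsIn N23B.el (by decide)) fin4)
theorem fin3 : Finite (gensub (byW N23B.el s3) 5) ∧ Nat.card (gensub (byW N23B.el s3) 5) ≤ 36 :=
  fin_cast (cov3.card_le finT3) (by decide)
theorem finT2 : Finite (gensub (byW N23B.el t2) 3) ∧ Nat.card (gensub (byW N23B.el t2) 3) ≤ 36 := (fin_le (gensub_le_of_subsIn N23B.el (by decide)) fin3)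
theorem fin2 : Finite (gensub (byW N23B.el s2) 6) ∧ Nat.card (gensub (byW N23B.el s2) 6) ≤ 2520 :=
  fin_cast (cov2.card_le finT2) (by decide)
theorem finT1 : Finite (gensub (byW N23B.el t1) 4) ∧ Nat.card (gensub (byW N23B.el t1) 4) ≤ 2520 := (fin_le (gensub_le_of_subsIn N23B.el (by decide)) fin2)
theorem fin1 : Finite (gensub (byW N23B.el s1) 10) ∧ Nat.card (gensub (byW N23B.el s1) 10) ≤ 40320 :=
  fin_cast (cov1.card_le finT1) (by decide)
theorem finT0 : Finite (gensub (byW N23B.el t0) 8) ∧ Nat.card (gensub (byW N23B.el t0) 8) ≤ 40320 := (fin_le (gensub_le_of_subsIn N23B.el (by decide)) fin1)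
theorem fin0 : Finite (gensub (byW N23B.el s0) 11) ∧ Nat.card (gensub (byW N23B.el s0) 11) ≤ 10200960 :=
  fin_cast (cov0.card_le finT0) (by decide)
theorem finG : Finite N23B.G ∧ Nat.card N23B.G ≤ 10200960 := fin_top (top0 ▸ fin0)
end CfH6.N23O
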