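import Cfsg.Agent.H4.Mc2
import Cfsg.Agent.L.M23a
/-! Statements of the steps of `QC` for a simple group of order `10200960`. -/
set_option autoImplicit false
open Cfsg CfH4 CfH4.GA CfH9 CfH4.D1 CfH4.PA Subgroup Finset
namespace CfH6.QC
universe u

section num
variable {ι : Type*} [Fintype ι]

/-- degrees and the principal blocks for `23` and `11` -/
structure Base (d : ι → ℕ) (a b : ι → ℤ × ℤ) (ma mb : ι → ℤ) : Prop where
  dv : ∀ i, d i ∣ 10200960 ∧ 1 < d i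
  sq : ∑ i, d i * d i + 1 = 10200960
  A : Blk 23 11 1 d a ma
  B : Blk 11 5 1 d b mb
  bt : BT a b

/-- the principal `p`-block -/
structure PB (p e K : ℕ) (d : ι → ℕ) (a b u : ι → ℤ × ℤ) (m : ι → ℤ) : Prop where
  blk : Blk p e K d u m
  ba : BT a u
  bb : BT b u
  dv : ∀ i, (d i : ℤ) ∣ (u i).1 * (10200960 / K : ℕ) ∧ (d i : ℤ) ∣ (u i).2 * (10200960 / K : ℕ)

/-- the differences `m j - m 0` of the characters outside the principal `p`-block -/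
structure Cp (p e K : ℕ) (d : ι → ℕ) (a b u w : ι → ℤ × ℤ) : Prop where
  n1 : ∑ i, (w i).1 ^ 2 = (K - 1) * (e + 1)
  n2 : ∑ i, (w i).2 ^ 2 = (K - 1) * (e + 1)
  n3 : ∑ i, ((w i).1 - (w i).2) ^ 2 = if e + 1 = p then 0 else 2 * (K - 1 : ℤ)
  z : ∀ i, u i ≠ 0 → w i = 0
  cg : ∀ i, u i = 0 → (p : ℤ) ∣ d i - (p / 2 : ℕ) * ((w i).1 + (w i).2)
  dv : ∀ i, (d i : ℤ) ∣ (w i).1 * (10200960 / K : ℕ) ∧ (d i : ℤ) ∣ (w i).2 * (10200960 / K : ℕ)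
  l : ∑ i, (w i).1 * d i = 0
  la : ∑ i, (a i).1 * (w i).1 = 0
  lb : ∑ i, (b i).1 * (w i).1 = 0
end num

def O5 : List (ℕ × ℕ) := [(2, 1), (2, 6), (4, 3), (2, 16), (4, 8), (2, 21), (2, 36), (4, 18), (2, 56), (4, 28), (2, 96),
  (4, 48), (2, 126), (4, 63), (2, 336), (4, 168), (2, 576), (4, 288), (2, 2016), (4, 1008)]
def O7 : List (ℕ × ℕ) := [(3, 2), (6, 1), (3, 16), (6, 8), (3, 128), (6, 64)]
def D5 : List ℕ := [11, 231, 644, 736, 759, 896, 1056, 2024]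

/-- numerical step for `5` -/
def NA : Prop := ∀ {ι : Type u} [Fintype ι] (d : ι → ℕ) (a b u : ι → ℤ × ℤ) (ma mb m : ι → ℤ) (e K : ℕ),
  Base d a b ma mb → PB 5 e K d a b u m → (e, K) ∈ O5 → (e, K) = (4, 28) ∨ (e, K) = (4, 3) ∧ ∀ i, u i ≠ 0 → d i ∈ D5
/-- numerical step for `7` -/
def NB : Prop := ∀ {ι : Type u} [Fintype ι] (d : ι → ℕ) (a b u w h k : ι → ℤ × ℤ) (ma mb m m' : ι → ℤ) (e K : ℕ),
  Base d a b ma mb → PB 5 4 3 d a b u m → Cp 5 4 3 d a b u w → PB 7 e K d a b h m' → Cp 7 e K d a b h k → BT u h →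
  (e, K) ∈ O7 → (e, K) = (3, 2) ∧ Fintype.card ι = 16 ∨ (e, K) = (3, 16) ∧ Fintype.card ι ≤ 18

instance f23 : Fact (Nat.Prime 23) := ⟨by norm_num⟩

def R1 : Prop := ∀ {G : Type u} [Group G] [Finite G], IsSimpleGroup G → Nat.card G = 10200960 → CfLm.CN G 23 23 253 →
  CfLm.CN G 11 11 55 → ∀ w : G, orderOf w = 5 → Nat.card Cx(w) ≠ 140
def R2 : Prop := ∀ {G : Type u} [Group G] [Finite G], Nat.card G = 10200960 → CfLm.CN G 23 23 253 → CfLm.CN G 11 11 55 →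
  CfLm.CN G 5 15 60 → ∀ y : G, orderOf y = 7 → Nat.card Cx(y) = 112 → e 7 y = 3 → 20 ≤ Nat.card (ConjClasses G)
def R3 : Prop := ∀ {G : Type u} [Group G] [Finite G], IsSimpleGroup G → Nat.card G = 10200960 → CfLm.CN G 23 23 253 →
  CfLm.CN G 11 11 55 → CfLm.CN G 5 15 60 → ∀ y : G, orderOf y = 7 → e 7 y ≠ 2
def R4 : Prop := ∀ {G : Type u} [Group G] [Finite G], IsSimpleGroup G → Nat.card G = 10200960 → CfLm.CN G 23 23 253 →
  CfLm.CN G 11 11 55 → ∀ x w : G, orderOf x = 23 → orderOf w = 11 →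
    Base dg (uu x (5 : ZMod 23)) (uu w (2 : ZMod 11)) (mm 23 x) (mm 11 w) ∧
    ∀ (p : ℕ) [Fact p.Prime] (n : ZMod p) (y : G) (K : ℕ), p = 5 ∨ p = 7 → ¬ IsSquare n → Syl p y →
      Nat.card Cx(y) = p * K → e p y ∣ p - 1 → p - 1 ≤ 2 * e p y →
      PB p (e p y) K dg (uu x (5 : ZMod 23)) (uu w (2 : ZMod 11)) (uu y n) (mm p y) ∧
        ∃ W, Cp p (e p y) K dg (uu x (5 : ZMod 23)) (uu w (2 : ZMod 11)) (uu y n) W
def R5 : Prop := R1.{u} → R2.{u} → R3.{u} → R4.{u} → NA.{u} → NB.{u} → CfLm.QC.{u}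

end CfH6.QC
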