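import Cfsg.Agent.H6.N23Q1
/-! The candidate vectors. -/
set_option autoImplicit false
set_option linter.all false
namespace CfH6.QC

def DL : List ℕ := (List.range 3194).filter fun d => 1 < d ∧ 10200960 % d = 0
def RR (r : ℕ) : List ℤ := (List.range (2 * r + 1)).map fun i : ℕ => (i : ℤ) - r
def okp (p n3 T d : ℤ) (z fl : Bool) (u : ℤ × ℤ) : Prop := (u.1 - u.2) ^ 2 ≤ n3 ∧
  if u = 0 then z = true ∨ d % p = 0 else (d - p / 2 * (u.1 + u.2)) % p = 0 ∧ u.1 * T % d = 0 ∧ u.2 * T % d = 0 ∧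
    (fl = true ∨ 0 ≤ d - p / 2 * (u.1 + u.2) ∧ 0 ≤ d - p / 2 * (u.1 + u.2) + p * u.1 ∧ 0 ≤ d - p / 2 * (u.1 + u.2) + p * u.2)
instance (p n3 T d : ℤ) (z fl : Bool) (u : ℤ × ℤ) : Decidable (okp p n3 T d z fl u) := by unfold okp; infer_instance
def prs (r : ℕ) (p n3 T d : ℤ) (z fl : Bool) : List (ℤ × ℤ) :=
  ((RR r).flatMap fun a => (RR r).map fun b => (a, b)).filter fun u => okp p n3 T d z fl u
def rc (t : ℕ × (ℤ × ℤ) × (ℤ × ℤ)) (c : ℤ) (h : ℤ × ℤ) (w : ℤ) (k : ℤ × ℤ) : Rc :=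
  [t.1, h.1, h.1 - h.2, c, t.2.2.1, t.2.1.1, t.2.1.2, t.2.2.2, t.2.2.1 - t.2.2.2, t.2.1.1 - t.2.1.2, w, h.2, k.1, k.2, k.1 - k.2]
def TY : List (ℕ × (ℤ × ℤ) × (ℤ × ℤ)) := DL.flatMap fun d : ℕ => (prs 3 23 2 10200960 d false false).flatMap fun a =>
  (prs 2 11 2 10200960 d false false).map fun b => (d, a, b)
def TL : List (ℕ × (ℤ × ℤ) × (ℤ × ℤ)) := [(2, (-2, -2), (-2, -2)), (11, (0, 1), (0, 0)), (11, (1, 0), (0, 0)), (12, (-1, 0), (-1, -1)), (12, (0, -1), (-1, -1)),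
  (22, (1, 1), (0, 0)), (23, (0, 0), (-1, -1)), (24, (-1, -1), (-2, -2)), (33, (1, 2), (0, 0)), (33, (2, 1), (0, 0)),
  (35, (-1, 0), (-2, -2)), (35, (0, -1), (-2, -2)), (44, (2, 2), (0, 0)), (45, (1, 1), (-1, -1)), (46, (0, 0), (-2,
  -2)), (48, (-2, -2), (1, 2)), (48, (-2, -2), (2, 1)), (55, (2, 3), (0, 0)), (55, (3, 2), (0, 0)), (56, (1, 2), (-1,
  -1)), (56, (2, 1), (-1, -1)), (60, (-3, -2), (0, 1)), (60, (-3, -2), (1, 0)), (60, (-2, -3), (0, 1)), (60, (-2, -3),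
  (1, 0)), (66, (3, 3), (0, 0)), (70, (-1, -1), (1, 2)), (70, (-1, -1), (2, 1)), (72, (-3, -3), (-1, 0)), (72, (-3, -3),
  (0, -1)), (90, (2, 2), (-2, -2)), (92, (0, 0), (1, 2)), (92, (0, 0), (2, 1)), (105, (-2, -1), (-1, 0)), (105, (-2,
  -1), (0, -1)), (105, (-1, -2), (-1, 0)), (105, (-1, -2), (0, -1)), (112, (3, 3), (-2, -2)), (115, (0, 0), (0, 1)),
  (115, (0, 0), (1, 0)), (126, (0, 1), (0, 1)), (126, (0, 1), (1, 0)), (126, (1, 0), (0, 1)), (126, (1, 0), (1, 0)),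
  (128, (-2, -1), (-2, -1)), (128, (-2, -1), (-1, -2)), (128, (-1, -2), (-2, -1)), (128, (-1, -2), (-1, -2)), (138, (0,
  0), (-1, 0)), (138, (0, 0), (0, -1)), (160, (1, 1), (-1, 0)), (160, (1, 1), (0, -1)), (161, (0, 0), (-2, -1)), (161,
  (0, 0), (-1, -2)), (198, (-3, -2), (0, 0)), (198, (-2, -3), (0, 0)), (207, (0, 0), (2, 2)), (210, (-3, -3), (-1, -1)),
  (220, (-2, -1), (0, 0)), (220, (-1, -2), (0, 0)), (230, (0, 0), (1, 1)), (231, (-1, -1), (0, 0)), (240, (1, 2), (2,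
  2)), (240, (2, 1), (2, 2)), (252, (1, 1), (1, 1)), (253, (0, 0), (0, 0)), (264, (0, 1), (0, 0)), (264, (1, 0), (0,
  0)), (276, (0, 0), (-1, -1)), (288, (-1, 0), (-2, -2)), (288, (0, -1), (-2, -2)), (308, (2, 3), (0, 0)), (308, (3, 2),
  (0, 0)), (320, (2, 2), (-1, -1)), (336, (-3, -2), (-1, 0)), (336, (-3, -2), (0, -1)), (336, (-2, -3), (-1, 0)), (336,
  (-2, -3), (0, -1)), (345, (0, 0), (1, 2)), (345, (0, 0), (2, 1)), (368, (0, 0), (0, 1)), (368, (0, 0), (1, 0)), (414,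
  (0, 0), (-2, -1)), (414, (0, 0), (-1, -2)), (440, (-3, -3), (0, 0)), (460, (0, 0), (2, 2)), (462, (-2, -2), (0, 0)),
  (480, (3, 3), (-2, -1)), (480, (3, 3), (-1, -2)), (483, (0, 0), (1, 1)), (495, (-1, 0), (0, 0)), (495, (0, -1), (0,
  0)), (504, (2, 2), (2, 2)), (506, (0, 0), (0, 0)), (528, (1, 1), (0, 0)), (552, (0, 0), (-2, -2)), (576, (-1, -1), (1,
  2)), (576, (-1, -1), (2, 1)), (644, (0, 0), (-1, 0)), (644, (0, 0), (0, -1)), (693, (-3, -3), (0, 0)), (704, (-3, -2),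
  (0, 0)), (704, (-2, -3), (0, 0)), (736, (0, 0), (1, 1)), (759, (0, 0), (0, 0)), (770, (0, 1), (0, 0)), (770, (1, 0),
  (0, 0)), (792, (1, 2), (0, 0)), (792, (2, 1), (0, 0)), (805, (0, 0), (-2, -2)), (840, (-1, 0), (1, 2)), (840, (-1, 0),
  (2, 1)), (840, (0, -1), (1, 2)), (840, (0, -1), (2, 1)), (896, (1, 1), (0, 1)), (896, (1, 1), (1, 0)), (920, (0, 0),
  (-2, -1)), (920, (0, 0), (-1, -2)), (966, (0, 0), (2, 2)), (990, (-1, -1), (0, 0)), (1012, (0, 0), (0, 0)), (1035, (0,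
  0), (-1, -1)), (1056, (2, 2), (0, 0)), (1104, (0, 0), (1, 2)), (1104, (0, 0), (2, 1)), (1232, (-2, -1), (0, 0)),
  (1232, (-1, -2), (0, 0)), (1265, (0, 0), (0, 0)), (1288, (0, 0), (-1, -1)), (1320, (2, 3), (0, 0)), (1320, (3, 2), (0,
  0)), (1344, (1, 2), (-2, -2)), (1344, (2, 1), (-2, -2)), (1380, (0, 0), (0, 1)), (1380, (0, 0), (1, 0)), (1440, (-3,
  -2), (1, 1)), (1440, (-2, -3), (1, 1)), (1472, (0, 0), (2, 2)), (1518, (0, 0), (0, 0)), (1540, (1, 1), (0, 0)), (1584,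
  (3, 3), (0, 0)), (1610, (0, 0), (1, 2)), (1610, (0, 0), (2, 1)), (1656, (0, 0), (-1, 0)), (1656, (0, 0), (0, -1)),
  (1760, (-1, 0), (0, 0)), (1760, (0, -1), (0, 0)), (1771, (0, 0), (0, 0)), (1920, (0, 1), (-1, 0)), (1920, (0, 1), (0,
  -1)), (1920, (1, 0), (-1, 0)), (1920, (1, 0), (0, -1)), (1932, (0, 0), (-2, -1)), (1932, (0, 0), (-1, -2)), (1980,
  (-2, -2), (0, 0)), (2024, (0, 0), (0, 0)), (2070, (0, 0), (-2, -2)), (2240, (2, 3), (-2, -1)), (2240, (2, 3), (-1,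
  -2)), (2240, (3, 2), (-2, -1)), (2240, (3, 2), (-1, -2)), (2277, (0, 0), (0, 0)), (2310, (1, 2), (0, 0)), (2310, (2,
  1), (0, 0)), (2415, (0, 0), (-1, 0)), (2415, (0, 0), (0, -1)), (2464, (-3, -3), (0, 0)), (2520, (-2, -1), (-1, -1)),
  (2520, (-1, -2), (-1, -1)), (2530, (0, 0), (0, 0)), (2576, (0, 0), (-2, -2)), (2688, (3, 3), (1, 2)), (2688, (3, 3),
  (2, 1)), (2760, (0, 0), (1, 1)), (2772, (-1, 0), (0, 0)), (2772, (0, -1), (0, 0)), (2898, (0, 0), (0, 1)), (2898, (0,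
  0), (1, 0)), (2944, (0, 0), (-2, -1)), (2944, (0, 0), (-1, -2)), (3036, (0, 0), (0, 0)), (3080, (2, 2), (0, 0))]
theorem ty_eq : TY = TL := by decide +kernel

def n3 (p e : ℕ) : ℕ := if e + 1 = p then 0 else 2
def PA (e K : ℕ) : List Rc := TL.flatMap fun t =>
  (prs 2 5 (n3 5 e) (10200960 / K : ℕ) t.1 (K != 1) false).map fun h => rc t 0 h 0 0
def PN (e K : ℕ) : List Rc := TL.flatMap fun t => (prs 2 7 (n3 7 e) (10200960 / K : ℕ) t.1 (K != 1) false).flatMap fun h =>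
  (if K = 2 ∧ h = 0 then prs 2 7 2 5100480 t.1 false true else [0]).flatMap fun k =>
    (if t.1 ∈ D5 then (prs 2 5 0 3400320 t.1 false false).map fun c => rc t c.1 h 0 k else []) ++
      (prs 3 5 0 3400320 t.1 false true).map fun w => rc t 0 h w.1 k
def H1 : List (ℕ × ℤ) := [(0, 1), (5, -1), (6, -1), (4, -1), (7, -1)]
def SA : List Sg := [(2, [(0, 0)]), (1, H1), (9, [(0, 0)]), (8, [(0, 0), (5, 0), (6, 0)])]
def SN : List Sg := [(3, H1 ++ [(1, -1), (11, -1)]), (2, [(0, 0)]), (1, H1), (8, [(0, 0), (5, 0), (6, 0)]),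
  (4, [(0, 1), (5, -1), (6, -1), (10, 0)]), (9, [(0, 0)]), (5, [(0, 1), (10, 0)]), (10, [(0, 0)]), (0, [])]
noncomputable def cA (e K : ℕ) : Bool := top (fun L => K == 3 && L.all fun x => x.getD 1 0 = 0 ∨ (x.getD 0 0).toNat ∈ D5) SA (PA e K)
  [10200959, e, n3 5 e, 0, 5, 11, 11, 5, 2, 2, 0, e, 0, 0, 0]
noncomputable def cN (e K : ℕ) : Bool := top (fun L => K == 2 && L.length == 16 || K == 16 && L.length ≤ 18) SN (PN e K)
  [10200959, e, n3 7 e, 4, 5, 11, 11, 5, 2, 2, 10, e, if K = 2 then 4 else 0, if K = 2 then 4 else 0, if K = 2 then 2 else 0]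

end CfH6.QC
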