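import Cfsg.Agent.OD.Pre
import Cfsg.Agent.H6.TCTop
/-! coset enumeration certificate; generators x y a b p q r s t ; index 1 -/
set_option autoImplicit false
set_option maxRecDepth 100000
set_option Elab.async false
set_option linter.all false
namespace CfH6.N23T6
open CfH6
noncomputable def t0 : Tr := (Tr.n (Tr.l (nat_lit 0x288691c56508d8f20b731c5640887b24b7717fff17fff20e781c561088750919017fff0879117fff0878b17fff17fff17fff17fff0897e17fff1c4580876817fff17fff0867a209601c4550867417fff08a621c4540875e17fff17fff17fff17fff085671c34f086570895f0855d1864817fff17fff17fff0845617fff087520c44b17fff17fff17fff0c5470845317fff103450c3430834e084420844104140))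
 (Tr.l (nat_lit 0x17fff19c941c68217fff17fff17fff17fff17fff1c6800899c2d9840939e40d9c17fff09aa22087609b8328e7920a721918d28c7c1c67017fff210711c66f17fff17fff17fff17fff17fff17fff17fff17fff087a317fff087a017fff)))
noncomputable def t1 : Tr := (Tr.n (Tr.l (nat_lit 0x13fff2486a2cb7013fff2477a2056413fff13fff04c7904995247742056113fff04b920518d0478f0478c13fff13fff13fff13fff2c7650497f246672045813fff0467e0467b14d5c2495f0467504a63288552465d2045413fff13fff13fff13fff04568245562034f045620455e203471c64d13fff13fff04457202431c5491884a13fff1854b13fff13fff13fff145460444513fff044440c3420834104240))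
 (Tr.l (nat_lit 0x13fff206832599613fff2068113fff3129928a822489b2068013fff13fff44d8031ba04188214e7805da33087713fff206713107324c7d2ce72052912488b2066f13fff13fff13fff13fff13fff13fff05a9a29a94047a225c970479c)))
noncomputable def t2 : Tr := (Tr.n (Tr.l (nat_lit 0x305652ca67305640887d13fff3497308d7508f9330561088770879513fff18f8f13fff087922cc7b0878d13fff13fff13fff13fff304580876a13fff3496613fff2c8680867c18b5e08d5c08676304540876008a5508c6213fff13fff13fff13fff085692c64f18757085630855f13fff1464d2894c13fff086562444e13fff205481c54713fff13fff18a5113fff184421434513fff13fff0c3410834604140))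
 (Tr.l (nat_lit 0x13fff13fff13fff13fff3cc9a0a2a43068013fff13fff13fff399830919c13fff13fff13fff18e7929d813067413fff34872306702ce7a3066f0898e13fff34e7113fff13fff13fff13fff13fff13fff09ca313fff0929913fff0879d)))
noncomputable def t3 : Tr := (Tr.n (Tr.l (nat_lit 0x24a680ffff2477c1056404d7004f8f04f9528d7424776105611cc790479304a7a0499104f8b047900478e0ffff0ffff0ffff0ffff24669104580496504b7e0ffff0467f0467d104551cb5d046772465f1045404c632075c24c620ffff0ffff0ffff0456a048562054f1c95e045601864a1454904b480ffff0ffff0454e047520ffff0ffff0ffff0ffff0464c0ffff10241044450ffff08343045460444204240))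
 (Tr.l (nat_lit 0x2e19f19b840ffff0ffff0ffff0ffff0ffff10680210990ffff0ffff251820ffff0ffff0ffff106750ffff24e781067118f8c0ffff0ffff2488d1066f0ffff0ffff0ffff0ffff0ffff0ffff0ffff0ffff21a970ffff1cb9c0ffff0479e)))
noncomputable def t4 : Tr := (Tr.n (Tr.l (nat_lit 0x2ca9508c930ffff0ffff0ffff0ffff0879a08799087980ffff08796087940ffff0ffff0ffff0ffff3526f0ffff1845b0ffff0ffff0ffff0ffff086830868208681086803116408f622ce63307580ffff08d5e2cc5f28a60184520856d145500ffff08861248560ffff1834d183490ffff0855c183460865a182452064e084550ffff0ffff18242084541d05318241084510834f14344103430ffff0834704140))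
 (Tr.l (nat_lit 0xffff0ffff29ca30ffff0ffff0ffff0ffff0ffff0ffff0ffff186791867818677186761867508b7f1867420b7e2d4922d391213902128f0ffff0ffff0ffff0ffff0ffff1476e0ffff0ffff0ffff1856c1856a18568185671856618565)))
noncomputable def t5 : Tr := (Tr.n (Tr.l (nat_lit 0x17fff34d7f1907517fff17fff30d762c5632c5622548c17fff34f7d30f8d2c5602c55f2c55e2c55d2c55c17fff1868617fff0865918c6817fff34b6a309692c4572c4562c45518679186782c4541867317fff18671186701866f17fff17fff17fff2c34f185661856518564185611884a2074d28d4817fff1845817fff188522864417fff247532044518e51186431c5461854917fff105470c3420834104140))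
 (Tr.l (nat_lit 0x17fff1dda3358a217fff17fff17fff17fff17fff17fff17fff3d89a3579917fff17fff17fff1d29217fff24d901939517fff18e931d2911d37b19074195772517c17fff17fff17fff17fff2c56d17fff17fff17fff17fff17fff39680)))
noncomputable def t6 : Tr := (Tr.n (Tr.l (nat_lit 0x17fff17fff17fff17fff17fff17fff17fff17fff17fff17fff17fff17fff17fff17fff17fff17fff17fff17fff106871865b0845817fff17fff17fff17fff17fff17fff17fff17fff17fff17fff17fff17fff17fff17fff17fff1076c17fff0834f1056b17fff17fff17fff17fff2064e17fff1c74c17fff104591075317fff1085117fff17fff17fff17fff1c44317fff1834517fff105470c6460814004241))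
 (Tr.l (nat_lit 0x17fff17fff17fff17fff17fff17fff17fff17fff17fff17fff17fff17fff17fff17fff17fff17fff17fff17fff17fff17fff17fff17fff17fff17fff17fff17fff17fff17fff249850856d17fff17fff17fff17fff17fff17fff17fff)))
noncomputable def t7 : Tr := (Tr.n (Tr.l (nat_lit 0xbfff0bfff0bfff0bfff0bfff0bfff0bfff0bfff0bfff0bfff0bfff0bfff0bfff0bfff0bfff0bfff0bfff0bfff0bfff0bfff0bfff0bfff0bfff0bfff0bfff0bfff0bfff0bfff0bfff0bfff0bfff0bfff0bfff0bfff0bfff0bfff0bfff207591085a0bfff0bfff0bfff0bfff0bfff0bfff0bfff0bfff1c6500bfff0bfff0bfff1c4440bfff0bfff0bfff14c510bfff18541145451054c0bfff0c1400bfff04242))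
 (Tr.l (nat_lit 0xbfff0bfff0bfff0bfff0bfff0bfff0bfff0bfff0bfff0bfff0bfff0bfff0bfff0bfff0bfff0bfff0bfff0bfff0bfff0bfff0bfff0bfff0bfff0bfff0bfff0bfff0bfff0bfff0bfff0bfff0bfff0bfff0bfff0bfff0bfff0bfff0bfff)))
noncomputable def t8 : Tr := (Tr.n (Tr.l (nat_lit 0x13fff13fff13fff13fff13fff13fff13fff13fff13fff13fff13fff13fff13fff13fff13fff13fff13fff13fff0868813fff13fff13fff13fff13fff13fff13fff13fff13fff13fff13fff13fff13fff13fff13fff13fff13fff13fff13fff2054f1c65813fff13fff13fff13fff1cf4813fff13fff13fff0865913fff13fff1864a0c2420874c13fff13fff1444113fff13fff13fff0c1400834b0854704243))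
 (Tr.l (nat_lit 0x13fff13fff13fff13fff13fff13fff13fff13fff13fff13fff13fff13fff13fff13fff13fff13fff13fff13fff13fff13fff13fff13fff13fff13fff13fff13fff13fff13fff0c56d2078513fff0888713fff13fff13fff13fff13fff)))
noncomputable def t9 : Tr := (Tr.n (Tr.l (nat_lit 0xffff0ffff0ffff0ffff0ffff0ffff0ffff0ffff0ffff0ffff0ffff0ffff0ffff0ffff0ffff0ffff0ffff1045b086890ffff0ffff0ffff0ffff0ffff0ffff0ffff0ffff0ffff0ffff0ffff0ffff0ffff0ffff0ffff0ffff0ffff0856e1034f0ffff1c96b0ffff0ffff0ffff0ffff0ffff0ffff08b46102450845a0ffff0ffff102421844a0854b0ffff102410ffff14a5108350101400ffff0834c0834804244))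
 (Tr.l (nat_lit 0xffff0ffff0ffff0ffff0ffff0ffff0ffff0ffff0ffff0ffff0ffff0ffff0ffff0ffff0ffff0ffff0ffff0ffff0ffff0ffff0ffff0ffff0ffff0ffff0ffff0ffff0ffff1056d0ffff0ffff0ffff0ffff0ffff0ffff0ffff0ffff0ffff)))
noncomputable def t10 : Tr := (Tr.n (Tr.l (nat_lit 0xffff0ffff0ffff0ffff0ffff0ffff0ffff0ffff0ffff0ffff0ffff0ffff0ffff0ffff0ffff0ffff0ffff0ffff0868a104580ffff0ffff0ffff0ffff0ffff0ffff0ffff0ffff0ffff0ffff0ffff0ffff0ffff0ffff0ffff0ffff1034f0ffff0ffff0856c0ffff0ffff0ffff0ffff0ffff103460ffff0ffff0845b0ffff102420ffff0ffff0ffff102410ffff0ffff08452101400ffff0ffff0834d0834904245))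
 (Tr.l (nat_lit 0x1068315ea209fa3106810ffff106800ffff0ffff0ffff0ffff0ffff0ffff0ffff0ffff0ffff0ffff0ffff0ffff0ffff0ffff0ffff0ffff0ffff0ffff0ffff0ffff1056d0ffff0ffff0ffff0ffff0ffff0ffff087a40ffff087a10ffff)))
noncomputable def t11 : Tr := (Tr.n (Tr.l (nat_lit 0x7fff07fff07fff07fff07fff07fff07fffa626607fff07fff07fffa216707fff07fff07fff07fff07fff9e86b9a6589686b9294f07fff07fff07fff07fff07fff07fff07fff07fff8e3578a25807fff07fff07fff07fff8644f8275807fff7ea587ac4f07fff07fff7644f7234f07fff6e5456a74007fff66d4507fff6254507fff07fff07fff5e44507fff5a6405664052e404e8404a740466404254000000))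
 (Tr.l (nat_lit 0x6a38119fa207fff6648307fff1628207fff1179607fff0cc9807fff6218107fff07fff5e08307fff5a0825627e07fff07fff07fff07fff07fff07fff07fff07fff5276c4e76b4a7584676b0a54f42b5807fff07fff07fff07fff07fff)))
noncomputable def t12 : Tr := (Tr.n (Tr.l (nat_lit 0x2023015523015555594a6230155530523014a96501441a4941a984a943a98760))
 (Tr.l (nat_lit 0xa10a1a23014444434231202301a9865444444)))
noncomputable def t13 : Tr := (Tr.n (Tr.l (nat_lit 0))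
 (Tr.l (nat_lit 0x26c0)))
noncomputable def t14 : Tr := (Tr.n (Tr.l (nat_lit 0))
 (Tr.l (nat_lit 0x9b02740)))
noncomputable def t15 : Tr := (Tr.n (Tr.l (nat_lit 0x99125045b261855b196ea7815d016209b44879a20662018455c1118489115445411044522a28a46a50684d2924a))
 (Tr.l (nat_lit 0x27c2a4aa522a3868c0740db4a6d25b486d1a1c8)))
noncomputable def tab0 : Tr := t0
noncomputable def tab1 : Tr := t1
noncomputable def tab2 : Tr := t2
noncomputable def tab3 : Tr := t3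
noncomputable def tab4 : Tr := t4
noncomputable def tab5 : Tr := t5
noncomputable def tab6 : Tr := t6
noncomputable def tab7 : Tr := t7
noncomputable def tab8 : Tr := t8
noncomputable def tab9 : Tr := t9
noncomputable def tab10 : Tr := t10
noncomputable def tab11 : Tr := t11
noncomputable def tab12 : Tr := t12
noncomputable def tab13 : Tr := t13
noncomputable def tab14 : Tr := t14
noncomputable def tab15 : Tr := (Tr.l (nat_lit 0))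
noncomputable def tab16 : Tr := (Tr.l (nat_lit 0))
noncomputable def tab17 : Tr := (Tr.l (nat_lit 0))
noncomputable def tab18 : Tr := (Tr.l (nat_lit 0))
noncomputable def tab19 : Tr := (Tr.l (nat_lit 0))
noncomputable def tab20 : Tr := (Tr.l (nat_lit 0))
noncomputable def tab21 : Tr := (Tr.l (nat_lit 0))
noncomputable def tab22 : Tr := (Tr.l (nat_lit 0))
noncomputable def tab23 : Tr := (Tr.l (nat_lit 0))
noncomputable def tab24 : Tr := t15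
noncomputable def ty0 : TT := (TT.n (TT.n (TT.n (TT.n (TT.l (Ty.ssub [] []))
 (TT.l (Ty.rel5 (nat_lit 2) (nat_lit 5) (nat_lit 3) (nat_lit 1) (nat_lit 5))))
 (TT.l (Ty.skip)))
 (TT.n (TT.n (TT.l (Ty.rel3 (nat_lit 8) (nat_lit 1) (nat_lit 9)))
 (TT.l (Ty.relL (nat_lit 4) [nat_lit 5, nat_lit 0, nat_lit 4, nat_lit 5, nat_lit 0, nat_lit 4, nat_lit 5, nat_lit 0, nat_lit 4, nat_lit 5, nat_lit 0, nat_lit 4, nat_lit 5])))
 (TT.l (Ty.dfn))))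
 (TT.n (TT.n (TT.n (TT.l (Ty.rel1 (nat_lit 1)))
 (TT.l (Ty.rel3 (nat_lit 2) (nat_lit 1) (nat_lit 3))))
 (TT.l (Ty.relL (nat_lit 0) [nat_lit 0])))
 (TT.n (TT.l (Ty.relL (nat_lit 10) [nat_lit 0, nat_lit 2, nat_lit 10]))
 (TT.l (Ty.rel3 (nat_lit 3) (nat_lit 1) (nat_lit 2))))))
noncomputable def ty1 : TT := (TT.n (TT.n (TT.n (TT.n (TT.l (Ty.rel1 (nat_lit 0)))
 (TT.l (Ty.relL (nat_lit 1) [nat_lit 1])))
 (TT.l (Ty.rel3 (nat_lit 3) (nat_lit 0) (nat_lit 2))))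
 (TT.n (TT.n (TT.l (Ty.rel3 (nat_lit 7) (nat_lit 0) (nat_lit 7)))
 (TT.l (Ty.rel5 (nat_lit 5) (nat_lit 0) (nat_lit 2) (nat_lit 5) (nat_lit 3))))
 (TT.l (Ty.relL (nat_lit 10) [nat_lit 3, nat_lit 1, nat_lit 10]))))
 (TT.n (TT.n (TT.n (TT.l (Ty.rel3 (nat_lit 6) (nat_lit 0) (nat_lit 6)))
 (TT.l (Ty.rel5 (nat_lit 4) (nat_lit 0) (nat_lit 3) (nat_lit 4) (nat_lit 2))))
 (TT.l (Ty.relL (nat_lit 8) [nat_lit 9, nat_lit 0, nat_lit 9])))
 (TT.n (TT.n (TT.l (Ty.skip))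
 (TT.l (Ty.rel3 (nat_lit 2) (nat_lit 0) (nat_lit 3))))
 (TT.l (Ty.dfn)))))
noncomputable def ty2 : TT := (TT.n (TT.n (TT.n (TT.n (TT.l (Ty.ssub [] []))
 (TT.l (Ty.rel3 (nat_lit 1) (nat_lit 3) (nat_lit 0))))
 (TT.n (TT.l (Ty.rel3 (nat_lit 10) (nat_lit 3) (nat_lit 10)))
 (TT.l (Ty.rel5 (nat_lit 5) (nat_lit 3) (nat_lit 1) (nat_lit 5) (nat_lit 0)))))
 (TT.n (TT.n (TT.l (Ty.rel3 (nat_lit 6) (nat_lit 3) (nat_lit 7)))
 (TT.l (Ty.rel3 (nat_lit 0) (nat_lit 3) (nat_lit 1))))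
 (TT.n (TT.l (Ty.rel3 (nat_lit 8) (nat_lit 3) (nat_lit 8)))
 (TT.l (Ty.relL (nat_lit 4) [nat_lit 0, nat_lit 2, nat_lit 4, nat_lit 0, nat_lit 2, nat_lit 4, nat_lit 0])))))
 (TT.n (TT.n (TT.n (TT.l (Ty.rel1 (nat_lit 3)))
 (TT.l (Ty.rel5 (nat_lit 1) (nat_lit 4) (nat_lit 0) (nat_lit 3) (nat_lit 4))))
 (TT.n (TT.l (Ty.relL (nat_lit 2) [nat_lit 2]))
 (TT.l (Ty.relL (nat_lit 4) [nat_lit 5, nat_lit 2, nat_lit 4, nat_lit 5, nat_lit 2, nat_lit 4, nat_lit 5, nat_lit 2, nat_lit 4, nat_lit 5, nat_lit 2, nat_lit 4, nat_lit 5]))))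
 (TT.n (TT.n (TT.l (Ty.skip))
 (TT.l (Ty.dfn)))
 (TT.l (Ty.rel3 (nat_lit 9) (nat_lit 3) (nat_lit 9))))))
noncomputable def ty3 : TT := (TT.n (TT.n (TT.n (TT.n (TT.l (Ty.rel1 (nat_lit 2)))
 (TT.l (Ty.relL (nat_lit 3) [nat_lit 3])))
 (TT.l (Ty.rel3 (nat_lit 10) (nat_lit 2) (nat_lit 10))))
 (TT.n (TT.n (TT.l (Ty.skip))
 (TT.l (Ty.srel [nat_lit 10, nat_lit 2, nat_lit 10])))
 (TT.l (Ty.rel3 (nat_lit 0) (nat_lit 2) (nat_lit 1)))))
 (TT.n (TT.n (TT.n (TT.l (Ty.rel3 (nat_lit 8) (nat_lit 2) (nat_lit 8)))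
 (TT.l (Ty.rel5 (nat_lit 1) (nat_lit 5) (nat_lit 0) (nat_lit 2) (nat_lit 5))))
 (TT.l (Ty.rel3 (nat_lit 1) (nat_lit 2) (nat_lit 0))))
 (TT.n (TT.l (Ty.dfn))
 (TT.l (Ty.rel5 (nat_lit 4) (nat_lit 2) (nat_lit 1) (nat_lit 4) (nat_lit 0))))))
noncomputable def ty4 : TT := (TT.n (TT.n (TT.n (TT.n (TT.l (Ty.ssub [] []))
 (TT.l (Ty.relL (nat_lit 0) [nat_lit 2, nat_lit 4, nat_lit 0, nat_lit 2, nat_lit 4, nat_lit 0, nat_lit 2])))
 (TT.n (TT.l (Ty.rel3 (nat_lit 9) (nat_lit 4) (nat_lit 9)))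
 (TT.l (Ty.relL (nat_lit 5) [nat_lit 4, nat_lit 5, nat_lit 4, nat_lit 5, nat_lit 4, nat_lit 5, nat_lit 4, nat_lit 5, nat_lit 4, nat_lit 5]))))
 (TT.n (TT.n (TT.l (Ty.skip))
 (TT.l (Ty.rel5 (nat_lit 0) (nat_lit 3) (nat_lit 4) (nat_lit 2) (nat_lit 1))))
 (TT.l (Ty.relL (nat_lit 6) [nat_lit 4, nat_lit 6, nat_lit 8]))))
 (TT.n (TT.n (TT.n (TT.l (Ty.rel1 (nat_lit 4)))
 (TT.l (Ty.relL (nat_lit 3) [nat_lit 1, nat_lit 4, nat_lit 3, nat_lit 1, nat_lit 4, nat_lit 3, nat_lit 1])))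
 (TT.l (Ty.dfn)))
 (TT.n (TT.n (TT.l (Ty.rel3 (nat_lit 8) (nat_lit 4) (nat_lit 8)))
 (TT.l (Ty.relL (nat_lit 5) [nat_lit 4, nat_lit 5, nat_lit 10, nat_lit 5, nat_lit 4, nat_lit 5, nat_lit 4, nat_lit 5, nat_lit 4, nat_lit 10, nat_lit 4, nat_lit 5])))
 (TT.l (Ty.rel5 (nat_lit 2) (nat_lit 1) (nat_lit 4) (nat_lit 0) (nat_lit 3))))))
noncomputable def ty5 : TT := (TT.n (TT.n (TT.n (TT.n (TT.l (Ty.ssub [] []))
 (TT.l (Ty.relL (nat_lit 0) [nat_lit 3, nat_lit 5, nat_lit 0, nat_lit 3, nat_lit 5, nat_lit 0, nat_lit 3])))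
 (TT.n (TT.l (Ty.skip))
 (TT.l (Ty.rel5 (nat_lit 0) (nat_lit 2) (nat_lit 5) (nat_lit 3) (nat_lit 1)))))
 (TT.n (TT.n (TT.l (Ty.rel3 (nat_lit 7) (nat_lit 5) (nat_lit 7)))
 (TT.l (Ty.dfn)))
 (TT.n (TT.l (Ty.rel5 (nat_lit 3) (nat_lit 1) (nat_lit 5) (nat_lit 0) (nat_lit 2)))
 (TT.l (Ty.relL (nat_lit 4) [nat_lit 5, nat_lit 4, nat_lit 5, nat_lit 4, nat_lit 5, nat_lit 4, nat_lit 5, nat_lit 4, nat_lit 5, nat_lit 4])))))
 (TT.n (TT.n (TT.n (TT.l (Ty.rel3 (nat_lit 6) (nat_lit 5) (nat_lit 6)))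
 (TT.l (Ty.relL (nat_lit 7) [nat_lit 9, nat_lit 5, nat_lit 9])))
 (TT.n (TT.l (Ty.rel1 (nat_lit 5)))
 (TT.l (Ty.relL (nat_lit 4) [nat_lit 1, nat_lit 5, nat_lit 4, nat_lit 1, nat_lit 5, nat_lit 4, nat_lit 1, nat_lit 5, nat_lit 4, nat_lit 1, nat_lit 5, nat_lit 4, nat_lit 1]))))
 (TT.n (TT.n (TT.l (Ty.relL (nat_lit 8) [nat_lit 5, nat_lit 6, nat_lit 8]))
 (TT.l (Ty.relL (nat_lit 2) [nat_lit 1, nat_lit 5, nat_lit 2, nat_lit 1, nat_lit 5, nat_lit 2, nat_lit 1])))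
 (TT.l (Ty.rel3 (nat_lit 10) (nat_lit 6) (nat_lit 10))))))
noncomputable def ty6 : TT := (TT.n (TT.n (TT.n (TT.n (TT.l (Ty.srel [nat_lit 6]))
 (TT.l (Ty.rel3 (nat_lit 8) (nat_lit 6) (nat_lit 8))))
 (TT.l (Ty.skip)))
 (TT.n (TT.l (Ty.rel3 (nat_lit 7) (nat_lit 6) (nat_lit 7)))
 (TT.l (Ty.relL (nat_lit 8) [nat_lit 4, nat_lit 6, nat_lit 4]))))
 (TT.n (TT.n (TT.l (Ty.dfn))
 (TT.l (Ty.rel3 (nat_lit 10) (nat_lit 5) (nat_lit 10))))
 (TT.n (TT.l (Ty.rel1 (nat_lit 6)))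
 (TT.l (Ty.rel3 (nat_lit 1) (nat_lit 6) (nat_lit 0))))))
noncomputable def ty7 : TT := (TT.n (TT.n (TT.n (TT.l (Ty.srel [nat_lit 7]))
 (TT.l (Ty.rel3 (nat_lit 2) (nat_lit 6) (nat_lit 3))))
 (TT.n (TT.l (Ty.dfn))
 (TT.l (Ty.rel3 (nat_lit 9) (nat_lit 7) (nat_lit 9)))))
 (TT.n (TT.n (TT.l (Ty.skip))
 (TT.l (Ty.relL (nat_lit 3) [nat_lit 7, nat_lit 6, nat_lit 2])))
 (TT.n (TT.l (Ty.rel1 (nat_lit 7)))
 (TT.l (Ty.rel5 (nat_lit 8) (nat_lit 9) (nat_lit 4) (nat_lit 7) (nat_lit 4))))))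
noncomputable def ty8 : TT := (TT.n (TT.n (TT.n (TT.l (Ty.srel [nat_lit 8]))
 (TT.l (Ty.relL (nat_lit 6) [nat_lit 4, nat_lit 6, nat_lit 4])))
 (TT.n (TT.l (Ty.dfn))
 (TT.l (Ty.relL (nat_lit 5) [nat_lit 6, nat_lit 8, nat_lit 5]))))
 (TT.n (TT.n (TT.l (Ty.rel1 (nat_lit 8)))
 (TT.l (Ty.rel3 (nat_lit 9) (nat_lit 8) (nat_lit 9))))
 (TT.n (TT.l (Ty.skip))
 (TT.l (Ty.relL (nat_lit 4) [nat_lit 6, nat_lit 4, nat_lit 6])))))
noncomputable def ty9 : TT := (TT.n (TT.n (TT.n (TT.l (Ty.srel [nat_lit 9]))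
 (TT.l (Ty.rel3 (nat_lit 2) (nat_lit 9) (nat_lit 3))))
 (TT.n (TT.l (Ty.skip))
 (TT.l (Ty.relL (nat_lit 5) [nat_lit 7, nat_lit 9, nat_lit 5]))))
 (TT.n (TT.n (TT.l (Ty.rel1 (nat_lit 9)))
 (TT.l (Ty.rel5 (nat_lit 4) (nat_lit 7) (nat_lit 4) (nat_lit 7) (nat_lit 8))))
 (TT.l (Ty.dfn))))
noncomputable def ty10 : TT := (TT.n (TT.n (TT.n (TT.l (Ty.srel [nat_lit 10]))
 (TT.l (Ty.relL (nat_lit 4) [nat_lit 5, nat_lit 0, nat_lit 4, nat_lit 1, nat_lit 5, nat_lit 4, nat_lit 10, nat_lit 4, nat_lit 5, nat_lit 0, nat_lit 4, nat_lit 1, nat_lit 5, nat_lit 4, nat_lit 10, nat_lit 4, nat_lit 5, nat_lit 1, nat_lit 4, nat_lit 0, nat_lit 5, nat_lit 4])))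
 (TT.l (Ty.skip)))
 (TT.n (TT.l (Ty.rel1 (nat_lit 10)))
 (TT.l (Ty.dfn))))
noncomputable def ty11 : TT := (TT.n (TT.n (TT.n (TT.l (Ty.skip))
 (TT.l (Ty.rel5 (nat_lit 1) (nat_lit 10) (nat_lit 1) (nat_lit 10) (nat_lit 3))))
 (TT.l (Ty.relL (nat_lit 4) [nat_lit 3, nat_lit 1, nat_lit 4, nat_lit 3, nat_lit 1, nat_lit 4, nat_lit 3, nat_lit 1])))
 (TT.n (TT.n (TT.l (Ty.srel [nat_lit 1, nat_lit 4, nat_lit 0, nat_lit 5, nat_lit 4, nat_lit 10, nat_lit 4, nat_lit 5, nat_lit 0, nat_lit 4, nat_lit 1, nat_lit 5, nat_lit 4, nat_lit 10, nat_lit 4, nat_lit 5, nat_lit 0, nat_lit 4, nat_lit 1, nat_lit 5, nat_lit 4, nat_lit 10, nat_lit 4, nat_lit 5]))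
 (TT.l (Ty.relL (nat_lit 4) [nat_lit 10, nat_lit 4, nat_lit 5, nat_lit 0, nat_lit 4, nat_lit 1, nat_lit 5, nat_lit 4, nat_lit 10, nat_lit 4, nat_lit 5, nat_lit 1, nat_lit 4, nat_lit 0, nat_lit 5, nat_lit 4, nat_lit 10, nat_lit 4, nat_lit 5, nat_lit 0, nat_lit 4, nat_lit 1, nat_lit 5])))
 (TT.l (Ty.relL (nat_lit 4) [nat_lit 5, nat_lit 2, nat_lit 4, nat_lit 5, nat_lit 2, nat_lit 4, nat_lit 5, nat_lit 2, nat_lit 4, nat_lit 5, nat_lit 2, nat_lit 4, nat_lit 5, nat_lit 2]))))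
noncomputable def C : Cert where
  tabs := [tab0, tab1, tab2, tab3, tab4, tab5, tab6, tab7, tab8, tab9, tab10, tab11, tab12, tab13, tab14, tab15, tab16, tab17, tab18, tab19, tab20, tab21, tab22, tab23, tab24]
  tts := [ty0, ty1, ty2, ty3, ty4, ty5, ty6, ty7, ty8, ty9, ty10, ty11]
  k := nat_lit 6
  base := nat_lit 15
  mJ := nat_lit 192
  mR := nat_lit 63
  W := nat_lit 20
  mA := nat_lit 16383
  mI := nat_lit 255
  S := nat_lit 14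
  mC := nat_lit 63
  nc := nat_lit 11
  lo := nat_lit 64
  live := nat_lit 65
  hi1 := nat_lit 164
  AW := nat_lit 14
  mAW := nat_lit 16383
def il : List ℕ := [1, 0, 3, 2, 4, 5, 6, 7, 8, 9, 10]
def rels : List (List ℕ) := [[0, 0, 0],
  [2, 2, 2],
  [0, 2, 1, 3],
  [4, 0, 3, 4, 2, 1],
  [5, 0, 2, 5, 3, 1],
  [4, 0, 2, 4, 0, 2, 4, 0, 2],
  [5, 0, 3, 5, 0, 3, 5, 0, 3],
  [4, 5, 4, 5, 4, 5, 4, 5, 4, 5, 4, 5],
  [0, 4, 5, 0, 4, 5, 0, 4, 5, 0, 4, 5, 0, 4, 5],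
  [2, 4, 5, 2, 4, 5, 2, 4, 5, 2, 4, 5, 2, 4, 5],
  [6, 7, 6, 7],
  [6, 8, 6, 8],
  [6, 9, 6, 9],
  [7, 8, 7, 8],
  [7, 9, 7, 9],
  [8, 9, 8, 9],
  [0, 6, 1, 6],
  [0, 7, 1, 7],
  [0, 8, 1, 9],
  [0, 9, 1, 8, 9],
  [2, 6, 3, 7],
  [2, 7, 3, 6, 7],
  [2, 8, 3, 8],
  [2, 9, 3, 9],
  [4, 6, 4, 6, 8],
  [4, 7, 4, 7, 8, 9],
  [4, 8, 4, 8],
  [4, 9, 4, 9],
  [5, 6, 5, 6],
  [5, 7, 5, 7],
  [5, 8, 5, 6, 8],
  [5, 9, 5, 7, 9],
  [10, 2, 10, 3],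
  [10, 0, 10, 0, 2],
  [10, 6, 10, 5],
  [10, 8, 10, 8, 10, 8],
  [10, 4, 5, 4, 5, 4, 5, 10, 5, 4, 5, 4, 5, 4],
  [10, 4, 5, 0, 4, 1, 5, 4, 10, 4, 5, 0, 4, 1, 5, 4, 10, 4, 5, 1, 4, 0, 5, 4]]
def subs : List (List ℕ) := [[0],
  [2],
  [4],
  [5]]
theorem valid : C.valid il rels subs = true := by decide +kernel
theorem p0 : C.OkL 64 65 := C.okL_of 64 0 1 65 (by decide) (by decide +kernel)
theorem p1 : C.OkR 65 165 := C.okR_of 65 0 100 165 (by decide) (by decide +kernel)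
theorem covers {G : Type*} [Group G] (ev : ℕ → G) (H : Subgroup G)
    (hinv : ∀ x < 11, ev (il.getD x 0) = (ev x)⁻¹) (hr : ∀ r ∈ rels, evw ev r = 1)
    (hs : ∀ s ∈ subs, evw ev s ∈ H) : Covers H (gensub ev 11) 1 :=
  C.sound il rels subs 11 1 valid (p0) (p1) (by decide) (by decide) ev H hinv hr hs
end CfH6.N23T6
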