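import Cfsg.Agent.OD.Pre
import Cfsg.Agent.H6.TCTop
/-! coset enumeration certificate; generators b c d e f g h i ; index 1 -/
set_option autoImplicit false
set_option maxRecDepth 100000
set_option Elab.async false
set_option linter.all false
namespace CfH6.O7K
open CfH6
noncomputable def t0 : Tr := (Tr.n (Tr.l (nat_lit 0x13fff13fff13fff1c553185522466914667286662466513fff1c65d13fff2465a2065913fff1865713fff13fff13fff0c79913fff083490c77a13fff0c7790c7780c77713fff13fff13fff13fff13fff13fff13fff0c77513fff13fff0c7730c77213fff13fff0c48313fff13fff13fff0c67b13fff082422844824447204461c44518444144430c46a0c54f0c54e0c54d13fff0c54b0c54a0c3500814004241))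
 (Tr.l (nat_lit 0x13fff13fff1c66c13fff13fff13fff13fff13fff13fff13fff13fff13fff13fff13fff13fff13fff13fff13fff13fff13fff13fff13fff13fff13fff0835613fff13fff13fff)))
noncomputable def t1 : Tr := (Tr.n (Tr.l (nat_lit 0x2865f13fff0c3510889913fff13fff13fff13fff2d06513fff13fff13fff13fff13fff13fff13fff0c34a13fff1c54d1854c13fff245500878213fff13fff13fff13fff13fff0878013fff13fff13fff0877f13fff13fff13fff13fff13fff0868413fff13fff0c243204481c44618445144440847d0866a13fff13fff13fff13fff13fff0846f0c2410855513fff085540855308552083560c1400834904242))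
 (Tr.l (nat_lit 0x13fff13fff1877c13fff13fff13fff13fff13fff13fff13fff13fff13fff13fff13fff13fff13fff13fff13fff13fff13fff13fff13fff13fff1c55913fff286692866528663)))
noncomputable def t2 : Tr := (Tr.n (Tr.l (nat_lit 0x13fff145531c55613fff13fff13fff0c34e13fff13fff13fff13fff0c34b13fff1854d1454c13fff13fff13fff13fff0879a0c34913fff08498086970c2470878813fff13fff0849413fff13fff13fff13fff13fff0868c0c24413fff084891844614445084850867d13fff13fff0867e13fff0c24213fff13fff084790867208671084740c2410846b13fff0836708559085580835c0c140083510834a04243))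
 (Tr.l (nat_lit 0x2066e1466c13fff0c3692056813fff13fff0c36313fff13fff2d66313fff13fff13fff205601455d13fff13fff0c35a2066613fff13fff0c35713fff13fff13fff13fff13fff)))
noncomputable def t3 : Tr := (Tr.n (Tr.l (nat_lit 0x13fff13fff13fff13fff0c35013fff13fff13fff13fff13fff13fff13fff13fff13fff13fff0c34a13fff13fff13fff13fff13fff13fff0879213fff13fff13fff0879013fff13fff13fff0c2451844813fff144460848e0868513fff13fff13fff084860c24313fff13fff13fff13fff0c24213fff0847b13fff13fff13fff13fff0c2410847013fff0856013fff0855e083610c14008357083520834b04244))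
 (Tr.l (nat_lit 0x13fff13fff13fff13fff13fff13fff13fff13fff13fff2066913fff2066513fff0c35d13fff13fff13fff13fff13fff13fff13fff0c3581c55c13fff13fff13fff13fff13fff)))
noncomputable def t4 : Tr := (Tr.n (Tr.l (nat_lit 0x13fff0c35113fff0c35013fff13fff13fff13fff13fff13fff0c34b13fff13fff13fff0c34a13fff13fff13fff13fff0c3490859a0859913fff13fff0879413fff13fff184481444713fff0868e13fff13fff0848f0c2440848c13fff13fff13fff0c24313fff13fff13fff13fff0c24213fff0847e0847c13fff13fff13fff0c24108475084710846c085640856313fff0c1400835d08358083530834c04245))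
 (Tr.l (nat_lit 0x13fff0c46b0c46a13fff13fff13fff146692466713fff31e6913fff2089b0c35e1c56113fff0c35c2d25e13fff13fff13fff13fff13fff13fff13fff13fff13fff13fff13fff)))
noncomputable def t5 : Tr := (Tr.n (Tr.l (nat_lit 0x13fff13fff13fff13fff13fff13fff13fff13fff13fff13fff13fff13fff13fff0c34a13fff13fff13fff13fff0c34913fff13fff13fff0879613fff13fff184481444713fff086930c24513fff0869113fff0c24413fff13fff13fff086870c24313fff13fff0848413fff0c24213fff13fff13fff13fff13fff13fff0c24113fff13fff084720846d0856613fff0c140083620835e08359083540834d04246))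
 (Tr.l (nat_lit 0x13fff13fff13fff13fff13fff1466913fff13fff1456313fff185601455f13fff13fff2d86313fff13fff13fff13fff13fff1455a13fff13fff0c35613fff13fff13fff13fff)))
noncomputable def t6 : Tr := (Tr.n (Tr.l (nat_lit 0x103520ffff0ffff0ffff0ffff1034f0ffff0ffff1034d1034c0ffff0ffff1034a0ffff0ffff0ffff0ffff0ffff0ffff0ffff0ffff0ffff102480ffff0ffff08496102460849510245084930ffff0849210244084900ffff0ffff0848b10243084870ffff0ffff0ffff0848208481084800847f0ffff0ffff0847a1024108477084760ffff084730ffff0ffff1014008365083630ffff0835a0ffff0834e04247))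
 (Tr.l (nat_lit 0x1898f0ffff0ffff0ffff0ffff10366103640ffff10362103600ffff1035e0ffff0ffff0ffff0ffff1035b0ffff145670ffff103590ffff0ffff0ffff0ffff103551035410353)))
noncomputable def t7 : Tr := (Tr.n (Tr.l (nat_lit 0x13fff13fff13fff13fff13fff13fff13fff0c34d13fff13fff13fff13fff13fff13fff13fff13fff13fff0c34913fff13fff0859b13fff13fff0c247084970c24613fff0c24513fff13fff13fff0c24413fff0849113fff0848d0c2430848a0848813fff13fff13fff0c24213fff13fff13fff13fff13fff0c24113fff0847813fff13fff13fff13fff0c140083680836608364083600835b083550834f04248))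
 (Tr.l (nat_lit 0xc46b1499013fff13fff0c36713fff13fff13fff13fff13fff0c35e13fff13fff13fff0c35c13fff2d4670c35a13fff0c35913fff13fff13fff13fff13fff13fff13fff13fff)))
noncomputable def t8 : Tr := (Tr.n (Tr.l (nat_lit 0x7fffd4d71d0f6f0ca6c07fffce172ca846c6373c274807fffbdb41b9d71b6747b2746ae744aa744a644307fff07fffa0d459cf4307fff9a05907fff965659225a07fff8dc6007fff07fff07fff07fff07fff07fff89a4085c5807fff8264e7e64d7a64b7664b7234a6ce4f68e4d64c4c07fff60e4a07fff07fff5e74d5aa4055c4b52a404e64048e4046841428463e94139b4436941325412cd410ab4000000))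
 (Tr.l (nat_lit 0x6d05b68e5864b5325f462138b621435dd921d5911978d07fff07fff07fff5918b1594407fff55b4307fff11489523884e4464a14845d85428443e2723a44334f7a30f772cd76)))
noncomputable def t9 : Tr := (Tr.n (Tr.l (nat_lit 0x6414362766426543175420672767653765427654317543207654321765432100))
 (Tr.l (nat_lit 0x7442766266764374672763250666)))
noncomputable def t10 : Tr := (Tr.n (Tr.l (nat_lit 0x2040))
 (Tr.l (nat_lit 0)))
noncomputable def t11 : Tr := (Tr.n (Tr.l (nat_lit 0))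
 (Tr.l (nat_lit 0x2500)))
noncomputable def t12 : Tr := (Tr.n (Tr.l (nat_lit 0))
 (Tr.l (nat_lit 0x95023c0)))
noncomputable def t13 : Tr := (Tr.n (Tr.l (nat_lit 0))
 (Tr.l (nat_lit 0x24c0)))
noncomputable def t14 : Tr := (Tr.n (Tr.l (nat_lit 0))
 (Tr.l (nat_lit 0x25c0)))
noncomputable def t15 : Tr := (Tr.n (Tr.l (nat_lit 0x14c25105a404e0998059997404c892864a152844a0d5a19902684980a24696191478e0e30443190c543110c384150874215f017e122427201d6470020c06c11685599d9c05d9160356094c4))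
 (Tr.l (nat_lit 0x1ac76c09f2069159069b1974266899a769997235709a61560154654194c6)))
noncomputable def tab0 : Tr := t0
noncomputable def tab1 : Tr := t1
noncomputable def tab2 : Tr := t2
noncomputable def tab3 : Tr := t3
noncomputable def tab4 : Tr := t4
noncomputable def tab5 : Tr := t5
noncomputable def tab6 : Tr := t6
noncomputable def tab7 : Tr := t7
noncomputable def tab8 : Tr := t8
noncomputable def tab9 : Tr := t9
noncomputable def tab10 : Tr := (Tr.l (nat_lit 0))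
noncomputable def tab11 : Tr := t10
noncomputable def tab12 : Tr := t11
noncomputable def tab13 : Tr := (Tr.l (nat_lit 0))
noncomputable def tab14 : Tr := t12
noncomputable def tab15 : Tr := t13
noncomputable def tab16 : Tr := (Tr.l (nat_lit 0))
noncomputable def tab17 : Tr := t14
noncomputable def tab18 : Tr := t15
noncomputable def ty0 : TT := (TT.n (TT.n (TT.n (TT.n (TT.l (Ty.srel [nat_lit 0]))
 (TT.l (Ty.rel3 (nat_lit 6) (nat_lit 0) (nat_lit 6))))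
 (TT.l (Ty.rel3 (nat_lit 2) (nat_lit 0) (nat_lit 2))))
 (TT.n (TT.l (Ty.rel1 (nat_lit 0)))
 (TT.l (Ty.rel3 (nat_lit 4) (nat_lit 0) (nat_lit 4)))))
 (TT.n (TT.n (TT.n (TT.l (Ty.dfn))
 (TT.l (Ty.rel3 (nat_lit 7) (nat_lit 0) (nat_lit 7))))
 (TT.l (Ty.rel3 (nat_lit 3) (nat_lit 0) (nat_lit 3))))
 (TT.n (TT.l (Ty.skip))
 (TT.l (Ty.rel3 (nat_lit 5) (nat_lit 0) (nat_lit 5))))))
noncomputable def ty1 : TT := (TT.n (TT.n (TT.n (TT.n (TT.l (Ty.srel [nat_lit 1]))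
 (TT.l (Ty.rel5 (nat_lit 0) (nat_lit 1) (nat_lit 0) (nat_lit 1) (nat_lit 0))))
 (TT.l (Ty.rel3 (nat_lit 3) (nat_lit 1) (nat_lit 3))))
 (TT.n (TT.l (Ty.dfn))
 (TT.l (Ty.rel3 (nat_lit 5) (nat_lit 1) (nat_lit 5)))))
 (TT.n (TT.n (TT.n (TT.l (Ty.rel1 (nat_lit 1)))
 (TT.l (Ty.rel3 (nat_lit 6) (nat_lit 1) (nat_lit 6))))
 (TT.l (Ty.rel3 (nat_lit 4) (nat_lit 1) (nat_lit 4))))
 (TT.n (TT.l (Ty.skip))
 (TT.l (Ty.rel3 (nat_lit 7) (nat_lit 1) (nat_lit 7))))))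
noncomputable def ty2 : TT := (TT.n (TT.n (TT.n (TT.l (Ty.srel [nat_lit 2]))
 (TT.l (Ty.rel3 (nat_lit 4) (nat_lit 2) (nat_lit 4))))
 (TT.n (TT.l (Ty.dfn))
 (TT.l (Ty.rel5 (nat_lit 1) (nat_lit 2) (nat_lit 1) (nat_lit 2) (nat_lit 1)))))
 (TT.n (TT.n (TT.l (Ty.rel1 (nat_lit 2)))
 (TT.l (Ty.rel3 (nat_lit 5) (nat_lit 2) (nat_lit 5))))
 (TT.n (TT.l (Ty.skip))
 (TT.l (Ty.rel3 (nat_lit 7) (nat_lit 2) (nat_lit 7))))))
noncomputable def ty3 : TT := (TT.n (TT.n (TT.n (TT.l (Ty.srel [nat_lit 3]))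
 (TT.l (Ty.rel3 (nat_lit 5) (nat_lit 3) (nat_lit 5))))
 (TT.n (TT.l (Ty.dfn))
 (TT.l (Ty.rel5 (nat_lit 2) (nat_lit 3) (nat_lit 2) (nat_lit 3) (nat_lit 2)))))
 (TT.n (TT.n (TT.l (Ty.rel1 (nat_lit 3)))
 (TT.l (Ty.rel3 (nat_lit 7) (nat_lit 3) (nat_lit 7))))
 (TT.n (TT.l (Ty.skip))
 (TT.l (Ty.rel3 (nat_lit 6) (nat_lit 3) (nat_lit 6))))))
noncomputable def ty4 : TT := (TT.n (TT.n (TT.n (TT.n (TT.l (Ty.srel [nat_lit 4]))
 (TT.l (Ty.rel3 (nat_lit 2) (nat_lit 4) (nat_lit 2))))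
 (TT.l (Ty.rel3 (nat_lit 6) (nat_lit 4) (nat_lit 6))))
 (TT.n (TT.l (Ty.dfn))
 (TT.l (Ty.rel5 (nat_lit 3) (nat_lit 4) (nat_lit 3) (nat_lit 4) (nat_lit 3)))))
 (TT.n (TT.n (TT.l (Ty.rel1 (nat_lit 4)))
 (TT.l (Ty.rel3 (nat_lit 7) (nat_lit 4) (nat_lit 7))))
 (TT.n (TT.l (Ty.skip))
 (TT.l (Ty.relL (nat_lit 2) [nat_lit 7, nat_lit 5, nat_lit 1, nat_lit 6, nat_lit 0, nat_lit 3])))))
noncomputable def ty5 : TT := (TT.n (TT.n (TT.n (TT.l (Ty.srel [nat_lit 5]))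
 (TT.l (Ty.rel3 (nat_lit 6) (nat_lit 5) (nat_lit 6))))
 (TT.l (Ty.dfn)))
 (TT.n (TT.n (TT.l (Ty.rel1 (nat_lit 5)))
 (TT.l (Ty.rel3 (nat_lit 7) (nat_lit 5) (nat_lit 7))))
 (TT.l (Ty.skip))))
noncomputable def ty6 : TT := (TT.n (TT.n (TT.n (TT.l (Ty.srel [nat_lit 6]))
 (TT.l (Ty.rel5 (nat_lit 2) (nat_lit 6) (nat_lit 2) (nat_lit 6) (nat_lit 2))))
 (TT.l (Ty.skip)))
 (TT.n (TT.n (TT.l (Ty.rel1 (nat_lit 6)))
 (TT.l (Ty.rel3 (nat_lit 4) (nat_lit 6) (nat_lit 4))))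
 (TT.l (Ty.dfn))))
noncomputable def ty7 : TT := (TT.n (TT.n (TT.n (TT.l (Ty.srel [nat_lit 7]))
 (TT.l (Ty.rel3 (nat_lit 4) (nat_lit 7) (nat_lit 4))))
 (TT.l (Ty.dfn)))
 (TT.n (TT.l (Ty.rel1 (nat_lit 7)))
 (TT.l (Ty.skip))))
noncomputable def ty8 : TT := (TT.n (TT.n (TT.n (TT.n (TT.l (Ty.skip))
 (TT.l (Ty.srel [nat_lit 7, nat_lit 5, nat_lit 1, nat_lit 6, nat_lit 0, nat_lit 3, nat_lit 4, nat_lit 2])))
 (TT.l (Ty.srel [nat_lit 2, nat_lit 7, nat_lit 5, nat_lit 1, nat_lit 6, nat_lit 0, nat_lit 3, nat_lit 4])))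
 (TT.n (TT.l (Ty.relL (nat_lit 2) [nat_lit 7, nat_lit 5, nat_lit 1, nat_lit 6, nat_lit 0, nat_lit 3, nat_lit 4]))
 (TT.l (Ty.srel [nat_lit 7, nat_lit 4, nat_lit 7, nat_lit 4]))))
 (TT.n (TT.n (TT.l (Ty.srel [nat_lit 0, nat_lit 1, nat_lit 2, nat_lit 3, nat_lit 4, nat_lit 5, nat_lit 6, nat_lit 0, nat_lit 1, nat_lit 2, nat_lit 3, nat_lit 4, nat_lit 5, nat_lit 6, nat_lit 0, nat_lit 1, nat_lit 2, nat_lit 3, nat_lit 4, nat_lit 5, nat_lit 6, nat_lit 0, nat_lit 1, nat_lit 2, nat_lit 3, nat_lit 4, nat_lit 5, nat_lit 6, nat_lit 0, nat_lit 1, nat_lit 2, nat_lit 3, nat_lit 4, nat_lit 5, nat_lit 6, nat_lit 0, nat_lit 1, nat_lit 2, nat_lit 3, nat_lit 4, nat_lit 5, nat_lit 6, nat_lit 0, nat_lit 1, nat_lit 2, nat_lit 3, nat_lit 4, nat_lit 5, nat_lit 6, nat_lit 0, nat_lit 1, nat_lit 2, nat_lit 3, nat_lit 4, nat_lit 5, nat_lit 6, nat_lit 0, nat_lit 1, nat_lit 2, nat_lit 3, nat_lit 4, nat_lit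 5, nat_lit 6]))
 (TT.l (Ty.relL (nat_lit 2) [nat_lit 5, nat_lit 2, nat_lit 5])))
 (TT.n (TT.l (Ty.srel [nat_lit 6, nat_lit 7, nat_lit 6, nat_lit 7, nat_lit 6, nat_lit 7]))
 (TT.l (Ty.relL (nat_lit 4) [nat_lit 3, nat_lit 0, nat_lit 6, nat_lit 1, nat_lit 5, nat_lit 7, nat_lit 2])))))
noncomputable def C : Cert where
  tabs := [tab0, tab1, tab2, tab3, tab4, tab5, tab6, tab7, tab8, tab9, tab10, tab11, tab12, tab13, tab14, tab15, tab16, tab17, tab18]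
  tts := [ty0, ty1, ty2, ty3, ty4, ty5, ty6, ty7, ty8]
  k := nat_lit 6
  base := nat_lit 10
  mJ := nat_lit 192
  mR := nat_lit 63
  W := nat_lit 20
  mA := nat_lit 16383
  mI := nat_lit 255
  S := nat_lit 14
  mC := nat_lit 63
  nc := nat_lit 8
  lo := nat_lit 64
  live := nat_lit 65
  hi1 := nat_lit 155
  AW := nat_lit 14
  mAW := nat_lit 16383
def il : List ℕ := [0, 1, 2, 3, 4, 5, 6, 7]
def rels : List (List ℕ) := [[0, 1, 0, 1, 0, 1],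
  [0, 2, 0, 2],
  [0, 3, 0, 3],
  [0, 4, 0, 4],
  [0, 5, 0, 5],
  [0, 6, 0, 6],
  [0, 7, 0, 7],
  [1, 2, 1, 2, 1, 2],
  [1, 3, 1, 3],
  [1, 4, 1, 4],
  [1, 5, 1, 5],
  [1, 6, 1, 6],
  [1, 7, 1, 7],
  [2, 3, 2, 3, 2, 3],
  [2, 4, 2, 4],
  [2, 5, 2, 5],
  [2, 6, 2, 6, 2, 6],
  [2, 7, 2, 7],
  [3, 4, 3, 4, 3, 4],
  [3, 5, 3, 5],
  [3, 6, 3, 6],
  [3, 7, 3, 7],
  [4, 5, 4, 5, 4, 5],
  [4, 6, 4, 6],
  [4, 7, 4, 7],
  [5, 6, 5, 6],
  [5, 7, 5, 7],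
  [6, 7, 6, 7, 6, 7],
  [2, 1, 0, 2, 3, 4, 2, 6, 7, 2, 1, 0, 2, 3, 4, 2, 6, 7, 2, 1, 0, 2, 3, 4, 2, 6, 7, 2, 1, 0, 2, 3, 4, 2, 6, 7, 2, 1, 0, 2, 3, 4, 2, 6, 7, 2, 1, 0, 2, 3, 4, 2, 6, 7, 2, 1, 0, 2, 3, 4, 2, 6, 7, 2, 1, 0, 2, 3, 4, 2, 6, 7, 2, 1, 0, 2, 3, 4, 2, 6, 7, 2, 1, 0, 2, 3, 4, 2, 6, 7],
  [0, 1, 2, 3, 4, 5, 6, 0, 1, 2, 3, 4, 5, 6, 0, 1, 2, 3, 4, 5, 6, 0, 1, 2, 3, 4, 5, 6, 0, 1, 2, 3, 4, 5, 6, 0, 1, 2, 3, 4, 5, 6, 0, 1, 2, 3, 4, 5, 6, 0, 1, 2, 3, 4, 5, 6, 0, 1, 2, 3, 4, 5, 6],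
  [0, 3, 4, 2, 7, 5, 1, 6]]
def subs : List (List ℕ) := []
theorem valid : C.valid il rels subs = true := by decide +kernel
theorem p0 : C.OkL 64 65 := C.okL_of 64 0 1 65 (by decide) (by decide +kernel)
theorem p1 : C.OkR 65 156 := C.okR_of 65 0 91 156 (by decide) (by decide +kernel)
theorem covers {G : Type*} [Group G] (ev : ℕ → G) (H : Subgroup G)
    (hinv : ∀ x < 8, ev (il.getD x 0) = (ev x)⁻¹) (hr : ∀ r ∈ rels, evw ev r = 1)
    (hs : ∀ s ∈ subs, evw ev s ∈ H) : Covers H (gensub ev 8) 1 :=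
  C.sound il rels subs 8 1 valid (p0) (p1) (by decide) (by decide) ev H hinv hr hs
end CfH6.O7K
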