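import Cfsg.Agent.OD.Pre
import Cfsg.Agent.H6.TCTop
/-! coset enumeration certificate; generators l k a b c d e f h ; index 120 -/
set_option autoImplicit false
set_option maxRecDepth 100000
set_option Elab.async false
set_option linter.all false
namespace CfH6.O8T2
open CfH6
noncomputable def t0 : Tr := (Tr.n (Tr.n (Tr.l (nat_lit 0x988d19573255721d5711ce7b20e7a20e7928e7828e772ce7628e7524e740967e0967d0967c1d3672136620d6e28d6d28d6c2cd6b28d6a24d691cd68094700946f2115e2915d28c632cc6228c6124c6020c5f092650926428f562cf5528b5a24b5920b5818b570905c0905b28d5024d4f20a521ca5108e5408e5320b4b1c94d1094c08c4e1c9481884908a4a18745147460884710543086440c2410834204240)) (Tr.l (nat_lit 0xcfaa3bfff0cfc73bfff3bfff3bfff3bfff3bfff3bfff3bfff3bfff3bfff0ce9e090d23bfff3bfff3bfff3bfff3bfff3bfff3bfff)))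
 (Tr.l (nat_lit 0xcd933bfff3bfff3bfff3bfff3bfff3bfff3bfff293b71d3b6293b5361b429dad1ddac21dab292b0212af212ae09eb309eb209eb1310d429ba121ba025b9f211a6251a5251a4251a3251a209ca909ca809ca730fc82199225991119902509a19099250981d09721096290952d09430ebf09a9d09a9c09a9b11781257801977f18f8c24f8b1cf8a1cf8920f8820f8728f8620f8528f842cf8320f820988f0988e)))
noncomputable def t1 : Tr := (Tr.n (Tr.n (Tr.l (nat_lit 0x14d7f0568c0568b0568a193701d36f1ce7924e7824e7728e7624e7520e7414c7320c7218c710547b0547a1d1652516424d6c28d6b24d6a20d6918d6818b671cb660526e0526d24f5c28f5b24c6120c601cc5f1ca5e24a5d050630506224d5420d531cb5814b57249562895504e5a04e591cb4e18a51248502084f04c521894a1094c1c74b04a4d147471864804849084441454504546104430c4420814004241)) (Tr.l (nat_lit 0x33fff211a70dbc833fff08fc633fff33fff33fff33fff33fff33fff33fff33fff08e9b050d033fff33fff33fff33fff33fff33fff)))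
 (Tr.l (nat_lit 0x33fff08d8f33fff33fff33fff33fff33fff33fff25db319db2253b51d2ab05eb705eb619bb125ba91dba81d2ae250ad190ac053b42109f05cb005caf2d2d31d99d2199c211a4211a3211a224fa11cfa0051aa08d9005aa605aa52cfc72178e1578d21098190971d096250952909408c811ce9220e9104e9e2cebe0589a058991557e2157d1957c18f891cf881cf8724f861cf8524f8428f831cf8204d9320d80)))
noncomputable def t2 : Tr := (Tr.n (Tr.n (Tr.l (nat_lit 0x8d9008d8f20d7d18d7c09489094881d16e2516d24e7728e7624e7520e7408c8120c7218c7118c701cc6f092790927824f6328f6224d6a20d6918d6818b671cb661cb6524b640906c0906b24d5a20d591cc5f1ca5e24a5d24a5c28a5b08e6108e601cb5210b572495628955249542095308c581894d248502084f1c84e08a510c6491c74b1874a0874c186481064714646105450c3420c241084440834304140)) (Tr.l (nat_lit 0x33fff33fff33fff211a5159c733fff0cfc533fff33fff33fff33fff33fff33fff09ad00ce99090ce33fff33fff33fff33fff33fff)))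
 (Tr.l (nat_lit 0x33fff33fff0cd8c33fff33fff33fff33fff33fff25eb719eb625bb01d1b425bac19bad1d2a809cb515daf1d9a609cb209cb31d1a0210aa250a9093b12109c09aae2d2d12179a211a3211a224fa1092ab20f9114f9e1cf9d091a70cd8d098a42cfc62158b1958a1d096250952909414e931ce920909f0cc7f0cc7e20e8e08e9b2cebd09698096971937b1d37a1cf8724f861cf8524f8428f831cf820cb7320d80)))
noncomputable def t3 : Tr := (Tr.n (Tr.n (Tr.l (nat_lit 0x14b7114b7024d7d10d8d10d8c1cd7a112871128628f6c2cf6b28e7524e7414a6724c7210c7f10c7e1cc6f1cc6e28c6d110771107628d6124d6018d6810b731cb661cb6528b6428b632cb6210e6a10e691cb581ca5e28a5d28a5c2ca5b28a5a24a5910c5f14851289562c95528954249531c95210957288502484f1c84e1884d2084c1c74b1874a145461864814444106491434310547104450c4420834104140)) (Tr.l (nat_lit 0x37fff37fff37fff37fff37fff251a4217c637fff14fc437fff37fff37fff37fff37fff118ce14e97110cc37fff37fff37fff37fff)))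
 (Tr.l (nat_lit 0x37fff37fff37fff14d8937fff37fff37fff37fff294b0194b629fb51d1b4293a9193b21d1b1115b71d2a621eae292a1192ac1d0ab250aa114b31d19d250a7113af2509a312cf25598251a2113ad1d09224f9f08f9e112a824f8e20f9b111a514d8a116a330fc51d388290952d09408e93111a024e8020e9020e8f1109c14c7c14c7b24e8b10e9930ebc114961d179291781cf8528f842cf831cf8220d8110f91)))
noncomputable def t4 : Tr := (Tr.n (Tr.n (Tr.l (nat_lit 0x2cd7f2cd7e14f8e18b6f18b6e14d8a14d8924d78150841508324d6a20d692cc7314e8018a6618a6514c7c14c7b24c6d24c6c28c6b14e7514e7418a5f1895e14b7114b7024b6424b6328b6224b6120b6014b6814a6724a5d24a5c28a5b24a5a20a591ca582ca57249562895524954209531c9521874c248502084f1c84e18649148511c74b185471474d184451464a086461454810544104430c4420834104140)) (Tr.l (nat_lit 0x3bfff3bfff3bfff3bfff3bfff3bfff3bfff211a32d5c518fc23bfff3bfff3bfff3bfff3bfff156cc18e963bfff150cb3bfff3bfff)))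
 (Tr.l (nat_lit 0x3bfff3bfff3bfff3bfff18d873bfff3bfff3bfff25fb4190af253b5160b725dab18fa8359ad252b0151b61d2ae15ab118ea015eb3210aa251a9150b2210a71d1a6210a521098312cd211a2250a114fac20f9f08f9e1d09d20f9c10f9b20f8b2cf99151a418d8830fc4251862909408e931cf9220e9110e9010e8f20e7d2ce8d2ce8c1509a18c7a18c7914e9730ebb152951cf8524f7728f761cf8210d8120d72)))
noncomputable def t5 : Tr := (Tr.n (Tr.n (Tr.l (nat_lit 0x14d7f14d7e20d7d2cd7c2cd7b1cb6d1cb6c18d8818d8728d7618d8518d8214c7320c722cc712cc701ca641ca6318c7a18c7928c6b24c6a20c692cc682cb671c95d1c95c18b6f18b6e28b6224b6120b601c9571c85618a6618a6528a5b24a5a20a591c85118a5f1895e2895524954209531c74d18958248502084f1c64a188521084c1c5481874e147491864b14647086461454510544104430c4420834104140)) (Tr.l (nat_lit 0x37fff37fff37fff37fff37fff37fff37fff37fff37fff2d3c41cfc037fff37fff37fff37fff37fff194cb210ba1ce951ceb8190ca)))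
 (Tr.l (nat_lit 0x37fff37fff37fff37fff37fff37fff1cd8418fc1252b72d2b6252b51cfaa251b32d1b21cfa7251b01cfa51cfa4250ad2d0ac1ce9f190b4250a91ce9c190b11ce9a190af190ae210a3211a224fa11cd9118fab08f9e1cd8e18fa810f9b18fa614f9920f982cf971cd8630fc228f8308e931cc8018ea010e9010e8f18e9d14e8d14e8c20e8b2ce8a2ce891cc781cc7718e961cc7530eb9190941cc7410d8118d92)))
noncomputable def t6 : Tr := (Tr.n (Tr.n (Tr.l (nat_lit 0x1cd9114e7e20b6f1cd8e18e7b1cd8b2ce7928d7828d6a24d761cf8420b6814d7320a661cc8018d701cc7d2cd6e28c6d28c6124c6b1ce7720a5f1cc7418c671cb722cc6528b6428b5a24b621cd6c209581cb692cb5e28a5d28a5424a5b1cc63208521ca6014a5728950249551cb5c2074e1c959189511ca562064b1c8531884d1084c1c74f1874a147491864814647086461454510544104430c4420834104140)) (Tr.l (nat_lit 0x37fff20fc737fff20fc637fff20fc537fff20fc437fff37fff37fff291c037fff1d0d31d0d11d0cf1d0cd20eb937fff37fff1d2c9)))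
 (Tr.l (nat_lit 0x37fff37fff37fff37fff37fff20d851cfc337fff292b7192b6292b52d1b4291b3191b22d1b1291b02d1af2d1ae290ad190ac2d0ab20e9e290a92d0a820e9b2d0a620e9920e9720e9620e9428fa12cfa020d901cfaa2cf9d20d8d1cfa720d8a1cfa520d881cfa41cfa328f951cfa208f932ce9220c7f1ce9f10f8f20c7c1ce9c14f8c20c7a1ce9a18f891ce982cf8728e8630eba28e7524e832ce8210e8120b71)))
noncomputable def t7 : Tr := (Tr.n (Tr.n (Tr.l (nat_lit 0x150732128d2cf7d18f702118a1ce6e2108824d6c20f8628b6924d7520d832117f2ce7218e672107c1cd6520f7a24c6320e7828a6024c6a20c7618c6820f711cc5e20e6f24b5c20d6d2895924b6120b6b1cb5f20d6624a5620c642885324a5a20a621ca5814a5720b5d2874f249542095b1c9521895124850208551c84e1884d1084c1c74b1874a147491864814647086461454510544104430c4420834104140)) (Tr.l (nat_lit 0x33fff33fff33fff33fff33fff33fff33fff33fff33fff33fff33fff33fff0d6bf095be114bd153bc192bb33fff1d1b933fff33fff)))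
 (Tr.l (nat_lit 0x33fff33fff33fff33fff33fff33fff33fff33fff256b7196b6255b51d7b4255b3195b21d6b1254b01d5af1d4ae254ad194ac1d5ab2d6aa253a91d4a82d5a71d3a62d4a52d3a42d2a32d0a2252a11d3a02d49f094931d29d2d39c1138f2d29a1528c2d198191891d08724f8428d822159e1d1922d291112812149b2d18e1517e213992d08b1907b212971cf792119624e771ce852109528c7420e94213902d080)))
noncomputable def t8 : Tr := (Tr.n (Tr.n (Tr.l (nat_lit 0x14d7f14d7e28d7d18d7c18d7b24d7a24d7920b6b20b691cd8620b681cd8414c7328c7218c7118c7024c6f24c6e20a6220a601cc7820a5f1cc771cc7518b6724b6624b652095b209591cb6d209581cb6c1cb6a24a5e20855208531ca64208521ca631ca6114a572074f1c95d2074e1c95c1c95a189512064b1c8561c8541884d1084c1c7501874a147491864814647086461454510544104430c4420834104140)) (Tr.l (nat_lit 0x33fff33fff33fff33fff33fff33fff33fff33fff33fff33fff251c220fa233fff33fff33fff33fff33fff33fff1d2ca250b920e94)))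
 (Tr.l (nat_lit 0x33fff33fff33fff33fff33fff33fff1d1c120d82210af1dfb4210ae09eb620fa81ddab1dbac20fa61d1b71d1b520ea019ab111cb2290aa20e9d1d0b3290a71d0b0290a5290a4290a32d0c920d921cfad28f9f08f9e1cfa928f9c10f9b28f9a14f9928f9818f9724f9620d832cfc008e931cea128e9110e9010e8f28e8e14e8d14e8c28e8b18e8a18e8924e8824e8720c7624e8520c741ce952ceb810d8128d80)))
noncomputable def t9 : Tr := (Tr.n (Tr.n (Tr.l (nat_lit 0)) (Tr.l (nat_lit 0xe0aa09ca785e90820a57de8d7a2a47608a724a36e2886a48666683628a25df9e59d9b55f99521974e3964a77546595427743e794)))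
 (Tr.l (nat_lit 0x5a09355e8f5208c4e2894a48746885426843e8820000000000000000000000000000000000000000000000000000000000000000000000000000000000000000000000000000000000000000000000000000000000000000000000000000000000000000000000000000000000000000000000000000000000000000000000000000000000000000000000000000000000000000000000000000000000000000)))
noncomputable def t10 : Tr := (Tr.n (Tr.n (Tr.l (nat_lit 0x3364455887863644558878644558878655887865387865486542543431322010)) (Tr.l (nat_lit 0x60616263458012346558)))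
 (Tr.l (nat_lit 0x123465884858458558456856566668561562636458715622633644558587526)))
noncomputable def t11 : Tr := (Tr.n (Tr.n (Tr.l (nat_lit 0)) (Tr.l (nat_lit 0x31c0c61b1c2c51b183c41b144c417088c01b481d31b401ce0b303b91b2c4b923285)))
 (Tr.l (nat_lit 0xc81f1c7c61f147c41f0c5c21f045)))
noncomputable def tab0 : Tr := t0
noncomputable def tab1 : Tr := t1
noncomputable def tab2 : Tr := t2
noncomputable def tab3 : Tr := t3
noncomputable def tab4 : Tr := t4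
noncomputable def tab5 : Tr := t5
noncomputable def tab6 : Tr := t6
noncomputable def tab7 : Tr := t7
noncomputable def tab8 : Tr := t8
noncomputable def tab9 : Tr := t9
noncomputable def tab10 : Tr := t10
noncomputable def tab11 : Tr := (Tr.l (nat_lit 0))
noncomputable def tab12 : Tr := (Tr.l (nat_lit 0))
noncomputable def tab13 : Tr := (Tr.l (nat_lit 0))
noncomputable def tab14 : Tr := (Tr.l (nat_lit 0))
noncomputable def tab15 : Tr := (Tr.l (nat_lit 0))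
noncomputable def tab16 : Tr := (Tr.l (nat_lit 0))
noncomputable def tab17 : Tr := (Tr.l (nat_lit 0))
noncomputable def tab18 : Tr := (Tr.l (nat_lit 0))
noncomputable def tab19 : Tr := (Tr.l (nat_lit 0))
noncomputable def tab20 : Tr := t11
noncomputable def ty0 : TT := (TT.n (TT.n (TT.n (TT.n (TT.l (Ty.relL (nat_lit 8) [nat_lit 7, nat_lit 6, nat_lit 5, nat_lit 4, nat_lit 3, nat_lit 2, nat_lit 8, nat_lit 7, nat_lit 6, nat_lit 5, nat_lit 4, nat_lit 3, nat_lit 2, nat_lit 8, nat_lit 7, nat_lit 6, nat_lit 5, nat_lit 4, nat_lit 3, nat_lit 2, nat_lit 8, nat_lit 7, nat_lit 6, nat_lit 5, nat_lit 4, nat_lit 3, nat_lit 2, nat_lit 8, nat_lit 7, nat_lit 6, nat_lit 5, nat_lit 4, nat_lit 3, nat_lit 2, nat_lit 8, nat_lit 7, nat_lit 6, nat_lit 5, nat_lit 4, nat_lit 3, nat_lit 2, nat_lit 8, nat_lit 7, nat_lit 6, nat_lit 5, nat_lit 4, nat_lit 3, nat_lit 2, nat_lit 8, nat_lit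 7, nat_lit 6, nat_lit 5, nat_lit 4, nat_lit 3, nat_lit 2, nat_lit 8, nat_lit 7, nat_lit 6, nat_lit 5, nat_lit 4, nat_lit 3, nat_lit 2]))
 (TT.l (Ty.rel3 (nat_lit 6) (nat_lit 0) (nat_lit 6))))
 (TT.n (TT.l (Ty.rel5 (nat_lit 1) (nat_lit 0) (nat_lit 1) (nat_lit 0) (nat_lit 1)))
 (TT.l (Ty.srel [nat_lit 5, nat_lit 0, nat_lit 5]))))
 (TT.n (TT.n (TT.l (Ty.dfn))
 (TT.l (Ty.rel3 (nat_lit 7) (nat_lit 0) (nat_lit 7))))
 (TT.l (Ty.rel3 (nat_lit 4) (nat_lit 0) (nat_lit 4)))))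
 (TT.n (TT.n (TT.n (TT.l (Ty.rel1 (nat_lit 0)))
 (TT.l (Ty.rel3 (nat_lit 8) (nat_lit 0) (nat_lit 8))))
 (TT.n (TT.l (Ty.rel3 (nat_lit 3) (nat_lit 0) (nat_lit 3)))
 (TT.l (Ty.skip))))
 (TT.n (TT.n (TT.l (Ty.rel3 (nat_lit 2) (nat_lit 0) (nat_lit 2)))
 (TT.l (Ty.srel [nat_lit 0])))
 (TT.l (Ty.rel3 (nat_lit 5) (nat_lit 0) (nat_lit 5))))))
noncomputable def ty1 : TT := (TT.n (TT.n (TT.n (TT.n (TT.l (Ty.rel1 (nat_lit 1)))
 (TT.l (Ty.rel3 (nat_lit 8) (nat_lit 1) (nat_lit 8))))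
 (TT.l (Ty.rel3 (nat_lit 3) (nat_lit 1) (nat_lit 3))))
 (TT.n (TT.n (TT.l (Ty.rel5 (nat_lit 0) (nat_lit 1) (nat_lit 0) (nat_lit 1) (nat_lit 0)))
 (TT.l (Ty.srel [nat_lit 1])))
 (TT.l (Ty.rel3 (nat_lit 5) (nat_lit 1) (nat_lit 5)))))
 (TT.n (TT.n (TT.n (TT.l (Ty.dfn))
 (TT.l (Ty.rel3 (nat_lit 7) (nat_lit 1) (nat_lit 7))))
 (TT.l (Ty.rel3 (nat_lit 4) (nat_lit 1) (nat_lit 4))))
 (TT.n (TT.n (TT.l (Ty.rel5 (nat_lit 2) (nat_lit 1) (nat_lit 2) (nat_lit 1) (nat_lit 2)))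
 (TT.l (Ty.skip)))
 (TT.l (Ty.rel3 (nat_lit 6) (nat_lit 1) (nat_lit 6))))))
noncomputable def ty2 : TT := (TT.n (TT.n (TT.n (TT.n (TT.l (Ty.ssub [] []))
 (TT.l (Ty.rel3 (nat_lit 8) (nat_lit 2) (nat_lit 8))))
 (TT.l (Ty.rel5 (nat_lit 1) (nat_lit 2) (nat_lit 1) (nat_lit 2) (nat_lit 1))))
 (TT.n (TT.n (TT.l (Ty.dfn))
 (TT.l (Ty.srel [nat_lit 2])))
 (TT.l (Ty.rel3 (nat_lit 5) (nat_lit 2) (nat_lit 5)))))
 (TT.n (TT.n (TT.n (TT.l (Ty.rel1 (nat_lit 2)))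
 (TT.l (Ty.rel3 (nat_lit 7) (nat_lit 2) (nat_lit 7))))
 (TT.l (Ty.rel3 (nat_lit 4) (nat_lit 2) (nat_lit 4))))
 (TT.n (TT.n (TT.l (Ty.rel5 (nat_lit 3) (nat_lit 2) (nat_lit 3) (nat_lit 2) (nat_lit 3)))
 (TT.l (Ty.skip)))
 (TT.l (Ty.rel3 (nat_lit 6) (nat_lit 2) (nat_lit 6))))))
noncomputable def ty3 : TT := (TT.n (TT.n (TT.n (TT.n (TT.l (Ty.ssub [] []))
 (TT.l (Ty.rel3 (nat_lit 6) (nat_lit 3) (nat_lit 6))))
 (TT.n (TT.l (Ty.dfn))
 (TT.l (Ty.skip))))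
 (TT.n (TT.n (TT.l (Ty.rel3 (nat_lit 0) (nat_lit 3) (nat_lit 0)))
 (TT.l (Ty.rel3 (nat_lit 7) (nat_lit 3) (nat_lit 7))))
 (TT.l (Ty.rel3 (nat_lit 5) (nat_lit 3) (nat_lit 5)))))
 (TT.n (TT.n (TT.n (TT.l (Ty.rel3 (nat_lit 1) (nat_lit 3) (nat_lit 1)))
 (TT.l (Ty.rel3 (nat_lit 8) (nat_lit 3) (nat_lit 8))))
 (TT.l (Ty.rel5 (nat_lit 4) (nat_lit 3) (nat_lit 4) (nat_lit 3) (nat_lit 4))))
 (TT.n (TT.n (TT.l (Ty.rel1 (nat_lit 3)))
 (TT.l (Ty.srel [nat_lit 3])))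
 (TT.l (Ty.rel5 (nat_lit 2) (nat_lit 3) (nat_lit 2) (nat_lit 3) (nat_lit 2))))))
noncomputable def ty4 : TT := (TT.n (TT.n (TT.n (TT.n (TT.l (Ty.ssub [] []))
 (TT.l (Ty.rel3 (nat_lit 8) (nat_lit 4) (nat_lit 8))))
 (TT.n (TT.l (Ty.rel1 (nat_lit 4)))
 (TT.l (Ty.relL (nat_lit 3) [nat_lit 2, nat_lit 8, nat_lit 7, nat_lit 6, nat_lit 5, nat_lit 4, nat_lit 3, nat_lit 2, nat_lit 8, nat_lit 7, nat_lit 6, nat_lit 5, nat_lit 4, nat_lit 3, nat_lit 2, nat_lit 8, nat_lit 7, nat_lit 6, nat_lit 5, nat_lit 4, nat_lit 3, nat_lit 2, nat_lit 8, nat_lit 7, nat_lit 6, nat_lit 5, nat_lit 4, nat_lit 3, nat_lit 2, nat_lit 8, nat_lit 7, nat_lit 6, nat_lit 5, nat_lit 4, nat_lit 3, nat_lit 2, nat_lit 8, nat_lit 7, nat_lit 6, nat_lit 5, nat_lit 4, nat_lit 3, nat_lit 2, nat_lit 8, nat_lit 7, nat_lit 6, nat_lit 5, nat_lit 4, nat_lit 3, nat_lit 2, nat_lit 8, nat_lit 7, nat_lit 6, nat_lit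 5, nat_lit 4, nat_lit 3, nat_lit 2, nat_lit 0, nat_lit 8, nat_lit 7, nat_lit 6, nat_lit 5]))))
 (TT.n (TT.n (TT.l (Ty.rel3 (nat_lit 0) (nat_lit 4) (nat_lit 0)))
 (TT.l (Ty.rel5 (nat_lit 3) (nat_lit 4) (nat_lit 3) (nat_lit 4) (nat_lit 3))))
 (TT.l (Ty.rel5 (nat_lit 5) (nat_lit 4) (nat_lit 5) (nat_lit 4) (nat_lit 5)))))
 (TT.n (TT.n (TT.n (TT.l (Ty.rel3 (nat_lit 1) (nat_lit 4) (nat_lit 1)))
 (TT.l (Ty.rel3 (nat_lit 7) (nat_lit 4) (nat_lit 7))))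
 (TT.n (TT.l (Ty.dfn))
 (TT.l (Ty.skip))))
 (TT.n (TT.n (TT.l (Ty.rel3 (nat_lit 2) (nat_lit 4) (nat_lit 2)))
 (TT.l (Ty.srel [nat_lit 4])))
 (TT.l (Ty.rel3 (nat_lit 6) (nat_lit 4) (nat_lit 6))))))
noncomputable def ty5 : TT := (TT.n (TT.n (TT.n (TT.n (TT.l (Ty.ssub [] []))
 (TT.l (Ty.rel5 (nat_lit 8) (nat_lit 5) (nat_lit 8) (nat_lit 5) (nat_lit 8))))
 (TT.n (TT.l (Ty.rel3 (nat_lit 3) (nat_lit 5) (nat_lit 3)))
 (TT.l (Ty.skip))))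
 (TT.n (TT.n (TT.l (Ty.rel3 (nat_lit 0) (nat_lit 5) (nat_lit 0)))
 (TT.l (Ty.rel5 (nat_lit 4) (nat_lit 5) (nat_lit 4) (nat_lit 5) (nat_lit 4))))
 (TT.l (Ty.dfn))))
 (TT.n (TT.n (TT.n (TT.l (Ty.rel3 (nat_lit 1) (nat_lit 5) (nat_lit 1)))
 (TT.l (Ty.rel3 (nat_lit 7) (nat_lit 5) (nat_lit 7))))
 (TT.l (Ty.rel1 (nat_lit 5))))
 (TT.n (TT.n (TT.l (Ty.rel3 (nat_lit 2) (nat_lit 5) (nat_lit 2)))
 (TT.l (Ty.srel [nat_lit 5])))
 (TT.l (Ty.rel5 (nat_lit 6) (nat_lit 5) (nat_lit 6) (nat_lit 5) (nat_lit 6))))))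
noncomputable def ty6 : TT := (TT.n (TT.n (TT.n (TT.n (TT.l (Ty.ssub [] []))
 (TT.l (Ty.rel5 (nat_lit 7) (nat_lit 6) (nat_lit 7) (nat_lit 6) (nat_lit 7))))
 (TT.n (TT.l (Ty.rel3 (nat_lit 3) (nat_lit 6) (nat_lit 3)))
 (TT.l (Ty.skip))))
 (TT.n (TT.n (TT.l (Ty.rel3 (nat_lit 0) (nat_lit 6) (nat_lit 0)))
 (TT.l (Ty.rel5 (nat_lit 5) (nat_lit 6) (nat_lit 5) (nat_lit 6) (nat_lit 5))))
 (TT.l (Ty.rel1 (nat_lit 6)))))
 (TT.n (TT.n (TT.n (TT.l (Ty.rel3 (nat_lit 1) (nat_lit 6) (nat_lit 1)))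
 (TT.l (Ty.rel3 (nat_lit 8) (nat_lit 6) (nat_lit 8))))
 (TT.l (Ty.rel3 (nat_lit 4) (nat_lit 6) (nat_lit 4))))
 (TT.n (TT.n (TT.l (Ty.rel3 (nat_lit 2) (nat_lit 6) (nat_lit 2)))
 (TT.l (Ty.srel [nat_lit 6])))
 (TT.l (Ty.dfn)))))
noncomputable def ty7 : TT := (TT.n (TT.n (TT.n (TT.n (TT.l (Ty.ssub [] []))
 (TT.l (Ty.rel3 (nat_lit 8) (nat_lit 7) (nat_lit 8))))
 (TT.l (Ty.rel3 (nat_lit 3) (nat_lit 7) (nat_lit 3))))
 (TT.n (TT.n (TT.l (Ty.rel3 (nat_lit 0) (nat_lit 7) (nat_lit 0)))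
 (TT.l (Ty.rel5 (nat_lit 6) (nat_lit 7) (nat_lit 6) (nat_lit 7) (nat_lit 6))))
 (TT.l (Ty.rel3 (nat_lit 5) (nat_lit 7) (nat_lit 5)))))
 (TT.n (TT.n (TT.n (TT.l (Ty.rel3 (nat_lit 1) (nat_lit 7) (nat_lit 1)))
 (TT.l (Ty.dfn)))
 (TT.l (Ty.rel3 (nat_lit 4) (nat_lit 7) (nat_lit 4))))
 (TT.n (TT.n (TT.l (Ty.rel3 (nat_lit 2) (nat_lit 7) (nat_lit 2)))
 (TT.l (Ty.skip)))
 (TT.l (Ty.rel1 (nat_lit 7))))))
noncomputable def ty8 : TT := (TT.n (TT.n (TT.n (TT.n (TT.l (Ty.ssub [] []))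
 (TT.l (Ty.rel5 (nat_lit 5) (nat_lit 8) (nat_lit 5) (nat_lit 8) (nat_lit 5))))
 (TT.l (Ty.rel3 (nat_lit 3) (nat_lit 8) (nat_lit 3))))
 (TT.n (TT.n (TT.l (Ty.rel3 (nat_lit 0) (nat_lit 8) (nat_lit 0)))
 (TT.l (Ty.srel [nat_lit 8])))
 (TT.l (Ty.rel1 (nat_lit 8)))))
 (TT.n (TT.n (TT.n (TT.l (Ty.rel3 (nat_lit 1) (nat_lit 8) (nat_lit 1)))
 (TT.l (Ty.rel3 (nat_lit 6) (nat_lit 8) (nat_lit 6))))
 (TT.l (Ty.rel3 (nat_lit 4) (nat_lit 8) (nat_lit 4))))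
 (TT.n (TT.n (TT.l (Ty.rel3 (nat_lit 2) (nat_lit 8) (nat_lit 2)))
 (TT.l (Ty.skip)))
 (TT.l (Ty.dfn)))))
noncomputable def ty9 : TT := (TT.n (TT.n (TT.l (Ty.skip))
 (TT.l (Ty.srel [nat_lit 6, nat_lit 0, nat_lit 6, nat_lit 0])))
 (TT.l (Ty.relL (nat_lit 5) [nat_lit 1, nat_lit 5, nat_lit 1])))
noncomputable def C : Cert where
  tabs := [tab0, tab1, tab2, tab3, tab4, tab5, tab6, tab7, tab8, tab9, tab10, tab11, tab12, tab13, tab14, tab15, tab16, tab17, tab18, tab19, tab20]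
  tts := [ty0, ty1, ty2, ty3, ty4, ty5, ty6, ty7, ty8, ty9]
  k := nat_lit 6
  base := nat_lit 14
  mJ := nat_lit 192
  mR := nat_lit 63
  W := nat_lit 20
  mA := nat_lit 16383
  mI := nat_lit 255
  S := nat_lit 14
  mC := nat_lit 63
  nc := nat_lit 9
  lo := nat_lit 64
  live := nat_lit 184
  hi1 := nat_lit 212
  AW := nat_lit 14
  mAW := nat_lit 16383
def il : List ℕ := [0, 1, 2, 3, 4, 5, 6, 7, 8]
def rels : List (List ℕ) := [[0, 1, 0, 1, 0, 1],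
  [0, 2, 0, 2],
  [0, 3, 0, 3],
  [0, 4, 0, 4],
  [0, 5, 0, 5],
  [0, 6, 0, 6],
  [0, 7, 0, 7],
  [0, 8, 0, 8],
  [1, 2, 1, 2, 1, 2],
  [1, 3, 1, 3],
  [1, 4, 1, 4],
  [1, 5, 1, 5],
  [1, 6, 1, 6],
  [1, 7, 1, 7],
  [1, 8, 1, 8],
  [2, 3, 2, 3, 2, 3],
  [2, 4, 2, 4],
  [2, 5, 2, 5],
  [2, 6, 2, 6],
  [2, 7, 2, 7],
  [2, 8, 2, 8],
  [3, 4, 3, 4, 3, 4],
  [3, 5, 3, 5],
  [3, 6, 3, 6],
  [3, 7, 3, 7],
  [3, 8, 3, 8],
  [4, 5, 4, 5, 4, 5],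
  [4, 6, 4, 6],
  [4, 7, 4, 7],
  [4, 8, 4, 8],
  [5, 6, 5, 6, 5, 6],
  [5, 7, 5, 7],
  [5, 8, 5, 8, 5, 8],
  [6, 7, 6, 7, 6, 7],
  [6, 8, 6, 8],
  [7, 8, 7, 8],
  [0, 8, 7, 6, 5, 4, 3, 2, 8, 7, 6, 5, 4, 3, 2, 8, 7, 6, 5, 4, 3, 2, 8, 7, 6, 5, 4, 3, 2, 8, 7, 6, 5, 4, 3, 2, 8, 7, 6, 5, 4, 3, 2, 8, 7, 6, 5, 4, 3, 2, 8, 7, 6, 5, 4, 3, 2, 8, 7, 6, 5, 4, 3, 2]]
def subs : List (List ℕ) := [[2],
  [3],
  [4],
  [5],
  [6],
  [7],
  [8]]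
theorem valid : C.valid il rels subs = true := by decide +kernel
theorem p0 : C.OkL 64 184 := C.okL_of 64 0 120 184 (by decide) (by decide +kernel)
theorem p1 : C.OkR 184 213 := C.okR_of 184 0 29 213 (by decide) (by decide +kernel)
theorem covers {G : Type*} [Group G] (ev : ℕ → G) (H : Subgroup G)
    (hinv : ∀ x < 9, ev (il.getD x 0) = (ev x)⁻¹) (hr : ∀ r ∈ rels, evw ev r = 1)
    (hs : ∀ s ∈ subs, evw ev s ∈ H) : Covers H (gensub ev 9) 120 :=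
  C.sound il rels subs 9 120 valid (p0) (p1) (by decide) (by decide) ev H hinv hr hs
end CfH6.O8T2
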