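import Cfsg.Agent.OD.Pre
import Cfsg.Agent.H6.TCTop
/-! coset enumeration certificate; generators a b c d e f h ; index 56 -/
set_option autoImplicit false
set_option maxRecDepth 100000
set_option Elab.async false
set_option linter.all false
namespace CfH6.O8T3
open CfH6
noncomputable def tab0 : Tr := (Tr.l (nat_lit 0x26fb0b9dd1eeaaef47739bb7c99be2ed7086b7c33b959db0c6c6635c359d97d28be816f53319156ca2ce655b0bab8857c6ea5e352f8ab81d2b6895a14ee8a77150aee758146cb1d514daa27d622e81153d8ca2265312e9317390b9a854c52a5a9329c992e4488223b8f19878aa34441619890881802141))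
noncomputable def tab1 : Tr := (Tr.l (nat_lit 0x97fb9b5d49becae7476f9bb5c99ae2ecf08677c31b958db0c6a65f5933b196cc8b68857392fa554c6ca642572ba58153c249e233ee3a579d0ba485f746c223694fb2495b53eab1d5890aec6d19369c99488ea8654d3266317388ba0454f52a5a9329c992e4488223b8f19878aa344416198504838420c0))
noncomputable def tab2 : Tr := (Tr.l (nat_lit 0x27bbcbbd919e86d7576b9bb3c999e2ec708637c2fb157da6c6e6574c2ba8d6d689658533b2998d3d0c9e454f1ba58952c2e8dd946fba16cd2c08759346f21b5ccfb8e7d833ad31d594eaac6d42369919498c9d265092e799b450996844a32a699331c992e4488223b8f19878aa34440e11890c838220c0))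
noncomputable def tab3 : Tr := (Tr.l (nat_lit 0x277b9b9da5beaac73467a3b3c99be2ebf085f7231bd54d70aec4576c29a994d32a6884f3b279951c4c9645430225954fbc88e3346fa2185d0bb285c73edc9f694dace758532a21d654ba286d72369919490caa665032e7b173a4b9b254c5224a8f210996844a8223b8f19878aa243416218908838220c0))
noncomputable def tab4 : Tr := (Tr.l (nat_lit 0x27bb9bbd91ceb2df486792b5cd96df0bf055f8bb5ba56daecec64f43b1a992caaa6b75b3b238d53d2c86154b34258951c908e0346fc217a10ba885c83eda1f6a4fb3075893abb194e4daac5d0536b11b498a9aa6543327b132d4ba285cc52a74952a099304467223a93218588a345416198908838220c0))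
noncomputable def tab5 : Tr := (Tr.l (nat_lit 0x277b9b9d91beaad747679bb1c258e2ccf28576c29ad96df09e965774259994d88ce88472327a958cac96755f1baf8955c2eb6035afba979d5ba8adc74eda276954b2e8d854abca75950ab28d424693254e4fa267cf642849b390d98c74d52e53192dc990c54981a2b8f19878ea344416198908838220c0))
noncomputable def tab6 : Tr := (Tr.l (nat_lit 0x27fb9bdd91deaee7465f8b2dbd58e6caed55f94adb956e12aec8575ca9aa14d28a6894f3c2799d3cb096474b1b217dd1c2c7dc547131d698eb2a860636ba9f794fbac65553adc1d594db106d423699194a0ca2665032e7c17390b9a854c72a5b9329878ec3455224b0b114790a346416198908838220c0))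
noncomputable def tab7 : Tr := (Tr.l (nat_lit 0))
noncomputable def tab8 : Tr := (Tr.l (nat_lit 0x1236646553545425434363616626236343400411422336656432100))
noncomputable def tab9 : Tr := (Tr.l (nat_lit 0))
noncomputable def tab10 : Tr := (Tr.l (nat_lit 0))
noncomputable def tab11 : Tr := (Tr.l (nat_lit 0))
noncomputable def tab12 : Tr := (Tr.l (nat_lit 0))
noncomputable def tab13 : Tr := (Tr.l (nat_lit 0))
noncomputable def tab14 : Tr := (Tr.l (nat_lit 0))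
noncomputable def tab15 : Tr := (Tr.l (nat_lit 0))
noncomputable def tab16 : Tr := (Tr.l (nat_lit 0))
noncomputable def ty0 : TT := (TT.n (TT.n (TT.n (TT.l (Ty.rel1 (nat_lit 0)))
 (TT.l (Ty.rel3 (nat_lit 3) (nat_lit 0) (nat_lit 3))))
 (TT.n (TT.l (Ty.rel5 (nat_lit 1) (nat_lit 0) (nat_lit 1) (nat_lit 0) (nat_lit 1)))
 (TT.l (Ty.rel3 (nat_lit 6) (nat_lit 0) (nat_lit 6)))))
 (TT.n (TT.n (TT.l (Ty.dfn))
 (TT.l (Ty.rel3 (nat_lit 4) (nat_lit 0) (nat_lit 4))))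
 (TT.n (TT.l (Ty.rel3 (nat_lit 2) (nat_lit 0) (nat_lit 2)))
 (TT.l (Ty.rel3 (nat_lit 5) (nat_lit 0) (nat_lit 5))))))
noncomputable def ty1 : TT := (TT.n (TT.n (TT.n (TT.n (TT.l (Ty.ssub [] []))
 (TT.l (Ty.rel5 (nat_lit 0) (nat_lit 1) (nat_lit 0) (nat_lit 1) (nat_lit 0))))
 (TT.l (Ty.rel3 (nat_lit 3) (nat_lit 1) (nat_lit 3))))
 (TT.n (TT.l (Ty.dfn))
 (TT.l (Ty.rel3 (nat_lit 6) (nat_lit 1) (nat_lit 6)))))
 (TT.n (TT.n (TT.l (Ty.rel1 (nat_lit 1)))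
 (TT.l (Ty.rel3 (nat_lit 4) (nat_lit 1) (nat_lit 4))))
 (TT.n (TT.l (Ty.rel5 (nat_lit 2) (nat_lit 1) (nat_lit 2) (nat_lit 1) (nat_lit 2)))
 (TT.l (Ty.rel3 (nat_lit 5) (nat_lit 1) (nat_lit 5))))))
noncomputable def ty2 : TT := (TT.n (TT.n (TT.n (TT.n (TT.l (Ty.ssub [] []))
 (TT.l (Ty.rel5 (nat_lit 1) (nat_lit 2) (nat_lit 1) (nat_lit 2) (nat_lit 1))))
 (TT.l (Ty.rel5 (nat_lit 3) (nat_lit 2) (nat_lit 3) (nat_lit 2) (nat_lit 3))))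
 (TT.n (TT.l (Ty.rel1 (nat_lit 2)))
 (TT.l (Ty.rel3 (nat_lit 6) (nat_lit 2) (nat_lit 6)))))
 (TT.n (TT.n (TT.l (Ty.rel3 (nat_lit 0) (nat_lit 2) (nat_lit 0)))
 (TT.l (Ty.rel3 (nat_lit 4) (nat_lit 2) (nat_lit 4))))
 (TT.n (TT.l (Ty.dfn))
 (TT.l (Ty.rel3 (nat_lit 5) (nat_lit 2) (nat_lit 5))))))
noncomputable def ty3 : TT := (TT.n (TT.n (TT.n (TT.n (TT.l (Ty.ssub [] []))
 (TT.l (Ty.rel5 (nat_lit 2) (nat_lit 3) (nat_lit 2) (nat_lit 3) (nat_lit 2))))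
 (TT.l (Ty.dfn)))
 (TT.n (TT.l (Ty.rel3 (nat_lit 1) (nat_lit 3) (nat_lit 1)))
 (TT.l (Ty.rel5 (nat_lit 6) (nat_lit 3) (nat_lit 6) (nat_lit 3) (nat_lit 6)))))
 (TT.n (TT.n (TT.l (Ty.rel3 (nat_lit 0) (nat_lit 3) (nat_lit 0)))
 (TT.l (Ty.rel5 (nat_lit 4) (nat_lit 3) (nat_lit 4) (nat_lit 3) (nat_lit 4))))
 (TT.n (TT.l (Ty.rel1 (nat_lit 3)))
 (TT.l (Ty.rel3 (nat_lit 5) (nat_lit 3) (nat_lit 5))))))
noncomputable def ty4 : TT := (TT.n (TT.n (TT.n (TT.n (TT.l (Ty.ssub [] []))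
 (TT.l (Ty.rel5 (nat_lit 3) (nat_lit 4) (nat_lit 3) (nat_lit 4) (nat_lit 3))))
 (TT.l (Ty.rel1 (nat_lit 4))))
 (TT.n (TT.l (Ty.rel3 (nat_lit 1) (nat_lit 4) (nat_lit 1)))
 (TT.l (Ty.rel5 (nat_lit 5) (nat_lit 4) (nat_lit 5) (nat_lit 4) (nat_lit 5)))))
 (TT.n (TT.n (TT.l (Ty.rel3 (nat_lit 0) (nat_lit 4) (nat_lit 0)))
 (TT.l (Ty.dfn)))
 (TT.n (TT.l (Ty.rel3 (nat_lit 2) (nat_lit 4) (nat_lit 2)))
 (TT.l (Ty.rel3 (nat_lit 6) (nat_lit 4) (nat_lit 6))))))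
noncomputable def ty5 : TT := (TT.n (TT.n (TT.n (TT.n (TT.l (Ty.ssub [] []))
 (TT.l (Ty.rel5 (nat_lit 4) (nat_lit 5) (nat_lit 4) (nat_lit 5) (nat_lit 4))))
 (TT.l (Ty.rel3 (nat_lit 3) (nat_lit 5) (nat_lit 3))))
 (TT.n (TT.l (Ty.rel3 (nat_lit 1) (nat_lit 5) (nat_lit 1)))
 (TT.l (Ty.rel3 (nat_lit 6) (nat_lit 5) (nat_lit 6)))))
 (TT.n (TT.n (TT.l (Ty.rel3 (nat_lit 0) (nat_lit 5) (nat_lit 0)))
 (TT.l (Ty.rel1 (nat_lit 5))))
 (TT.n (TT.l (Ty.rel3 (nat_lit 2) (nat_lit 5) (nat_lit 2)))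
 (TT.l (Ty.dfn)))))
noncomputable def ty6 : TT := (TT.n (TT.n (TT.n (TT.n (TT.l (Ty.ssub [] []))
 (TT.l (Ty.rel3 (nat_lit 5) (nat_lit 6) (nat_lit 5))))
 (TT.l (Ty.rel1 (nat_lit 6))))
 (TT.n (TT.l (Ty.rel3 (nat_lit 1) (nat_lit 6) (nat_lit 1)))
 (TT.l (Ty.rel5 (nat_lit 3) (nat_lit 6) (nat_lit 3) (nat_lit 6) (nat_lit 3)))))
 (TT.n (TT.n (TT.l (Ty.rel3 (nat_lit 0) (nat_lit 6) (nat_lit 0)))
 (TT.l (Ty.dfn)))
 (TT.n (TT.l (Ty.rel3 (nat_lit 2) (nat_lit 6) (nat_lit 2)))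
 (TT.l (Ty.rel3 (nat_lit 4) (nat_lit 6) (nat_lit 4))))))
noncomputable def ty7 : TT := (TT.l (Ty.skip))
noncomputable def C : Cert where
  tabs := [tab0, tab1, tab2, tab3, tab4, tab5, tab6, tab7, tab8, tab9, tab10, tab11, tab12, tab13, tab14, tab15, tab16]
  tts := [ty0, ty1, ty2, ty3, ty4, ty5, ty6, ty7]
  k := nat_lit 6
  base := nat_lit 9
  mJ := nat_lit 64
  mR := nat_lit 63
  W := nat_lit 17
  mA := nat_lit 8191
  mI := nat_lit 127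
  S := nat_lit 13
  mC := nat_lit 15
  nc := nat_lit 7
  lo := nat_lit 64
  live := nat_lit 120
  hi1 := nat_lit 119
  AW := nat_lit 13
  mAW := nat_lit 8191
def il : List ℕ := [0, 1, 2, 3, 4, 5, 6]
def rels : List (List ℕ) := [[0, 1, 0, 1, 0, 1],
  [0, 2, 0, 2],
  [0, 3, 0, 3],
  [0, 4, 0, 4],
  [0, 5, 0, 5],
  [0, 6, 0, 6],
  [1, 2, 1, 2, 1, 2],
  [1, 3, 1, 3],
  [1, 4, 1, 4],
  [1, 5, 1, 5],
  [1, 6, 1, 6],
  [2, 3, 2, 3, 2, 3],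
  [2, 4, 2, 4],
  [2, 5, 2, 5],
  [2, 6, 2, 6],
  [3, 4, 3, 4, 3, 4],
  [3, 5, 3, 5],
  [3, 6, 3, 6, 3, 6],
  [4, 5, 4, 5, 4, 5],
  [4, 6, 4, 6],
  [5, 6, 5, 6]]
def subs : List (List ℕ) := [[1],
  [2],
  [3],
  [4],
  [5],
  [6]]
theorem valid : C.valid il rels subs = true := by decide +kernel
theorem p0 : C.OkL 64 120 := C.okL_of 64 0 56 120 (by decide) (by decide +kernel)
theorem covers {G : Type*} [Group G] (ev : ℕ → G) (H : Subgroup G)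
    (hinv : ∀ x < 7, ev (il.getD x 0) = (ev x)⁻¹) (hr : ∀ r ∈ rels, evw ev r = 1)
    (hs : ∀ s ∈ subs, evw ev s ∈ H) : Covers H (gensub ev 7) 56 :=
  C.sound il rels subs 7 56 valid (p0) (Cert.OkR.nil C _) (by decide) (by decide) ev H hinv hr hs
end CfH6.O8T3
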