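import Cfsg.Agent.OD.Pre
import Cfsg.Agent.H6.ONB
import Cfsg.Agent.H6.ONA.P0
set_option autoImplicit false
set_option maxRecDepth 100000
set_option Elab.async false
set_option linter.all false
namespace CfH6.ONA
open CfH6 MulAction
theorem eq0 : ∀ e ∈ eqs0, evw (lp nets0) e.1 = evw (lp nets0) e.2 :=
  EqsOk.sound (((((((((e0_0).trans e0_2).trans e0_4).trans e0_6).trans e0_8).trans e0_10).trans e0_12).trans e0_14).trans e0_16) ok0 (by decide)
theorem eqAll : ∀ e ∈ eqs, evw (lp nets0) e.1 = evw (lp nets0) e.2 := eq0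
theorem hsd : (∀ x < 8, lp nets0 (ONB.il.getD x 0) = (lp nets0 x)⁻¹) ∧ ∀ r ∈ eqRels ONB.il sig eqs, evw (lp nets0) r = 1 :=
  eqRels_sound (lp nets0) (k := 8) (by decide +kernel) eqAll
theorem exRho : ∃ ρ : ONB.G →* Equiv.Perm ℕ, ∀ x < 8, ρ (ONB.el x) = lp nets0 x :=
  ONB.hhom _ hsd.1 (follows_sound (n := 4) _ hsd.1 hsd.2 (by decide +kernel))
noncomputable def rho : ONB.G →* Equiv.Perm ℕ := Classical.choose exRho
@[reducible] noncomputable def act : MulAction ONB.G ℕ := MulAction.compHom ℕ rho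
attribute [local instance] act
theorem L0 : Lvl 131072 nets0 8 ONB.el := lvl0 rho ok0 (Classical.choose_spec exRho)
noncomputable abbrev el1 : ℕ → ONB.G := byW ONB.el ws1
theorem L1 : Lvl 131072 nets1 6 el1 := L0.next sx1 (x1_0)
noncomputable abbrev el2 : ℕ → ONB.G := byW el1 ws2
theorem L2 : Lvl 128 nets2 3 el2 := L1.next sx2 ((((((x2_0).trans x2_3).trans x2_6).trans x2_9).trans x2_12).trans x2_15)
noncomputable abbrev el3 : ℕ → ONB.G := byW el2 ws3
theorem L3 : Lvl 8 nets3 2 el3 := L2.next sx3 (x3_0)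
noncomputable abbrev el4 : ℕ → ONB.G := byW el3 ws4
theorem L4 : Lvl 6 nets4 1 el4 := L3.next sx4 (x4_0)
noncomputable abbrev H : Subgroup ONB.G := gensub el1 6
theorem fix0 : H ≤ stabilizer ONB.G 0 := L1.fix' 0 (by decide +kernel)
theorem cU : (bitSet U).ncard = 122760 := ncard_ivls lU _ (by decide +kernel)
theorem oi1 : OrbIn (gensub el1 6) 1 131072 S1 :=
  (L1.orbStep (OrbIn.one _ (by decide)) 48 S1 oi1_0)
theorem o1 : orbit H 1 = bitSet S1 := L1.orbEq oi1 ci1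
theorem c1 : (bitSet S1).ncard = 58653 := ncard_ivls l1 _ (by decide +kernel)
theorem oi2 : OrbIn (gensub el1 6) 58737 131072 S2 :=
  (L1.orbStep (OrbIn.one _ (by decide)) 66 S2 oi2_0)
theorem o2 : orbit H 58737 = bitSet S2 := L1.orbEq oi2 ci2
theorem c2 : (bitSet S2).ncard = 52136 := ncard_ivls l2 _ (by decide +kernel)
theorem oi3 : OrbIn (gensub el1 6) 73 131072 S3 :=
  (L1.orbStep (OrbIn.one _ (by decide)) 66 S3 oi3_0)
theorem o3 : orbit H 73 = bitSet S3 := L1.orbEq oi3 ci3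
theorem c3 : (bitSet S3).ncard = 5586 := ncard_ivls l3 _ (by decide +kernel)
theorem oi4 : OrbIn (gensub el1 6) 116401 131072 S4 :=
  (L1.orbStep (OrbIn.one _ (by decide)) 42 S4 oi4_0)
theorem o4 : orbit H 116401 = bitSet S4 := L1.orbEq oi4 ci4
theorem c4 : (bitSet S4).ncard = 6384 := ncard_ivls l4 _ (by decide +kernel)
theorem hJ : ∀ j ∈ J, orbit H j.2.1 = bitSet j.2.2 := (forall_cons o1 (forall_cons o2 (forall_cons o3 (forall_cons o4 forall_nil))))
theorem subU : bitSet U ⊆ orbit (⊤ : Subgroup ONB.G) 0 := L0.sub_top J hJ U (by decide +kernel)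
theorem q1 (hH : H = stabilizer ONB.G 0) : (orbit H ((evw ONB.el w1 : ONB.G) : ONB.G ⧸ H)).ncard = 58653 :=
  L0.quot hH w1 o1 c1 (by decide +kernel)
theorem q2 (hH : H = stabilizer ONB.G 0) : (orbit H ((evw ONB.el w2 : ONB.G) : ONB.G ⧸ H)).ncard = 52136 :=
  L0.quot hH w2 o2 c2 (by decide +kernel)
theorem q3 (hH : H = stabilizer ONB.G 0) : (orbit H ((evw ONB.el w3 : ONB.G) : ONB.G ⧸ H)).ncard = 5586 :=
  L0.quot hH w3 o3 c3 (by decide +kernel)
theorem q4 (hH : H = stabilizer ONB.G 0) : (orbit H ((evw ONB.el w4 : ONB.G) : ONB.G ⧸ H)).ncard = 6384 :=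
  L0.quot hH w4 o4 c4 (by decide +kernel)
theorem orbTop : OrbGe (⊤ : Subgroup ONB.G) 0 122760 := orbGe_of_sub subU cU
theorem stab (hc : Covers H ⊤ 122760) : H = stabilizer ONB.G 0 ∧ H.index = 122760 := stab_eq hc fix0 orbTop
theorem mx4 (hH : H = stabilizer ONB.G 0) (hN : H.index = 122760) : Mx H S4 :=
  L0.mx hH hN w4 o4 J4 (forall_cons o1 (forall_cons o2 forall_nil)) lBig cm4
theorem mx3 (hH : H = stabilizer ONB.G 0) (hN : H.index = 122760) : Mx H S3 :=
  L0.mx hH hN w3 o3 J3 (forall_cons o1 (forall_cons o2 forall_nil)) lBig cm3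
theorem mx2 (hH : H = stabilizer ONB.G 0) (hN : H.index = 122760) : Mx H S2 :=
  L0.mx hH hN w2 o2 J2 (forall_cons o1 (forall_cons o2 forall_nil)) lBig cm2
theorem mx1 (hH : H = stabilizer ONB.G 0) (hN : H.index = 122760) : Mx H S1 :=
  L0.mx hH hN w1 o1 J1 (forall_cons o1 (forall_cons o2 forall_nil)) lBig cm1
theorem hmax (hH : H = stabilizer ONB.G 0) (hN : H.index = 122760) : ∀ L : Subgroup ONB.G, H ≤ L → L = H ∨ L = ⊤ :=
  coatom_of hH (Mx.lorJ J (forall_cons (mx1 hH hN) (forall_cons (mx2 hH hN) (forall_cons (mx3 hH hN) (forall_cons (mx4 hH hN) forall_nil))))) (orbit_sub_of_card hH hN (by decide) subU cU) (by decide +kernel)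
theorem low4 : Low (gensub el4 1) [3] 2 :=
  (Low.cons bot_le bot_le (L4.orbGe 3 1 3 2 (by decide) (by decide) og4) (Low.nil ⊥)).cast (by decide)
theorem low3 : Low (gensub el3 2) [5, 3] 4 :=
  (Low.step' L4 (L3.orbGe 5 2 3 2 (by decide) (by decide) og3) (by decide +kernel) low4).cast (by decide)
theorem low2 : Low (gensub el2 3) [2, 5, 3] 64 :=
  (Low.step' L3 (L2.orbGe 2 6 7 16 (by decide) (by decide) og2) (by decide +kernel) low3).cast (by decide)
theorem low1 : Low (gensub el1 6) [1, 2, 5, 3] 3753792 :=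
  (Low.step' L2 (orbGe_of_eq o1 c1) (by decide +kernel) low2).cast (by decide)
theorem low0 : Low (gensub ONB.el 8) [0, 1, 2, 5, 3] 460815505920 :=
  (Low.step' L1 (ONB.htop ▸ orbTop) (by decide +kernel) low1).cast (by decide)
def bs : List ℕ := [0, 1, 2, 5, 3]
theorem hbs : ∀ b ∈ bs, b ∈ orbit ONB.G 0 := base_mem subU bs (by decide +kernel)
theorem top (hf : Finite ONB.G ∧ Nat.card ONB.G ≤ 460815505920) : Nat.card ONB.G = 460815505920 ∧ ∀ g : ONB.G, (∀ b ∈ bs, g • b = b) → g = 1 := low0.top hf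
theorem hex (hb : ∀ g : ONB.G, (∀ b ∈ bs, g • b = b) → g = 1) : ∀ w ∈ ex, evw ONB.el (wpow w (5 ^ 1)) = 1 := (forall_cons (L0.word_one hb _ pw0) forall_nil)
end CfH6.ONA
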