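import Cfsg.Agent.OD.Pre
import Cfsg.Agent.H6.TCTop
/-! coset enumeration certificate; generators g a b c d e f ; index 1 -/
set_option autoImplicit false
set_option maxRecDepth 100000
set_option Elab.async false
set_option linter.all false
namespace CfH6.ONK
open CfH6
noncomputable def tab0 : Tr := (Tr.l (nat_lit 0xe85a13ffe187284fff89fff13ffe27ffc4fff8614713ffe27ffc4fff89fff13ffe27ffc30a209fff13ffe27ffc4fff861431849027ffc4fff89fff08ccc27ffc4fff89fff13ffe1099451a109fff13ffe27ffc4fff841d8083a61830020e482141))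
noncomputable def tab1 : Tr := (Tr.l (nat_lit 0x9fff13ffe2973c20e509fff13ffe27ffc4fff89fff13ffe27ffc4fff89fff13ffe1a3a04fff8414413ffe27ffc4fff89fff0828627ffc4fff89fff13ffe27ffc4fff89fff13ffe1899820a0862d30c3c027ffc4fff861d90c3a818f24206002142))
noncomputable def tab2 : Tr := (Tr.l (nat_lit 0x9fff20c9627ffc4fff8c35f206bc27ffc4fff89fff13ffe10f8c4fff89fff13ffe27ffc4fff89fff1c48e309184fff89fff13ffe27ffc4fff89fff14a8427ffc4fff89fff08dce1850421a40a2c9085ae10b584fff89fff0c1801173c20e502143))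
noncomputable def tab3 : Tr := (Tr.l (nat_lit 0x1084d103941fffc3fff87fff0fffe207243fff87fff0fffe1fffc3fff8e2481848e289183fff87fff0fffe1fffc3fff87fff0fffe1fffc3fff881420fffe1fffc247407fff102821099c213107fff085b61fffc3fff880c00fffe1fffc20e582144))
noncomputable def tab4 : Tr := (Tr.l (nat_lit 0x1275c08cac27ffc4fff8c4500c39228b344fff89fff13ffe389208123847e813ffe27ffc4fff89fff3158e3979c30a189fff13ffe3091030a1044e42d0c827ffc4fff861411448c27ffc2131842de13ffe10b2c3060042d2083aa1074420e602145))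
noncomputable def tab5 : Tr := (Tr.l (nat_lit 0x61ca13ffe27ffc4fff861c913ffe27ffc30a398d471849027ffc4fff89fff13ffe18510512289fff13ffe1850c4fff89fff13ffe18508b4a409fff13ffe27ffc30a089fff13ffe109a0213209fff083c218300216c841da083ac1074820e682146))
noncomputable def tab6 : Tr := (Tr.l (nat_lit 0x7fff0fffe1fffc3fff87fff0fffe1fffc3fff8ade00fffe1fffc40a287fff102881fffc3fff87fff102861fffc3fff87fff0fffe1fffc3fff87fff0fffe205043fff87fff0fffe1fffc3fff87fff101801fffc20ee841db083ae1fffc20e702147))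
noncomputable def tab7 : Tr := (Tr.l (nat_lit 0x7fff24aa01fffc3fff903561c6aa1fffc3fff87fff1028c205143fff881440fffe1fffc3fff87fff0fffe1fffc3fff87fff0fffe1fffc3fff87fff102821fffc3fff87fff0fffe311085121880c00fffe1077c20ef041dc085921132820e782148))
noncomputable def tab8 : Tr := (Tr.l (nat_lit 0x4aa4428e824990e43a403fff8d3900fffc86700ee40191a22a526252b889d2858af02b61f5263cb4a75f86e1f31b520346cf64d94c31001fffae7cf598981b705556028cca4cf940fffd266022d4341d827af04e4e19abc30a08063504b7a000000))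
noncomputable def tab9 : Tr := (Tr.l (nat_lit 0x53015435077676501654015437654321765432010))
noncomputable def tab10 : Tr := (Tr.l (nat_lit 0))
noncomputable def tab11 : Tr := (Tr.l (nat_lit 0))
noncomputable def tab12 : Tr := (Tr.l (nat_lit 0))
noncomputable def tab13 : Tr := (Tr.l (nat_lit 0))
noncomputable def tab14 : Tr := (Tr.l (nat_lit 0x2e81400))
noncomputable def tab15 : Tr := (Tr.l (nat_lit 0x30817c0))
noncomputable def tab16 : Tr := (Tr.l (nat_lit 0))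
noncomputable def tab17 : Tr := (Tr.l (nat_lit 0))
noncomputable def tab18 : Tr := (Tr.l (nat_lit 0x5c129c17828a3441b401145d12c70b3898c7cd0e6822099c7890e80e24b9c2893cf83001683bc3da06785826))
noncomputable def ty0 : TT := (TT.n (TT.n (TT.n (TT.l (Ty.srel [nat_lit 1]))
 (TT.l (Ty.rel3 (nat_lit 0) (nat_lit 7) (nat_lit 2))))
 (TT.n (TT.l (Ty.dfn))
 (TT.l (Ty.srel [nat_lit 3, nat_lit 4, nat_lit 5]))))
 (TT.n (TT.n (TT.l (Ty.rel1 (nat_lit 1)))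
 (TT.l (Ty.rel3 (nat_lit 7) (nat_lit 2) (nat_lit 0))))
 (TT.l (Ty.skip))))
noncomputable def ty1 : TT := (TT.n (TT.n (TT.n (TT.l (Ty.srel [nat_lit 0]))
 (TT.l (Ty.rel3 (nat_lit 2) (nat_lit 7) (nat_lit 1))))
 (TT.l (Ty.rel1 (nat_lit 0))))
 (TT.n (TT.l (Ty.dfn))
 (TT.l (Ty.skip))))
noncomputable def ty2 : TT := (TT.n (TT.n (TT.n (TT.l (Ty.srel [nat_lit 2]))
 (TT.l (Ty.rel3 (nat_lit 7) (nat_lit 2) (nat_lit 7))))
 (TT.n (TT.l (Ty.dfn))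
 (TT.l (Ty.rel3 (nat_lit 6) (nat_lit 2) (nat_lit 6)))))
 (TT.n (TT.n (TT.l (Ty.rel1 (nat_lit 2)))
 (TT.l (Ty.rel3 (nat_lit 5) (nat_lit 2) (nat_lit 5))))
 (TT.n (TT.l (Ty.skip))
 (TT.l (Ty.rel3 (nat_lit 4) (nat_lit 2) (nat_lit 4))))))
noncomputable def ty3 : TT := (TT.n (TT.n (TT.n (TT.l (Ty.srel [nat_lit 3]))
 (TT.l (Ty.rel3 (nat_lit 5) (nat_lit 3) (nat_lit 5))))
 (TT.n (TT.l (Ty.skip))
 (TT.l (Ty.rel3 (nat_lit 7) (nat_lit 3) (nat_lit 7)))))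
 (TT.n (TT.n (TT.l (Ty.rel1 (nat_lit 3)))
 (TT.l (Ty.rel3 (nat_lit 6) (nat_lit 3) (nat_lit 6))))
 (TT.n (TT.l (Ty.dfn))
 (TT.l (Ty.srel [nat_lit 5, nat_lit 3, nat_lit 5])))))
noncomputable def ty4 : TT := (TT.n (TT.n (TT.n (TT.n (TT.l (Ty.srel [nat_lit 4]))
 (TT.l (Ty.srel [nat_lit 3, nat_lit 1, nat_lit 5])))
 (TT.l (Ty.rel3 (nat_lit 5) (nat_lit 0) (nat_lit 3))))
 (TT.n (TT.l (Ty.dfn))
 (TT.l (Ty.rel3 (nat_lit 7) (nat_lit 4) (nat_lit 7)))))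
 (TT.n (TT.n (TT.l (Ty.rel1 (nat_lit 4)))
 (TT.l (Ty.rel3 (nat_lit 3) (nat_lit 1) (nat_lit 5))))
 (TT.n (TT.l (Ty.skip))
 (TT.l (Ty.rel3 (nat_lit 6) (nat_lit 4) (nat_lit 6))))))
noncomputable def ty5 : TT := (TT.n (TT.n (TT.n (TT.l (Ty.srel [nat_lit 5]))
 (TT.l (Ty.rel3 (nat_lit 4) (nat_lit 3) (nat_lit 1))))
 (TT.l (Ty.dfn)))
 (TT.n (TT.n (TT.l (Ty.rel1 (nat_lit 5)))
 (TT.l (Ty.rel3 (nat_lit 7) (nat_lit 5) (nat_lit 7))))
 (TT.l (Ty.skip))))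
noncomputable def ty6 : TT := (TT.n (TT.n (TT.n (TT.l (Ty.srel [nat_lit 6]))
 (TT.l (Ty.srel [nat_lit 5, nat_lit 1, nat_lit 5, nat_lit 6, nat_lit 1, nat_lit 5, nat_lit 1, nat_lit 5, nat_lit 6, nat_lit 1])))
 (TT.l (Ty.skip)))
 (TT.n (TT.l (Ty.rel1 (nat_lit 6)))
 (TT.l (Ty.dfn))))
noncomputable def ty7 : TT := (TT.n (TT.n (TT.n (TT.n (TT.l (Ty.srel [nat_lit 7]))
 (TT.l (Ty.rel3 (nat_lit 3) (nat_lit 7) (nat_lit 3))))
 (TT.l (Ty.rel3 (nat_lit 2) (nat_lit 0) (nat_lit 0))))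
 (TT.n (TT.l (Ty.skip))
 (TT.l (Ty.rel3 (nat_lit 4) (nat_lit 7) (nat_lit 4)))))
 (TT.n (TT.n (TT.l (Ty.rel1 (nat_lit 7)))
 (TT.l (Ty.rel3 (nat_lit 1) (nat_lit 1) (nat_lit 2))))
 (TT.n (TT.l (Ty.dfn))
 (TT.l (Ty.rel3 (nat_lit 5) (nat_lit 7) (nat_lit 5))))))
noncomputable def ty8 : TT := (TT.n (TT.n (TT.n (TT.n (TT.l (Ty.skip))
 (TT.l (Ty.relL (nat_lit 5) [nat_lit 4, nat_lit 3, nat_lit 1])))
 (TT.l (Ty.relL (nat_lit 3) [nat_lit 4, nat_lit 3, nat_lit 4, nat_lit 3, nat_lit 4])))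
 (TT.n (TT.l (Ty.srel [nat_lit 5, nat_lit 1, nat_lit 5, nat_lit 6, nat_lit 1, nat_lit 5, nat_lit 1, nat_lit 5, nat_lit 6, nat_lit 1, nat_lit 6]))
 (TT.l (Ty.srel [nat_lit 5, nat_lit 6, nat_lit 5, nat_lit 6, nat_lit 5, nat_lit 6]))))
 (TT.n (TT.n (TT.n (TT.l (Ty.srel [nat_lit 6, nat_lit 7, nat_lit 6, nat_lit 7, nat_lit 6, nat_lit 7]))
 (TT.l (Ty.relL (nat_lit 3) [nat_lit 2, nat_lit 3, nat_lit 2, nat_lit 3, nat_lit 2])))
 (TT.l (Ty.relL (nat_lit 4) [nat_lit 2, nat_lit 4, nat_lit 2])))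
 (TT.n (TT.l (Ty.srel [nat_lit 5, nat_lit 4, nat_lit 5, nat_lit 4, nat_lit 5, nat_lit 4, nat_lit 2, nat_lit 7, nat_lit 5, nat_lit 4]))
 (TT.l (Ty.srel [nat_lit 0, nat_lit 3, nat_lit 4, nat_lit 5])))))
noncomputable def C : Cert where
  tabs := [tab0, tab1, tab2, tab3, tab4, tab5, tab6, tab7, tab8, tab9, tab10, tab11, tab12, tab13, tab14, tab15, tab16, tab17, tab18]
  tts := [ty0, ty1, ty2, ty3, ty4, ty5, ty6, ty7, ty8]
  k := nat_lit 6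
  base := nat_lit 10
  mJ := nat_lit 64
  mR := nat_lit 63
  W := nat_lit 19
  mA := nat_lit 8191
  mI := nat_lit 127
  S := nat_lit 13
  mC := nat_lit 63
  nc := nat_lit 8
  lo := nat_lit 64
  live := nat_lit 65
  hi1 := nat_lit 104
  AW := nat_lit 13
  mAW := nat_lit 8191
def il : List ℕ := [1, 0, 2, 3, 4, 5, 6, 7]
def rels : List (List ℕ) := [[2, 3, 2, 3, 2, 3],
  [2, 4, 2, 4],
  [2, 5, 2, 5],
  [2, 6, 2, 6],
  [2, 7, 2, 7],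
  [3, 4, 3, 4, 3, 4],
  [3, 5, 3, 5],
  [3, 6, 3, 6],
  [3, 7, 3, 7],
  [4, 5, 4, 5, 4, 5, 4, 5, 4, 5, 4, 5, 4, 5, 4, 5],
  [4, 6, 4, 6],
  [4, 7, 4, 7],
  [5, 6, 5, 6, 5, 6],
  [5, 7, 5, 7],
  [6, 7, 6, 7, 6, 7],
  [2, 7, 1, 1],
  [2, 7, 5, 4, 5, 4, 5, 4, 5, 4],
  [4, 1, 5, 1, 5, 4, 5, 0, 5, 0],
  [5, 1, 4, 1, 4, 5, 4, 0, 4, 0],
  [3, 4, 5, 0, 3, 4, 5, 0, 3, 4, 5, 0, 3, 4, 5, 0, 3, 4, 5, 0],
  [0, 3, 4, 0, 4, 3, 0, 3, 4, 0, 4],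
  [0, 6, 5, 0, 5, 6, 0, 6, 5, 0, 5],
  [3, 4, 5, 0]]
def subs : List (List ℕ) := []
theorem valid : C.valid il rels subs = true := by decide +kernel
theorem p0 : C.OkL 64 65 := C.okL_of 64 0 1 65 (by decide) (by decide +kernel)
theorem p1 : C.OkR 65 105 := C.okR_of 65 0 40 105 (by decide) (by decide +kernel)
theorem covers {G : Type*} [Group G] (ev : ℕ → G) (H : Subgroup G)
    (hinv : ∀ x < 8, ev (il.getD x 0) = (ev x)⁻¹) (hr : ∀ r ∈ rels, evw ev r = 1)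
    (hs : ∀ s ∈ subs, evw ev s ∈ H) : Covers H (gensub ev 8) 1 :=
  C.sound il rels subs 8 1 valid (p0) (p1) (by decide) (by decide) ev H hinv hr hs
end CfH6.ONK
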