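import Cfsg.Agent.OD.Pre
import Cfsg.Agent.H6.TCTop
/-! coset enumeration certificate; generators a b c t ; index 17 -/
set_option autoImplicit false
set_option maxRecDepth 100000
set_option Elab.async false
set_option linter.all false
namespace CfH6.S16T2
open CfH6
noncomputable def tab0 : Tr := (Tr.l (nat_lit 0x1fffc7fff1fffc7fff1fffc86dd1fffc7fff1fffc7fff1fffc7fff2157c555e0978425e009da083d40cb4865581fffc25da1fffc644f1512c245c0c944235b08b4c54cd1135833c60954033451135432c40c90c31c20c504244e08f30234a08b2422480871c10c0))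
noncomputable def tab1 : Tr := (Tr.l (nat_lit 0x1fffc7fff1158444df0cd747fff11f6c34590d1607fff1fffc33d7097ac33d6095a8334f08fa47fff0a19c7fff093987fff0918824600cd287fff1fffc7fff1fffc33cc18f7855490cd1424500cb1063d50973852c708d20254308f34234b1131831410870810c0))
noncomputable def tab2 : Tr := (Tr.l (nat_lit 0xd1889fff0d18033de19d9434da0d1649fff09fa49fff0cf5c24ed0cf5824eb0cd3c246a2d96032d329d9825680939c26dd0918c246127ffc325108d709fff08b5085551cf7c55471912c544a0933424cc14d2023c90973844410cb1023450c70822430931810c0))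
noncomputable def tab3 : Tr := (Tr.l (nat_lit 0x25f94246117ffc5fff17ffc975e2239c756217ffc24501997c15e6053b047dc05b8c17e808b505fff10f4c244e08f3423cc08d2c234a17ffc135d0516c22480870834e408b2434da0d16434580cf5c33d604d3c32d21091c234504f18224304b103251083001141))
noncomputable def tab4 : Tr := (Tr.l (nat_lit 0x7ffc295982915facc07ffdebcb07ffddbc907ffdcae36ed31ab4f667358ac45e9416b4a07ffd5b4307ffd4c4d4f1392bd046b290a4b3eb3cebc907ffcdcc2331200000000000000000000000000000000000000000000000000000000000000000000000000000))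
noncomputable def tab5 : Tr := (Tr.l (nat_lit 0x2322122113212121320333331203313010100003232130))
noncomputable def tab6 : Tr := (Tr.l (nat_lit 0))
noncomputable def tab7 : Tr := (Tr.l (nat_lit 0))
noncomputable def tab8 : Tr := (Tr.l (nat_lit 0))
noncomputable def tab9 : Tr := (Tr.l (nat_lit 0))
noncomputable def tab10 : Tr := (Tr.l (nat_lit 0x1841be0de0f1077e3ae15707607ac2c206a0b007a02cc0e38eb47842bf15c028c7502))
noncomputable def ty0 : TT := (TT.n (TT.n (TT.n (TT.l (Ty.ssub [] []))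
 (TT.l (Ty.rel3 (nat_lit 1) (nat_lit 0) (nat_lit 1))))
 (TT.n (TT.l (Ty.dfn))
 (TT.l (Ty.skip))))
 (TT.n (TT.n (TT.l (Ty.rel1 (nat_lit 0)))
 (TT.l (Ty.rel5 (nat_lit 3) (nat_lit 0) (nat_lit 3) (nat_lit 0) (nat_lit 3))))
 (TT.n (TT.l (Ty.srel [nat_lit 0]))
 (TT.l (Ty.rel3 (nat_lit 2) (nat_lit 0) (nat_lit 2))))))
noncomputable def ty1 : TT := (TT.n (TT.n (TT.n (TT.l (Ty.ssub [] []))
 (TT.l (Ty.rel3 (nat_lit 0) (nat_lit 1) (nat_lit 0))))
 (TT.n (TT.l (Ty.dfn))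
 (TT.l (Ty.skip))))
 (TT.n (TT.n (TT.l (Ty.rel1 (nat_lit 1)))
 (TT.l (Ty.srel [nat_lit 1])))
 (TT.l (Ty.rel3 (nat_lit 2) (nat_lit 1) (nat_lit 2)))))
noncomputable def ty2 : TT := (TT.n (TT.n (TT.n (TT.n (TT.l (Ty.ssub [] []))
 (TT.l (Ty.skip)))
 (TT.l (Ty.rel3 (nat_lit 0) (nat_lit 2) (nat_lit 0))))
 (TT.n (TT.n (TT.l (Ty.dfn))
 (TT.l (Ty.relL (nat_lit 0) [nat_lit 3, nat_lit 2, nat_lit 0, nat_lit 3, nat_lit 2, nat_lit 3, nat_lit 1, nat_lit 2, nat_lit 3, nat_lit 2, nat_lit 3, nat_lit 2, nat_lit 1, nat_lit 3, nat_lit 2, nat_lit 3])))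
 (TT.l (Ty.srel [nat_lit 2]))))
 (TT.n (TT.n (TT.n (TT.l (Ty.rel1 (nat_lit 2)))
 (TT.l (Ty.relL (nat_lit 3) [nat_lit 1, nat_lit 2, nat_lit 3, nat_lit 2, nat_lit 3, nat_lit 2, nat_lit 1, nat_lit 3, nat_lit 2, nat_lit 3, nat_lit 0, nat_lit 2, nat_lit 3, nat_lit 0, nat_lit 2, nat_lit 3])))
 (TT.l (Ty.rel3 (nat_lit 1) (nat_lit 2) (nat_lit 1))))
 (TT.n (TT.l (Ty.ssub [nat_lit 3, nat_lit 1, nat_lit 2, nat_lit 3, nat_lit 2, nat_lit 3] [nat_lit 3]))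
 (TT.l (Ty.srel [nat_lit 1, nat_lit 2, nat_lit 1])))))
noncomputable def ty3 : TT := (TT.n (TT.n (TT.n (TT.n (TT.l (Ty.rel1 (nat_lit 3)))
 (TT.l (Ty.relL (nat_lit 1) [nat_lit 2, nat_lit 3, nat_lit 2, nat_lit 3, nat_lit 2, nat_lit 1, nat_lit 3, nat_lit 2, nat_lit 3, nat_lit 0, nat_lit 2, nat_lit 3, nat_lit 0, nat_lit 2, nat_lit 3, nat_lit 2])))
 (TT.l (Ty.skip)))
 (TT.n (TT.l (Ty.srel [nat_lit 3]))
 (TT.l (Ty.relL (nat_lit 1) [nat_lit 3, nat_lit 1, nat_lit 3, nat_lit 1, nat_lit 3, nat_lit 1, nat_lit 3, nat_lit 1]))))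
 (TT.n (TT.n (TT.l (Ty.dfn))
 (TT.l (Ty.relL (nat_lit 0) [nat_lit 2, nat_lit 3, nat_lit 0, nat_lit 2, nat_lit 3, nat_lit 2, nat_lit 3, nat_lit 1, nat_lit 2, nat_lit 3, nat_lit 2, nat_lit 3, nat_lit 2, nat_lit 1, nat_lit 3, nat_lit 2])))
 (TT.n (TT.l (Ty.rel5 (nat_lit 0) (nat_lit 3) (nat_lit 0) (nat_lit 3) (nat_lit 0)))
 (TT.l (Ty.relL (nat_lit 1) [nat_lit 0, nat_lit 3, nat_lit 1, nat_lit 0, nat_lit 3, nat_lit 0, nat_lit 1, nat_lit 3, nat_lit 0, nat_lit 1, nat_lit 3, nat_lit 0, nat_lit 1])))))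
noncomputable def ty4 : TT := (TT.n (TT.l (Ty.skip))
 (TT.l (Ty.relL (nat_lit 2) [nat_lit 3, nat_lit 1, nat_lit 2, nat_lit 3, nat_lit 2, nat_lit 3, nat_lit 2, nat_lit 1, nat_lit 3, nat_lit 2, nat_lit 3, nat_lit 0, nat_lit 2, nat_lit 3, nat_lit 0, nat_lit 2, nat_lit 3])))
noncomputable def C : Cert where
  tabs := [tab0, tab1, tab2, tab3, tab4, tab5, tab6, tab7, tab8, tab9, tab10]
  tts := [ty0, ty1, ty2, ty3, ty4]
  k := nat_lit 6
  base := nat_lit 11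
  mJ := nat_lit 64
  mR := nat_lit 63
  W := nat_lit 18
  mA := nat_lit 4095
  mI := nat_lit 127
  S := nat_lit 12
  mC := nat_lit 63
  nc := nat_lit 4
  lo := nat_lit 64
  live := nat_lit 81
  hi1 := nat_lit 109
  AW := nat_lit 13
  mAW := nat_lit 8191
def il : List ℕ := [0, 1, 2, 3]
def rels : List (List ℕ) := [[0, 1, 0, 1],
  [0, 2, 0, 2],
  [1, 2, 1, 2],
  [0, 2, 3, 0, 2, 3, 2, 3, 1, 2, 3, 2, 3, 2, 1, 3, 2, 3],
  [0, 1, 3, 0, 1, 3, 0, 1, 3, 1, 0, 3, 1, 0, 3],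
  [1, 3, 1, 3, 1, 3, 1, 3, 1, 3],
  [0, 3, 0, 3, 0, 3]]
def subs : List (List ℕ) := [[0],
  [1],
  [2],
  [3, 1, 2, 3, 2, 3, 2, 3]]
theorem valid : C.valid il rels subs = true := by decide +kernel
theorem p0 : C.OkL 64 81 := C.okL_of 64 0 17 81 (by decide) (by decide +kernel)
theorem p1 : C.OkR 81 110 := C.okR_of 81 0 29 110 (by decide) (by decide +kernel)
theorem covers {G : Type*} [Group G] (ev : ℕ → G) (H : Subgroup G)
    (hinv : ∀ x < 4, ev (il.getD x 0) = (ev x)⁻¹) (hr : ∀ r ∈ rels, evw ev r = 1)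
    (hs : ∀ s ∈ subs, evw ev s ∈ H) : Covers H (gensub ev 4) 17 :=
  C.sound il rels subs 4 17 valid (p0) (p1) (by decide) (by decide) ev H hinv hr hs
end CfH6.S16T2
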