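import Cfsg.Agent.OD.Pre
import Cfsg.Agent.H6.TCTop
/-! coset enumeration certificate; generators a b c d e f ; index 1 -/
set_option autoImplicit false
set_option maxRecDepth 100000
set_option Elab.async false
set_option linter.all false
namespace CfH6.S4K
open CfH6
noncomputable def tab0 : Tr := (Tr.l (nat_lit 0x634d426a8cf309ffe4fff27ff885109ffe4fff10a193ffc9ffe73563923189149ffe9443292113ffc9ffe31d218e78cb1c41801141))
noncomputable def tab1 : Tr := (Tr.l (nat_lit 0x52ca27ff93ffc9ffe4fff18a213ffc9ffe314327ff93ffca48a4fff4b2288d609ffe4fff18a093ffc459a21d310e80c300438e1142))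
noncomputable def tab2 : Tr := (Tr.l (nat_lit 0x5fff2fff8c71cbffe5fff2fff97ffcc4885fff2fff90d14bffe31422fff97ffcbffe3141112b10b34479c22d118600873043901143))
noncomputable def tab3 : Tr := (Tr.l (nat_lit 0x3fff20e38fffc828c41451fff8fffc82863fff1fff8fffc7ffe3fff1fff8fffc82823fff112b8875443a840c010e88fffc43921144))
noncomputable def tab4 : Tr := (Tr.l (nat_lit 0x41c71fff8fffc7ffe3fff1fff8fffc7ffe52461fff8fffc82843fff4b21105047ffe3fff112c08b4081803fff1fff8873443941145))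
noncomputable def tab5 : Tr := (Tr.l (nat_lit 0x62c81fff94b287ffe3fff1fff8fffc7ffe3fff1fff90508c486524520a08fffc7ffe23581fff9030045983fff11668873843961146))
noncomputable def tab6 : Tr := (Tr.l (nat_lit 0x1a546cc226130aefa968d2ad251e52a8b9335c731e44952a2b965447236542b25f68034c073e035d159388bbc152a0a5d0458800000))
noncomputable def tab7 : Tr := (Tr.l (nat_lit 0x4323310310542543215432100))
noncomputable def tab8 : Tr := (Tr.l (nat_lit 0x13c0))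
noncomputable def tab9 : Tr := (Tr.l (nat_lit 0x1340))
noncomputable def tab10 : Tr := (Tr.l (nat_lit 0))
noncomputable def tab11 : Tr := (Tr.l (nat_lit 0))
noncomputable def tab12 : Tr := (Tr.l (nat_lit 0x1340))
noncomputable def tab13 : Tr := (Tr.l (nat_lit 0))
noncomputable def tab14 : Tr := (Tr.l (nat_lit 0x240b1c3980460eb81161861c306b4b0c58a1450e3092c0a5053064012c4))
noncomputable def ty0 : TT := (TT.n (TT.n (TT.n (TT.l (Ty.srel [nat_lit 0]))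
 (TT.l (Ty.rel3 (nat_lit 1) (nat_lit 0) (nat_lit 1))))
 (TT.n (TT.l (Ty.rel1 (nat_lit 0)))
 (TT.l (Ty.rel3 (nat_lit 5) (nat_lit 0) (nat_lit 5)))))
 (TT.n (TT.n (TT.l (Ty.dfn))
 (TT.l (Ty.rel3 (nat_lit 4) (nat_lit 0) (nat_lit 4))))
 (TT.n (TT.l (Ty.skip))
 (TT.l (Ty.srel [nat_lit 3, nat_lit 5, nat_lit 4, nat_lit 5, nat_lit 3])))))
noncomputable def ty1 : TT := (TT.n (TT.n (TT.n (TT.l (Ty.srel [nat_lit 1]))
 (TT.l (Ty.rel3 (nat_lit 4) (nat_lit 1) (nat_lit 4))))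
 (TT.l (Ty.dfn)))
 (TT.n (TT.l (Ty.rel1 (nat_lit 1)))
 (TT.l (Ty.skip))))
noncomputable def ty2 : TT := (TT.n (TT.n (TT.n (TT.l (Ty.srel [nat_lit 2]))
 (TT.l (Ty.skip)))
 (TT.l (Ty.dfn)))
 (TT.n (TT.n (TT.l (Ty.rel1 (nat_lit 2)))
 (TT.l (Ty.rel3 (nat_lit 3) (nat_lit 2) (nat_lit 3))))
 (TT.l (Ty.rel3 (nat_lit 1) (nat_lit 4) (nat_lit 5)))))
noncomputable def ty3 : TT := (TT.n (TT.n (TT.l (Ty.srel [nat_lit 3]))
 (TT.l (Ty.skip)))
 (TT.n (TT.l (Ty.rel1 (nat_lit 3)))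
 (TT.l (Ty.dfn))))
noncomputable def ty4 : TT := (TT.n (TT.n (TT.n (TT.l (Ty.srel [nat_lit 4]))
 (TT.l (Ty.rel3 (nat_lit 5) (nat_lit 2) (nat_lit 1))))
 (TT.l (Ty.skip)))
 (TT.n (TT.l (Ty.rel1 (nat_lit 4)))
 (TT.l (Ty.dfn))))
noncomputable def ty5 : TT := (TT.n (TT.n (TT.n (TT.l (Ty.srel [nat_lit 5]))
 (TT.l (Ty.rel3 (nat_lit 4) (nat_lit 1) (nat_lit 2))))
 (TT.l (Ty.skip)))
 (TT.n (TT.n (TT.l (Ty.rel1 (nat_lit 5)))
 (TT.l (Ty.rel3 (nat_lit 2) (nat_lit 1) (nat_lit 4))))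
 (TT.l (Ty.dfn))))
noncomputable def ty6 : TT := (TT.n (TT.n (TT.n (TT.l (Ty.skip))
 (TT.l (Ty.relL (nat_lit 2) [nat_lit 0, nat_lit 2, nat_lit 0, nat_lit 2, nat_lit 0])))
 (TT.n (TT.l (Ty.srel [nat_lit 2, nat_lit 0, nat_lit 2, nat_lit 0, nat_lit 2, nat_lit 0]))
 (TT.l (Ty.srel [nat_lit 0, nat_lit 2, nat_lit 0, nat_lit 3, nat_lit 0, nat_lit 3, nat_lit 4, nat_lit 2, nat_lit 0, nat_lit 3]))))
 (TT.n (TT.n (TT.l (Ty.srel [nat_lit 0, nat_lit 1, nat_lit 2, nat_lit 0, nat_lit 1, nat_lit 2, nat_lit 0, nat_lit 1, nat_lit 2, nat_lit 1, nat_lit 0, nat_lit 2, nat_lit 1, nat_lit 0, nat_lit 2]))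
 (TT.l (Ty.relL (nat_lit 5) [nat_lit 0, nat_lit 5, nat_lit 0])))
 (TT.l (Ty.srel [nat_lit 1, nat_lit 2, nat_lit 1, nat_lit 2, nat_lit 1, nat_lit 2, nat_lit 1, nat_lit 2, nat_lit 1, nat_lit 2]))))
noncomputable def C : Cert where
  tabs := [tab0, tab1, tab2, tab3, tab4, tab5, tab6, tab7, tab8, tab9, tab10, tab11, tab12, tab13, tab14]
  tts := [ty0, ty1, ty2, ty3, ty4, ty5, ty6]
  k := nat_lit 6
  base := nat_lit 8
  mJ := nat_lit 64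
  mR := nat_lit 63
  W := nat_lit 17
  mA := nat_lit 4095
  mI := nat_lit 127
  S := nat_lit 12
  mC := nat_lit 31
  nc := nat_lit 6
  lo := nat_lit 64
  live := nat_lit 65
  hi1 := nat_lit 88
  AW := nat_lit 13
  mAW := nat_lit 8191
def il : List ℕ := [0, 1, 2, 3, 4, 5]
def rels : List (List ℕ) := [[0, 1, 0, 1],
  [0, 1, 2, 0, 1, 2, 0, 1, 2, 1, 0, 2, 1, 0, 2],
  [1, 2, 1, 2, 1, 2, 1, 2, 1, 2],
  [0, 2, 0, 2, 0, 2],
  [0, 1, 2, 1, 3, 0, 1, 2, 1, 3, 1, 0, 2, 1, 3],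
  [0, 2, 0, 3, 0, 2, 4, 3, 0, 3],
  [0, 3, 1, 3, 0, 3, 1, 3],
  [1, 4, 1, 4],
  [0, 4, 0, 4],
  [2, 3, 2, 3],
  [1, 3, 5, 2, 5, 3, 1, 3, 5, 2, 5, 3],
  [2, 5, 2, 5, 2, 5, 2, 5],
  [3, 5, 3, 5, 3, 5],
  [0, 3, 5, 4, 5, 3],
  [0, 5, 0, 5],
  [1, 4, 5, 2]]
def subs : List (List ℕ) := []
theorem valid : C.valid il rels subs = true := by decide +kernel
theorem p0 : C.OkL 64 65 := C.okL_of 64 0 1 65 (by decide) (by decide +kernel)
theorem p1 : C.OkR 65 89 := C.okR_of 65 0 24 89 (by decide) (by decide +kernel)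
theorem covers {G : Type*} [Group G] (ev : ℕ → G) (H : Subgroup G)
    (hinv : ∀ x < 6, ev (il.getD x 0) = (ev x)⁻¹) (hr : ∀ r ∈ rels, evw ev r = 1)
    (hs : ∀ s ∈ subs, evw ev s ∈ H) : Covers H (gensub ev 6) 1 :=
  C.sound il rels subs 6 1 valid (p0) (p1) (by decide) (by decide) ev H hinv hr hs
end CfH6.S4K
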