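import Cfsg.Agent.OD.Pre
import Cfsg.Agent.H6.TCTop
/-! coset enumeration certificate; generators a b c d e ; index 64 -/
set_option autoImplicit false
set_option maxRecDepth 100000
set_option Elab.async false
set_option linter.all false
namespace CfH6.S4T2
open CfH6
noncomputable def t0 : Tr := (Tr.n (Tr.l (nat_lit 0x398fe75df8b23e0a57d394f6691e8b13b2a277146f028de4c73a9a06a3bee0629c8eab30a0733b6ce359844a311065e194d6285d0a6320c95f138de259c4832b88d69290ac94db44bb710552114d021db0c4ae8c7534130c51d4464acb8b5b10eca2258c82a68c654110b821980442d1044a18e9872138432a8884f38a962154062a28c74830a8e515104324886462048230d0841a184140))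
 (Tr.l (nat_lit 0x2ffff5fffebfffd7fff9c88a5fffe4160d7fffaffff5fffebfffd7fffaffff3970e2296ca4c2b0d8410d1cbfffd7fffaffff)))
noncomputable def t1 : Tr := (Tr.n (Tr.l (nat_lit 0x2cefe59df884bc0ca773ccf6731e8843a08a7d116f841da96a3a8897929ace725c94db2a5c6f13ae032d80832f21462190d6221d8832d8c85c11ce64195c4e388c85820caa255b082a908c6e18ea621db4e3ae8896810ed241540c4c88896410ecc4153443b19888b110be2198482250865a18c9261a14432b0c54530b042154443a79454818e8e40d0c4326102411088c30d0841a204140))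
 (Tr.l (nat_lit 0x33fff67ffecfffc642cb3fff67ffecfffd9fffb3fff18ea8cfffd9fffb3fff67ffecfffc82a733fff67ffe4112d9fffb3fff)))
noncomputable def t2 : Tr := (Tr.n (Tr.l (nat_lit 0x132fe261f96c3e9e47b24af8621d96bbc88a733c2dc425e8c3b498766216f061d8c4f3618661112de489dc45b691f71846be22178843ab13685250e421d0a4b2acc64210e4a3a1083b81486018f28425a8c2a8bcf5b1971c9216863c938b4f10e9c82158a3a80c68c18d102192c832e9085518d0c4215cc2230c58320ea460d10e424109493068641534a5229044a2088e30e0041a084140))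
 (Tr.l (nat_lit 0x1865f6fffe61965bfffb7fff30d0a5296dbfff985546fffedfffdbfff98553226ce6153c83c790f6230898dfffdbfff98242)))
noncomputable def t3 : Tr := (Tr.n (Tr.l (nat_lit 0x114fa225e425bf8667a110ec495f0253f088720c8d6125ec8aba0567510ec6125e0433085e6c10cc016d7ce4b2a9d704c6ee219742ab305464418b0751a4253699368090e63420c23b88476f334dc2154423b53cf5510aa051d5863c984d6710a9a1216866c70c68d18d1221128232f0465b18d0e21118232b8c58410688115482523883432129211539c6210444b0889030e0440a004241))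
 (Tr.l (nat_lit 0x2ffff10cb2bfffd7fff886855fffec315442aa2ffff5fffe2160842a9affff10a9ebfffc23c80844c21ec4bfffc41212ffff)))
noncomputable def t4 : Tr := (Tr.n (Tr.l (nat_lit 0x24cfc19dfcb23c888760caf4491ec32be8647410ed4125f03139123780c2cc485d46e3805d71194ca2197825b00566110cba121dca5318865a10cae681cc25b788656096d221548aab610a6d10aa211db823b588550094aa11da042a70854d08ece11d9084ad8844b1089411988232f8465c1088c11964232c0834408aa81154c41a18c54708c901153c41208444c088922050021a284242))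
 (Tr.l (nat_lit 0x1ffff3fffe7fffc43429ffff3fffe7fffcffff9ffff10b047fffcffff9ffff3fffe7fffc23c89ffff3fffe11a2cffff9ffff)))
noncomputable def t5 : Tr := (Tr.n (Tr.l (nat_lit 0))
 (Tr.l (nat_lit 0x2226b1a89fa599f2bace17463aaae63972eb2615462b34a95611289314d24c92ab2429622b27415547a2a6e652c65a288d42)))
noncomputable def t6 : Tr := (Tr.n (Tr.l (nat_lit 0x3314321341223232341043144104141043243144310443104324324321410430))
 (Tr.l (nat_lit 0x232432032433232132132)))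
noncomputable def t7 : Tr := (Tr.n (Tr.l (nat_lit 0x2180))
 (Tr.l (nat_lit 0)))
noncomputable def t8 : Tr := (Tr.n (Tr.l (nat_lit 0x25008e02180))
 (Tr.l (nat_lit 0)))
noncomputable def t9 : Tr := (Tr.n (Tr.l (nat_lit 0x8e02040))
 (Tr.l (nat_lit 0)))
noncomputable def t10 : Tr := (Tr.n (Tr.l (nat_lit 0))
 (Tr.l (nat_lit 0x21e28512143848e08490020e3838a4e38f0a3228e02283)))
noncomputable def tab0 : Tr := t0
noncomputable def tab1 : Tr := t1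
noncomputable def tab2 : Tr := t2
noncomputable def tab3 : Tr := t3
noncomputable def tab4 : Tr := t4
noncomputable def tab5 : Tr := t5
noncomputable def tab6 : Tr := t6
noncomputable def tab7 : Tr := t7
noncomputable def tab8 : Tr := (Tr.l (nat_lit 0))
noncomputable def tab9 : Tr := t8
noncomputable def tab10 : Tr := t9
noncomputable def tab11 : Tr := (Tr.l (nat_lit 0))
noncomputable def tab12 : Tr := t10
noncomputable def ty0 : TT := (TT.n (TT.n (TT.n (TT.n (TT.l (Ty.ssub [] []))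
 (TT.l (Ty.srel [nat_lit 3, nat_lit 0, nat_lit 2, nat_lit 0, nat_lit 3, nat_lit 0, nat_lit 2, nat_lit 4, nat_lit 3])))
 (TT.l (Ty.rel3 (nat_lit 1) (nat_lit 0) (nat_lit 1))))
 (TT.n (TT.n (TT.l (Ty.rel3 (nat_lit 4) (nat_lit 0) (nat_lit 4)))
 (TT.l (Ty.skip)))
 (TT.l (Ty.relL (nat_lit 3) [nat_lit 1, nat_lit 3, nat_lit 0, nat_lit 3, nat_lit 1, nat_lit 3]))))
 (TT.n (TT.n (TT.n (TT.l (Ty.rel1 (nat_lit 0)))
 (TT.l (Ty.relL (nat_lit 2) [nat_lit 4, nat_lit 3, nat_lit 0, nat_lit 3, nat_lit 0, nat_lit 2, nat_lit 0, nat_lit 3])))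
 (TT.l (Ty.rel5 (nat_lit 2) (nat_lit 0) (nat_lit 2) (nat_lit 0) (nat_lit 2))))
 (TT.n (TT.n (TT.l (Ty.dfn))
 (TT.l (Ty.srel [nat_lit 3, nat_lit 1, nat_lit 3, nat_lit 0, nat_lit 3, nat_lit 1, nat_lit 3])))
 (TT.l (Ty.srel [nat_lit 2, nat_lit 4, nat_lit 3, nat_lit 0, nat_lit 3, nat_lit 0, nat_lit 2, nat_lit 0, nat_lit 3])))))
noncomputable def ty1 : TT := (TT.n (TT.n (TT.n (TT.n (TT.l (Ty.ssub [] []))
 (TT.l (Ty.relL (nat_lit 0) [nat_lit 3, nat_lit 1, nat_lit 2, nat_lit 1, nat_lit 0, nat_lit 3, nat_lit 1, nat_lit 2, nat_lit 0, nat_lit 1, nat_lit 3, nat_lit 1, nat_lit 2])))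
 (TT.l (Ty.relL (nat_lit 3) [nat_lit 0, nat_lit 3, nat_lit 1, nat_lit 3, nat_lit 0, nat_lit 3])))
 (TT.n (TT.n (TT.l (Ty.rel3 (nat_lit 4) (nat_lit 1) (nat_lit 4)))
 (TT.l (Ty.srel [nat_lit 2, nat_lit 1, nat_lit 2, nat_lit 1, nat_lit 2, nat_lit 1, nat_lit 2, nat_lit 1, nat_lit 2])))
 (TT.l (Ty.relL (nat_lit 2) [nat_lit 1, nat_lit 2, nat_lit 1, nat_lit 2, nat_lit 1, nat_lit 2, nat_lit 1, nat_lit 2]))))
 (TT.n (TT.n (TT.n (TT.l (Ty.rel1 (nat_lit 1)))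
 (TT.l (Ty.srel [nat_lit 3, nat_lit 0, nat_lit 3, nat_lit 1, nat_lit 3, nat_lit 0, nat_lit 3])))
 (TT.l (Ty.srel [nat_lit 1])))
 (TT.n (TT.n (TT.l (Ty.dfn))
 (TT.l (Ty.skip)))
 (TT.l (Ty.rel3 (nat_lit 0) (nat_lit 1) (nat_lit 0))))))
noncomputable def ty2 : TT := (TT.n (TT.n (TT.n (TT.n (TT.l (Ty.ssub [] []))
 (TT.l (Ty.relL (nat_lit 0) [nat_lit 1, nat_lit 2, nat_lit 0, nat_lit 1, nat_lit 2, nat_lit 1, nat_lit 0, nat_lit 2, nat_lit 1, nat_lit 0, nat_lit 2, nat_lit 0, nat_lit 1])))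
 (TT.n (TT.l (Ty.rel5 (nat_lit 0) (nat_lit 2) (nat_lit 0) (nat_lit 2) (nat_lit 0)))
 (TT.l (Ty.skip))))
 (TT.n (TT.n (TT.l (Ty.srel [nat_lit 2]))
 (TT.l (Ty.srel [nat_lit 1, nat_lit 2, nat_lit 1, nat_lit 2, nat_lit 1, nat_lit 2, nat_lit 1, nat_lit 2, nat_lit 1])))
 (TT.l (Ty.relL (nat_lit 0) [nat_lit 3, nat_lit 0, nat_lit 2, nat_lit 0, nat_lit 3, nat_lit 0, nat_lit 3, nat_lit 4]))))
 (TT.n (TT.n (TT.n (TT.l (Ty.rel3 (nat_lit 3) (nat_lit 2) (nat_lit 3)))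
 (TT.l (Ty.srel [nat_lit 0, nat_lit 3, nat_lit 0, nat_lit 2, nat_lit 0, nat_lit 3, nat_lit 0, nat_lit 3, nat_lit 4])))
 (TT.l (Ty.dfn)))
 (TT.n (TT.n (TT.l (Ty.rel1 (nat_lit 2)))
 (TT.l (Ty.srel [nat_lit 0, nat_lit 1, nat_lit 2, nat_lit 0, nat_lit 1, nat_lit 2, nat_lit 0, nat_lit 1, nat_lit 2, nat_lit 1, nat_lit 0, nat_lit 2, nat_lit 1, nat_lit 0])))
 (TT.l (Ty.relL (nat_lit 1) [nat_lit 2, nat_lit 1, nat_lit 2, nat_lit 1, nat_lit 2, nat_lit 1, nat_lit 2, nat_lit 1])))))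
noncomputable def ty3 : TT := (TT.n (TT.n (TT.n (TT.n (TT.l (Ty.rel1 (nat_lit 3)))
 (TT.l (Ty.srel [nat_lit 2, nat_lit 3, nat_lit 2])))
 (TT.l (Ty.relL (nat_lit 1) [nat_lit 2, nat_lit 1, nat_lit 0, nat_lit 3, nat_lit 1, nat_lit 2, nat_lit 1, nat_lit 0, nat_lit 3, nat_lit 1, nat_lit 2, nat_lit 0, nat_lit 1])))
 (TT.n (TT.n (TT.l (Ty.srel [nat_lit 3]))
 (TT.l (Ty.skip)))
 (TT.l (Ty.relL (nat_lit 0) [nat_lit 3, nat_lit 1, nat_lit 3, nat_lit 0, nat_lit 3, nat_lit 1]))))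
 (TT.n (TT.n (TT.n (TT.l (Ty.dfn))
 (TT.l (Ty.relL (nat_lit 1) [nat_lit 3, nat_lit 0, nat_lit 3, nat_lit 1, nat_lit 3, nat_lit 0])))
 (TT.l (Ty.srel [nat_lit 0, nat_lit 1, nat_lit 2, nat_lit 1, nat_lit 3, nat_lit 0, nat_lit 1, nat_lit 2, nat_lit 1, nat_lit 3, nat_lit 1, nat_lit 0, nat_lit 2, nat_lit 1])))
 (TT.n (TT.n (TT.l (Ty.rel3 (nat_lit 2) (nat_lit 3) (nat_lit 2)))
 (TT.l (Ty.relL (nat_lit 0) [nat_lit 2, nat_lit 4, nat_lit 3, nat_lit 0, nat_lit 3, nat_lit 0, nat_lit 2, nat_lit 0])))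
 (TT.l (Ty.relL (nat_lit 0) [nat_lit 3, nat_lit 0, nat_lit 2, nat_lit 0, nat_lit 3, nat_lit 0, nat_lit 2, nat_lit 4])))))
noncomputable def ty4 : TT := (TT.n (TT.n (TT.n (TT.l (Ty.rel1 (nat_lit 4)))
 (TT.l (Ty.rel3 (nat_lit 1) (nat_lit 4) (nat_lit 1))))
 (TT.n (TT.l (Ty.relL (nat_lit 2) [nat_lit 0, nat_lit 3, nat_lit 0, nat_lit 2, nat_lit 0, nat_lit 3, nat_lit 0, nat_lit 3]))
 (TT.l (Ty.skip))))
 (TT.n (TT.n (TT.l (Ty.dfn))
 (TT.l (Ty.rel3 (nat_lit 0) (nat_lit 4) (nat_lit 0))))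
 (TT.l (Ty.relL (nat_lit 3) [nat_lit 0, nat_lit 3, nat_lit 0, nat_lit 2, nat_lit 0, nat_lit 3, nat_lit 0, nat_lit 2]))))
noncomputable def ty5 : TT := (TT.n (TT.n (TT.n (TT.l (Ty.skip))
 (TT.l (Ty.relL (nat_lit 0) [nat_lit 3, nat_lit 0, nat_lit 2, nat_lit 0, nat_lit 3, nat_lit 0, nat_lit 3, nat_lit 4, nat_lit 2])))
 (TT.n (TT.l (Ty.relL (nat_lit 0) [nat_lit 3, nat_lit 0, nat_lit 2, nat_lit 0, nat_lit 3, nat_lit 0, nat_lit 2, nat_lit 4, nat_lit 3]))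
 (TT.l (Ty.relL (nat_lit 1) [nat_lit 3, nat_lit 0, nat_lit 1, nat_lit 2, nat_lit 1, nat_lit 3, nat_lit 0, nat_lit 1, nat_lit 2, nat_lit 1, nat_lit 3, nat_lit 1, nat_lit 0, nat_lit 2]))))
 (TT.n (TT.n (TT.l (Ty.srel [nat_lit 3, nat_lit 2, nat_lit 3, nat_lit 2]))
 (TT.l (Ty.relL (nat_lit 4) [nat_lit 2, nat_lit 0, nat_lit 3, nat_lit 0, nat_lit 2, nat_lit 0, nat_lit 3, nat_lit 0, nat_lit 3])))
 (TT.n (TT.l (Ty.relL (nat_lit 4) [nat_lit 0, nat_lit 4, nat_lit 0]))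
 (TT.l (Ty.relL (nat_lit 4) [nat_lit 3, nat_lit 0, nat_lit 3, nat_lit 0, nat_lit 2, nat_lit 0, nat_lit 3, nat_lit 0, nat_lit 2])))))
noncomputable def C : Cert where
  tabs := [tab0, tab1, tab2, tab3, tab4, tab5, tab6, tab7, tab8, tab9, tab10, tab11, tab12]
  tts := [ty0, ty1, ty2, ty3, ty4, ty5]
  k := nat_lit 6
  base := nat_lit 13
  mJ := nat_lit 192
  mR := nat_lit 63
  W := nat_lit 19
  mA := nat_lit 16383
  mI := nat_lit 255
  S := nat_lit 14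
  mC := nat_lit 31
  nc := nat_lit 5
  lo := nat_lit 64
  live := nat_lit 128
  hi1 := nat_lit 148
  AW := nat_lit 14
  mAW := nat_lit 16383
def il : List ℕ := [0, 1, 2, 3, 4]
def rels : List (List ℕ) := [[0, 1, 0, 1],
  [0, 1, 2, 0, 1, 2, 0, 1, 2, 1, 0, 2, 1, 0, 2],
  [1, 2, 1, 2, 1, 2, 1, 2, 1, 2],
  [0, 2, 0, 2, 0, 2],
  [0, 1, 2, 1, 3, 0, 1, 2, 1, 3, 1, 0, 2, 1, 3],
  [0, 2, 0, 3, 0, 2, 4, 3, 0, 3],
  [0, 3, 1, 3, 0, 3, 1, 3],
  [1, 4, 1, 4],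
  [0, 4, 0, 4],
  [2, 3, 2, 3]]
def subs : List (List ℕ) := [[0],
  [1],
  [2]]
theorem valid : C.valid il rels subs = true := by decide +kernel
theorem p0 : C.OkL 64 128 := C.okL_of 64 0 64 128 (by decide) (by decide +kernel)
theorem p1 : C.OkR 128 149 := C.okR_of 128 0 21 149 (by decide) (by decide +kernel)
theorem covers {G : Type*} [Group G] (ev : ℕ → G) (H : Subgroup G)
    (hinv : ∀ x < 5, ev (il.getD x 0) = (ev x)⁻¹) (hr : ∀ r ∈ rels, evw ev r = 1)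
    (hs : ∀ s ∈ subs, evw ev s ∈ H) : Covers H (gensub ev 5) 64 :=
  C.sound il rels subs 5 64 valid (p0) (p1) (by decide) (by decide) ev H hinv hr hs
end CfH6.S4T2
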