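import Cfsg.Agent.OD.Pre
import Cfsg.Agent.H6.TCTop
/-! coset enumeration certificate; generators a b c d e f ; index 85 -/
set_option autoImplicit false
set_option maxRecDepth 100000
set_option Elab.async false
set_option linter.all false
namespace CfH6.S4T5
open CfH6
noncomputable def t0 : Tr := (Tr.n (Tr.n (Tr.l (nat_lit 0x2096d14d7e0c98e14d7c08a6b18d7a0d58418d7808b61294761cb75518800d1870cb861075c1cc700ca810d4820ca7f106590cb7b2536a08858208571cb6720752189652486418c6324b620cc770894f2094e1c95b18a5d0c8710ca5e18b5a0c76c0c9690c9681054a1c75318a540c8550c86610448086490ca600ca5f106450874b0c84c0c6560c7500c55110342144460c74d104430c5440c4470834104140)) (Tr.l (nat_lit 0x3bfff3bfff3bfff3bfff108b81d585215b93bfff3bfff3bfff3bfff3bfff3bfff3bfff3bfff3bfff3bfff3bfff3bfff3bfff20db1)))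
 (Tr.l (nat_lit 0x3bfff3bfff3caba3bfff3bfff3bfff0d6ce0c9d03bfff3bfff3bfff3bfff20db33bfff0cec03bfff14aaf0cc803bfff3bfff3bfff3bfff3bfff3bfff3bfff3bfff3bfff3bfff3bfff3bfff3bfff3bfff2099e3bfff3bfff1c6963bfff3bfff3bfff3bfff3bfff3bfff3bfff35c892568b15a8a219881cb83527851087d14e8d14e8c0d7930db920dd940da910907320a72316cf094790cc900936e1c96f2cbae)))
noncomputable def t1 : Tr := (Tr.n (Tr.n (Tr.l (nat_lit 0x1076c089cd0c98f089c9089c808ac608ac308ac108ac02537608bbe0cb88089bc1075c0c98608abb0ca83088b9106590c87f088b624a6a088b4106561c76710551208651cd64089b3089b2089b1089b01074d51153088ad0c8720d355087aa0c76d087a91054a0c7681525b18654086a8104480c666086a7088a4106450c85f0879f0869e0c6570859d0c552145440849b0c74e0c647103420c4430839504140)) (Tr.l (nat_lit 0x33fff1088433fff35cd1159850d8b8108821087e0dd8a33fff33fff1087c1087b33fff1097a33fff33fff1097933fff1097810977)))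
 (Tr.l (nat_lit 0x33fff1ca7533fff108731c97033fff1076e217cf352b71076b33fff107691086310862108611086033fff33fff1075d33fff33fff1065a10658105531055033fff33fff1074f33fff33fff33fff33fff1064c1054b104491c7981034633fff33fff33fff1c6960c797102412e9870eb921ea93108801ca811087d5a8851ec8d26b8c5678a29ccc528731ca740ea941087109ad0089d31c96f089ce0cb900c991)))
noncomputable def t2 : Tr := (Tr.n (Tr.n (Tr.l (nat_lit 0x3517f20bca0c76b18d7c09c8920cc40c86118a7808a8b0c85f09c8a5585e1895d391721496c0948551b5b1885a208b708a710887d0c6571cc693526830f6708c522ca530c5502cd580c74f089792896008976208ae08a730c64c207ab0896e0c54b08e630876a14a4d24f551865408b6518b66147510866408862208a108b560875c08659188441c549185461454708648107430894a088450c2410834204140)) (Tr.l (nat_lit 0xcabf4bfff19e8d0c8834bfff3dccf4bfff4bfff4bfff4bfff18a7e4efc94bfff0c9b34bfff4bfff18b7a4bfff4bfff4bfff4bfff)))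
 (Tr.l (nat_lit 0x8bd44bfff4bfff4bfff4bfff4bfff4bfff4bfff0c76d4bfff4bfff4bfff08ac74bfff4bfff4bfff4bfff0c75e4bfff4bfff0c65b4bfff4bfff4bfff4bfff0c49b4bfff4bfff4bfff4bfff0c74e4bfff4bfff4bfff4bfff4bfff085a64bfff4bfff4bfff4bfff4bfff4bfff1988e0c884196925698d45c905278f0999421fd20aa860c9773db7541b7b399881d6873e98c3137008993209d11558209b8019a81)))
noncomputable def t3 : Tr := (Tr.n (Tr.n (Tr.l (nat_lit 0x2d2720c76b149ca0c7690898d0c86114ac40c86008a8c20e6a54c5e09a8a0c75c0937f09a815125b09b850c659148b8088800887e08f760887c18e6828e55188560c55008e530c74f08f580897a0897824c57148af0c64c08873147ac0c54b0876e20e6208d5f0896608f670c4491cd641874d107510866508863148a2088520875d0865a0c443085540c342105470c2410c544086450854a084480834604140)) (Tr.l (nat_lit 0x3ffff3ffff3ffff3ffff3ffff296872e2833ffff41b863ffff0c87d3ffff3ffff3ffff3ffff3ffff0c9793ffff0c9b13ffff3ffff)))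
 (Tr.l (nat_lit 0x3ffff3ffff0c8ad0a0913ffff0c7aa3ffff0c76d3ffff3ffff3ffff3ffff3ffff3ffff08ac23ffff0c75e3ffff089bd0c65b3ffff3ffff3ffff3ffff3ffff3ffff3ffff3ffff3ffff0c74e3ffff3ffff3ffff3ffff3ffff3ffff3ffff0c3953ffff3ffff3ffff3ffff0849a0c8840988e0c8822dfbc09d8856787117930c87b0c977527862997439dd235c90157cf15ccc29a6f08994163ce08992319710c76c)))
noncomputable def t4 : Tr := (Tr.n (Tr.n (Tr.l (nat_lit 0x1499008f7a0c9cb04e7808f771507e0cac514f7c1507b2d5762075d2075c1498a14988056802065a2065914885148831488128e610556a089601cd68205541c86610b6414c65090621516314f6b14a6924d5f2064c14875148742054b147701476f0874f1cc5718c562044914667086501c7521875114753148580c8a30c8a01475e1465b10b4a14555106480c59c085460c7990c6980c5970c4960834104240)) (Tr.l (nat_lit 0x33fff33fff33fff33fff199b9208821d8b833fff1ddbc2087d33fff1d0c11d1c033fff33fff2097933fff33fff33fff33fff152c8)))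
 (Tr.l (nat_lit 0x33fff208ad33fff33fff207aa33fff15ad033fff33fff1d0b133fff1cbb01d2b233fff151b614cb433fff33fff149be33fff33fff148bb1c9a433fff33fff33fff33fff14aa92074e33fff33fff2074d33fff33fff33fff2044733fff33fff2064520544204432034233fff15e9319d94117871d7862087f5a782568840908c1518d15589208730948b2087215892158912076e526d02076d0c9cf2076c15771)))
noncomputable def t5 : Tr := (Tr.n (Tr.n (Tr.l (nat_lit 0x547904f8c189cc1caac087681ce7a2137f1caaf0885f18abf58c785588104f5c04989049875127c0538005259048840488208657188b5086560487b0d06704a5b0c76510c540c95d0cf5a0874e0874d049771085204a6314e7310966050621516e0854a0476b047691085104d64084480495e04955084470864504861048600854408443046580834204553045500c4460474f0464c0454b044490814004241)) (Tr.l (nat_lit 0x33fff33fff0888333fff2979311a8a33fff33fff0887d33fff33fff33fff33fff33fff33fff33fff33fff33fff33fff33fff33fff)))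
 (Tr.l (nat_lit 0x897633fff33fff33fff33fff33fff11aca0548b33fff33fff0876a33fff33fff33fff33fff33fff04b782948133fff04b7c33fff33fff33fff33fff33fff33fff0849a33fff33fff33fff33fff33fff33fff33fff33fff33fff33fff045a533fff33fff33fff33fff33fff05e86198d00db855a9832e9885678a528930cf8d0ce7e213b819bcf0887206a900887129d9405c920876d189d20876c195ae2526f)))
noncomputable def t6 : Tr := (Tr.n (Tr.n (Tr.l (nat_lit 0)) (Tr.l (nat_lit 0x4e7578a66e868918267a7e78e7a68f4a4797687e7268b6dd796a66d2707c66d6946e586277a41c7d5e5835a5823ea635717852c60)))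
 (Tr.l (nat_lit 0xbe86a39d75b9f4cb6789b2270ae04baa584a657da277e9ec589a97696e7b92f638f0628ab4f86d7730b753577481e5d311702da6f7e15a7ad6b2905e7504c24d4820f4672c611cc4e18d4e1534e10c4d0cf506d0496914b0884764e466104608b455c94458a435494251141000000000000000000000000000000000000000000000000000000000000000000000000000000000000000000000000000000000)))
noncomputable def t7 : Tr := (Tr.n (Tr.n (Tr.l (nat_lit 0x1323532352443104431052514132325514324325104351055105535303301250)) (Tr.l (nat_lit 0x215204115431121431311)))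
 (Tr.l (nat_lit 0x5431431321511111321321111251432411141344441323141033245451454543)))
noncomputable def t8 : Tr := (Tr.n (Tr.n (Tr.l (nat_lit 0x2b80)) (Tr.l (nat_lit 0)))
 (Tr.l (nat_lit 0x33c0)))
noncomputable def t9 : Tr := (Tr.n (Tr.n (Tr.l (nat_lit 0x2a00)) (Tr.l (nat_lit 0)))
 (Tr.l (nat_lit 0x3400cc02f00)))
noncomputable def t10 : Tr := (Tr.n (Tr.n (Tr.l (nat_lit 0xae02ac0)) (Tr.l (nat_lit 0)))
 (Tr.l (nat_lit 0xd2033c0)))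
noncomputable def t11 : Tr := (Tr.n (Tr.n (Tr.l (nat_lit 0xaf02b00)) (Tr.l (nat_lit 0)))
 (Tr.l (nat_lit 0xcf03300)))
noncomputable def t12 : Tr := (Tr.n (Tr.l (nat_lit 0))
 (Tr.l (nat_lit 0x33c0d002e40)))
noncomputable def t13 : Tr := (Tr.n (Tr.n (Tr.l (nat_lit 0x2bc0ae02b00)) (Tr.l (nat_lit 0)))
 (Tr.l (nat_lit 0x3480cf03400)))
noncomputable def t14 : Tr := (Tr.n (Tr.n (Tr.l (nat_lit 0)) (Tr.l (nat_lit 0x2e61bc8f122b802e01b786e25c592e45c013461ce8f3a1c912c40)))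
 (Tr.l (nat_lit 0xd40ab43cc12a84bd03380ce132a2b112fe5b0131c2b313083c086f84ba0e9049f86c619f027a1a60a9459c065819c02683)))
noncomputable def tab0 : Tr := t0
noncomputable def tab1 : Tr := t1
noncomputable def tab2 : Tr := t2
noncomputable def tab3 : Tr := t3
noncomputable def tab4 : Tr := t4
noncomputable def tab5 : Tr := t5
noncomputable def tab6 : Tr := t6
noncomputable def tab7 : Tr := t7
noncomputable def tab8 : Tr := t8
noncomputable def tab9 : Tr := t9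
noncomputable def tab10 : Tr := t10
noncomputable def tab11 : Tr := t11
noncomputable def tab12 : Tr := t12
noncomputable def tab13 : Tr := t13
noncomputable def tab14 : Tr := t14
noncomputable def ty0 : TT := (TT.n (TT.n (TT.n (TT.n (TT.l (Ty.ssub [] []))
 (TT.l (Ty.rel5 (nat_lit 2) (nat_lit 0) (nat_lit 2) (nat_lit 0) (nat_lit 2))))
 (TT.n (TT.l (Ty.rel5 (nat_lit 3) (nat_lit 5) (nat_lit 4) (nat_lit 5) (nat_lit 3)))
 (TT.l (Ty.relL (nat_lit 2) [nat_lit 4, nat_lit 3, nat_lit 0, nat_lit 3, nat_lit 0, nat_lit 2, nat_lit 0, nat_lit 3]))))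
 (TT.n (TT.n (TT.l (Ty.rel1 (nat_lit 0)))
 (TT.l (Ty.srel [nat_lit 2, nat_lit 4, nat_lit 3, nat_lit 0, nat_lit 3, nat_lit 0, nat_lit 2, nat_lit 0, nat_lit 3])))
 (TT.n (TT.l (Ty.rel3 (nat_lit 4) (nat_lit 0) (nat_lit 4)))
 (TT.l (Ty.relL (nat_lit 3) [nat_lit 1, nat_lit 3, nat_lit 0, nat_lit 3, nat_lit 1, nat_lit 3])))))
 (TT.n (TT.n (TT.n (TT.l (Ty.rel3 (nat_lit 5) (nat_lit 0) (nat_lit 5)))
 (TT.l (Ty.srel [nat_lit 2, nat_lit 0, nat_lit 2, nat_lit 0, nat_lit 2])))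
 (TT.n (TT.l (Ty.srel [nat_lit 3, nat_lit 5, nat_lit 4, nat_lit 5, nat_lit 3]))
 (TT.l (Ty.skip))))
 (TT.n (TT.n (TT.l (Ty.dfn))
 (TT.l (Ty.srel [nat_lit 0])))
 (TT.l (Ty.rel3 (nat_lit 1) (nat_lit 0) (nat_lit 1))))))
noncomputable def ty1 : TT := (TT.n (TT.n (TT.n (TT.n (TT.l (Ty.ssub [] []))
 (TT.l (Ty.relL (nat_lit 2) [nat_lit 1, nat_lit 2, nat_lit 1, nat_lit 2, nat_lit 1, nat_lit 2, nat_lit 1, nat_lit 2])))
 (TT.n (TT.l (Ty.rel3 (nat_lit 0) (nat_lit 1) (nat_lit 0)))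
 (TT.l (Ty.srel [nat_lit 2, nat_lit 1, nat_lit 2, nat_lit 1, nat_lit 2, nat_lit 1, nat_lit 2, nat_lit 1, nat_lit 2]))))
 (TT.n (TT.n (TT.l (Ty.rel1 (nat_lit 1)))
 (TT.l (Ty.srel [nat_lit 2, nat_lit 0, nat_lit 1, nat_lit 3, nat_lit 1, nat_lit 2, nat_lit 1, nat_lit 0, nat_lit 3, nat_lit 1, nat_lit 2, nat_lit 1, nat_lit 0, nat_lit 3])))
 (TT.l (Ty.rel3 (nat_lit 4) (nat_lit 1) (nat_lit 4)))))
 (TT.n (TT.n (TT.n (TT.l (Ty.srel [nat_lit 1]))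
 (TT.l (Ty.srel [nat_lit 3, nat_lit 0, nat_lit 3, nat_lit 1, nat_lit 3, nat_lit 0, nat_lit 3])))
 (TT.l (Ty.relL (nat_lit 3) [nat_lit 5, nat_lit 2, nat_lit 5, nat_lit 3, nat_lit 1, nat_lit 3, nat_lit 5, nat_lit 2, nat_lit 5, nat_lit 3])))
 (TT.n (TT.n (TT.l (Ty.dfn))
 (TT.l (Ty.skip)))
 (TT.l (Ty.relL (nat_lit 3) [nat_lit 0, nat_lit 3, nat_lit 1, nat_lit 3, nat_lit 0, nat_lit 3])))))
noncomputable def ty2 : TT := (TT.n (TT.n (TT.n (TT.n (TT.n (TT.l (Ty.ssub [] []))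
 (TT.l (Ty.srel [nat_lit 0, nat_lit 1, nat_lit 2, nat_lit 0, nat_lit 1, nat_lit 2, nat_lit 0, nat_lit 1, nat_lit 2, nat_lit 1, nat_lit 0, nat_lit 2, nat_lit 1, nat_lit 0])))
 (TT.l (Ty.relL (nat_lit 0) [nat_lit 3, nat_lit 0, nat_lit 2, nat_lit 4, nat_lit 3, nat_lit 0, nat_lit 3, nat_lit 0])))
 (TT.n (TT.l (Ty.rel5 (nat_lit 0) (nat_lit 2) (nat_lit 0) (nat_lit 2) (nat_lit 0)))
 (TT.l (Ty.srel [nat_lit 0, nat_lit 1, nat_lit 2, nat_lit 0, nat_lit 1, nat_lit 2, nat_lit 1, nat_lit 0, nat_lit 2, nat_lit 1, nat_lit 0, nat_lit 2, nat_lit 0, nat_lit 1]))))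
 (TT.n (TT.n (TT.n (TT.l (Ty.dfn))
 (TT.l (Ty.srel [nat_lit 1, nat_lit 0, nat_lit 3, nat_lit 1, nat_lit 2, nat_lit 0, nat_lit 1, nat_lit 3, nat_lit 1, nat_lit 2, nat_lit 1, nat_lit 0, nat_lit 3, nat_lit 1])))
 (TT.l (Ty.relL (nat_lit 4) [nat_lit 3, nat_lit 0, nat_lit 3, nat_lit 0, nat_lit 2, nat_lit 0, nat_lit 3, nat_lit 0])))
 (TT.n (TT.l (Ty.relL (nat_lit 5) [nat_lit 2, nat_lit 5, nat_lit 2, nat_lit 5, nat_lit 2, nat_lit 5]))
 (TT.l (Ty.srel [nat_lit 0, nat_lit 3, nat_lit 0, nat_lit 2, nat_lit 0, nat_lit 3, nat_lit 0, nat_lit 3, nat_lit 4])))))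
 (TT.n (TT.n (TT.n (TT.n (TT.l (Ty.rel1 (nat_lit 2)))
 (TT.l (Ty.skip)))
 (TT.l (Ty.relL (nat_lit 5) [nat_lit 3, nat_lit 1, nat_lit 3, nat_lit 5, nat_lit 2, nat_lit 5, nat_lit 3, nat_lit 1, nat_lit 3, nat_lit 5])))
 (TT.n (TT.l (Ty.rel3 (nat_lit 3) (nat_lit 2) (nat_lit 3)))
 (TT.l (Ty.srel [nat_lit 1, nat_lit 2, nat_lit 1, nat_lit 2, nat_lit 1, nat_lit 2, nat_lit 1, nat_lit 2, nat_lit 1]))))
 (TT.n (TT.n (TT.l (Ty.ssub [nat_lit 5, nat_lit 2, nat_lit 1, nat_lit 0, nat_lit 3] [nat_lit 5, nat_lit 2, nat_lit 1]))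
 (TT.l (Ty.relL (nat_lit 0) [nat_lit 3, nat_lit 0, nat_lit 2, nat_lit 0, nat_lit 3, nat_lit 0, nat_lit 3, nat_lit 4])))
 (TT.n (TT.l (Ty.srel [nat_lit 2]))
 (TT.l (Ty.srel [nat_lit 5, nat_lit 3, nat_lit 1, nat_lit 3, nat_lit 5, nat_lit 2, nat_lit 5, nat_lit 3, nat_lit 1, nat_lit 3, nat_lit 5]))))))
noncomputable def ty3 : TT := (TT.n (TT.n (TT.n (TT.n (TT.l (Ty.ssub [] []))
 (TT.l (Ty.relL (nat_lit 1) [nat_lit 2, nat_lit 1, nat_lit 0, nat_lit 3, nat_lit 1, nat_lit 2, nat_lit 0, nat_lit 1, nat_lit 3, nat_lit 1, nat_lit 2, nat_lit 1, nat_lit 0])))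
 (TT.n (TT.l (Ty.srel [nat_lit 3]))
 (TT.l (Ty.srel [nat_lit 0, nat_lit 1, nat_lit 2, nat_lit 1, nat_lit 3, nat_lit 0, nat_lit 1, nat_lit 2, nat_lit 1, nat_lit 3, nat_lit 1, nat_lit 0, nat_lit 2, nat_lit 1]))))
 (TT.n (TT.n (TT.l (Ty.dfn))
 (TT.l (Ty.srel [nat_lit 1, nat_lit 2, nat_lit 1, nat_lit 0, nat_lit 3, nat_lit 1, nat_lit 2, nat_lit 1, nat_lit 0, nat_lit 3, nat_lit 1, nat_lit 2, nat_lit 0, nat_lit 1])))
 (TT.n (TT.l (Ty.rel5 (nat_lit 5) (nat_lit 3) (nat_lit 5) (nat_lit 3) (nat_lit 5)))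
 (TT.l (Ty.skip)))))
 (TT.n (TT.n (TT.n (TT.l (Ty.rel1 (nat_lit 3)))
 (TT.l (Ty.relL (nat_lit 0) [nat_lit 3, nat_lit 0, nat_lit 2, nat_lit 0, nat_lit 3, nat_lit 0, nat_lit 2, nat_lit 4])))
 (TT.n (TT.l (Ty.relL (nat_lit 0) [nat_lit 3, nat_lit 1, nat_lit 3, nat_lit 0, nat_lit 3, nat_lit 1]))
 (TT.l (Ty.srel [nat_lit 5, nat_lit 4, nat_lit 5, nat_lit 3, nat_lit 0]))))
 (TT.n (TT.n (TT.l (Ty.relL (nat_lit 0) [nat_lit 2, nat_lit 4, nat_lit 3, nat_lit 0, nat_lit 3, nat_lit 0, nat_lit 2, nat_lit 0]))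
 (TT.l (Ty.rel5 (nat_lit 0) (nat_lit 3) (nat_lit 5) (nat_lit 4) (nat_lit 5))))
 (TT.n (TT.l (Ty.rel3 (nat_lit 2) (nat_lit 3) (nat_lit 2)))
 (TT.l (Ty.relL (nat_lit 1) [nat_lit 3, nat_lit 5, nat_lit 2, nat_lit 5, nat_lit 3, nat_lit 1, nat_lit 3, nat_lit 5, nat_lit 2, nat_lit 5]))))))
noncomputable def ty4 : TT := (TT.n (TT.n (TT.n (TT.n (TT.l (Ty.relL (nat_lit 3) [nat_lit 0, nat_lit 3, nat_lit 0, nat_lit 2, nat_lit 0, nat_lit 3, nat_lit 0, nat_lit 2]))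
 (TT.l (Ty.srel [nat_lit 0, nat_lit 4, nat_lit 0])))
 (TT.l (Ty.rel1 (nat_lit 4))))
 (TT.n (TT.n (TT.l (Ty.srel [nat_lit 4]))
 (TT.l (Ty.srel [nat_lit 3, nat_lit 0, nat_lit 3, nat_lit 0, nat_lit 2, nat_lit 0, nat_lit 3, nat_lit 0, nat_lit 2])))
 (TT.l (Ty.rel3 (nat_lit 1) (nat_lit 4) (nat_lit 1)))))
 (TT.n (TT.n (TT.n (TT.l (Ty.rel5 (nat_lit 5) (nat_lit 3) (nat_lit 0) (nat_lit 3) (nat_lit 5)))
 (TT.l (Ty.srel [nat_lit 5, nat_lit 3, nat_lit 0, nat_lit 3, nat_lit 5])))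
 (TT.l (Ty.rel3 (nat_lit 0) (nat_lit 4) (nat_lit 0))))
 (TT.n (TT.n (TT.l (Ty.relL (nat_lit 2) [nat_lit 0, nat_lit 3, nat_lit 0, nat_lit 2, nat_lit 0, nat_lit 3, nat_lit 0, nat_lit 3]))
 (TT.l (Ty.skip)))
 (TT.l (Ty.dfn)))))
noncomputable def ty5 : TT := (TT.n (TT.n (TT.n (TT.n (TT.l (Ty.rel1 (nat_lit 5)))
 (TT.l (Ty.rel5 (nat_lit 4) (nat_lit 5) (nat_lit 3) (nat_lit 0) (nat_lit 3))))
 (TT.l (Ty.relL (nat_lit 2) [nat_lit 5, nat_lit 2, nat_lit 5, nat_lit 2, nat_lit 5, nat_lit 2])))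
 (TT.n (TT.n (TT.l (Ty.rel5 (nat_lit 3) (nat_lit 5) (nat_lit 3) (nat_lit 5) (nat_lit 3)))
 (TT.l (Ty.srel [nat_lit 4, nat_lit 5, nat_lit 3, nat_lit 0, nat_lit 3])))
 (TT.l (Ty.srel [nat_lit 3, nat_lit 5, nat_lit 3, nat_lit 5, nat_lit 3]))))
 (TT.n (TT.n (TT.n (TT.l (Ty.dfn))
 (TT.l (Ty.rel3 (nat_lit 0) (nat_lit 5) (nat_lit 0))))
 (TT.l (Ty.srel [nat_lit 5])))
 (TT.n (TT.n (TT.l (Ty.rel5 (nat_lit 3) (nat_lit 0) (nat_lit 3) (nat_lit 5) (nat_lit 4)))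
 (TT.l (Ty.skip)))
 (TT.l (Ty.srel [nat_lit 3, nat_lit 1, nat_lit 3, nat_lit 5, nat_lit 2, nat_lit 5, nat_lit 3, nat_lit 1, nat_lit 3, nat_lit 5, nat_lit 2])))))
noncomputable def ty6 : TT := (TT.n (TT.n (TT.n (TT.n (TT.n (TT.l (Ty.skip))
 (TT.l (Ty.srel [nat_lit 1, nat_lit 0, nat_lit 2, nat_lit 0, nat_lit 1, nat_lit 2, nat_lit 0, nat_lit 1, nat_lit 2, nat_lit 0, nat_lit 1, nat_lit 2, nat_lit 1, nat_lit 0, nat_lit 2])))
 (TT.l (Ty.relL (nat_lit 1) [nat_lit 2, nat_lit 1, nat_lit 2, nat_lit 1, nat_lit 2, nat_lit 1, nat_lit 2, nat_lit 1, nat_lit 2])))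
 (TT.n (TT.l (Ty.srel [nat_lit 4, nat_lit 3, nat_lit 0, nat_lit 3, nat_lit 0, nat_lit 2, nat_lit 0, nat_lit 3, nat_lit 0, nat_lit 2]))
 (TT.l (Ty.relL (nat_lit 4) [nat_lit 0, nat_lit 4, nat_lit 0]))))
 (TT.n (TT.n (TT.n (TT.l (Ty.relL (nat_lit 3) [nat_lit 5, nat_lit 2, nat_lit 5, nat_lit 3, nat_lit 1, nat_lit 3, nat_lit 5, nat_lit 2, nat_lit 5, nat_lit 3, nat_lit 1]))
 (TT.l (Ty.srel [nat_lit 5, nat_lit 2, nat_lit 5, nat_lit 2, nat_lit 5, nat_lit 2, nat_lit 5, nat_lit 2])))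
 (TT.l (Ty.relL (nat_lit 0) [nat_lit 3, nat_lit 0, nat_lit 2, nat_lit 4, nat_lit 3, nat_lit 0, nat_lit 3, nat_lit 0, nat_lit 2])))
 (TT.n (TT.l (Ty.srel [nat_lit 1, nat_lit 4, nat_lit 1, nat_lit 4]))
 (TT.l (Ty.srel [nat_lit 5, nat_lit 2, nat_lit 5, nat_lit 3, nat_lit 1, nat_lit 3, nat_lit 5, nat_lit 2, nat_lit 5, nat_lit 3, nat_lit 1, nat_lit 3])))))
 (TT.n (TT.n (TT.n (TT.n (TT.l (Ty.relL (nat_lit 3) [nat_lit 0, nat_lit 3, nat_lit 0, nat_lit 2, nat_lit 0, nat_lit 3, nat_lit 0, nat_lit 2, nat_lit 4]))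
 (TT.l (Ty.relL (nat_lit 5) [nat_lit 3, nat_lit 5, nat_lit 3, nat_lit 5, nat_lit 3])))
 (TT.l (Ty.srel [nat_lit 4, nat_lit 1, nat_lit 4, nat_lit 1])))
 (TT.n (TT.l (Ty.relL (nat_lit 0) [nat_lit 3, nat_lit 1, nat_lit 3, nat_lit 0, nat_lit 3, nat_lit 1, nat_lit 3]))
 (TT.l (Ty.srel [nat_lit 2, nat_lit 1, nat_lit 3, nat_lit 0, nat_lit 1, nat_lit 2, nat_lit 1, nat_lit 3, nat_lit 1, nat_lit 0, nat_lit 2, nat_lit 1, nat_lit 3, nat_lit 0, nat_lit 1]))))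
 (TT.n (TT.n (TT.l (Ty.srel [nat_lit 0, nat_lit 4, nat_lit 0, nat_lit 4]))
 (TT.l (Ty.relL (nat_lit 4) [nat_lit 5, nat_lit 3, nat_lit 0, nat_lit 3, nat_lit 5])))
 (TT.n (TT.l (Ty.relL (nat_lit 2) [nat_lit 5, nat_lit 3, nat_lit 1, nat_lit 3, nat_lit 5, nat_lit 2, nat_lit 5, nat_lit 3, nat_lit 1, nat_lit 3, nat_lit 5]))
 (TT.l (Ty.relL (nat_lit 5) [nat_lit 3, nat_lit 0, nat_lit 3, nat_lit 5, nat_lit 4]))))))
noncomputable def C : Cert where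
  tabs := [tab0, tab1, tab2, tab3, tab4, tab5, tab6, tab7, tab8, tab9, tab10, tab11, tab12, tab13, tab14]
  tts := [ty0, ty1, ty2, ty3, ty4, ty5, ty6]
  k := nat_lit 6
  base := nat_lit 19
  mJ := nat_lit 192
  mR := nat_lit 63
  W := nat_lit 20
  mA := nat_lit 16383
  mI := nat_lit 255
  S := nat_lit 14
  mC := nat_lit 63
  nc := nat_lit 6
  lo := nat_lit 64
  live := nat_lit 149
  hi1 := nat_lit 212
  AW := nat_lit 14
  mAW := nat_lit 16383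
def il : List ℕ := [0, 1, 2, 3, 4, 5]
def rels : List (List ℕ) := [[0, 1, 0, 1],
  [0, 1, 2, 0, 1, 2, 0, 1, 2, 1, 0, 2, 1, 0, 2],
  [1, 2, 1, 2, 1, 2, 1, 2, 1, 2],
  [0, 2, 0, 2, 0, 2],
  [0, 1, 2, 1, 3, 0, 1, 2, 1, 3, 1, 0, 2, 1, 3],
  [0, 2, 0, 3, 0, 2, 4, 3, 0, 3],
  [0, 3, 1, 3, 0, 3, 1, 3],
  [1, 4, 1, 4],
  [0, 4, 0, 4],
  [2, 3, 2, 3],
  [1, 3, 5, 2, 5, 3, 1, 3, 5, 2, 5, 3],
  [2, 5, 2, 5, 2, 5, 2, 5],
  [3, 5, 3, 5, 3, 5],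
  [0, 3, 5, 4, 5, 3],
  [0, 5, 0, 5]]
def subs : List (List ℕ) := [[0],
  [1],
  [2],
  [3],
  [4],
  [5, 2, 1, 0, 3, 2, 1, 2, 5]]
theorem valid : C.valid il rels subs = true := by decide +kernel
theorem p0 : C.OkL 64 149 := C.okL_of 64 0 85 149 (by decide) (by decide +kernel)
theorem p1 : C.OkR 149 213 := C.okR_of 149 0 64 213 (by decide) (by decide +kernel)
theorem covers {G : Type*} [Group G] (ev : ℕ → G) (H : Subgroup G)
    (hinv : ∀ x < 6, ev (il.getD x 0) = (ev x)⁻¹) (hr : ∀ r ∈ rels, evw ev r = 1)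
    (hs : ∀ s ∈ subs, evw ev s ∈ H) : Covers H (gensub ev 6) 85 :=
  C.sound il rels subs 6 85 valid (p0) (p1) (by decide) (by decide) ev H hinv hr hs
end CfH6.S4T5
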