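import Cfsg.Agent.OD.Pre
import Cfsg.Agent.H6.S32D
import Cfsg.Agent.H6.SoC.F0
import Cfsg.Agent.H6.SoC.O
import Cfsg.Agent.H6.SoC.P0
set_option autoImplicit false
set_option maxRecDepth 100000
set_option Elab.async false
set_option linter.all false
namespace CfH6.SoC
open CfH6 CfH6.D MulAction
def σ : List (List ℕ) := [[0],
  [1],
  [2],
  [3],
  [4],
  [5],
  [6],
  [7]]
def uss : List (List (List ℕ)) := [[[], []],
  [[7], [7], [7]]]
def bus : List (List ℕ × List ℕ) := [([0], [0]),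
  ([1], [1]),
  ([2], [2]),
  ([3], [3]),
  ([4], [4]),
  ([5], [5]),
  ([6], [6])]
def ex : List (List ℕ) := []
def gws : List (List ℕ) := uss.map (gw σ 8)
def bws : List (List ℕ) := bus.map fun u => subst σ u.1 ++ 8 :: (subst σ u.2 ++ [8])
theorem chk : Rng P.chk 0 586 := p0
section
variable {G : Type} [Group G] (el : ℕ → G) (ρ : S32B.G →* G) (hρ : ∀ x < 8, ρ (S32B.el x) = byW el σ x)
include hρ
theorem trl : Trl ρ S32D.cd S32D.eq 8 el σ := ⟨S32D.heq, fun x hx => by rw [S32D.cdx x hx, hρ x hx]⟩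
theorem hbp (ht : el 8 = (el 8)⁻¹) (h : ∀ w ∈ bws, evw el w = 1) : ∀ p ∈ P.bp, ρ (S32D.cd p.1) * el 8 = el 8 * ρ (S32D.cd p.2) :=
  (trl el ρ hρ).bp _ _ ht _ bus h (by decide +kernel)
variable (H : Subgroup G) (hH : ∀ n, ρ n ∈ H) (hg : ∀ w ∈ gws, evw el w = 1)
  (hb : ∀ p ∈ P.bp, ρ (S32D.cd p.1) * el 8 = el 8 * ρ (S32D.cd p.2))
noncomputable def C : Ctx P S32B.G G where
  ρ := ρ
  t := el 8
  H := H
  Bs := ⊤
  cd := S32D.cd
  cd0 := S32D.cd0
  heq := S32D.heq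
  hH := fun _ => hH
  hB := fun _ => rfl
  hrel := (trl el ρ hρ).rels 8 _ uss hg (by decide +kernel)
  hsub := forall_nil
  hbp := fun p hp => ⟨trivial, hb p hp⟩
include H hH hg hb
theorem hS : ∀ k < 586, (C el ρ hρ H hH hg hb).Sem (P.fact k) := (C el ρ hρ H hH hg hb).sound chk
section
attribute [local instance] actO
theorem memB : ∀ k, P.okP 586 trO k = 0 → S32D.cd (P.cdK k) ∈ Bsub ρ (el 8) ⊓ stO := Ctx.okP_mem (hS el ρ hρ H hH hg hb) trsO (by decide)
end
section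
attribute [local instance] S32D.actD
theorem cardB : 503193600 ≤ Nat.card (Bsub ρ (el 8) ⊓ stO : Subgroup _) := have := S32D.fin; levs_card S32D.trsD (memB el ρ hρ H hH hg hb) levB _ lB
theorem hi : ∀ p ∈ lv, ((C el ρ hρ H hH hg hb).T p.1).index ≤ p.2 := have := S32D.fin; forall_cons (Ctx.T0 rfl) (forall_cons (index_le S32D.card (levs_card S32D.trsD (Ctx.okE_mem rfl (hS el ρ hρ H hH hg hb) 1) lev1 503193600 l1) (by decide)) (forall_cons (index_le S32D.card (levs_card S32D.trsD (Ctx.okE_mem rfl (hS el ρ hρ H hH hg hb) 2) lev2 503193600 l2) (by decide)) (forall_cons (index_le S32D.card (levs_card S32D.trsD (Ctx.okE_mem rfl (hS el ρ hρ H hH hg hb) 3) lev3 1209600 l3) (by decide)) (forall_cons (index_le S32D.card (levs_card S32D.trsD (Ctx.okE_mem rfl (hS el ρ hρ H hH hg hb) 4) lev4 6635520 l4) (by decide)) (forall_cons (index_le S32D.card (levs_card S32D.trsD (Ctx.okE_mem rfl (hS el ρ hρ H hH hg hb) 5) lev5 2690072985600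 l5) (by decide)) (forall_cons (index_le S32D.card (levs_card S32D.trsD (Ctx.okE_mem rfl (hS el ρ hρ H hH hg hb) 8) lev8 6635520 l8) (by decide)) (forall_cons (index_le S32D.card (levs_card S32D.trsD (Ctx.okE_mem rfl (hS el ρ hρ H hH hg hb) 9) lev9 58786560 l9) (by decide)) (forall_nil))))))))
end
section
attribute [local instance] actO
theorem dec : ∀ γ ∈ (C el ρ hρ H hH hg hb).K, (C el ρ hρ H hH hg hb).U LM γ := have := S32D.fin
  (C el ρ hρ H hH hg hb).dec (m := 5346) (a := 0) (b := 0) lv (by decide +kernel) List.mem_cons_self (lm_of lv LM (by decide +kernel))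
    (fun x => tb0O.bound S32B.htop x (by decide)) (stab_le S32D.card lowO (cardB el ρ hρ H hH hg hb) (by decide)) (forall_cons (Ctx.cos_of rfl (hS el ρ hρ H hH hg hb) trsO 0 [nat_lit 47, nat_lit 44, nat_lit 42, nat_lit 40, nat_lit 38, nat_lit 36, nat_lit 34, nat_lit 32] 0 0 1 ct0 c0) (forall_cons (Ctx.cos_of rfl (hS el ρ hρ H hH hg hb) trsO 1 [nat_lit 45, nat_lit 43, nat_lit 41, nat_lit 39, nat_lit 37, nat_lit 35, nat_lit 33] 1 0 5 ct1 c1) (forall_cons (Ctx.cos_of rfl (hS el ρ hρ H hH hg hb) trsO 2 [nat_lit 100, nat_lit 98, nat_lit 96, nat_lit 94, nat_lit 65, nat_lit 83, nat_lit 492] 6 0 5 ct2 c2) (forall_cons (Ctx.cos_of rfl (hS el ρ hρ H hH hg hb) trsO 3 [nat_lit 106, nat_lit 240, nat_lit 104, nat_lit 135, nat_lit 122] 11 0 9 ct3 c3) (forall_cons (Ctx.cos_of rfl (hS el ρ hρ H hH hg hb) trsO 4 [nat_lit 167, nat_lit 154, nat_lit 153, nat_lit 152, nat_lit 151, nat_lit 150, nat_lit 163, nat_lit 148] 20 0 4 ct4 c4) (forall_cons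 (Ctx.cos_of rfl (hS el ρ hρ H hH hg hb) trsO 5 [nat_lit 456, nat_lit 337, nat_lit 336, nat_lit 335, nat_lit 513, nat_lit 334, nat_lit 330, nat_lit 329] 24 0 1 ct5 c5) (forall_cons (Ctx.cos_of rfl (hS el ρ hρ H hH hg hb) trsO 8 [nat_lit 358, nat_lit 357, nat_lit 367, nat_lit 356, nat_lit 500, nat_lit 355, nat_lit 353, nat_lit 412] 25 0 4 ct8 c8) (forall_cons (Ctx.cos_of rfl (hS el ρ hρ H hH hg hb) trsO 9 [nat_lit 555, nat_lit 525, nat_lit 516, nat_lit 547, nat_lit 521] 29 0 2 ct9 c9) (forall_nil)))))))))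
end
theorem covers : Covers H (C el ρ hρ H hH hg hb).K 3091200 := have := S32D.fin
  (C el ρ hρ H hH hg hb).cover lv (lm_of lv LM (by decide +kernel)) (dec el ρ hρ H hH hg hb) (hi el ρ hρ H hH hg hb) _ (by decide +kernel)
end
end CfH6.SoC
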