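import Cfsg.Agent.OD.Pre
import Cfsg.Agent.H6.TCTop
/-! coset enumeration certificate; generators a b c d e f g ; index 1 -/
set_option autoImplicit false
set_option maxRecDepth 100000
set_option Elab.async false
set_option linter.all false
namespace CfH6.SuzK
open CfH6
noncomputable def tab0 : Tr := (Tr.l (nat_lit 0x13ffc4fff13ffc4fff20b3c4fff13ffc4fff13ffc4fff13ffc4fff13ffc4fff18d7833df13ffc4fff13ffc4fff13ffc4fff13ffc4fff13ffc4fff13ffc4fff13ffc4fff0cda421421c91c6246149144fff13ffc4fff13ffc4fff0cb2c4fff13ffc31ce083001141))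
noncomputable def tab1 : Tr := (Tr.l (nat_lit 0x13ffc73e60c73c4fff13ffc4fff13ffc4fff13ffc4fff13ffc31c918b2c52ca13ffc4fff0c5184fff13ffc4fff13ffc4fff13ffc4fff13ffc4fff0c50c9dc6189145244089ac4fff13ffc4fff08d84236008988314113ffc21dd08b4422d00874c30c0087201142))
noncomputable def tab2 : Tr := (Tr.l (nat_lit 0x14b444fff20b4c4fff0c7384fff13ffc31ca1cb3462cc14b2c4fff13ffc4fff13ffc4fff13ffc4fff13ffc4fff13ffc31441c91c6246149144fff08dacab4608db496ec0c508226908d94236408d8c22660c5044fff08b5c22d608b5421d80c30021cf087241143))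
noncomputable def tab3 : Tr := (Tr.l (nat_lit 0x8f7831cf13ffc31ce13ffc4fff18b344fff13ffc4fff13ffc4fff13ffc31c813ffc736d13ffc4fff1891c524613ffc4fff13ffc4fff13ffc314313ffc4fff13ffc3142089b0226a08d9c4fff13ffc314113ffc226008b6c22da13ffc30c00875021d0087281144))
noncomputable def tab4 : Tr := (Tr.l (nat_lit 0xc73c4fff13ffc4fff13ffc62cd13ffc4fff13ffc4fff0c7244fff0c72096c813ffc636c13ffc524613ffc4fff0c5104fff13ffc4fff0c50c4fff13ffc4fff0c5084fff089b44fff08da04fff0c5044fff0898c226113ffc4fff0c30021d90875421d10872c1145))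
noncomputable def tab5 : Tr := (Tr.l (nat_lit 0x18f9c23e813ffc4fff13ffc536c13ffc4fff13ffc31c913ffc4fff13ffc4fff0c51c52cd13ffc314513ffc314413ffc4fff13ffc314313ffc4fff13ffc314213ffc4fff253344fff08d78314113ffc4fff089904fff0877c30c00877021da0875821d2087301146))
noncomputable def tab6 : Tr := (Tr.l (nat_lit 0x1cf6862dc0fffc3fff0fffc41cb107283fff107243fff0fffc3fff0fffc3fff1493041460fffc3fff105103fff0fffc3fff1050c3fff0fffc3fff0fffc3fff0fffc3fff253183fff105043fff089a02267089943fff1030021de0fffc21db0875c3fff087341147))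
noncomputable def tab7 : Tr := (Tr.l (nat_lit 0xad3b2ab44a63248750a137e75679a56e56639255e395607ffe294f8598077558213c644f17549f55a07ffdecd275901c65507ffdbad26a1519a50621044e405d9403bc05ab0157c25231d38c64972919c44270cf7c33ad18dec231710bc422a9082f40265000000))
noncomputable def tab8 : Tr := (Tr.l (nat_lit 0x4313266265414356156542654315432065432165432100))
noncomputable def tab9 : Tr := (Tr.l (nat_lit 0))
noncomputable def tab10 : Tr := (Tr.l (nat_lit 0x1740))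
noncomputable def tab11 : Tr := (Tr.l (nat_lit 0x2b01440))
noncomputable def tab12 : Tr := (Tr.l (nat_lit 0))
noncomputable def tab13 : Tr := (Tr.l (nat_lit 0x1840))
noncomputable def tab14 : Tr := (Tr.l (nat_lit 0x1780))
noncomputable def tab15 : Tr := (Tr.l (nat_lit 0x1780))
noncomputable def tab16 : Tr := (Tr.l (nat_lit 0x5e0e7874c2bd06d966872e29a14c0b5c32c19c16d9a20b1648b14916407281910c506483a83bf2df1b40d9c6ca3601278b481b82d006083346))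
noncomputable def ty0 : TT := (TT.n (TT.n (TT.n (TT.l (Ty.srel [nat_lit 0]))
 (TT.l (Ty.rel3 (nat_lit 4) (nat_lit 0) (nat_lit 4))))
 (TT.n (TT.l (Ty.rel1 (nat_lit 0)))
 (TT.l (Ty.rel3 (nat_lit 6) (nat_lit 0) (nat_lit 6)))))
 (TT.n (TT.n (TT.l (Ty.dfn))
 (TT.l (Ty.rel3 (nat_lit 5) (nat_lit 0) (nat_lit 5))))
 (TT.n (TT.l (Ty.skip))
 (TT.l (Ty.rel3 (nat_lit 2) (nat_lit 0) (nat_lit 2))))))
noncomputable def ty1 : TT := (TT.n (TT.n (TT.n (TT.l (Ty.srel [nat_lit 1]))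
 (TT.l (Ty.rel3 (nat_lit 3) (nat_lit 1) (nat_lit 3))))
 (TT.n (TT.l (Ty.dfn))
 (TT.l (Ty.rel5 (nat_lit 2) (nat_lit 3) (nat_lit 6) (nat_lit 4) (nat_lit 5)))))
 (TT.n (TT.n (TT.l (Ty.rel1 (nat_lit 1)))
 (TT.l (Ty.rel3 (nat_lit 4) (nat_lit 1) (nat_lit 4))))
 (TT.l (Ty.skip))))
noncomputable def ty2 : TT := (TT.n (TT.n (TT.n (TT.l (Ty.srel [nat_lit 2]))
 (TT.l (Ty.rel3 (nat_lit 4) (nat_lit 2) (nat_lit 4))))
 (TT.n (TT.l (Ty.dfn))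
 (TT.l (Ty.rel3 (nat_lit 6) (nat_lit 2) (nat_lit 6)))))
 (TT.n (TT.n (TT.l (Ty.rel1 (nat_lit 2)))
 (TT.l (Ty.rel3 (nat_lit 5) (nat_lit 2) (nat_lit 5))))
 (TT.n (TT.l (Ty.skip))
 (TT.l (Ty.rel5 (nat_lit 1) (nat_lit 2) (nat_lit 1) (nat_lit 2) (nat_lit 1))))))
noncomputable def ty3 : TT := (TT.n (TT.n (TT.n (TT.l (Ty.srel [nat_lit 3]))
 (TT.l (Ty.rel3 (nat_lit 5) (nat_lit 3) (nat_lit 5))))
 (TT.n (TT.l (Ty.dfn))
 (TT.l (Ty.rel5 (nat_lit 2) (nat_lit 1) (nat_lit 5) (nat_lit 4) (nat_lit 6)))))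
 (TT.n (TT.n (TT.l (Ty.rel1 (nat_lit 3)))
 (TT.l (Ty.rel3 (nat_lit 6) (nat_lit 3) (nat_lit 6))))
 (TT.l (Ty.skip))))
noncomputable def ty4 : TT := (TT.n (TT.n (TT.n (TT.l (Ty.srel [nat_lit 4]))
 (TT.l (Ty.rel3 (nat_lit 5) (nat_lit 4) (nat_lit 5))))
 (TT.l (Ty.dfn)))
 (TT.n (TT.n (TT.l (Ty.rel1 (nat_lit 4)))
 (TT.l (Ty.rel3 (nat_lit 6) (nat_lit 4) (nat_lit 6))))
 (TT.l (Ty.skip))))
noncomputable def ty5 : TT := (TT.n (TT.n (TT.n (TT.l (Ty.srel [nat_lit 5]))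
 (TT.l (Ty.relL (nat_lit 6) [nat_lit 5, nat_lit 0, nat_lit 6])))
 (TT.l (Ty.dfn)))
 (TT.n (TT.n (TT.l (Ty.rel1 (nat_lit 5)))
 (TT.l (Ty.rel3 (nat_lit 3) (nat_lit 5) (nat_lit 3))))
 (TT.l (Ty.skip))))
noncomputable def ty6 : TT := (TT.n (TT.n (TT.n (TT.l (Ty.srel [nat_lit 6]))
 (TT.l (Ty.relL (nat_lit 5) [nat_lit 0, nat_lit 6, nat_lit 5])))
 (TT.n (TT.l (Ty.skip))
 (TT.l (Ty.rel3 (nat_lit 3) (nat_lit 6) (nat_lit 3)))))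
 (TT.n (TT.n (TT.l (Ty.rel1 (nat_lit 6)))
 (TT.l (Ty.rel5 (nat_lit 4) (nat_lit 5) (nat_lit 1) (nat_lit 2) (nat_lit 3))))
 (TT.l (Ty.dfn))))
noncomputable def ty7 : TT := (TT.n (TT.n (TT.n (TT.l (Ty.skip))
 (TT.l (Ty.srel [nat_lit 5, nat_lit 4, nat_lit 6, nat_lit 3, nat_lit 2, nat_lit 1])))
 (TT.n (TT.l (Ty.srel [nat_lit 1, nat_lit 4, nat_lit 3, nat_lit 2, nat_lit 3, nat_lit 2, nat_lit 1, nat_lit 3, nat_lit 2, nat_lit 3, nat_lit 2, nat_lit 1, nat_lit 3, nat_lit 2, nat_lit 3, nat_lit 2, nat_lit 1, nat_lit 3, nat_lit 2, nat_lit 3, nat_lit 2, nat_lit 1, nat_lit 3, nat_lit 2, nat_lit 3, nat_lit 2, nat_lit 1, nat_lit 4, nat_lit 3, nat_lit 2, nat_lit 3, nat_lit 2, nat_lit 1, nat_lit 3, nat_lit 2, nat_lit 3, nat_lit 2, nat_lit 1, nat_lit 3, nat_lit 2, nat_lit 3, nat_lit 2, nat_lit 1, nat_lit 3, nat_lit 2, nat_lit 3, nat_lit 2, nat_lit 1, nat_lit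 3, nat_lit 2, nat_lit 3, nat_lit 2, nat_lit 1, nat_lit 4, nat_lit 3, nat_lit 2, nat_lit 3, nat_lit 2, nat_lit 1, nat_lit 3, nat_lit 2, nat_lit 3, nat_lit 2, nat_lit 1, nat_lit 3, nat_lit 2, nat_lit 3, nat_lit 2, nat_lit 1, nat_lit 3, nat_lit 2, nat_lit 3, nat_lit 2, nat_lit 1, nat_lit 3, nat_lit 2, nat_lit 3, nat_lit 2]))
 (TT.l (Ty.srel [nat_lit 2, nat_lit 1, nat_lit 2, nat_lit 1, nat_lit 2, nat_lit 1]))))
 (TT.n (TT.n (TT.l (Ty.srel [nat_lit 0, nat_lit 1, nat_lit 0, nat_lit 1, nat_lit 0, nat_lit 1, nat_lit 0, nat_lit 1, nat_lit 0, nat_lit 1]))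
 (TT.l (Ty.relL (nat_lit 4) [nat_lit 3, nat_lit 4, nat_lit 3, nat_lit 4, nat_lit 3])))
 (TT.n (TT.l (Ty.srel [nat_lit 5, nat_lit 1, nat_lit 5, nat_lit 1, nat_lit 5, nat_lit 1]))
 (TT.l (Ty.relL (nat_lit 2) [nat_lit 3, nat_lit 2, nat_lit 3, nat_lit 2, nat_lit 3, nat_lit 2, nat_lit 0, nat_lit 3])))))
noncomputable def C : Cert where
  tabs := [tab0, tab1, tab2, tab3, tab4, tab5, tab6, tab7, tab8, tab9, tab10, tab11, tab12, tab13, tab14, tab15, tab16]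
  tts := [ty0, ty1, ty2, ty3, ty4, ty5, ty6, ty7]
  k := nat_lit 6
  base := nat_lit 8
  mJ := nat_lit 64
  mR := nat_lit 63
  W := nat_lit 18
  mA := nat_lit 4095
  mI := nat_lit 127
  S := nat_lit 12
  mC := nat_lit 63
  nc := nat_lit 7
  lo := nat_lit 64
  live := nat_lit 65
  hi1 := nat_lit 109
  AW := nat_lit 13
  mAW := nat_lit 8191
def il : List ℕ := [0, 1, 2, 3, 4, 5, 6]
def rels : List (List ℕ) := [[0, 1, 0, 1, 0, 1, 0, 1, 0, 1],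
  [0, 2, 0, 2],
  [0, 3, 0, 3],
  [0, 4, 0, 4],
  [0, 5, 0, 5],
  [0, 6, 0, 6],
  [1, 2, 1, 2, 1, 2],
  [1, 3, 1, 3],
  [1, 4, 1, 4],
  [1, 5, 1, 5, 1, 5],
  [1, 6, 1, 6, 1, 6],
  [2, 3, 2, 3, 2, 3, 2, 3, 2, 3, 2, 3, 2, 3, 2, 3],
  [2, 4, 2, 4],
  [2, 5, 2, 5],
  [2, 6, 2, 6],
  [3, 4, 3, 4, 3, 4],
  [3, 5, 3, 5],
  [3, 6, 3, 6],
  [4, 5, 4, 5],
  [4, 6, 4, 6],
  [5, 6, 5, 6, 5, 6, 5, 6],
  [0, 3, 2, 3, 2, 3, 2, 3, 2],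
  [0, 6, 5, 6, 5],
  [0, 1, 2, 5, 0, 1, 2, 5, 0, 1, 2, 5, 0, 1, 2, 5, 0, 1, 2, 5],
  [1, 5, 6, 1, 5, 6, 1, 5, 6, 1, 5, 6, 1, 5, 6],
  [1, 2, 3, 2, 3, 1, 2, 3, 2, 3, 1, 2, 3, 2, 3, 1, 2, 3, 2, 3, 1, 2, 3, 2, 3, 4, 1, 2, 3, 2, 3, 1, 2, 3, 2, 3, 1, 2, 3, 2, 3, 1, 2, 3, 2, 3, 1, 2, 3, 2, 3, 4, 1, 2, 3, 2, 3, 1, 2, 3, 2, 3, 1, 2, 3, 2, 3, 1, 2, 3, 2, 3, 1, 2, 3, 2, 3, 4],
  [1, 2, 3, 6, 4, 5]]
def subs : List (List ℕ) := []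
theorem valid : C.valid il rels subs = true := by decide +kernel
theorem p0 : C.OkL 64 65 := C.okL_of 64 0 1 65 (by decide) (by decide +kernel)
theorem p1 : C.OkR 65 110 := C.okR_of 65 0 45 110 (by decide) (by decide +kernel)
theorem covers {G : Type*} [Group G] (ev : ℕ → G) (H : Subgroup G)
    (hinv : ∀ x < 7, ev (il.getD x 0) = (ev x)⁻¹) (hr : ∀ r ∈ rels, evw ev r = 1)
    (hs : ∀ s ∈ subs, evw ev s ∈ H) : Covers H (gensub ev 7) 1 :=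
  C.sound il rels subs 7 1 valid (p0) (p1) (by decide) (by decide) ev H hinv hr hs
end CfH6.SuzK
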