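import Cfsg.Agent.OD.Pre
import Cfsg.Agent.H6.D4D
import Cfsg.Agent.H6.Th0.F0
import Cfsg.Agent.H6.Th0.P0
set_option autoImplicit false
set_option maxRecDepth 100000
set_option Elab.async false
set_option linter.all false
namespace CfH6.Th0
open CfH6 CfH6.D MulAction
def σ : List (List ℕ) := [[0],
  [1],
  [2],
  [3],
  [4],
  [5],
  [6],
  [7],
  [8]]
def uss : List (List (List ℕ)) := [[[], [2, 0]],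
  [[2, 0, 3], [3, 4], [2, 0, 3], [3, 4]],
  [[3, 4], [2, 0, 3], [3, 4], [2, 0, 3]],
  [[2, 0, 6], [2, 0, 6], [6]],
  [[2, 0, 6], [6], [2, 0, 6]],
  [[6], [2, 0, 6], [2, 0, 6]],
  [[2, 0, 5], [6], [2, 0, 5], [6], [2, 0, 5], [6], [2, 0, 5], [0, 2, 6]],
  [[6], [2, 0, 5], [6], [2, 0, 5], [6], [2, 0, 5], [0, 2, 6], [2, 0, 5]],
  [[2, 0, 5], [6], [2, 0, 5], [6], [2, 0, 5], [0, 2, 6], [2, 0, 5], [6]],
  [[6], [2, 0, 5], [6], [2, 0, 5], [0, 2, 6], [2, 0, 5], [6], [2, 0, 5]],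
  [[2, 0, 5], [6], [2, 0, 5], [0, 2, 6], [2, 0, 5], [6], [2, 0, 5], [6]],
  [[6], [2, 0, 5], [0, 2, 6], [2, 0, 5], [6], [2, 0, 5], [6], [2, 0, 5]],
  [[2, 0, 5], [0, 2, 6], [2, 0, 5], [6], [2, 0, 5], [6], [2, 0, 5], [6]],
  [[0, 2, 6], [2, 0, 5], [6], [2, 0, 5], [6], [2, 0, 5], [6], [2, 0, 5]],
  [[5, 5, 3, 6, 6], [5, 5, 3, 6, 6], [5, 5, 3, 6, 6], [4, 3, 2, 3, 4, 5, 5, 5, 4, 3, 2, 3, 4, 6, 3, 2, 3, 2, 0, 3, 6, 6]],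
  [[5, 5, 3, 6, 6], [5, 5, 3, 6, 6], [4, 3, 2, 3, 4, 5, 5, 5, 4, 3, 2, 3, 4, 6, 3, 2, 3, 2, 0, 3, 6, 6], [5, 5, 3, 6, 6]],
  [[5, 5, 3, 6, 6], [4, 3, 2, 3, 4, 5, 5, 5, 4, 3, 2, 3, 4, 6, 3, 2, 3, 2, 0, 3, 6, 6], [5, 5, 3, 6, 6], [5, 5, 3, 6, 6]],
  [[4, 3, 2, 3, 4, 5, 5, 5, 4, 3, 2, 3, 4, 6, 3, 2, 3, 2, 0, 3, 6, 6], [5, 5, 3, 6, 6], [5, 5, 3, 6, 6], [5, 5, 3, 6, 6]]]
def bus : List (List ℕ × List ℕ) := [([0], [0]),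
  ([2], [2]),
  ([4], [4]),
  ([7], [7]),
  ([5, 5, 4, 6, 6], [5, 5, 4, 6, 6])]
def ex : List (List ℕ) := [[0, 2, 10, 4, 3, 10, 3, 0, 2, 10, 4, 3, 10, 3],
  [0, 2, 10, 5, 0, 2, 10, 5, 10, 5],
  [0, 2, 6, 9, 2, 0, 5, 9, 6, 9, 2, 0, 5, 9, 6, 9, 2, 0, 5, 9, 6, 9, 2, 0, 5, 9]]
def gws : List (List ℕ) := uss.map (gw σ 9)
def bws : List (List ℕ) := bus.map fun u => subst σ u.1 ++ 9 :: (subst σ u.2 ++ [10])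
theorem chk : Rng P.chk 0 84 := p0
section
variable {G : Type} [Group G] (el : ℕ → G) (ρ : D4B.G →* G) (hρ : ∀ x < 9, ρ (D4B.el x) = byW el σ x)
include hρ
theorem trl : Trl ρ D4D.cd D4D.eq 9 el σ := ⟨D4D.heq, fun x hx => by rw [D4D.cdx x hx, hρ x hx]⟩
theorem hbp (ht : el 10 = (el 9)⁻¹) (h : ∀ w ∈ bws, evw el w = 1) : ∀ p ∈ P.bp, ρ (D4D.cd p.1) * el 9 = el 9 * ρ (D4D.cd p.2) :=
  (trl el ρ hρ).bp _ _ ht _ bus h (by decide +kernel)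
variable (H : Subgroup G) (hg : ∀ w ∈ gws, evw el w = 1)
  (hb : ∀ p ∈ P.bp, ρ (D4D.cd p.1) * el 9 = el 9 * ρ (D4D.cd p.2))
noncomputable def C : Ctx P D4B.G G where
  ρ := ρ
  t := el 9
  H := H
  Bs := ⊤
  cd := D4D.cd
  cd0 := D4D.cd0
  heq := D4D.heq
  hH := fun h => absurd h (by decide)
  hB := fun _ => rfl
  hrel := (trl el ρ hρ).rels 9 _ uss hg (by decide +kernel)
  hsub := forall_nil
  hbp := fun p hp => ⟨trivial, hb p hp⟩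
include H hg hb
theorem hS : ∀ k < 84, (C el ρ hρ H hg hb).Sem (P.fact k) := (C el ρ hρ H hg hb).sound chk
theorem pe : ∀ p ∈ ([(nat_lit 1, nat_lit 1), (nat_lit 3, nat_lit 3), (nat_lit 5, nat_lit 5), (nat_lit 9, nat_lit 8), (nat_lit 1621, nat_lit 1621), (nat_lit 517976486, nat_lit 1061121)] : List (ℕ × ℕ)), ρ (D4D.cd p.1) * el 9 = el 9 * ρ (D4D.cd p.2) :=
  Ctx.pe_of (hS el ρ hρ H hg hb) [nat_lit 78, nat_lit 79, nat_lit 80, nat_lit 81, nat_lit 82, nat_lit 83] _ (by decide +kernel)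
end
end CfH6.Th0
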