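import Cfsg.Agent.OD.Pre
import Cfsg.Agent.H6.D4D
import Cfsg.Agent.H6.ThC.F0
import Cfsg.Agent.H6.ThC.O
import Cfsg.Agent.H6.ThC.P0
set_option autoImplicit false
set_option maxRecDepth 100000
set_option Elab.async false
set_option linter.all false
namespace CfH6.ThC
open CfH6 CfH6.D MulAction
def σ : List (List ℕ) := [[0],
  [1],
  [2],
  [3],
  [4],
  [5],
  [6],
  [7],
  [8]]
def uss : List (List (List ℕ)) := [[[], [2, 0]],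
  [[2, 0, 3, 1, 2, 0, 1, 3], [3, 1, 0, 2, 1, 2, 4, 3], [2, 0, 3, 1, 2, 0, 1, 4], [2, 0, 3]],
  [[3, 1, 0, 2, 1, 2, 4, 3], [2, 0, 3, 1, 2, 0, 1, 4], [2, 0, 3], [2, 0, 3, 1, 2, 0, 1, 3]],
  [[2, 0, 3, 1, 2, 0, 1, 4], [2, 0, 3], [2, 0, 3, 1, 2, 0, 1, 3], [3, 1, 0, 2, 1, 2, 4, 3]],
  [[2, 0, 3], [2, 0, 3, 1, 2, 0, 1, 3], [3, 1, 0, 2, 1, 2, 4, 3], [2, 0, 3, 1, 2, 0, 1, 4]],
  [[2, 0, 3], [3, 4], [2, 0, 3], [3, 4]],
  [[3, 4], [2, 0, 3], [3, 4], [2, 0, 3]],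
  [[2, 0, 6], [2, 0, 6], [6]],
  [[2, 0, 6], [6], [2, 0, 6]],
  [[6], [2, 0, 6], [2, 0, 6]],
  [[2, 0, 5], [6], [2, 0, 5], [6], [2, 0, 5], [6], [2, 0, 5], [0, 2, 6]],
  [[6], [2, 0, 5], [6], [2, 0, 5], [6], [2, 0, 5], [0, 2, 6], [2, 0, 5]],
  [[2, 0, 5], [6], [2, 0, 5], [6], [2, 0, 5], [0, 2, 6], [2, 0, 5], [6]],
  [[6], [2, 0, 5], [6], [2, 0, 5], [0, 2, 6], [2, 0, 5], [6], [2, 0, 5]],
  [[2, 0, 5], [6], [2, 0, 5], [0, 2, 6], [2, 0, 5], [6], [2, 0, 5], [6]],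
  [[6], [2, 0, 5], [0, 2, 6], [2, 0, 5], [6], [2, 0, 5], [6], [2, 0, 5]],
  [[2, 0, 5], [0, 2, 6], [2, 0, 5], [6], [2, 0, 5], [6], [2, 0, 5], [6]],
  [[0, 2, 6], [2, 0, 5], [6], [2, 0, 5], [6], [2, 0, 5], [6], [2, 0, 5]],
  [[5, 5, 3, 6, 6], [5, 5, 3, 6, 6], [5, 5, 3, 6, 6], [4, 3, 2, 3, 4, 5, 5, 5, 4, 3, 2, 3, 4, 6, 3, 2, 3, 2, 0, 3, 6, 6]],
  [[5, 5, 3, 6, 6], [5, 5, 3, 6, 6], [4, 3, 2, 3, 4, 5, 5, 5, 4, 3, 2, 3, 4, 6, 3, 2, 3, 2, 0, 3, 6, 6], [5, 5, 3, 6, 6]],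
  [[5, 5, 3, 6, 6], [4, 3, 2, 3, 4, 5, 5, 5, 4, 3, 2, 3, 4, 6, 3, 2, 3, 2, 0, 3, 6, 6], [5, 5, 3, 6, 6], [5, 5, 3, 6, 6]],
  [[4, 3, 2, 3, 4, 5, 5, 5, 4, 3, 2, 3, 4, 6, 3, 2, 3, 2, 0, 3, 6, 6], [5, 5, 3, 6, 6], [5, 5, 3, 6, 6], [5, 5, 3, 6, 6]]]
def bus : List (List ℕ × List ℕ) := [([1, 2, 0, 1], [1, 0, 2, 1, 4])]
def ex : List (List ℕ) := [[0, 1, 3, 9, 3, 1, 0, 2, 1, 2, 4, 3, 9, 2, 0, 3, 1, 2, 0, 1, 4, 9, 2, 0, 3, 9, 2, 0, 3, 1, 2],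
  [0, 2, 10, 4, 3, 10, 3, 0, 2, 10, 4, 3, 10, 3],
  [0, 2, 10, 5, 0, 2, 10, 5, 10, 5],
  [0, 2, 6, 9, 2, 0, 5, 9, 6, 9, 2, 0, 5, 9, 6, 9, 2, 0, 5, 9, 6, 9, 2, 0, 5, 9]]
def gws : List (List ℕ) := uss.map (gw σ 9)
def bws : List (List ℕ) := bus.map fun u => subst σ u.1 ++ 9 :: (subst σ u.2 ++ [10])
theorem chk : Rng P.chk 0 7821 := (p0).trans p1
section
variable {G : Type} [Group G] (el : ℕ → G) (ρ : D4B.G →* G) (hρ : ∀ x < 9, ρ (D4B.el x) = byW el σ x)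
include hρ
theorem trl : Trl ρ D4D.cd D4D.eq 9 el σ := ⟨D4D.heq, fun x hx => by rw [D4D.cdx x hx, hρ x hx]⟩
variable (H : Subgroup G) (hH : ∀ n, ρ n ∈ H) (hg : ∀ w ∈ gws, evw el w = 1)
  (hb : ∀ p ∈ P.bp, ρ (D4D.cd p.1) * el 9 = el 9 * ρ (D4D.cd p.2))
noncomputable def C : Ctx P D4B.G G where
  ρ := ρ
  t := el 9
  H := H
  Bs := ⊤
  cd := D4D.cd
  cd0 := D4D.cd0
  heq := D4D.heq
  hH := fun _ => hH
  hB := fun _ => rfl
  hrel := (trl el ρ hρ).rels 9 _ uss hg (by decide +kernel)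
  hsub := forall_nil
  hbp := fun p hp => ⟨trivial, hb p hp⟩
include H hH hg hb
theorem hS : ∀ k < 7821, (C el ρ hρ H hH hg hb).Sem (P.fact k) := (C el ρ hρ H hH hg hb).sound chk
section
attribute [local instance] actO
theorem memB : ∀ k, P.okP 7821 trO k = 0 → D4D.cd (P.cdK k) ∈ Bsub ρ (el 9) ⊓ stO := Ctx.okP_mem (hS el ρ hρ H hH hg hb) trsO (by decide)
end
section
attribute [local instance] D4D.actD
theorem cardB : 36864 ≤ Nat.card (Bsub ρ (el 9) ⊓ stO : Subgroup _) := have := D4D.fin; levs_card D4D.trsD (memB el ρ hρ H hH hg hb) levB _ lB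
theorem hi : ∀ p ∈ lv, ((C el ρ hρ H hH hg hb).T p.1).index ≤ p.2 := have := D4D.fin; forall_cons (Ctx.T0 rfl) (forall_cons (index_le D4D.card (levs_card D4D.trsD (Ctx.okE_mem rfl (hS el ρ hρ H hH hg hb) 1) lev1 36864 l1) (by decide)) (forall_cons (index_le D4D.card (levs_card D4D.trsD (Ctx.okE_mem rfl (hS el ρ hρ H hH hg hb) 2) lev2 13824 l2) (by decide)) (forall_cons (index_le D4D.card (levs_card D4D.trsD (Ctx.okE_mem rfl (hS el ρ hρ H hH hg hb) 3) lev3 288 l3) (by decide)) (forall_cons (index_le D4D.card (levs_card D4D.trsD (Ctx.okE_mem rfl (hS el ρ hρ H hH hg hb) 4) lev4 486 l4) (by decide)) (forall_cons (index_le D4D.card (levs_card D4D.trsD (Ctx.okE_mem rfl (hS el ρ hρ H hH hg hb) 5) lev5 54 l5) (by decide)) (forall_cons (index_le D4D.card (levs_card D4D.trsD (Ctx.okE_mem rfl (hS el ρ hρ H hH hg hb) 6) lev6 6 l6) (by decide)) (forall_cons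 (index_le D4D.card (levs_card D4D.trsD (Ctx.okE_mem rfl (hS el ρ hρ H hH hg hb) 7) lev7 126 l7) (by decide)) (forall_cons (index_le D4D.card (levs_card D4D.trsD (Ctx.okE_mem rfl (hS el ρ hρ H hH hg hb) 8) lev8 78 l8) (by decide)) (forall_cons (index_le D4D.card (levs_card D4D.trsD (Ctx.okE_mem rfl (hS el ρ hρ H hH hg hb) 9) lev9 72 l9) (by decide)) (forall_cons (index_le D4D.card (levs_card D4D.trsD (Ctx.okE_mem rfl (hS el ρ hρ H hH hg hb) 10) lev10 3528 l10) (by decide)) (forall_nil)))))))))))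
end
section
attribute [local instance] actO
theorem dec : ∀ γ ∈ (C el ρ hρ H hH hg hb).K, (C el ρ hρ H hH hg hb).U LM γ := have := D4D.fin
  (C el ρ hρ H hH hg hb).dec (m := 17199) (a := 0) (b := 67) lv (by decide +kernel) List.mem_cons_self (lm_of lv LM (by decide +kernel))
    (fun x => tb0O.bound D4B.htop x (by decide)) (stab_le D4D.card lowO (cardB el ρ hρ H hH hg hb) (by decide)) (forall_cons (Ctx.cos_of rfl (hS el ρ hρ H hH hg hb) trsO 0 [nat_lit 7798, nat_lit 7799, nat_lit 7800, nat_lit 35, nat_lit 38, nat_lit 37, nat_lit 46] 0 0 1 ct0 c0) (forall_cons (Ctx.cos_of rfl (hS el ρ hρ H hH hg hb) trsO 1 [nat_lit 45, nat_lit 39, nat_lit 43, nat_lit 41, nat_lit 36, nat_lit 34] 1 0 12 ct1 c1) (forall_cons (Ctx.cos_of rfl (hS el ρ hρ H hH hg hb) trsO 2 [nat_lit 78, nat_lit 53, nat_lit 52, nat_lit 59, nat_lit 118, nat_lit 61, nat_lit 64, nat_lit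 54, nat_lit 68] 13 0 9 ct2 c2) (forall_cons (Ctx.cos_of rfl (hS el ρ hρ H hH hg hb) trsO 3 [nat_lit 182, nat_lit 294, nat_lit 136, nat_lit 130, nat_lit 131, nat_lit 128, nat_lit 138] 22 0 97 ct3 c3) (forall_cons (Ctx.cos_of rfl (hS el ρ hρ H hH hg hb) trsO 4 [nat_lit 349, nat_lit 363, nat_lit 351, nat_lit 350, nat_lit 486] 119 0 53 ct4 c4) (forall_cons (Ctx.cos_of rfl (hS el ρ hρ H hH hg hb) trsO 5 [nat_lit 381, nat_lit 396, nat_lit 382] 172 2 102 ct5 c5) (forall_cons (Ctx.cos_of rfl (hS el ρ hρ H hH hg hb) trsO 6 [nat_lit 546, nat_lit 547] 530 23 31 ct6 c6) (forall_cons (Ctx.cos_of rfl (hS el ρ hρ H hH hg hb) trsO 7 [nat_lit 5459, nat_lit 5466, nat_lit 5431, nat_lit 5432] 3505 1 30 ct7 c7) (forall_cons (Ctx.cos_of rfl (hS el ρ hρ H hH hg hb) trsO 8 [nat_lit 6136, nat_lit 6073, nat_lit 6098] 3663 1 125 ct8 c8) (forall_cons (Ctx.cos_of rfl (hS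 el ρ hρ H hH hg hb) trsO 9 [nat_lit 6968, nat_lit 6927, nat_lit 6925] 3916 2 3 ct9 c9) (forall_cons (Ctx.cos_of rfl (hS el ρ hρ H hH hg hb) trsO 10 [nat_lit 7765, nat_lit 7757, nat_lit 7761, nat_lit 7754] 4175 0 13 ct10 c10) (forall_nil))))))))))))
end
theorem covers : Covers H (C el ρ hρ H hH hg hb).K 143127000 := have := D4D.fin
  (C el ρ hρ H hH hg hb).cover lv (lm_of lv LM (by decide +kernel)) (dec el ρ hρ H hH hg hb) (hi el ρ hρ H hH hg hb) _ (by decide +kernel)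
theorem hmax (hK : (C el ρ hρ H hH hg hb).K = ⊤) : ∀ L : Subgroup G, H ≤ L → L = H ∨ L = ⊤ :=
  (C el ρ hρ H hH hg hb).hmax rfl lv (lm_of lv LM (by decide +kernel)) (dec el ρ hρ H hH hg hb) hK (forall_cons (Or.inl rfl) (forall_cons (Or.inr (Ctx.ov_of rfl (hS el ρ hρ H hH hg hb) 1 [nat_lit 0] 7801 47 (by decide +kernel))) (forall_cons (Or.inr (Ctx.ov_of rfl (hS el ρ hρ H hH hg hb) 2 [nat_lit 0] 7804 96 (by decide +kernel))) (forall_cons (Or.inr (Ctx.ov_of rfl (hS el ρ hρ H hH hg hb) 3 [nat_lit 0] 7807 212 (by decide +kernel))) (forall_cons (Or.inr (Ctx.ov_of rfl (hS el ρ hρ H hH hg hb) 4 [nat_lit 0] 7809 378 (by decide +kernel))) (forall_cons (Or.inr (Ctx.ov_of rfl (hS el ρ hρ H hH hg hb) 5 [nat_lit 0] 7810 408 (by decide +kernel))) (forall_cons (Or.inr (Ctx.ov_of rfl (hS el ρ hρ H hH hg hb) 6 [nat_lit 0] 7811 596 (by decide +kernel))) (forall_cons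 (Or.inr (Ctx.ov_of rfl (hS el ρ hρ H hH hg hb) 7 [nat_lit 0] 7813 5646 (by decide +kernel))) (forall_cons (Or.inr (Ctx.ov_of rfl (hS el ρ hρ H hH hg hb) 8 [nat_lit 0] 7815 6510 (by decide +kernel))) (forall_cons (Or.inr (Ctx.ov_of rfl (hS el ρ hρ H hH hg hb) 9 [nat_lit 0] 7817 7004 (by decide +kernel))) (forall_cons (Or.inr (Ctx.ov_of rfl (hS el ρ hρ H hH hg hb) 10 [nat_lit 0] 7820 7795 (by decide +kernel))) (forall_nil))))))))))))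
end
end CfH6.ThC
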