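import Cfsg.Agent.OD.Pre
import Cfsg.Agent.H6.TCTop
/-! coset enumeration certificate; generators a b c d e s t u ; index 1 -/
set_option autoImplicit false
set_option maxRecDepth 100000
set_option Elab.async false
set_option linter.all false
namespace CfH6.ThK
open CfH6
noncomputable def t0 : Tr := (Tr.n (Tr.l (nat_lit 0x13fff13fff13fff13fff2885513fff0834c13fff13fff13fff13fff13fff13fff13fff13fff13fff13fff13fff13fff13fff13fff13fff13fff13fff13fff13fff13fff13fff13fff13fff13fff0c78e13fff13fff13fff13fff0c98113fff13fff13fff13fff13fff13fff0824224a4b1444a204471c446184450c486146430c4790cb530c55213fff13fff0c5510c5500c54f13fff0c74d0c3540814004241))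
 (Tr.l (nat_lit 0x13fff1cc7713fff13fff2067413fff13fff24c6a13fff206681866724c6613fff1c6641866313fff13fff206602cd8713fff13fff3926713fff3537713fff0834e13fff13fff2085d1c85c1885b13fff)))
noncomputable def t1 : Tr := (Tr.n (Tr.l (nat_lit 0x13fff285511c5501854f1454e13fff2455413fff13fff146630c24b13fff13fff0c24a13fff13fff13fff13fff13fff13fff13fff13fff13fff13fff13fff13fff13fff13fff13fff13fff13fff13fff13fff1857313fff13fff13fff3894b3474a204491c4461844514444086790849c13fff0867e0867d0867c13fff13fff0c241083750837213fff13fff13fff085570855613fff13fff0c1400834c04242))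
 (Tr.l (nat_lit 0x13fff13fff147910c35313fff13fff13fff3058d13fff13fff13fff13fff13fff13fff13fff13fff13fff13fff0869813fff13fff13fff13fff1869a13fff13fff13fff13fff13fff13fff2ca9f13fff)))
noncomputable def t2 : Tr := (Tr.n (Tr.l (nat_lit 0xffff0ffff0ffff08c790ffff1034c28b7c0ffff0ffff0ffff0ffff0ffff0ffff0ffff0ffff0ffff0ffff0ffff0ffff0ffff0ffff08b970ffff0ffff0ffff08b930ffff0ffff0ffff0ffff0ffff0ffff0ffff0ffff24447204461c4450ffff0ffff0ffff0ffff0ffff0ffff0849f1864a1484b0ffff0ffff0868108487102410847a08952087530ffff0ffff0ffff0ffff0855b0ffff101400ffff0834d04243))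
 (Tr.l (nat_lit 0x10354208730ffff0ffff24a780ffff0ffff0ffff2ca6a0ffff0ffff187652ca660ffff0ffff0ffff0ffff0ffff0ffff0ffff0ffff0ffff0ffff353731034e0ffff0ffff0ffff24551205501c54f0ffff)))
noncomputable def t3 : Tr := (Tr.n (Tr.l (nat_lit 0xffff0ffff0ffff207981034c0ffff0ffff0ffff0ffff1024b1c4630ffff0ffff0ffff0ffff0ffff0ffff19a580ffff0ffff0ffff0ffff0ffff0ffff0ffff0ffff0ffff0ffff085750ffff0ffff0ffff144470ffff0ffff0ffff0ffff0ffff0ffff0ffff0ffff0ffff102420ffff0849d08499086890ffff0848d102410ffff0847b083760ffff0ffff0ffff0855f0ffff0ffff101400ffff083550834e04244))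
 (Tr.l (nat_lit 0xffff0ffff103531c5910ffff1cd88103520887c0ffff0ffff291950ffff0ffff0ffff0869c0ffff0ffff0ffff1034f0ffff0ffff24550145510ffff0ffff0ffff0ffff0ffff0ffff0ffff0ffff34a91)))
noncomputable def t4 : Tr := (Tr.n (Tr.l (nat_lit 0x13fff13fff1489d0c34c0869a24c7908d7a13fff13fff13fff13fff13fff2045513fff13fff13fff09b6e1da6f13fff13fff13fff13fff13fff13fff0c24713fff3565513fff0c24613fff1844813fff13fff0c24413fff13fff0c24313fff13fff13fff147760c24213fff13fff086900868f08495084910c24108488084810847c13fff13fff13fff085610836713fff0c1400835e0835b083560834f04245))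
 (Tr.l (nat_lit 0x13fff13fff13fff13fff13fff2057b13fff13fff13fff13fff0c35113fff13fff13fff0c3502c5532855213fff13fff13fff28d8a13fff210890c34e13fff13fff13fff13fff13fff13fff0c34d13fff)))
noncomputable def t5 : Tr := (Tr.n (Tr.l (nat_lit 0x86881034c0ffff0ffff0ffff0ffff0ffff1024b0ffff0ffff0ffff1024a0ffff0ffff0ffff0ffff1024915a6f0ffff0ffff102480ffff0ffff102470ffff0ffff0ffff0ffff0ffff0ffff0ffff102450ffff0ffff102430ffff0ffff0ffff0855e0ffff0ffff0ffff3594a0ffff0849e0849a10241084920ffff08489084820847d08377083730836e0ffff10140083640ffff0835f0835c083570835004246))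
 (Tr.l (nat_lit 0xffff0ffff0ffff0ffff103520ffff0ffff0ffff0ffff103510ffff0ffff0ffff0ffff0ffff0ffff0ffff1034f0ffff0ffff1c67c1034e0ffff18e990ffff0ffff0ffff0ffff1034d0ffff0ffff0ffff)))
noncomputable def t6 : Tr := (Tr.n (Tr.l (nat_lit 0xffff0ffff1034c0878b0ffff0ffff0ffff0ffff1024b0ffff0ffff0ffff1024a0ffff0ffff0ffff0ffff102490ffff0ffff184690ffff0ffff0ffff0ffff0ffff3574a102460ffff0ffff0ffff0ffff10244144590ffff102430ffff0ffff0ffff0ffff102420ffff0ffff0ffff0ffff0849b08496102410848e0848a084830847e08378083740836f0836b0ffff10140083600ffff0835d0ffff0835104247))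
 (Tr.l (nat_lit 0xffff103530ffff0ffff0ffff1035208f880ffff0ffff0ffff0ffff0ffff0ffff103500ffff0ffff0ffff0ffff0ffff0ffff0ffff0ffff1034e1457f0ffff0ffff0ffff0ffff0ffff1034d0ffff0ffff)))
noncomputable def t7 : Tr := (Tr.n (Tr.l (nat_lit 0xbfff0bfff0bfff0bfff0bfff0bfff0bfff0bfff0bfff0bfff0bfff0bfff0bfff0bfff0bfff1856c14468204641c44b1844a15b6e0bfff0bfff0bfff0bfff0bfff0bfff0bfff0bfff102450bfff0bfff0bfff0bfff0bfff0bfff0bfff0bfff0bfff102420bfff0bfff0bfff0bfff0bfff0bfff0bfff0bfff0bfff0bfff0c4840bfff0c5710c570101400c4490bfff0bfff0c3610bfff0bfff0bfff0bfff04248))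
 (Tr.l (nat_lit 0xbfff0bfff0bfff0bfff0bfff0bfff0bfff0bfff0bfff0bfff0bfff0bfff0bfff0bfff0bfff0bfff0bfff0bfff0bfff0bfff0bfff0bfff0bfff0bfff0bfff0bfff1034d0bfff0bfff0bfff0bfff0bfff)))
noncomputable def t8 : Tr := (Tr.n (Tr.l (nat_lit 0xbfff0bfff0bfff0bfff0bfff0bfff0bfff0bfff0bfff0bfff0bfff0bfff0bfff0bfff1c44b1844a0bfff0dc6b0bfff0bfff0bfff0bfff102470bfff0bfff0bfff0bfff0c56e0bfff0bfff102450bfff0bfff0bfff0bfff0bfff0bfff0bfff0bfff0bfff0bfff0bfff3596e0bfff0bfff0bfff0bfff0bfff0bfff0bfff0c4850bfff0c56d0c56c14348101400bfff0bfff0c3620bfff0bfff0c3580bfff04249))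
 (Tr.l (nat_lit 0xbfff0bfff0bfff0bfff0bfff0bfff0bfff0bfff0bfff0bfff0bfff0bfff0bfff0bfff0bfff0bfff0bfff0bfff0bfff0bfff0bfff0bfff0bfff0bfff0bfff0bfff0bfff1034d0bfff0bfff0bfff0bfff)))
noncomputable def t9 : Tr := (Tr.n (Tr.l (nat_lit 0xffff34f4e0ffff0ffff0ffff0ffff0ffff0ffff0ffff0ffff0ffff0ffff0ffff0ffff10249087850ffff19a6910248087840ffff102470ffff0ffff0ffff10246146820ffff0ffff0ffff0ffff0ffff0ffff0ffff0ffff0ffff0ffff102420ffff0ffff0ffff0ffff086600ffff102411444308497084930848f0848b0ffff0847f101400854d083700836c0ffff083650ffff0ffff0ffff0ffff083520424a))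
 (Tr.l (nat_lit 0xffff0ffff0ffff0ffff0ffff0ffff0ffff103510ffff0ffff0ffff103500ffff0ffff0ffff1034f0ffff0ffff1c87e1034e0ffff0ffff0ffff0ffff0ffff0ffff0ffff0ffff0ffff0ffff0ffff1034c)))
noncomputable def t10 : Tr := (Tr.n (Tr.l (nat_lit 0x1034c0898d0ffff18c7f0ffff0ffff0ffff0ffff0ffff0ffff0ffff0ffff0ffff0ffff0ffff102490ffff0ffff0ffff102480ffff149830ffff0ffff0ffff14982102460ffff0ffff0ffff0ffff1c5550ffff0ffff0ffff0ffff0ffff0ffff102420ffff0ffff0ffff0ffff0ffff0ffff102410849808494084900848c1844a084801474d10140083710836d0836a083660ffff0ffff085520835a083530424b))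
 (Tr.l (nat_lit 0x185590ffff0ffff0ffff0ffff0ffff0ffff0ffff103510ffff0ffff0ffff103500ffff0ffff0ffff1034f1c67b0ffff0ffff1034e28c880ffff0ffff0ffff0ffff246702066c0ffff0ffff0ffff0ffff)))
noncomputable def t11 : Tr := (Tr.n (Tr.l (nat_lit 0xd915307fff07fffd504107fffd1140cd045c9574c556607fff1485ac1764bd56510659b95700dc6e07fff07fffb556cb1d55add4aa9564a5d49a17659d4469966595f47918558d5478964985648816477d65907fff07fff07fff07fff793597634407fff07fff711546df49696426565207fff07fff07fff60f4c07fff5d14507fff5944a56140521464de474a04646240415403e442397410a5403664000000))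
 (Tr.l (nat_lit 0x852428128807fff149807d64e07fff7955174f4e07fff716886d18a6948807fff6544e614515d0805907f07fff1ce7b18e7e55051513504d55207fff48f554506a412623d26107fff07fff3907a35252)))
noncomputable def t12 : Tr := (Tr.n (Tr.l (nat_lit 0xa56432056315619a569a598549a64785645649a764309a5643219a7856432100))
 (Tr.l (nat_lit 0x26315639a549a649a539a56420785649)))
noncomputable def t13 : Tr := (Tr.n (Tr.l (nat_lit 0))
 (Tr.l (nat_lit 0x9502780)))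
noncomputable def t14 : Tr := (Tr.n (Tr.l (nat_lit 0x7501c80))
 (Tr.l (nat_lit 0)))
noncomputable def t15 : Tr := (Tr.n (Tr.l (nat_lit 0))
 (Tr.l (nat_lit 0x2780)))
noncomputable def t16 : Tr := (Tr.n (Tr.l (nat_lit 0))
 (Tr.l (nat_lit 0x2700)))
noncomputable def t17 : Tr := (Tr.n (Tr.l (nat_lit 0x1cc0))
 (Tr.l (nat_lit 0)))
noncomputable def t18 : Tr := (Tr.n (Tr.l (nat_lit 0x1e00))
 (Tr.l (nat_lit 0)))
noncomputable def t19 : Tr := (Tr.n (Tr.l (nat_lit 0x1dc0))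
 (Tr.l (nat_lit 0)))
noncomputable def t20 : Tr := (Tr.n (Tr.l (nat_lit 0x1900))
 (Tr.l (nat_lit 0)))
noncomputable def t21 : Tr := (Tr.n (Tr.l (nat_lit 0x2300))
 (Tr.l (nat_lit 0)))
noncomputable def t22 : Tr := (Tr.n (Tr.l (nat_lit 0x7c2a60379113e04b1a5209b025224b1d2c8701dc289281c2996022804b15ae59b0a44071a5b6945198e39fa91c37985ae645062648d0df225a052064825b0948115654ba528153a50a0))
 (Tr.l (nat_lit 0x20417f96266808e341999a2e48aaa2a595913ca4f26629950e4638d026204d213474f0a3e4)))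
noncomputable def tab0 : Tr := t0
noncomputable def tab1 : Tr := t1
noncomputable def tab2 : Tr := t2
noncomputable def tab3 : Tr := t3
noncomputable def tab4 : Tr := t4
noncomputable def tab5 : Tr := t5
noncomputable def tab6 : Tr := t6
noncomputable def tab7 : Tr := t7
noncomputable def tab8 : Tr := t8
noncomputable def tab9 : Tr := t9
noncomputable def tab10 : Tr := t10
noncomputable def tab11 : Tr := t11
noncomputable def tab12 : Tr := t12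
noncomputable def tab13 : Tr := t13
noncomputable def tab14 : Tr := t14
noncomputable def tab15 : Tr := t15
noncomputable def tab16 : Tr := t16
noncomputable def tab17 : Tr := t17
noncomputable def tab18 : Tr := t18
noncomputable def tab19 : Tr := t19
noncomputable def tab20 : Tr := (Tr.l (nat_lit 0))
noncomputable def tab21 : Tr := t20
noncomputable def tab22 : Tr := t21
noncomputable def tab23 : Tr := (Tr.l (nat_lit 0))
noncomputable def tab24 : Tr := t22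
noncomputable def ty0 : TT := (TT.n (TT.n (TT.n (TT.n (TT.l (Ty.srel [nat_lit 0]))
 (TT.l (Ty.rel3 (nat_lit 2) (nat_lit 10) (nat_lit 10))))
 (TT.l (Ty.rel3 (nat_lit 10) (nat_lit 0) (nat_lit 9))))
 (TT.n (TT.n (TT.l (Ty.rel1 (nat_lit 0)))
 (TT.l (Ty.relL (nat_lit 2) [nat_lit 6, nat_lit 10, nat_lit 6, nat_lit 10, nat_lit 6, nat_lit 10])))
 (TT.l (Ty.rel3 (nat_lit 6) (nat_lit 0) (nat_lit 5)))))
 (TT.n (TT.n (TT.n (TT.l (Ty.dfn))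
 (TT.l (Ty.rel3 (nat_lit 9) (nat_lit 0) (nat_lit 10))))
 (TT.l (Ty.rel3 (nat_lit 4) (nat_lit 0) (nat_lit 4))))
 (TT.n (TT.l (Ty.skip))
 (TT.l (Ty.rel3 (nat_lit 5) (nat_lit 0) (nat_lit 6))))))
noncomputable def ty1 : TT := (TT.n (TT.n (TT.n (TT.n (TT.l (Ty.srel [nat_lit 1]))
 (TT.l (Ty.rel5 (nat_lit 0) (nat_lit 1) (nat_lit 0) (nat_lit 1) (nat_lit 0))))
 (TT.l (Ty.rel3 (nat_lit 3) (nat_lit 1) (nat_lit 3))))
 (TT.n (TT.n (TT.l (Ty.dfn))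
 (TT.l (Ty.srel [nat_lit 10, nat_lit 1, nat_lit 0, nat_lit 2, nat_lit 1, nat_lit 9, nat_lit 4, nat_lit 1, nat_lit 2, nat_lit 0])))
 (TT.l (Ty.rel3 (nat_lit 6) (nat_lit 1) (nat_lit 5)))))
 (TT.n (TT.n (TT.n (TT.l (Ty.rel1 (nat_lit 1)))
 (TT.l (Ty.rel3 (nat_lit 5) (nat_lit 1) (nat_lit 6))))
 (TT.l (Ty.rel3 (nat_lit 4) (nat_lit 1) (nat_lit 4))))
 (TT.n (TT.n (TT.l (Ty.skip))
 (TT.l (Ty.relL (nat_lit 3) [nat_lit 4, nat_lit 6, nat_lit 10])))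
 (TT.l (Ty.rel3 (nat_lit 7) (nat_lit 1) (nat_lit 8))))))
noncomputable def ty2 : TT := (TT.n (TT.n (TT.n (TT.n (TT.l (Ty.srel [nat_lit 2]))
 (TT.l (Ty.rel3 (nat_lit 5) (nat_lit 2) (nat_lit 6))))
 (TT.l (Ty.rel3 (nat_lit 10) (nat_lit 10) (nat_lit 0))))
 (TT.n (TT.n (TT.l (Ty.skip))
 (TT.l (Ty.rel3 (nat_lit 10) (nat_lit 2) (nat_lit 9))))
 (TT.l (Ty.rel3 (nat_lit 4) (nat_lit 2) (nat_lit 4)))))
 (TT.n (TT.n (TT.n (TT.l (Ty.rel1 (nat_lit 2)))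
 (TT.l (Ty.rel5 (nat_lit 1) (nat_lit 2) (nat_lit 1) (nat_lit 2) (nat_lit 1))))
 (TT.l (Ty.rel3 (nat_lit 9) (nat_lit 2) (nat_lit 10))))
 (TT.n (TT.l (Ty.dfn))
 (TT.l (Ty.rel3 (nat_lit 6) (nat_lit 2) (nat_lit 5))))))
noncomputable def ty3 : TT := (TT.n (TT.n (TT.n (TT.n (TT.l (Ty.srel [nat_lit 3]))
 (TT.l (Ty.rel3 (nat_lit 6) (nat_lit 3) (nat_lit 6))))
 (TT.l (Ty.rel3 (nat_lit 5) (nat_lit 3) (nat_lit 5))))
 (TT.n (TT.l (Ty.skip))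
 (TT.l (Ty.relL (nat_lit 4) [nat_lit 6, nat_lit 10, nat_lit 1]))))
 (TT.n (TT.n (TT.n (TT.l (Ty.rel1 (nat_lit 3)))
 (TT.l (Ty.rel5 (nat_lit 4) (nat_lit 3) (nat_lit 4) (nat_lit 3) (nat_lit 4))))
 (TT.l (Ty.rel3 (nat_lit 7) (nat_lit 3) (nat_lit 8))))
 (TT.n (TT.l (Ty.dfn))
 (TT.l (Ty.rel3 (nat_lit 1) (nat_lit 3) (nat_lit 1))))))
noncomputable def ty4 : TT := (TT.n (TT.n (TT.n (TT.n (TT.l (Ty.srel [nat_lit 4]))
 (TT.l (Ty.rel3 (nat_lit 2) (nat_lit 4) (nat_lit 2))))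
 (TT.l (Ty.rel3 (nat_lit 1) (nat_lit 4) (nat_lit 1))))
 (TT.n (TT.n (TT.l (Ty.dfn))
 (TT.l (Ty.rel3 (nat_lit 9) (nat_lit 4) (nat_lit 10))))
 (TT.l (Ty.srel [nat_lit 7, nat_lit 4, nat_lit 8]))))
 (TT.n (TT.n (TT.n (TT.l (Ty.rel1 (nat_lit 4)))
 (TT.l (Ty.rel3 (nat_lit 10) (nat_lit 4) (nat_lit 9))))
 (TT.l (Ty.rel3 (nat_lit 8) (nat_lit 4) (nat_lit 7))))
 (TT.n (TT.l (Ty.skip))
 (TT.l (Ty.relL (nat_lit 3) [nat_lit 1, nat_lit 9, nat_lit 5])))))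
noncomputable def ty5 : TT := (TT.n (TT.n (TT.n (TT.l (Ty.srel [nat_lit 6]))
 (TT.l (Ty.srel [nat_lit 7, nat_lit 6, nat_lit 6, nat_lit 8])))
 (TT.n (TT.l (Ty.skip))
 (TT.l (Ty.relL (nat_lit 4) [nat_lit 3, nat_lit 1, nat_lit 9]))))
 (TT.n (TT.n (TT.l (Ty.rel1 (nat_lit 6)))
 (TT.l (Ty.rel3 (nat_lit 3) (nat_lit 5) (nat_lit 3))))
 (TT.l (Ty.dfn))))
noncomputable def ty6 : TT := (TT.n (TT.n (TT.n (TT.l (Ty.srel [nat_lit 5]))
 (TT.l (Ty.relL (nat_lit 10) [nat_lit 1, nat_lit 3, nat_lit 4])))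
 (TT.l (Ty.skip)))
 (TT.n (TT.n (TT.l (Ty.rel1 (nat_lit 5)))
 (TT.l (Ty.relL (nat_lit 8) [nat_lit 5, nat_lit 7, nat_lit 6])))
 (TT.l (Ty.dfn))))
noncomputable def ty7 : TT := (TT.n (TT.n (TT.n (TT.l (Ty.srel [nat_lit 8]))
 (TT.l (Ty.relL (nat_lit 5) [nat_lit 5, nat_lit 8, nat_lit 6])))
 (TT.n (TT.l (Ty.rel1 (nat_lit 8)))
 (TT.l (Ty.rel3 (nat_lit 9) (nat_lit 7) (nat_lit 10)))))
 (TT.n (TT.n (TT.l (Ty.skip))
 (TT.l (Ty.rel3 (nat_lit 10) (nat_lit 7) (nat_lit 9))))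
 (TT.n (TT.l (Ty.dfn))
 (TT.l (Ty.relL (nat_lit 6) [nat_lit 6, nat_lit 8, nat_lit 5])))))
noncomputable def ty8 : TT := (TT.n (TT.n (TT.n (TT.l (Ty.srel [nat_lit 7]))
 (TT.l (Ty.relL (nat_lit 8) [nat_lit 8])))
 (TT.n (TT.l (Ty.rel1 (nat_lit 7)))
 (TT.l (Ty.rel3 (nat_lit 9) (nat_lit 8) (nat_lit 10)))))
 (TT.n (TT.n (TT.l (Ty.skip))
 (TT.l (Ty.rel3 (nat_lit 10) (nat_lit 8) (nat_lit 9))))
 (TT.l (Ty.dfn))))
noncomputable def ty9 : TT := (TT.n (TT.n (TT.n (TT.l (Ty.srel [nat_lit 10]))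
 (TT.l (Ty.rel3 (nat_lit 2) (nat_lit 0) (nat_lit 9))))
 (TT.n (TT.l (Ty.skip))
 (TT.l (Ty.relL (nat_lit 5) [nat_lit 4, nat_lit 3, nat_lit 1]))))
 (TT.n (TT.n (TT.l (Ty.rel1 (nat_lit 10)))
 (TT.l (Ty.srel [nat_lit 8, nat_lit 10, nat_lit 8])))
 (TT.l (Ty.dfn))))
noncomputable def ty10 : TT := (TT.n (TT.n (TT.n (TT.n (TT.l (Ty.srel [nat_lit 9]))
 (TT.l (Ty.rel3 (nat_lit 8) (nat_lit 9) (nat_lit 8))))
 (TT.l (Ty.rel3 (nat_lit 0) (nat_lit 2) (nat_lit 10))))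
 (TT.n (TT.l (Ty.skip))
 (TT.l (Ty.relL (nat_lit 1) [nat_lit 3, nat_lit 4, nat_lit 6]))))
 (TT.n (TT.n (TT.n (TT.l (Ty.rel1 (nat_lit 9)))
 (TT.l (Ty.relL (nat_lit 6) [nat_lit 10, nat_lit 0, nat_lit 2, nat_lit 6, nat_lit 10, nat_lit 6])))
 (TT.l (Ty.rel3 (nat_lit 10) (nat_lit 0) (nat_lit 2))))
 (TT.n (TT.l (Ty.dfn))
 (TT.l (Ty.rel3 (nat_lit 7) (nat_lit 9) (nat_lit 7))))))
noncomputable def ty11 : TT := (TT.n (TT.n (TT.n (TT.l (Ty.skip))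
 (TT.l (Ty.rel5 (nat_lit 9) (nat_lit 5) (nat_lit 4) (nat_lit 3) (nat_lit 1))))
 (TT.n (TT.l (Ty.rel5 (nat_lit 5) (nat_lit 4) (nat_lit 3) (nat_lit 1) (nat_lit 9)))
 (TT.l (Ty.relL (nat_lit 4) [nat_lit 3, nat_lit 4, nat_lit 3, nat_lit 4, nat_lit 3]))))
 (TT.n (TT.n (TT.l (Ty.srel [nat_lit 3, nat_lit 4, nat_lit 3, nat_lit 4, nat_lit 3, nat_lit 4]))
 (TT.l (Ty.relL (nat_lit 10) [nat_lit 0, nat_lit 2, nat_lit 10])))
 (TT.l (Ty.relL (nat_lit 5) [nat_lit 1, nat_lit 6, nat_lit 1]))))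
noncomputable def C : Cert where
  tabs := [tab0, tab1, tab2, tab3, tab4, tab5, tab6, tab7, tab8, tab9, tab10, tab11, tab12, tab13, tab14, tab15, tab16, tab17, tab18, tab19, tab20, tab21, tab22, tab23, tab24]
  tts := [ty0, ty1, ty2, ty3, ty4, ty5, ty6, ty7, ty8, ty9, ty10, ty11]
  k := nat_lit 6
  base := nat_lit 12
  mJ := nat_lit 192
  mR := nat_lit 63
  W := nat_lit 20
  mA := nat_lit 16383
  mI := nat_lit 255
  S := nat_lit 14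
  mC := nat_lit 63
  nc := nat_lit 11
  lo := nat_lit 64
  live := nat_lit 65
  hi1 := nat_lit 159
  AW := nat_lit 14
  mAW := nat_lit 16383
def il : List ℕ := [0, 1, 2, 3, 4, 6, 5, 8, 7, 10, 9]
def rels : List (List ℕ) := [[0, 1, 0, 1, 0, 1],
  [0, 4, 0, 4],
  [1, 2, 1, 2, 1, 2],
  [1, 3, 1, 3],
  [1, 4, 1, 4],
  [0, 3, 2, 3, 2, 3, 2, 3, 2],
  [2, 4, 2, 4],
  [3, 4, 3, 4, 3, 4],
  [1, 2, 3, 4, 1, 2, 3, 4, 1, 2, 3, 4, 1, 2, 3, 4, 1, 2, 3, 4, 1, 2, 3, 4, 1, 2, 3, 4, 1, 2, 3, 4],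
  [5, 5, 5, 5, 5, 5, 5],
  [6, 0, 5, 0],
  [6, 1, 5, 1],
  [6, 2, 5, 2],
  [5, 3, 5, 3],
  [4, 6, 4, 6, 6, 4, 5, 5, 5],
  [7, 7, 7],
  [8, 0, 7, 0],
  [8, 1, 7, 1],
  [8, 2, 7, 2],
  [8, 3, 7, 3],
  [8, 4, 7, 4],
  [8, 5, 7, 6, 6],
  [9, 9, 2, 0],
  [10, 0, 9, 0],
  [10, 2, 9, 2],
  [10, 4, 9, 4],
  [3, 4, 10, 3, 9, 3, 4, 10, 3, 9],
  [10, 1, 2, 0, 1, 9, 1, 0, 2, 1, 4],
  [3, 10, 3, 1, 2, 0, 1, 3, 9, 3, 1, 0, 2, 1, 2, 4, 3, 10, 3, 1, 2, 0, 1, 4, 10],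
  [10, 7, 9, 7],
  [4, 6, 6, 10, 5, 5, 4, 6, 6, 9, 5, 5],
  [0, 2, 6, 10, 6, 10, 6, 10],
  [0, 2, 6, 10, 5, 9, 6, 10, 5, 9, 6, 10, 5, 9, 6, 10, 5, 9],
  [3, 6, 6, 9, 5, 5, 3, 6, 6, 9, 5, 5, 3, 6, 6, 9, 5, 5, 3, 6, 6, 9, 4, 3, 2, 3, 4, 5, 5, 5, 4, 3, 2, 3, 4, 6, 3, 2, 3, 2, 0],
  [1, 3, 4, 6, 10]]
def subs : List (List ℕ) := []
theorem valid : C.valid il rels subs = true := by decide +kernel
theorem p0 : C.OkL 64 65 := C.okL_of 64 0 1 65 (by decide) (by decide +kernel)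
theorem p1 : C.OkR 65 160 := C.okR_of 65 0 95 160 (by decide) (by decide +kernel)
theorem covers {G : Type*} [Group G] (ev : ℕ → G) (H : Subgroup G)
    (hinv : ∀ x < 11, ev (il.getD x 0) = (ev x)⁻¹) (hr : ∀ r ∈ rels, evw ev r = 1)
    (hs : ∀ s ∈ subs, evw ev s ∈ H) : Covers H (gensub ev 11) 1 :=
  C.sound il rels subs 11 1 valid (p0) (p1) (by decide) (by decide) ev H hinv hr hs
end CfH6.ThK
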