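import Cfsg.Agent.OD.Pre
import Cfsg.Agent.H6.TCTop
/-! coset enumeration certificate; generators a b c d e s t u ; index 1 -/
set_option autoImplicit false
set_option maxRecDepth 100000
set_option Elab.async false
set_option linter.all false
namespace CfH6.ThW
open CfH6
noncomputable def t0 : Tr := (Tr.n (Tr.l (nat_lit 0x41a603fffc65efa2ed7c0824a03fffc54af20ffff07fff84123c1fffe0ffff07fff83fffc1fffe0ffff07fff83fffc1fffe0ffff07fff83fffc1fffe1078d07fff83fffc1fffe0ffff07fff83fffc1fffe0ffff07fff83fffc1fffe0ffff07fff83fffc1fffe0ffff07fff83fffc104840ffff0a2250911204088e1c4460c22284122428c861047f07fff84154c1fffe10552082a884154020a9e0ffff083a683fffc1028004241))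
 (Tr.l (nat_lit 0x7fff83fffc1fffe0837b07fff83fffc1fffe0ffff041bb03fffc40cd00ffff07fff83fffc1069c0ffff1242f83fffc1fffe0ffff07fff83fffc1fffe0ffff)))
noncomputable def t1 : Tr := (Tr.n (Tr.l (nat_lit 0x102aa84fffc10d2c086950612504fffc1092213fff09fff84fffc27ffe13fff09fff84fffc27ffe13fff09fff84fffc27ffe13fff09fff84fffc27ffe13fff09fff84fffc27ffe13fff09fff84fffc27ffe13fff20d2904fffc7b49c0c24309fff87112027ffe184460a22284fffc27ffe13fff09fff821a1427ffe0868309fff821a041090c0c24109fff820dec27ffe0855a09fff84fffc10aae13fff041ae0305001069804242))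
 (Tr.l (nat_lit 0x142bf0615f448af82e49409fff84fffc186f213fff09fff84fffc50ec213fff09fff84fffc27ffe13fff09fff830d3438aa413fff0c2a805153c48a9c13fff)))
noncomputable def t2 : Tr := (Tr.n (Tr.l (nat_lit 0x9fff84fffc4defa0a59709fff84fffc452f213fff09fff87a1d827ffe13fff09fff84fffc27ffe13fff09fff84fffc27ffe13fff09fff84fffc27ffe13fff09fff84fffc27ffe13fff09fff84fffc1848813fff0c22405111827ffe13fff09fff84fffc27ffe13fff0444583090827ffe13fff09fff821a1c27ffe13fff09fff8212281848213fff09fff84fffc27ffe0855f09fff82157827ffe08361060a0020d581069a04243))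
 (Tr.l (nat_lit 0x1b23e04fffc27ffe3277b09fff84fffc27ffe13fff09fff84fffc27ffe2c6590a3ab830d3827ffe13fff0c2a904fffc27ffe2866709fff851d8c27ffe0c34c)))
noncomputable def t3 : Tr := (Tr.n (Tr.l (nat_lit 0x7fff83fffc1fffe1024a0424a83fffc1fffe0ffff07fff83fffc1fffe0ffff07fff83fffc1fffe0ffff07fff83fffc1fffe0ffff07fff83fffc1fffe089800812283fffc38890184460a22383fffc1fffe0ffff07fff83fffc204860ffff07fff83fffc1fffe0ffff07fff83fffc1fffe0ffff07fff83fffc10d160ffff042460409041fffe0848107fff820df01fffe0856507fff83fffc106ce10140041ae83fffc1069c04244))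
 (Tr.l (nat_lit 0x7fff83fffc206f60ffff07fff83fffc1fffe0ffff07fff83fffc310ac1034f0a2a883fffc1fffe0ffff1104383fffc1fffe0ffff07fff83fffc2069814868)))
noncomputable def t4 : Tr := (Tr.n (Tr.l (nat_lit 0x7fff83fffc1fffe3307c170bd83fffc53ef20ffff07fff8212401fffe0ffff07fff83fffc1fffe1024707fff8951941fffe102461022503fffc388903ca4607fff83fffc1fffe0ffff0c4400409101fffe0ffff0af2f83fffc1fffe0ffff07fff83fffc1fffe0ffff0812103fffc1fffe0ffff07fff8212381fffe0ffff0812083fffc1fffe0848207fff8215ac1fffe08569041b8020db0202800836207fff820d5c1069e04245))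
 (Tr.l (nat_lit 0x7fff83fffc1fffe3a29407fff83fffc6c1221037607fff840d481fffe0ffff07fff83fffc1fffe0ffff07fff83fffc1fffe0ffff07fff840d301fffe08963)))
noncomputable def t5 : Tr := (Tr.n (Tr.l (nat_lit 0x7fff8409281fffe228940424b03fffc109241024907fff83fffc204903046e162378215d42048e0ffff07fff8a49941fffe0ffff07fff83fffc4a4e410245103c00f39243a2d21024407fff83fffc30d040ffff0af2f83fffc1fffe0ffff07fff83fffc204840ffff07fff83fffc1fffe0ffff07fff83fffc204820ffff07fff82122c1fffe0848307fff820df4106ee08374080a0020db41fffe08363041af020d60106a004246))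
 (Tr.l (nat_lit 0x81bd83fffc1fffe0ffff081bc83fffc1fffe0ffff07fff83fffc2069e0ffff07fff86155c1fffe0ffff07fff83fffc1fffe1034c07fff83fffc1fffe0ffff)))
noncomputable def t6 : Tr := (Tr.n (Tr.l (nat_lit 0x7fff83fffc204940ffff0424b83fffc109260ffff0812483fffc388e41024807fff824da41fffe0ffff07fff8215d02048c0ffff07fff9041241fffe0ffff07fff83fffc126dc0ffff0812203fffc7a0980ffff07fff84090c1fffe0ffff07fff83fffc1fffe1024204345061e301fffe0ffff07fff857d481fffe102410424683fffc1fffe0848407fff820df8106f008375041b8840500106d00836407fff83fffc106a204247))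
 (Tr.l (nat_lit 0x7fff840dec1fffe0a97c07fff840de41fffe0ffff07fff83fffc1fffe0ffff081a703fffc1fffe0ffff07fff83fffc1fffe0ffff081a603fffc1fffe0ffff)))
noncomputable def t7 : Tr := (Tr.n (Tr.l (nat_lit 0x9fff84fffc27ffe13fff043c884fffc28aec1c4710c23685112827ffe13fff061238215cc27ffe13fff0612304fffc27ffe13fff09fff83091410ad413fff09fff83091010acc13fff09fff84fffc27ffe0c243042b004fffc27ffe13fff0612102156c27ffe13fff09fff84fffc27ffe13fff09fff84fffc27ffe13fff09fff84fffc1090e0848509fff8215e41828008449041b9020db8106d208365041af820d68106a404248))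
 (Tr.l (nat_lit 0x9fff84fffc27ffe13fff09fff84fffc27ffe13fff09fff84fffc27ffe13fff09fff84fffc27ffe0c34d0434404fffc27ffe13fff09fff84fffc27ffe13fff)))
noncomputable def t8 : Tr := (Tr.n (Tr.l (nat_lit 0x5fff82fffc17ffe0bfff05fff87112c308940bfff05fff8319e417ffe0bfff0a23904091c18af00bfff05fff84091818aee0bfff05fff8511a42048a0bfff05fff851194204880bfff05fff82fffc17ffe1445f0812182fffc17ffe0bfff0a22d04090817ffe0bfff05fff82fffc17ffe0bfff05fff84090417ffe0bfff05fff82fffc189100bfff05fff8315d82869010140061b9830dbc186d40c366061b0030d6c17ffe04249))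
 (Tr.l (nat_lit 0x5fff82fffc17ffe0bfff05fff82fffc40cf60bfff05fff82fffc17ffe0bfff05fff82fffc17ffe14587081a682fffc206980bfff05fff82fffc17ffe0bfff)))
noncomputable def t9 : Tr := (Tr.n (Tr.l (nat_lit 0x7fff83fffc35af80ffff07fff8409241fffe0ffff07fff821e1c1fffe0ffff07fff83fffc1fffe0ffff07fff83fffc1fffe0ffff07fff83fffc1fffe0ffff07fff83fffc1fffe0ffff07fff83fffc1fffe4237a07fff83fffc1fffe0ffff1f2bd03fffc1fffe0ffff07fff83fffc1fffe102410a22183fffc1fffe0ffff07fff83fffc110960ffff080a0021534106f20837607fff83fffc106d60ffff044aa03fffc106a60424a))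
 (Tr.l (nat_lit 0x7fff83fffc1fffe0ffff07fff82ae4c1fffe0ffff07fff83fffc1fffe0ffff07fff83fffc1fffe1c87a07fff83fffc1fffe0ffff07fff83fffc1fffe0ffff)))
noncomputable def t10 : Tr := (Tr.n (Tr.l (nat_lit 0x7fff83fffc1fffe0ae7d07fff83fffc204920ffff07fff8409201fffe0ffff07fff83fffc1fffe0ffff07fff83fffc1fffe0ffff0812283fffc1fffe0ffff07fff83fffc1fffe0ffff07fff83fffc1fffe0ffff07fff83fffc1fffe0ffff07fff83fffc1fffe0ffff07fff83fffc1fffe148430812083fffc1fffe0ffff07fff83fffc308940ffff0a3a6840500106f40ffff07fff83fffc1fffe0ffff042a983fffc106a80424b))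
 (Tr.l (nat_lit 0x7fff83fffc1fffe0ffff1154903fffc1fffe0ffff07fff83fffc1fffe0ffff07fff83fffc1fffe0ffff0e33b03fffc1fffe0ffff07fff83fffc1fffe0ffff)))
noncomputable def t11 : Tr := (Tr.n (Tr.l (nat_lit 0x80ca6bfadf03e28007fff7d6a53da1e5e6690ecd66747b539cd25c34cadd8656cc353561a5a188818a6466bb3325d9589c8a1496860ea52f6999732cab4d4603fffac6d255b89007fff085a383551952ebca645b511ad01fffc1409a9d9414d3a4a59d200fffe07fff48ea1237d391429c8634b411a51f8920f309e07fff3aea09c9100dc48669843333a518c900bea905b6402aba29459109b48849c40232a11099007c68000000))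
 (Tr.l (nat_lit 0x1954a9db9f4e5cf86ec4a35a2419d1200fffe2de761523b097548c1ca05d98b2cf2701fffcac48452260110af936954932be07fff227b081fffc832ba3cc64)))
noncomputable def t12 : Tr := (Tr.n (Tr.l (nat_lit 0x56319a56a5678547864a78537856427863178564209a85643219a7856432100))
 (Tr.l (nat_lit 0x563056140453620781856432)))
noncomputable def t13 : Tr := (Tr.n (Tr.l (nat_lit 0x8502040))
 (Tr.l (nat_lit 0)))
noncomputable def t14 : Tr := (Tr.n (Tr.l (nat_lit 0x1b00))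
 (Tr.l (nat_lit 0)))
noncomputable def t15 : Tr := (Tr.n (Tr.l (nat_lit 0x1e00))
 (Tr.l (nat_lit 0)))
noncomputable def t16 : Tr := (Tr.n (Tr.l (nat_lit 0x77020c0))
 (Tr.l (nat_lit 0)))
noncomputable def t17 : Tr := (Tr.n (Tr.l (nat_lit 0x8801800))
 (Tr.l (nat_lit 0)))
noncomputable def t18 : Tr := (Tr.n (Tr.l (nat_lit 0x4c025c194016c94a1dc486d212887215b8647211c76399188461da254525c876e960037315cc846897c7520532143210c745055e25d853694daa1c247011404d061c861190c97d1a4a9499d1a56291c88731d7c84e01488))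
 (Tr.l (nat_lit 0x1ec57b0dfa57919e4568014634f0d560871dfe14c1e3614c0d8c4)))
noncomputable def tab0 : Tr := t0
noncomputable def tab1 : Tr := t1
noncomputable def tab2 : Tr := t2
noncomputable def tab3 : Tr := t3
noncomputable def tab4 : Tr := t4
noncomputable def tab5 : Tr := t5
noncomputable def tab6 : Tr := t6
noncomputable def tab7 : Tr := t7
noncomputable def tab8 : Tr := t8
noncomputable def tab9 : Tr := t9
noncomputable def tab10 : Tr := t10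
noncomputable def tab11 : Tr := t11
noncomputable def tab12 : Tr := t12
noncomputable def tab13 : Tr := (Tr.l (nat_lit 0))
noncomputable def tab14 : Tr := t13
noncomputable def tab15 : Tr := (Tr.l (nat_lit 0))
noncomputable def tab16 : Tr := (Tr.l (nat_lit 0))
noncomputable def tab17 : Tr := t14
noncomputable def tab18 : Tr := t15
noncomputable def tab19 : Tr := t16
noncomputable def tab20 : Tr := (Tr.l (nat_lit 0))
noncomputable def tab21 : Tr := (Tr.l (nat_lit 0))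
noncomputable def tab22 : Tr := t17
noncomputable def tab23 : Tr := (Tr.l (nat_lit 0))
noncomputable def tab24 : Tr := t18
noncomputable def ty0 : TT := (TT.n (TT.n (TT.n (TT.n (TT.l (Ty.srel [nat_lit 0]))
 (TT.l (Ty.rel3 (nat_lit 8) (nat_lit 0) (nat_lit 7))))
 (TT.l (Ty.rel3 (nat_lit 10) (nat_lit 0) (nat_lit 9))))
 (TT.n (TT.n (TT.l (Ty.skip))
 (TT.l (Ty.srel [nat_lit 5, nat_lit 0, nat_lit 6])))
 (TT.l (Ty.rel3 (nat_lit 6) (nat_lit 0) (nat_lit 5)))))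
 (TT.n (TT.n (TT.n (TT.l (Ty.dfn))
 (TT.l (Ty.srel [nat_lit 7, nat_lit 0, nat_lit 8])))
 (TT.l (Ty.rel3 (nat_lit 4) (nat_lit 0) (nat_lit 4))))
 (TT.n (TT.n (TT.l (Ty.rel1 (nat_lit 0)))
 (TT.l (Ty.rel3 (nat_lit 9) (nat_lit 0) (nat_lit 10))))
 (TT.l (Ty.rel3 (nat_lit 5) (nat_lit 0) (nat_lit 6))))))
noncomputable def ty1 : TT := (TT.n (TT.n (TT.n (TT.n (TT.l (Ty.srel [nat_lit 1]))
 (TT.l (Ty.rel3 (nat_lit 3) (nat_lit 1) (nat_lit 3))))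
 (TT.l (Ty.rel3 (nat_lit 4) (nat_lit 1) (nat_lit 4))))
 (TT.n (TT.n (TT.l (Ty.dfn))
 (TT.l (Ty.srel [nat_lit 0, nat_lit 1, nat_lit 0, nat_lit 1, nat_lit 0])))
 (TT.l (Ty.rel3 (nat_lit 8) (nat_lit 1) (nat_lit 7)))))
 (TT.n (TT.n (TT.n (TT.l (Ty.rel1 (nat_lit 1)))
 (TT.l (Ty.rel3 (nat_lit 5) (nat_lit 1) (nat_lit 6))))
 (TT.l (Ty.rel3 (nat_lit 6) (nat_lit 1) (nat_lit 5))))
 (TT.n (TT.l (Ty.skip))
 (TT.l (Ty.rel5 (nat_lit 0) (nat_lit 1) (nat_lit 0) (nat_lit 1) (nat_lit 0))))))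
noncomputable def ty2 : TT := (TT.n (TT.n (TT.n (TT.n (TT.l (Ty.srel [nat_lit 2]))
 (TT.l (Ty.srel [nat_lit 9, nat_lit 2, nat_lit 10])))
 (TT.n (TT.l (Ty.rel3 (nat_lit 6) (nat_lit 2) (nat_lit 5)))
 (TT.l (Ty.srel [nat_lit 3, nat_lit 0, nat_lit 4, nat_lit 1, nat_lit 6]))))
 (TT.n (TT.n (TT.l (Ty.dfn))
 (TT.l (Ty.rel5 (nat_lit 5) (nat_lit 1) (nat_lit 4) (nat_lit 0) (nat_lit 3))))
 (TT.l (Ty.srel [nat_lit 0, nat_lit 9, nat_lit 9]))))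
 (TT.n (TT.n (TT.n (TT.l (Ty.rel1 (nat_lit 2)))
 (TT.l (Ty.rel5 (nat_lit 3) (nat_lit 0) (nat_lit 4) (nat_lit 1) (nat_lit 6))))
 (TT.l (Ty.rel3 (nat_lit 8) (nat_lit 2) (nat_lit 7))))
 (TT.n (TT.n (TT.l (Ty.skip))
 (TT.l (Ty.srel [nat_lit 1, nat_lit 4, nat_lit 10, nat_lit 1, nat_lit 2, nat_lit 0, nat_lit 1, nat_lit 9, nat_lit 1, nat_lit 0])))
 (TT.l (Ty.rel3 (nat_lit 7) (nat_lit 2) (nat_lit 8))))))
noncomputable def ty3 : TT := (TT.n (TT.n (TT.n (TT.l (Ty.srel [nat_lit 3]))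
 (TT.l (Ty.rel3 (nat_lit 5) (nat_lit 3) (nat_lit 5))))
 (TT.n (TT.l (Ty.skip))
 (TT.l (Ty.rel3 (nat_lit 8) (nat_lit 3) (nat_lit 7)))))
 (TT.n (TT.n (TT.l (Ty.rel1 (nat_lit 3)))
 (TT.l (Ty.rel3 (nat_lit 6) (nat_lit 3) (nat_lit 6))))
 (TT.n (TT.l (Ty.dfn))
 (TT.l (Ty.rel5 (nat_lit 0) (nat_lit 4) (nat_lit 1) (nat_lit 6) (nat_lit 2))))))
noncomputable def ty4 : TT := (TT.n (TT.n (TT.n (TT.n (TT.l (Ty.srel [nat_lit 4]))
 (TT.l (Ty.relL (nat_lit 5) [nat_lit 4, nat_lit 6, nat_lit 6, nat_lit 6, nat_lit 4, nat_lit 5, nat_lit 5])))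
 (TT.n (TT.l (Ty.srel [nat_lit 1, nat_lit 4, nat_lit 1]))
 (TT.l (Ty.rel3 (nat_lit 1) (nat_lit 4) (nat_lit 1)))))
 (TT.n (TT.n (TT.l (Ty.skip))
 (TT.l (Ty.rel3 (nat_lit 7) (nat_lit 4) (nat_lit 8))))
 (TT.l (Ty.rel3 (nat_lit 8) (nat_lit 4) (nat_lit 7)))))
 (TT.n (TT.n (TT.n (TT.l (Ty.rel1 (nat_lit 4)))
 (TT.l (Ty.srel [nat_lit 7, nat_lit 4, nat_lit 8])))
 (TT.n (TT.l (Ty.rel3 (nat_lit 2) (nat_lit 4) (nat_lit 2)))
 (TT.l (Ty.rel3 (nat_lit 0) (nat_lit 4) (nat_lit 0)))))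
 (TT.n (TT.n (TT.l (Ty.dfn))
 (TT.l (Ty.srel [nat_lit 10, nat_lit 1, nat_lit 2, nat_lit 0, nat_lit 1, nat_lit 9, nat_lit 1, nat_lit 0, nat_lit 2, nat_lit 1])))
 (TT.l (Ty.rel3 (nat_lit 10) (nat_lit 4) (nat_lit 9))))))
noncomputable def ty5 : TT := (TT.n (TT.n (TT.n (TT.n (TT.l (Ty.srel [nat_lit 6]))
 (TT.l (Ty.srel [nat_lit 8, nat_lit 6, nat_lit 7, nat_lit 5])))
 (TT.l (Ty.srel [nat_lit 1, nat_lit 4, nat_lit 0, nat_lit 3, nat_lit 2])))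
 (TT.n (TT.n (TT.l (Ty.skip))
 (TT.l (Ty.relL (nat_lit 7) [nat_lit 6, nat_lit 6, nat_lit 8])))
 (TT.l (Ty.srel [nat_lit 7, nat_lit 6, nat_lit 6, nat_lit 8]))))
 (TT.n (TT.n (TT.n (TT.l (Ty.rel1 (nat_lit 6)))
 (TT.l (Ty.srel [nat_lit 5, nat_lit 8, nat_lit 6, nat_lit 7])))
 (TT.l (Ty.rel5 (nat_lit 1) (nat_lit 4) (nat_lit 0) (nat_lit 3) (nat_lit 2))))
 (TT.n (TT.n (TT.l (Ty.dfn))
 (TT.l (Ty.relL (nat_lit 8) [nat_lit 6, nat_lit 7, nat_lit 5])))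
 (TT.l (Ty.rel3 (nat_lit 2) (nat_lit 6) (nat_lit 2))))))
noncomputable def ty6 : TT := (TT.n (TT.n (TT.n (TT.l (Ty.srel [nat_lit 5]))
 (TT.l (Ty.srel [nat_lit 1, nat_lit 5, nat_lit 1])))
 (TT.n (TT.l (Ty.skip))
 (TT.l (Ty.relL (nat_lit 8) [nat_lit 5, nat_lit 7, nat_lit 6]))))
 (TT.n (TT.n (TT.l (Ty.rel1 (nat_lit 5)))
 (TT.l (Ty.rel3 (nat_lit 2) (nat_lit 5) (nat_lit 2))))
 (TT.l (Ty.dfn))))
noncomputable def ty7 : TT := (TT.n (TT.n (TT.n (TT.l (Ty.srel [nat_lit 8]))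
 (TT.l (Ty.rel3 (nat_lit 10) (nat_lit 7) (nat_lit 9))))
 (TT.n (TT.l (Ty.dfn))
 (TT.l (Ty.relL (nat_lit 5) [nat_lit 5, nat_lit 8, nat_lit 6]))))
 (TT.n (TT.n (TT.l (Ty.rel1 (nat_lit 8)))
 (TT.l (Ty.relL (nat_lit 6) [nat_lit 6, nat_lit 8, nat_lit 5])))
 (TT.l (Ty.skip))))
noncomputable def ty8 : TT := (TT.n (TT.n (TT.n (TT.l (Ty.srel [nat_lit 7]))
 (TT.l (Ty.relL (nat_lit 8) [nat_lit 8])))
 (TT.n (TT.l (Ty.rel1 (nat_lit 7)))
 (TT.l (Ty.rel3 (nat_lit 9) (nat_lit 8) (nat_lit 10)))))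
 (TT.n (TT.n (TT.l (Ty.skip))
 (TT.l (Ty.rel3 (nat_lit 10) (nat_lit 8) (nat_lit 9))))
 (TT.n (TT.l (Ty.dfn))
 (TT.l (Ty.rel3 (nat_lit 1) (nat_lit 7) (nat_lit 1))))))
noncomputable def ty9 : TT := (TT.n (TT.n (TT.n (TT.l (Ty.srel [nat_lit 10]))
 (TT.l (Ty.rel3 (nat_lit 2) (nat_lit 0) (nat_lit 9))))
 (TT.n (TT.l (Ty.skip))
 (TT.l (Ty.rel3 (nat_lit 8) (nat_lit 10) (nat_lit 8)))))
 (TT.n (TT.n (TT.l (Ty.rel1 (nat_lit 10)))
 (TT.l (Ty.srel [nat_lit 5, nat_lit 9, nat_lit 5, nat_lit 2, nat_lit 0, nat_lit 9, nat_lit 5])))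
 (TT.l (Ty.dfn))))
noncomputable def ty10 : TT := (TT.n (TT.n (TT.n (TT.l (Ty.srel [nat_lit 9]))
 (TT.l (Ty.rel3 (nat_lit 0) (nat_lit 2) (nat_lit 10))))
 (TT.n (TT.l (Ty.skip))
 (TT.l (Ty.rel3 (nat_lit 7) (nat_lit 9) (nat_lit 7)))))
 (TT.n (TT.n (TT.l (Ty.rel1 (nat_lit 9)))
 (TT.l (Ty.rel3 (nat_lit 10) (nat_lit 0) (nat_lit 2))))
 (TT.n (TT.l (Ty.dfn))
 (TT.l (Ty.srel [nat_lit 6, nat_lit 10, nat_lit 6, nat_lit 10, nat_lit 0, nat_lit 2, nat_lit 6])))))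
noncomputable def ty11 : TT := (TT.n (TT.n (TT.n (TT.n (TT.l (Ty.skip))
 (TT.l (Ty.srel [nat_lit 0, nat_lit 4, nat_lit 0, nat_lit 4])))
 (TT.l (Ty.relL (nat_lit 0) [nat_lit 3, nat_lit 2, nat_lit 5, nat_lit 1, nat_lit 4])))
 (TT.n (TT.n (TT.l (Ty.relL (nat_lit 7) [nat_lit 4, nat_lit 8, nat_lit 4]))
 (TT.l (Ty.srel [nat_lit 7, nat_lit 4, nat_lit 8, nat_lit 4])))
 (TT.l (Ty.srel [nat_lit 3, nat_lit 10, nat_lit 3, nat_lit 1, nat_lit 2, nat_lit 0, nat_lit 1, nat_lit 3, nat_lit 9, nat_lit 3, nat_lit 1, nat_lit 0, nat_lit 2, nat_lit 1, nat_lit 2, nat_lit 4, nat_lit 3, nat_lit 10, nat_lit 3, nat_lit 1, nat_lit 2, nat_lit 0, nat_lit 1, nat_lit 4, nat_lit 10]))))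
 (TT.n (TT.n (TT.n (TT.l (Ty.srel [nat_lit 2, nat_lit 1, nat_lit 2, nat_lit 1, nat_lit 2, nat_lit 1]))
 (TT.l (Ty.srel [nat_lit 7, nat_lit 0, nat_lit 8, nat_lit 0])))
 (TT.l (Ty.srel [nat_lit 3, nat_lit 4, nat_lit 3, nat_lit 4, nat_lit 3, nat_lit 4])))
 (TT.n (TT.n (TT.l (Ty.srel [nat_lit 5, nat_lit 4, nat_lit 6, nat_lit 4, nat_lit 6, nat_lit 6, nat_lit 4, nat_lit 5, nat_lit 5]))
 (TT.l (Ty.relL (nat_lit 3) [nat_lit 0, nat_lit 4, nat_lit 1, nat_lit 6, nat_lit 2])))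
 (TT.l (Ty.srel [nat_lit 8, nat_lit 3, nat_lit 7, nat_lit 3])))))
noncomputable def C : Cert where
  tabs := [tab0, tab1, tab2, tab3, tab4, tab5, tab6, tab7, tab8, tab9, tab10, tab11, tab12, tab13, tab14, tab15, tab16, tab17, tab18, tab19, tab20, tab21, tab22, tab23, tab24]
  tts := [ty0, ty1, ty2, ty3, ty4, ty5, ty6, ty7, ty8, ty9, ty10, ty11]
  k := nat_lit 6
  base := nat_lit 14
  mJ := nat_lit 192
  mR := nat_lit 63
  W := nat_lit 21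
  mA := nat_lit 16383
  mI := nat_lit 255
  S := nat_lit 14
  mC := nat_lit 127
  nc := nat_lit 11
  lo := nat_lit 64
  live := nat_lit 65
  hi1 := nat_lit 151
  AW := nat_lit 14
  mAW := nat_lit 16383
def il : List ℕ := [0, 1, 2, 3, 4, 6, 5, 8, 7, 10, 9]
def rels : List (List ℕ) := [[0, 1, 0, 1, 0, 1],
  [0, 4, 0, 4],
  [1, 2, 1, 2, 1, 2],
  [1, 3, 1, 3],
  [1, 4, 1, 4],
  [0, 3, 2, 3, 2, 3, 2, 3, 2],
  [2, 4, 2, 4],
  [3, 4, 3, 4, 3, 4],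
  [1, 2, 3, 4, 1, 2, 3, 4, 1, 2, 3, 4, 1, 2, 3, 4, 1, 2, 3, 4, 1, 2, 3, 4, 1, 2, 3, 4, 1, 2, 3, 4],
  [5, 5, 5, 5, 5, 5, 5],
  [6, 0, 5, 0],
  [6, 1, 5, 1],
  [6, 2, 5, 2],
  [5, 3, 5, 3],
  [4, 6, 4, 6, 6, 4, 5, 5, 5],
  [7, 7, 7],
  [8, 0, 7, 0],
  [8, 1, 7, 1],
  [8, 2, 7, 2],
  [8, 3, 7, 3],
  [8, 4, 7, 4],
  [8, 5, 7, 6, 6],
  [9, 9, 2, 0],
  [10, 0, 9, 0],
  [10, 2, 9, 2],
  [10, 4, 9, 4],
  [3, 4, 10, 3, 9, 3, 4, 10, 3, 9],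
  [10, 1, 2, 0, 1, 9, 1, 0, 2, 1, 4],
  [3, 10, 3, 1, 2, 0, 1, 3, 9, 3, 1, 0, 2, 1, 2, 4, 3, 10, 3, 1, 2, 0, 1, 4, 10],
  [10, 7, 9, 7],
  [4, 6, 6, 10, 5, 5, 4, 6, 6, 9, 5, 5],
  [0, 2, 6, 10, 6, 10, 6, 10],
  [0, 2, 6, 10, 5, 9, 6, 10, 5, 9, 6, 10, 5, 9, 6, 10, 5, 9],
  [3, 6, 6, 9, 5, 5, 3, 6, 6, 9, 5, 5, 3, 6, 6, 9, 5, 5, 3, 6, 6, 9, 4, 3, 2, 3, 4, 5, 5, 5, 4, 3, 2, 3, 4, 6, 3, 2, 3, 2, 0],
  [4, 0, 3, 2, 5, 1]]
def subs : List (List ℕ) := []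
theorem valid : C.valid il rels subs = true := by decide +kernel
theorem p0 : C.OkL 64 65 := C.okL_of 64 0 1 65 (by decide) (by decide +kernel)
theorem p1 : C.OkR 65 152 := C.okR_of 65 0 87 152 (by decide) (by decide +kernel)
theorem covers {G : Type*} [Group G] (ev : ℕ → G) (H : Subgroup G)
    (hinv : ∀ x < 11, ev (il.getD x 0) = (ev x)⁻¹) (hr : ∀ r ∈ rels, evw ev r = 1)
    (hs : ∀ s ∈ subs, evw ev s ∈ H) : Covers H (gensub ev 11) 1 :=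
  C.sound il rels subs 11 1 valid (p0) (p1) (by decide) (by decide) ev H hinv hr hs
end CfH6.ThW
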