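import Cfsg.Agent.OD.Pre
import Cfsg.Agent.H6.Th0
import Cfsg.Agent.H6.ThC
import Cfsg.Agent.H6.ThK
import Cfsg.Agent.H6.ThW
import Cfsg.Agent.H6.ThE
import Cfsg.Agent.H6.D4G
import Cfsg.Agent.H6.Big2
import Cfsg.Agent.H6.ThS.p2
import Cfsg.Agent.H6.ThS.p3
import Cfsg.Agent.H6.ThS.p5
import Cfsg.Agent.H6.ThS.p7
import Cfsg.Agent.H6.ThS.p13
import Cfsg.Agent.H6.ThS.p19
import Cfsg.Agent.H6.ThS.p31
/-! The presented Thompson group: order and simplicity. -/
set_option autoImplicit false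
set_option maxRecDepth 100000
set_option Elab.async false
set_option linter.all false
namespace CfH6.ThG
open CfH6
open Cfsg.Spor

noncomputable abbrev H : Subgroup ThB.G := gensub (byW ThB.el ThC.σ) 9
theorem ex : ∃ ρ : D4B.G →* ThB.G, ∀ x < 9, ρ (D4B.el x) = byW ThB.el ThC.σ x :=
  D4B.hhom _ (byW_inv ThB.el (n := 4) ThB.hinv ThB.hrel (by decide +kernel))
    (byW_rels ThB.el (n := 4) ThB.hinv ThB.hrel (by decide +kernel))
noncomputable def ρ : D4B.G →* ThB.G := Classical.choose ex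
theorem hρ : ∀ x < 9, ρ (D4B.el x) = byW ThB.el ThC.σ x := Classical.choose_spec ex
theorem range : ρ.range = H := range_hom hρ D4B.htop
theorem ht : ThB.el 10 = (ThB.el 9)⁻¹ := ThB.hinv 9 (by decide)
theorem hex : ∀ w ∈ ThB.rels ++ ThC.ex, evw ThB.el w = 1 := forall_app ThB.hrel (follows_sound (n := 4) ThB.el ThB.hinv
  (forall_app (subst_rels ThB.el (n := 4) ThB.hinv ThB.hrel [[0], [1], [2], [3], [4], [5], [6], [7], [8], [9], [9, 2, 0]]
    ThB.rels (by decide +kernel)) (subst_rels ThB.el (n := 4) ThB.hinv ThB.hrel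
      [[0], [1], [2], [3], [4], [5], [6], [7], [8], [0, 2, 10], [10]] (ThB.rels.map (invw ThB.il)) (by decide +kernel)))
  (by decide +kernel))
theorem hg : ∀ w ∈ ThC.gws, evw ThB.el w = 1 := follows_sound (n := 4) ThB.el ThB.hinv hex (by decide +kernel)
theorem hb : ∀ p ∈ ThC.P.bp, ρ (D4D.cd p.1) * ThB.el 9 = ThB.el 9 * ρ (D4D.cd p.2) :=
  forall_app ((ThC.trl ThB.el ρ hρ).bp _ _ ht [(528578, 10278815)] ThC.bus
    (follows_sound (n := 4) ThB.el ThB.hinv hex (by decide +kernel)) (by decide +kernel))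
    (Th0.pe ThB.el ρ hρ ⊥ (follows_sound (n := 4) ThB.el ThB.hinv hex (by decide +kernel))
      (Th0.hbp ThB.el ρ hρ ht (follows_sound (n := 4) ThB.el ThB.hinv hex (by decide +kernel))))
theorem hH (n : D4B.G) : ρ n ∈ H := range ▸ MonoidHom.mem_range.mpr ⟨n, rfl⟩
noncomputable abbrev C := ThC.C ThB.el ρ hρ H hH hg hb
theorem hK : C.K = ⊤ := C.K_top (σ := ThC.σ) (nc := 9) (fun x hx => (congrArg ρ (D4D.cdx x hx)).trans (hρ x hx))
  rfl ht ThB.htop (by decide)
theorem cov : Covers H ⊤ 143127000 := hK ▸ ThC.covers _ _ _ _ _ _ _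
theorem hmax : ∀ L : Subgroup ThB.G, H ≤ L → L = H ∨ L = ⊤ := ThC.hmax _ _ _ _ _ _ _ hK
theorem finH : Finite H ∧ Nat.card H ≤ 634023936 := range ▸ card_range_le _ D4O.finG
theorem finG : Finite ThB.G ∧ Nat.card ThB.G ≤ 90745943887872000 := fin_top (fin_cast (cov.card_le finH) (by decide))
theorem big : Nat.card ThB.G = 90745943887872000 ∧ Function.Injective ThM.φ := inj_of_dvd _ finG
  (dvd_cons ThS.p2 (dvd_cons ThS.p3 (dvd_cons ThS.p5 (dvd_cons ThS.p7 (dvd_cons ThS.p13 (dvd_cons ThS.p19 ThS.p31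
    (by decide)) (by decide)) (by decide)) (by decide)) (by decide)) (by decide))
theorem index : H.index = 143127000 := (index_of_card cov finH big.1 (by decide)).1

theorem simple : IsSimpleGroup ThB.G := by
  have := finG.1
  have := nontriv_of_card big.1
  refine simple_max _ hmax (fun M hM h => ?_) fun M hM h => ?_
  · refine (normal_in_range ρ D4G.normal M (range ▸ h)).imp id fun h1 => ?_
    exact top_of_index (eq_top_of_collapse ThB.el (n := 4) (ex := [subst ThC.σ [4, 0, 3, 2, 5, 1]]) ThB.hinv ThB.hrel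
      ThB.htop M (forall_cons (by rwa [hom_evw hρ _ (by decide), ← evw_subst] at h1) forall_nil) (by decide +kernel) 1
      fun ev' h1 h2 => ThW.covers ev' ⊥ h1 h2 forall_nil)
  · exact top_of_index (eq_top_of_collapse ThB.el (n := 4) ThB.hinv ThB.hrel ThB.htop M
      (pow_words ThB.el h (by norm_num) (not_dvd_card big.1 index (by decide)) 1 [[1, 3, 4, 6, 10]]
        (forall_cons (rel_of_inj _ big.2 ThM.hφ (by decide +kernel) ThE.w) forall_nil))
      (by decide +kernel) 1 fun ev' h1 h2 => ThK.covers ev' ⊥ h1 h2 forall_nil)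

theorem sub_eq : (Subgroup.closure ({Th.a, Th.b, Th.c, Th.d, Th.e, Th.s, Th.t} : Set (FreeGroup Th.Gen))).map
    (PresentedGroup.mk (coxRelators Th.edges ∪ {r | r ∈ Th.extra})) = H := by
  rw [map_closure_eq _ ThB.el ThB.hinv ThB.tr ThB.hmk _ [Th.a, Th.b, Th.c, Th.d, Th.e, Th.s, Th.t]
    (ws := [[0], [1], [2], [3], [4], [5], [7]]) (k := 7) (by intro r; simp) (by decide) (by decide +kernel)]
  refine le_antisymm (gensub_le_of_subsIn _ (by decide)) (gensub_le fun y hy => ?_)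
  have m : ∀ y < 7, byW ThB.el [[0], [1], [2], [3], [4], [5], [7]] y ∈
    gensub (byW ThB.el [[0], [1], [2], [3], [4], [5], [7]]) 7 := fun y hy => mem_gensub hy
  have e : ∀ x < 11, evw ThB.el [ThB.il.getD x 0] = (evw ThB.el [x])⁻¹ := fun x hx =>
    (mul_one _).trans ((ThB.hinv x hx).trans (congrArg _ (mul_one _).symm))
  interval_cases y
  exacts [m 0 (by decide), m 1 (by decide), m 2 (by decide), m 3 (by decide), m 4 (by decide), m 5 (by decide),
    (congrArg (· ∈ _) (e 5 (by decide))).mpr (inv_mem (m 5 (by decide))), m 6 (by decide), (congrArg (· ∈ _) (e 7 (by decide))).mpr (inv_mem (m 6 (by decide)))]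
end CfH6.ThG
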