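import Cfsg.Agent.OD.Pre
import Cfsg.Agent.H6.TCTop
/-! coset enumeration certificate; generators a c d e f g h i z ; index 1 -/
set_option autoImplicit false
set_option maxRecDepth 100000
set_option Elab.async false
set_option linter.all false
namespace CfH6.U6DK
open CfH6
noncomputable def tab0 : Tr := (Tr.l (nat_lit 0x13ffc9ffe4fff27ff93ffc9ffe4fff5124a4921048e7244312194908659e32ce196693ffc9ffe32cc19658cb2841801141))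
noncomputable def tab1 : Tr := (Tr.l (nat_lit 0x13ffd4490924741231c914c488524327ff93ffc9ffe4fff27ff8c5049ffe22d5116a08b4c45a422d111680c30043941142))
noncomputable def tab2 : Tr := (Tr.l (nat_lit 0x13ffc9ffe634727ff93ffca688314227ff93ffc9ffe4fff18a093ffc9ffe4fff27ff93ffc9ffe4fff18600874043961143))
noncomputable def tab3 : Tr := (Tr.l (nat_lit 0xfffc7ffe3fff1fff9511482843fff1fff8fffc7ffe41411fff8fffc7ffe3fff1fff8fffc7ffe40c01fff8874443981144))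
noncomputable def tab4 : Tr := (Tr.l (nat_lit 0x105245ffe2fff2aa3105085ffe2fff17ff8bffc5ffe2fff17ff8bffc63ac2fff17ff8bffc81802fff17ff8c7485ffe1145))
noncomputable def tab5 : Tr := (Tr.l (nat_lit 0xbffc5ffe2fff20a10bffc5ffe2fff17ff8bffc5ffe2fff17ff8bffc5ffe2fff17ff903005ffe2fff17ff8c74c5ffe1146))
noncomputable def tab6 : Tr := (Tr.l (nat_lit 0xfffca89041421fff8fffc7ffe3fff1fff8fffc82823fff1fff8fffc7ffe3fff20600fffc7ffe3fff1fff88750439a1147))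
noncomputable def tab7 : Tr := (Tr.l (nat_lit 0xfffc82843fff1fff8fffc7ffe3fff1fff905047ffe3fff1fff8fffc7ffe40c01fff8fffc7ffe3fff1fff88754439c1148))
noncomputable def tab8 : Tr := (Tr.l (nat_lit 0xfffc7ffe3fff1fff8fffc7ffe3fff20a08fffc7ffe3fff1fff8fffc81803fff1fff8fffc7ffe3fff1fff8fffc439e1149))
noncomputable def tab9 : Tr := (Tr.l (nat_lit 0x2dd26ea816440ab2051502688123408c20c1529e894e44a69a531d054f8094c241e11d708c98453c221610db0051800000))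
noncomputable def tab10 : Tr := (Tr.l (nat_lit 0x47654328763218765432100))
noncomputable def tab11 : Tr := (Tr.l (nat_lit 0))
noncomputable def tab12 : Tr := (Tr.l (nat_lit 0))
noncomputable def tab13 : Tr := (Tr.l (nat_lit 0))
noncomputable def tab14 : Tr := (Tr.l (nat_lit 0))
noncomputable def tab15 : Tr := (Tr.l (nat_lit 0))
noncomputable def tab16 : Tr := (Tr.l (nat_lit 0))
noncomputable def tab17 : Tr := (Tr.l (nat_lit 0))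
noncomputable def tab18 : Tr := (Tr.l (nat_lit 0))
noncomputable def tab19 : Tr := (Tr.l (nat_lit 0))
noncomputable def tab20 : Tr := (Tr.l (nat_lit 0x900c706303141880c3064812008e04402181080))
noncomputable def ty0 : TT := (TT.n (TT.n (TT.n (TT.n (TT.l (Ty.srel [nat_lit 0]))
 (TT.l (Ty.rel3 (nat_lit 7) (nat_lit 0) (nat_lit 7))))
 (TT.l (Ty.rel3 (nat_lit 1) (nat_lit 0) (nat_lit 1))))
 (TT.n (TT.l (Ty.rel1 (nat_lit 0)))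
 (TT.l (Ty.rel3 (nat_lit 3) (nat_lit 0) (nat_lit 3)))))
 (TT.n (TT.n (TT.n (TT.l (Ty.dfn))
 (TT.l (Ty.rel3 (nat_lit 8) (nat_lit 0) (nat_lit 8))))
 (TT.l (Ty.rel3 (nat_lit 2) (nat_lit 0) (nat_lit 2))))
 (TT.n (TT.l (Ty.skip))
 (TT.l (Ty.rel3 (nat_lit 6) (nat_lit 0) (nat_lit 6))))))
noncomputable def ty1 : TT := (TT.n (TT.n (TT.n (TT.n (TT.l (Ty.srel [nat_lit 1]))
 (TT.l (Ty.rel3 (nat_lit 6) (nat_lit 1) (nat_lit 6))))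
 (TT.l (Ty.rel3 (nat_lit 2) (nat_lit 1) (nat_lit 2))))
 (TT.n (TT.l (Ty.dfn))
 (TT.l (Ty.rel3 (nat_lit 4) (nat_lit 1) (nat_lit 4)))))
 (TT.n (TT.n (TT.n (TT.l (Ty.rel1 (nat_lit 1)))
 (TT.l (Ty.rel3 (nat_lit 7) (nat_lit 1) (nat_lit 7))))
 (TT.l (Ty.rel3 (nat_lit 3) (nat_lit 1) (nat_lit 3))))
 (TT.n (TT.l (Ty.skip))
 (TT.l (Ty.rel3 (nat_lit 5) (nat_lit 1) (nat_lit 5))))))
noncomputable def ty2 : TT := (TT.n (TT.n (TT.n (TT.l (Ty.srel [nat_lit 2]))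
 (TT.l (Ty.srel [nat_lit 3, nat_lit 2, nat_lit 3])))
 (TT.l (Ty.dfn)))
 (TT.n (TT.n (TT.l (Ty.rel1 (nat_lit 2)))
 (TT.l (Ty.srel [nat_lit 6, nat_lit 2, nat_lit 6])))
 (TT.l (Ty.skip))))
noncomputable def ty3 : TT := (TT.n (TT.n (TT.n (TT.l (Ty.srel [nat_lit 3]))
 (TT.l (Ty.srel [nat_lit 4, nat_lit 3, nat_lit 4])))
 (TT.l (Ty.skip)))
 (TT.n (TT.l (Ty.rel1 (nat_lit 3)))
 (TT.l (Ty.dfn))))
noncomputable def ty4 : TT := (TT.n (TT.n (TT.n (TT.l (Ty.srel [nat_lit 4]))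
 (TT.l (Ty.srel [nat_lit 5, nat_lit 4, nat_lit 5])))
 (TT.l (Ty.rel1 (nat_lit 4))))
 (TT.n (TT.l (Ty.skip))
 (TT.l (Ty.dfn))))
noncomputable def ty5 : TT := (TT.n (TT.n (TT.l (Ty.srel [nat_lit 5]))
 (TT.l (Ty.rel1 (nat_lit 5))))
 (TT.n (TT.l (Ty.skip))
 (TT.l (Ty.dfn))))
noncomputable def ty6 : TT := (TT.n (TT.n (TT.n (TT.l (Ty.srel [nat_lit 6]))
 (TT.l (Ty.srel [nat_lit 7, nat_lit 6, nat_lit 7])))
 (TT.l (Ty.skip)))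
 (TT.n (TT.l (Ty.rel1 (nat_lit 6)))
 (TT.l (Ty.dfn))))
noncomputable def ty7 : TT := (TT.n (TT.n (TT.l (Ty.srel [nat_lit 7]))
 (TT.l (Ty.skip)))
 (TT.n (TT.l (Ty.rel1 (nat_lit 7)))
 (TT.l (Ty.dfn))))
noncomputable def ty8 : TT := (TT.n (TT.n (TT.l (Ty.srel [nat_lit 8]))
 (TT.l (Ty.skip)))
 (TT.n (TT.l (Ty.rel1 (nat_lit 8)))
 (TT.l (Ty.dfn))))
noncomputable def ty9 : TT := (TT.n (TT.n (TT.n (TT.n (TT.l (Ty.skip))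
 (TT.l (Ty.srel [nat_lit 7, nat_lit 6, nat_lit 7, nat_lit 6, nat_lit 7, nat_lit 6])))
 (TT.l (Ty.srel [nat_lit 3, nat_lit 2, nat_lit 3, nat_lit 2, nat_lit 3, nat_lit 2])))
 (TT.n (TT.n (TT.l (Ty.srel [nat_lit 6, nat_lit 5, nat_lit 4, nat_lit 3, nat_lit 2, nat_lit 1, nat_lit 7, nat_lit 6, nat_lit 5, nat_lit 4, nat_lit 3, nat_lit 2, nat_lit 1, nat_lit 7, nat_lit 6, nat_lit 5, nat_lit 4, nat_lit 3, nat_lit 2, nat_lit 1, nat_lit 7, nat_lit 6, nat_lit 5, nat_lit 4, nat_lit 3, nat_lit 2, nat_lit 1, nat_lit 7, nat_lit 6, nat_lit 5, nat_lit 4, nat_lit 3, nat_lit 2, nat_lit 1, nat_lit 7, nat_lit 6, nat_lit 5, nat_lit 4, nat_lit 3, nat_lit 2, nat_lit 1, nat_lit 7, nat_lit 6, nat_lit 5, nat_lit 4, nat_lit 3, nat_lit 2, nat_lit 1, nat_lit 7, nat_lit 6, nat_lit 5, nat_lit 4, nat_lit 3, nat_lit 2, nat_lit 1, nat_lit 7, nat_lit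 6, nat_lit 5, nat_lit 4, nat_lit 3, nat_lit 2, nat_lit 1, nat_lit 7]))
 (TT.l (Ty.srel [nat_lit 8, nat_lit 4, nat_lit 8, nat_lit 4])))
 (TT.l (Ty.srel [nat_lit 5, nat_lit 4, nat_lit 5, nat_lit 4, nat_lit 5, nat_lit 4]))))
 (TT.n (TT.n (TT.n (TT.l (Ty.srel [nat_lit 0, nat_lit 6, nat_lit 7, nat_lit 3, nat_lit 8, nat_lit 2, nat_lit 1, nat_lit 6, nat_lit 7, nat_lit 3, nat_lit 8, nat_lit 2, nat_lit 1, nat_lit 6, nat_lit 7, nat_lit 3, nat_lit 8, nat_lit 2, nat_lit 1, nat_lit 6, nat_lit 7, nat_lit 3, nat_lit 8, nat_lit 2, nat_lit 1, nat_lit 6, nat_lit 7, nat_lit 3, nat_lit 8, nat_lit 2, nat_lit 1]))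
 (TT.l (Ty.srel [nat_lit 8, nat_lit 4, nat_lit 8, nat_lit 4, nat_lit 8, nat_lit 4])))
 (TT.l (Ty.srel [nat_lit 4, nat_lit 3, nat_lit 4, nat_lit 3, nat_lit 4, nat_lit 3])))
 (TT.n (TT.l (Ty.relL (nat_lit 2) [nat_lit 1, nat_lit 2, nat_lit 1, nat_lit 2, nat_lit 1]))
 (TT.l (Ty.srel [nat_lit 6, nat_lit 2, nat_lit 6, nat_lit 2, nat_lit 6, nat_lit 2])))))
noncomputable def C : Cert where
  tabs := [tab0, tab1, tab2, tab3, tab4, tab5, tab6, tab7, tab8, tab9, tab10, tab11, tab12, tab13, tab14, tab15, tab16, tab17, tab18, tab19, tab20]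
  tts := [ty0, ty1, ty2, ty3, ty4, ty5, ty6, ty7, ty8, ty9]
  k := nat_lit 6
  base := nat_lit 11
  mJ := nat_lit 64
  mR := nat_lit 63
  W := nat_lit 17
  mA := nat_lit 4095
  mI := nat_lit 127
  S := nat_lit 12
  mC := nat_lit 31
  nc := nat_lit 9
  lo := nat_lit 64
  live := nat_lit 65
  hi1 := nat_lit 86
  AW := nat_lit 13
  mAW := nat_lit 8191
def il : List ℕ := [0, 1, 2, 3, 4, 5, 6, 7, 8]
def rels : List (List ℕ) := [[0, 1, 0, 1],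
  [0, 2, 0, 2],
  [0, 3, 0, 3],
  [0, 4, 0, 4],
  [0, 5, 0, 5],
  [0, 6, 0, 6],
  [0, 7, 0, 7],
  [0, 8, 0, 8],
  [1, 2, 1, 2, 1, 2],
  [1, 3, 1, 3],
  [1, 4, 1, 4],
  [1, 5, 1, 5],
  [1, 6, 1, 6],
  [1, 7, 1, 7],
  [1, 8, 1, 8],
  [2, 3, 2, 3, 2, 3],
  [2, 4, 2, 4],
  [2, 5, 2, 5],
  [2, 6, 2, 6, 2, 6],
  [2, 7, 2, 7],
  [2, 8, 2, 8],
  [3, 4, 3, 4, 3, 4],
  [3, 5, 3, 5],
  [3, 6, 3, 6],
  [3, 7, 3, 7],
  [3, 8, 3, 8],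
  [4, 5, 4, 5, 4, 5],
  [4, 6, 4, 6],
  [4, 7, 4, 7],
  [4, 8, 4, 8, 4, 8],
  [5, 6, 5, 6],
  [5, 7, 5, 7],
  [5, 8, 5, 8],
  [6, 7, 6, 7, 6, 7],
  [6, 8, 6, 8],
  [7, 8, 7, 8, 7, 8],
  [2, 3, 4, 8, 7, 6, 7, 8, 4, 3, 2, 3, 4, 8, 7, 6, 7, 8, 4, 3, 2, 3, 4, 8, 7, 6, 7, 8, 4, 3],
  [2, 3, 4, 8, 7, 6, 2, 3, 4, 8, 7, 6, 2, 3, 4, 8, 7, 6, 2, 3, 4, 8, 7, 6, 2, 3, 4, 8, 7, 6],
  [1, 2, 3, 4, 5, 6, 7, 1, 2, 3, 4, 5, 6, 7, 1, 2, 3, 4, 5, 6, 7, 1, 2, 3, 4, 5, 6, 7, 1, 2, 3, 4, 5, 6, 7, 1, 2, 3, 4, 5, 6, 7, 1, 2, 3, 4, 5, 6, 7, 1, 2, 3, 4, 5, 6, 7, 1, 2, 3, 4, 5, 6, 7],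
  [8, 4, 2, 3, 5, 6, 8, 4, 2, 3, 5, 6, 8, 4, 2, 3, 5, 6, 8, 4, 2, 3, 5, 6, 8, 4, 2, 3, 5, 6],
  [0, 6, 7, 3, 8, 2, 1, 6, 7, 3, 8, 2, 1, 6, 7, 3, 8, 2, 1, 6, 7, 3, 8, 2, 1, 6, 7, 3, 8, 2, 1],
  [1, 2, 1, 2],
  [2, 3, 2, 3],
  [2, 6, 2, 6],
  [3, 4, 3, 4],
  [4, 5, 4, 5],
  [6, 7, 6, 7],
  [4, 8, 4, 8]]
def subs : List (List ℕ) := []
theorem valid : C.valid il rels subs = true := by decide +kernel
theorem p0 : C.OkL 64 65 := C.okL_of 64 0 1 65 (by decide) (by decide +kernel)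
theorem p1 : C.OkR 65 87 := C.okR_of 65 0 22 87 (by decide) (by decide +kernel)
theorem covers {G : Type*} [Group G] (ev : ℕ → G) (H : Subgroup G)
    (hinv : ∀ x < 9, ev (il.getD x 0) = (ev x)⁻¹) (hr : ∀ r ∈ rels, evw ev r = 1)
    (hs : ∀ s ∈ subs, evw ev s ∈ H) : Covers H (gensub ev 9) 1 :=
  C.sound il rels subs 9 1 valid (p0) (p1) (by decide) (by decide) ev H hinv hr hs
end CfH6.U6DK
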