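import Cfsg.Agent.OD.Pre
import Cfsg.Agent.H6.U6DB
import Cfsg.Agent.H6.U6DT1
import Cfsg.Agent.H6.U6T2
import Cfsg.Agent.H6.F22T4
import Cfsg.Agent.H6.F22T5
import Cfsg.Agent.H6.F22T6
set_option autoImplicit false
set_option maxRecDepth 100000
set_option linter.all false
namespace CfH6.U6DO
open CfH6
def s0 : List (List ℕ) := [[0], [1], [2], [3], [4], [5], [6], [7], [8]]
def t0 : List (List ℕ) := [[1], [2], [3], [4], [5], [6], [7]]
theorem cov0 : Covers (gensub (byW U6DB.el t0) 7) (gensub (byW U6DB.el s0) 9) 12672 :=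
  cov_step U6DB.el U6DB.hinv U6DB.hrel s0 t0 7 4 (fun ev H => U6DT1.covers ev H) (by decide +kernel)
theorem top0 : gensub (byW U6DB.el s0) 9 = ⊤ := (gensub_id U6DB.el (by decide)).trans U6DB.htop
theorem covT0 : Covers (gensub (byW U6DB.el t0) 7) ⊤ 12672 := cov0.top top0
def s1 : List (List ℕ) := [[1], [2], [3], [4], [5], [6], [7]]
def t1 : List (List ℕ) := [[1], [2], [3], [4], [6], [7]]
theorem cov1 : Covers (gensub (byW U6DB.el t1) 6) (gensub (byW U6DB.el s1) 7) 28 :=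
  cov_step U6DB.el U6DB.hinv U6DB.hrel s1 t1 6 4 (fun ev H => U6T2.covers ev H) (by decide +kernel)
def s2 : List (List ℕ) := [[1], [2], [3], [4], [6], [7]]
def t2 : List (List ℕ) := [[1], [2], [3], [4], [6]]
theorem cov2 : Covers (gensub (byW U6DB.el t2) 5) (gensub (byW U6DB.el s2) 6) 27 :=
  cov_step U6DB.el U6DB.hinv U6DB.hrel s2 t2 5 4 (fun ev H => F22T4.covers ev H) (by decide +kernel)
def s3 : List (List ℕ) := [[1], [2], [3], [4], [6]]
def t3 : List (List ℕ) := [[1], [2], [3], [4]]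
theorem cov3 : Covers (gensub (byW U6DB.el t3) 4) (gensub (byW U6DB.el s3) 5) 16 :=
  cov_step U6DB.el U6DB.hinv U6DB.hrel s3 t3 4 4 (fun ev H => F22T5.covers ev H) (by decide +kernel)
def s4 : List (List ℕ) := [[1], [2], [3], [4]]
def t4 : List (List ℕ) := []
theorem cov4 : Covers (gensub (byW U6DB.el t4) 0) (gensub (byW U6DB.el s4) 4) 120 :=
  cov_step U6DB.el U6DB.hinv U6DB.hrel s4 t4 0 4 (fun ev H => F22T6.covers ev H) (by decide +kernel)
theorem finT4 : Finite (gensub (byW U6DB.el t4) 0) ∧ Nat.card (gensub (byW U6DB.el t4) 0) ≤ 1 := (gensub_zero _)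
theorem fin4 : Finite (gensub (byW U6DB.el s4) 4) ∧ Nat.card (gensub (byW U6DB.el s4) 4) ≤ 120 :=
  fin_cast (cov4.card_le finT4) (by decide)
theorem finT3 : Finite (gensub (byW U6DB.el t3) 4) ∧ Nat.card (gensub (byW U6DB.el t3) 4) ≤ 120 := (fin_le (gensub_le_of_subsIn U6DB.el (by decide)) fin4)
theorem fin3 : Finite (gensub (byW U6DB.el s3) 5) ∧ Nat.card (gensub (byW U6DB.el s3) 5) ≤ 1920 :=
  fin_cast (cov3.card_le finT3) (by decide)
theorem finT2 : Finite (gensub (byW U6DB.el t2) 5) ∧ Nat.card (gensub (byW U6DB.el t2) 5) ≤ 1920 := (fin_le (gensub_le_of_subsIn U6DB.el (by decide)) fin3)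
theorem fin2 : Finite (gensub (byW U6DB.el s2) 6) ∧ Nat.card (gensub (byW U6DB.el s2) 6) ≤ 51840 :=
  fin_cast (cov2.card_le finT2) (by decide)
theorem finT1 : Finite (gensub (byW U6DB.el t1) 6) ∧ Nat.card (gensub (byW U6DB.el t1) 6) ≤ 51840 := (fin_le (gensub_le_of_subsIn U6DB.el (by decide)) fin2)
theorem fin1 : Finite (gensub (byW U6DB.el s1) 7) ∧ Nat.card (gensub (byW U6DB.el s1) 7) ≤ 1451520 :=
  fin_cast (cov1.card_le finT1) (by decide)
theorem finT0 : Finite (gensub (byW U6DB.el t0) 7) ∧ Nat.card (gensub (byW U6DB.el t0) 7) ≤ 1451520 := (fin_le (gensub_le_of_subsIn U6DB.el (by decide)) fin1)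
theorem fin0 : Finite (gensub (byW U6DB.el s0) 9) ∧ Nat.card (gensub (byW U6DB.el s0) 9) ≤ 18393661440 :=
  fin_cast (cov0.card_le finT0) (by decide)
theorem finG : Finite U6DB.G ∧ Nat.card U6DB.G ≤ 18393661440 := fin_top (top0 ▸ fin0)
end CfH6.U6DO
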