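import Cfsg.Agent.OD.Pre
import Cfsg.Agent.H6.M24D
import Cfsg.Agent.H6.V11.F0
import Cfsg.Agent.H6.V11.O
import Cfsg.Agent.H6.V11.P0
set_option autoImplicit false
set_option maxRecDepth 100000
set_option Elab.async false
set_option linter.all false
namespace CfH6.V11
open CfH6 CfH6.D MulAction
def σ : List (List ℕ) := [[0],
  [1],
  [2]]
def uss : List (List (List ℕ)) := [[[], []],
  [[0, 1, 0, 2, 0, 1, 0, 2, 0, 1, 0, 1, 0, 1, 0, 2, 0, 1, 0, 2, 0], [0, 1, 0, 2, 0, 1, 0, 2, 0, 2, 0, 2, 0, 1, 0, 2, 0, 1, 0, 2, 0, 2, 0, 1, 0, 1, 0, 2, 0, 2, 0], [0, 1, 0, 1, 0, 2, 0, 2, 0, 1]],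
  [[0, 1, 0, 2, 0, 1, 0, 2, 0, 2, 0, 2, 0, 1, 0, 2, 0, 1, 0, 2, 0, 2, 0, 1, 0, 1, 0, 2, 0, 2, 0], [0, 1, 0, 1, 0, 2, 0, 2, 0, 1], [0, 1, 0, 2, 0, 1, 0, 2, 0, 1, 0, 1, 0, 1, 0, 2, 0, 1, 0, 2, 0]],
  [[0, 1, 0, 1, 0, 2, 0, 2, 0, 1], [0, 1, 0, 2, 0, 1, 0, 2, 0, 1, 0, 1, 0, 1, 0, 2, 0, 1, 0, 2, 0], [0, 1, 0, 2, 0, 1, 0, 2, 0, 2, 0, 2, 0, 1, 0, 2, 0, 1, 0, 2, 0, 2, 0, 1, 0, 1, 0, 2, 0, 2, 0]]]
def bus : List (List ℕ × List ℕ) := [([1], [2]),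
  ([0, 1, 0, 2, 0, 2, 0, 2, 0, 2, 0, 1, 0, 1, 0, 1, 0, 1, 0, 2, 0], [0, 1, 0, 2, 0, 2, 0, 2, 0, 2, 0, 1, 0, 1, 0, 1, 0, 1, 0, 2, 0]),
  ([0, 1, 0, 2, 0, 2, 0, 2, 0, 1, 0, 2, 0, 1, 0, 1, 0, 1, 0, 2, 0], [0, 1, 0, 2, 0, 2, 0, 2, 0, 1, 0, 2, 0, 1, 0, 1, 0, 1, 0, 2, 0])]
def ex : List (List ℕ) := []
def gws : List (List ℕ) := uss.map (gw σ 3)
def bws : List (List ℕ) := bus.map fun u => subst σ u.1 ++ 3 :: (subst σ u.2 ++ [3])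
theorem chk : Rng P.chk 0 267 := p0
section
variable {G : Type} [Group G] (el : ℕ → G) (ρ : M24B.G →* G) (hρ : ∀ x < 3, ρ (M24B.el x) = byW el σ x)
include hρ
theorem trl : Trl ρ M24D.cd M24D.eq 3 el σ := ⟨M24D.heq, fun x hx => by rw [M24D.cdx x hx, hρ x hx]⟩
theorem hbp (ht : el 3 = (el 3)⁻¹) (h : ∀ w ∈ bws, evw el w = 1) : ∀ p ∈ P.bp, ρ (M24D.cd p.1) * el 3 = el 3 * ρ (M24D.cd p.2) :=
  (trl el ρ hρ).bp _ _ ht _ bus h (by decide +kernel)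
variable (H : Subgroup G) (hH : ∀ n, ρ n ∈ H) (hg : ∀ w ∈ gws, evw el w = 1)
  (hb : ∀ p ∈ P.bp, ρ (M24D.cd p.1) * el 3 = el 3 * ρ (M24D.cd p.2))
noncomputable def C : Ctx P M24B.G G where
  ρ := ρ
  t := el 3
  H := H
  Bs := ⊤
  cd := M24D.cd
  cd0 := M24D.cd0
  heq := M24D.heq
  hH := fun _ => hH
  hB := fun _ => rfl
  hrel := (trl el ρ hρ).rels 3 _ uss hg (by decide +kernel)
  hsub := forall_nil
  hbp := fun p hp => ⟨trivial, hb p hp⟩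
include H hH hg hb
theorem hS : ∀ k < 267, (C el ρ hρ H hH hg hb).Sem (P.fact k) := (C el ρ hρ H hH hg hb).sound chk
section
attribute [local instance] actO
theorem memB : ∀ k, P.okP 267 trO k = 0 → M24D.cd (P.cdK k) ∈ Bsub ρ (el 3) ⊓ stO := Ctx.okP_mem (hS el ρ hρ H hH hg hb) trsO (by decide)
end
section
attribute [local instance] M24D.actD
theorem cardB : 138240 ≤ Nat.card (Bsub ρ (el 3) ⊓ stO : Subgroup _) := have := M24D.fin; levs_card M24D.trsD (memB el ρ hρ H hH hg hb) levB _ lB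
theorem hi : ∀ p ∈ lv, ((C el ρ hρ H hH hg hb).T p.1).index ≤ p.2 := have := M24D.fin; forall_cons (Ctx.T0 rfl) (forall_cons (index_le M24D.card (levs_card M24D.trsD (Ctx.okE_mem rfl (hS el ρ hρ H hH hg hb) 1) lev1 138240 l1) (by decide)) (forall_cons (index_le M24D.card (levs_card M24D.trsD (Ctx.okE_mem rfl (hS el ρ hρ H hH hg hb) 2) lev2 887040 l2) (by decide)) (forall_nil)))
end
section
attribute [local instance] actO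
theorem dec : ∀ γ ∈ (C el ρ hρ H hH hg hb).K, (C el ρ hρ H hH hg hb).U LM γ := have := M24D.fin
  (C el ρ hρ H hH hg hb).dec (m := 1771) (a := 0) (b := 0) lv (by decide +kernel) List.mem_cons_self (lm_of lv LM (by decide +kernel))
    (fun x => tb0O.bound M24B.htop x (by decide)) (stab_le M24D.card lowO (cardB el ρ hρ H hH hg hb) (by decide)) (forall_cons (Ctx.cos_of rfl (hS el ρ hρ H hH hg hb) trsO 0 [nat_lit 252, nat_lit 24] 0 0 1 ct0 c0) (forall_cons (Ctx.cos_of rfl (hS el ρ hρ H hH hg hb) trsO 1 [nat_lit 25, nat_lit 27, nat_lit 29] 1 0 4 ct1 c1) (forall_cons (Ctx.cos_of rfl (hS el ρ hρ H hH hg hb) trsO 2 [nat_lit 47, nat_lit 112, nat_lit 60, nat_lit 35, nat_lit 250] 5 0 2 ct2 c2) (forall_nil))))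
end
theorem covers : Covers H (C el ρ hρ H hH hg hb).K 2048 := have := M24D.fin
  (C el ρ hρ H hH hg hb).cover lv (lm_of lv LM (by decide +kernel)) (dec el ρ hρ H hH hg hb) (hi el ρ hρ H hH hg hb) _ (by decide +kernel)
end
end CfH6.V11
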